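import Mathlib

set_option autoImplicit false

namespace Cfsg.Agent.Helper59

open MulAction

section Burnside

variable {G X : Type*} [Group G] [MulAction G X]

/-- Burnside's lemma with `Nat.card`. -/
theorem burnside_natCard [Fintype G] [Finite X] :
    ∑ g : G, Nat.card (fixedBy X g) = Nat.card (orbitRel.Quotient G X) * Nat.card G := by
  classical
  have := Fintype.ofFinite X
  have : Fintype (orbitRel.Quotient G X) := Fintype.ofFinite _
  have := sum_card_fixedBy_eq_card_orbits_mul_card_group G X
  simp only [Nat.card_eq_fintype_card]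
  convert this

/-- Burnside's lemma for a subgroup, as a sum over the whole group. -/
theorem burnside_subgroup [Fintype G] [Finite X] (D : Subgroup G) [DecidablePred (· ∈ D)] :
    ∑ g : G, (if g ∈ D then Nat.card (fixedBy X g) else 0) =
      Nat.card (orbitRel.Quotient D X) * Nat.card D := by
  classical
  rw [← burnside_natCard (G := D) (X := X)]
  rw [← Finset.sum_filter]
  rw [Finset.sum_subtype (Finset.univ.filter (· ∈ D)) (p := (· ∈ D)) (by simp)]
  rfl

end Burnside


section Key

variable {G X : Type*} [Group G] [MulAction G X]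

theorem card_fixedBy_pos_of_not_der [Finite X] {g : G} (hg : ¬ ∀ ω : X, g • ω ≠ ω) :
    1 ≤ Nat.card (fixedBy X g) := by
  simp only [ne_eq, not_forall, not_not] at hg
  obtain ⟨ω, hω⟩ := hg
  have : Nonempty (fixedBy X g) := ⟨⟨ω, hω⟩⟩
  exact Nat.one_le_iff_ne_zero.mpr (Nat.card_pos).ne'

/-- Sum identities for a subgroup containing all derangements, in a transitive action. -/
theorem key_sums [Fintype G] [Finite X] [Nonempty X] (htrans : IsPretransitive G X)
    (D : Subgroup G) (hD : ∀ g : G, (∀ ω : X, g • ω ≠ ω) → g ∈ D) :
    Nat.card (orbitRel.Quotient D X) = 1 ∧ ∀ g : G, g ∉ D → Nat.card (fixedBy X g) = 1 := by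
  classical
  have hG1 : Nat.card (orbitRel.Quotient G X) = 1 := by
    have : Unique (orbitRel.Quotient G X) :=
      (pretransitive_iff_unique_quotient_of_nonempty G X).mp htrans |>.some
    exact Nat.card_unique
  have hB := burnside_natCard (G := G) (X := X)
  rw [hG1, one_mul] at hB
  have hBD := burnside_subgroup (G := G) (X := X) D
  set d := Nat.card (orbitRel.Quotient D X) with hd
  have hdpos : 1 ≤ d := by
    have : Nonempty (orbitRel.Quotient D X) := ⟨Quotient.mk'' (Classical.arbitrary X)⟩
    exact Nat.one_le_iff_ne_zero.mpr (Nat.card_pos).ne'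
  have hsplit : ∑ g : G, Nat.card (fixedBy X g) =
      ∑ g : G, (if g ∈ D then Nat.card (fixedBy X g) else 0) +
      ∑ g : G, (if g ∈ D then 0 else Nat.card (fixedBy X g)) := by
    rw [← Finset.sum_add_distrib]
    apply Finset.sum_congr rfl
    intro g _
    split_ifs <;> simp
  have hle : ∀ g ∈ (Finset.univ : Finset G), (if g ∈ D then 0 else 1) ≤
      (if g ∈ D then 0 else Nat.card (fixedBy X g)) := by
    intro g _
    split_ifs with h
    · exact le_rfl
    · exact card_fixedBy_pos_of_not_der (fun hg => h (hD g hg))
  have hcount : ∑ g : G, (if g ∈ D then 0 else 1) + Nat.card D = Nat.card G := by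
    have h1 : ∑ g : G, (if g ∈ D then 1 else 0) = Nat.card D := by
      rw [Finset.sum_boole, Nat.card_eq_fintype_card, Fintype.card_subtype]
      rfl
    rw [← h1, ← Finset.sum_add_distrib]
    rw [Nat.card_eq_fintype_card, ← Finset.card_univ, Finset.card_eq_sum_ones]
    apply Finset.sum_congr rfl
    intro g _
    split_ifs <;> simp
  have hsumle := Finset.sum_le_sum hle
  have hDpos : 0 < Nat.card D := Nat.card_pos
  have hd1 : d = 1 := by
    have h1 : d * Nat.card D ≤ 1 * Nat.card D := by nlinarith
    have := Nat.le_of_mul_le_mul_right h1 hDpos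
    omega
  refine ⟨hd1, ?_⟩
  have heq : ∑ g : G, (if g ∈ D then 0 else 1) =
      ∑ g : G, (if g ∈ D then 0 else Nat.card (fixedBy X g)) := by
    rw [hd1] at hBD
    omega
  have := (Finset.sum_eq_sum_iff_of_le hle).mp heq
  intro g hg
  have h := this g (Finset.mem_univ g)
  simp only [if_neg hg] at h
  exact h.symm

end Key


section Main

variable {G X : Type*} [Group G] [MulAction G X]

/-- A subgroup containing all derangements of a transitive action is transitive and contains
every element whose number of fixed points is not `1`. -/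
theorem der_main [Finite G] [Finite X] (htrans : IsPretransitive G X)
    (D : Subgroup G) (hD : ∀ g : G, (∀ ω : X, g • ω ≠ ω) → g ∈ D) :
    IsPretransitive D X ∧ ∀ g : G, Nat.card (fixedBy X g) ≠ 1 → g ∈ D := by
  classical
  have := Fintype.ofFinite G
  rcases isEmpty_or_nonempty X with hX | hX
  · refine ⟨⟨fun x => isEmptyElim x⟩, fun g _ => hD g (fun ω => isEmptyElim ω)⟩
  · obtain ⟨h1, h2⟩ := key_sums htrans D hD
    refine ⟨?_, ?_⟩
    · rw [pretransitive_iff_subsingleton_quotient]
      exact (Finite.card_le_one_iff_subsingleton).mp h1.le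
    · intro g hg
      by_contra hgD
      exact hg (h2 g hgD)

end Main

end Cfsg.Agent.Helper59
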