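import Mathlib
import Cfsg.Agent.Lib.Helper41.SL2Commutant
import Cfsg.Agent.Lib.Helper41.SL2Spec
import Cfsg.Agent.Lib.Helper5.SL2Sylow

set_option autoImplicit false
set_option linter.unusedSectionVars false

/-!
# Subgroups of `SL₂(F)`, `F` a finite field of odd characteristic `p`: centralizer/normalizer facts

Piece (B) of helper51's "Dickson-lite" plan (`tools/qd_plan_helper51.md`): hypotheses (H1)–(H6) of the
abstract counting theorem hold for every finite group `G` with an injective homomorphism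
`ρ : G →* SL₂(F)` (e.g. a subgroup `L` with `ρ = L.subtype`).
-/

namespace Cfsg.Agent.Helper59.SL2Sub

open Matrix

/-- `SL₂(F)` -/
abbrev SL2 (F : Type*) [Field F] := Matrix.SpecialLinearGroup (Fin 2) F

section matrix
variable {F : Type*} [Field F]

/-- scalar `2 × 2` matrix -/
def IsSc (A : Matrix (Fin 2) (Fin 2) F) : Prop := A 0 1 = 0 ∧ A 1 0 = 0 ∧ A 0 0 = A 1 1

theorem mem_center_iff_isSc (g : SL2 F) : g ∈ Subgroup.center (SL2 F) ↔ IsSc g.1 := by
  rw [Matrix.SpecialLinearGroup.mem_center_iff]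
  constructor
  · rintro ⟨r, -, hr⟩
    have h : ∀ i j, (Matrix.scalar (Fin 2) r) i j = g.1 i j := fun i j => by rw [hr]
    refine ⟨?_, ?_, ?_⟩
    · rw [← h 0 1]; simp
    · rw [← h 1 0]; simp
    · rw [← h 0 0, ← h 1 1]; simp
  · rintro ⟨h01, h10, h00⟩
    have hdet := g.det_coe
    rw [Matrix.det_fin_two, h01, h10, mul_zero, sub_zero, ← h00] at hdet
    refine ⟨g.1 0 0, ?_, ?_⟩
    · rw [Fintype.card_fin, pow_two]; exact hdet
    · ext i j
      fin_cases i <;> fin_cases j <;> simp [h01, h10, h00]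

/-- in `SL₂`, scalar means `±1` (entrywise form) -/
theorem isSc_sq (g : SL2 F) (h : IsSc g.1) : g * g = 1 := by
  obtain ⟨h01, h10, h00⟩ := h
  have hdet := g.det_coe
  rw [Matrix.det_fin_two, h01, h10, mul_zero, sub_zero, ← h00] at hdet
  ext i j
  fin_cases i <;> fin_cases j <;>
    simp [Matrix.mul_apply, Fin.sum_univ_two, h01, h10, ← h00, hdet]

/-- trace of an element of `SL₂` -/
def tr (g : SL2 F) : F := g.1 0 0 + g.1 1 1

theorem tr_conj (g x : SL2 F) : tr (g * x * g⁻¹) = tr x := by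
  have h1 : tr (g * x * g⁻¹) = Matrix.trace (g * x * g⁻¹).1 := by
    rw [Matrix.trace_fin_two]; rfl
  have h2 : tr x = Matrix.trace x.1 := by
    rw [Matrix.trace_fin_two]; rfl
  rw [h1, h2, Matrix.SpecialLinearGroup.coe_mul, Matrix.SpecialLinearGroup.coe_mul,
    Matrix.trace_mul_comm, ← Matrix.mul_assoc, ← Matrix.SpecialLinearGroup.coe_mul, inv_mul_cancel,
    Matrix.SpecialLinearGroup.coe_one, Matrix.one_mul]

theorem isSc_conj_iff (g x : SL2 F) : IsSc (g * x * g⁻¹).1 ↔ IsSc x.1 := by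
  rw [← mem_center_iff_isSc, ← mem_center_iff_isSc]
  constructor
  · intro h
    have := Subgroup.Normal.conj_mem (inferInstance : (Subgroup.center (SL2 F)).Normal) _ h g⁻¹
    simpa [mul_assoc] using this
  · intro h
    exact Subgroup.Normal.conj_mem inferInstance _ h g

/-- commutant of a non-scalar element, in `SL₂` form -/
theorem exists_coeffs (x y : SL2 F) (hx : ¬ IsSc x.1) (hxy : x * y = y * x) :
    ∃ α β : F, y.1 = α • (1 : Matrix (Fin 2) (Fin 2) F) + β • x.1 := by
  apply Cfsg.Agent.Helper41.exists_eq_smul_add_smul_of_commute x.1 y.1 hx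
  rw [← Matrix.SpecialLinearGroup.coe_mul, hxy, Matrix.SpecialLinearGroup.coe_mul]

/-- (H1) at matrix level -/
theorem commute_of_commute (x a b : SL2 F) (hx : ¬ IsSc x.1) (ha : x * a = a * x)
    (hb : x * b = b * x) : a * b = b * a := by
  apply Subtype.ext
  rw [Matrix.SpecialLinearGroup.coe_mul, Matrix.SpecialLinearGroup.coe_mul]
  apply Cfsg.Agent.Helper41.commute_of_commute_nonscalar x.1 a.1 b.1 hx
  · rw [← Matrix.SpecialLinearGroup.coe_mul, ha, Matrix.SpecialLinearGroup.coe_mul]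
  · rw [← Matrix.SpecialLinearGroup.coe_mul, hb, Matrix.SpecialLinearGroup.coe_mul]

/-- an element of the commutant of a semisimple non-scalar `x` with the same trace as `x`
is `x` or `x⁻¹` -/
theorem eq_or_eq_inv_of_commute (h2 : (2 : F) ≠ 0) (x y : SL2 F) (hx : ¬ IsSc x.1)
    (ht : tr x ^ 2 ≠ 4) (hxy : x * y = y * x) (htr : tr y = tr x) :
    y = x ∨ y = x⁻¹ := by
  obtain ⟨α, β, hαβ⟩ := exists_coeffs x y hx hxy
  have hdx := x.det_coe
  have hdy := y.det_coe
  rw [Matrix.det_fin_two] at hdx hdy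
  have e00 : y.1 0 0 = α + β * x.1 0 0 := by rw [hαβ]; simp
  have e01 : y.1 0 1 = β * x.1 0 1 := by rw [hαβ]; simp
  have e10 : y.1 1 0 = β * x.1 1 0 := by rw [hαβ]; simp
  have e11 : y.1 1 1 = α + β * x.1 1 1 := by rw [hαβ]; simp
  unfold tr at htr ht
  rw [e00, e11] at htr
  rw [e00, e01, e10, e11] at hdy
  set t := x.1 0 0 + x.1 1 1 with ht_def
  have h2α : 2 * α = t * (1 - β) := by linear_combination htr
  have hkey : (1 - β ^ 2) * (t ^ 2 - 4) = 0 := by
    have : 4 * (α ^ 2 + α * β * t + β ^ 2) = 4 := by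
      have : α ^ 2 + α * β * t + β ^ 2 = 1 := by
        rw [ht_def]; linear_combination hdy - β ^ 2 * hdx
      rw [this, mul_one]
    linear_combination this - (2 * α + t * (1 - β) + 2 * β * t) * h2α
  have hβ : β ^ 2 = 1 := by
    rcases mul_eq_zero.mp hkey with h | h
    · linear_combination (-1 : F) * h
    · exact absurd (by linear_combination h) ht
  have hβ' : β = 1 ∨ β = -1 := by
    have : (β - 1) * (β + 1) = 0 := by linear_combination hβ
    rcases mul_eq_zero.mp this with h | h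
    · left; exact sub_eq_zero.mp h
    · right; exact eq_neg_of_add_eq_zero_left h
  rcases hβ' with rfl | rfl
  · left
    have hα : α = 0 := by
      have : 2 * α = 0 := by rw [h2α]; ring
      rcases mul_eq_zero.mp this with h | h
      · exact absurd h h2
      · exact h
    apply Subtype.ext
    rw [hαβ, hα]; simp
  · right
    have hα : α = t := by
      have : 2 * (α - t) = 0 := by linear_combination h2α
      rcases mul_eq_zero.mp this with h | h
      · exact absurd h h2
      · exact sub_eq_zero.mp h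
    apply Subtype.ext
    rw [Matrix.SpecialLinearGroup.coe_inv, Matrix.adjugate_fin_two, hαβ, hα, ht_def]
    ext i j
    fin_cases i <;> fin_cases j <;> simp


/-- the commutant of a non-scalar element with `tr² = 4` consists of elements with `tr² = 4` -/
theorem tr_sq_of_commute (x y : SL2 F) (hx : ¬ IsSc x.1) (ht : tr x ^ 2 = 4)
    (hxy : x * y = y * x) : tr y ^ 2 = 4 := by
  obtain ⟨α, β, hαβ⟩ := exists_coeffs x y hx hxy
  have hdx := x.det_coe
  have hdy := y.det_coe
  rw [Matrix.det_fin_two] at hdx hdy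
  have e00 : y.1 0 0 = α + β * x.1 0 0 := by rw [hαβ]; simp
  have e01 : y.1 0 1 = β * x.1 0 1 := by rw [hαβ]; simp
  have e10 : y.1 1 0 = β * x.1 1 0 := by rw [hαβ]; simp
  have e11 : y.1 1 1 = α + β * x.1 1 1 := by rw [hαβ]; simp
  unfold tr at ht ⊢
  rw [e00, e11]
  rw [e00, e01, e10, e11] at hdy
  linear_combination 4 * hdy - 4 * β ^ 2 * hdx + β ^ 2 * ht

theorem isSc_of_mul_self_eq_one (h2 : (2 : F) ≠ 0) (x : SL2 F) (h : x * x = 1) : IsSc x.1 := by
  have hinv : x = x⁻¹ := eq_inv_of_mul_eq_one_left h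
  have hm : x.1 = (x⁻¹).1 := congrArg _ hinv
  rw [Matrix.SpecialLinearGroup.coe_inv, Matrix.adjugate_fin_two] at hm
  have e00 := congrFun (congrFun hm 0) 0
  have e01 := congrFun (congrFun hm 0) 1
  have e10 := congrFun (congrFun hm 1) 0
  simp at e00 e01 e10
  refine ⟨?_, ?_, e00⟩
  · have : 2 * x.1 0 1 = 0 := by linear_combination e01
    rcases mul_eq_zero.mp this with h | h
    · exact absurd h h2
    · exact h
  · have : 2 * x.1 1 0 = 0 := by linear_combination e10
    rcases mul_eq_zero.mp this with h | h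
    · exact absurd h h2
    · exact h

section charp
variable (p : ℕ) [Fact p.Prime] [CharP F p]

theorem pow_char_isSc (y : SL2 F) (ht : tr y ^ 2 = 4) : IsSc (y ^ p).1 := by
  have h := Cfsg.Agent.Helper41.unipotent_pow p y.1 y.det_coe
    (by rw [Matrix.trace_fin_two]; exact ht)
  rw [Matrix.SpecialLinearGroup.coe_pow]
  rcases h with h | h
  · rw [h]; refine ⟨by simp, by simp, by simp⟩
  · rw [h]; refine ⟨by simp, by simp, by simp⟩

/-- an element of `p`-power-free order `p`: trace `2` -/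
theorem tr_sq_of_pow_char_eq_one (y : SL2 F) (hy : y ^ p = 1) : tr y ^ 2 = 4 := by
  have hp : p ≠ 0 := (Fact.out : p.Prime).ne_zero
  have h1 : (y.1 - 1) ^ p = 0 := by
    rw [sub_pow_char_of_commute _ (Commute.one_right _), one_pow,
      ← Matrix.SpecialLinearGroup.coe_pow, hy, Matrix.SpecialLinearGroup.coe_one, sub_self]
  have hnil : IsNilpotent (y.1 - 1) := ⟨p, h1⟩
  have htr : Matrix.trace (y.1 - 1) = 0 :=
    (Matrix.isNilpotent_trace_of_isNilpotent hnil).eq_zero
  rw [Matrix.trace_fin_two] at htr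
  simp at htr
  unfold tr
  have : y.1 0 0 + y.1 1 1 = 2 := by linear_combination htr
  rw [this]; norm_num

end charp

end matrix

section group
variable {F : Type*} [Field F] (p : ℕ) [Fact p.Prime] [CharP F p]
variable {G : Type*} [Group G] [Finite G] (ρ : G →* SL2 F)

/-- preimage of the centre `{±1}` of `SL₂(F)` -/
def Zsub : Subgroup G := (Subgroup.center (SL2 F)).comap ρ

theorem mem_Zsub_iff (g : G) : g ∈ Zsub ρ ↔ IsSc (ρ g).1 := by
  unfold Zsub
  rw [Subgroup.mem_comap, mem_center_iff_isSc]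

variable {ρ}

theorem Zsub_le_center (hρ : Function.Injective ρ) : Zsub ρ ≤ Subgroup.center G := by
  intro g hg
  rw [Subgroup.mem_center_iff]
  intro h
  apply hρ
  rw [map_mul, map_mul]
  exact (Subgroup.mem_center_iff.mp hg (ρ h))

theorem sq_eq_one_of_mem_Zsub (hρ : Function.Injective ρ) {g : G} (hg : g ∈ Zsub ρ) :
    g * g = 1 := by
  apply hρ
  rw [map_mul, map_one]
  exact isSc_sq _ ((mem_Zsub_iff ρ g).mp hg)

theorem not_dvd_card_Zsub (hp : p ≠ 2) (hρ : Function.Injective ρ) :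
    ¬ p ∣ Nat.card (Zsub ρ) := by
  intro hdvd
  obtain ⟨z, hz⟩ := exists_prime_orderOf_dvd_card' p hdvd
  have h1 : (z : G) * z = 1 := sq_eq_one_of_mem_Zsub hρ z.2
  have h2 : z ^ 2 = 1 := by
    apply Subtype.ext
    rw [pow_two]; exact h1
  have := orderOf_dvd_of_pow_eq_one h2
  rw [hz] at this
  exact hp ((Nat.prime_dvd_prime_iff_eq Fact.out Nat.prime_two).mp this)

theorem pow_char_eq_self_of_mem_Zsub (hp : p ≠ 2) (hρ : Function.Injective ρ) {g : G}
    (hg : g ∈ Zsub ρ) : g ^ p = g := by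
  have h1 := sq_eq_one_of_mem_Zsub hρ hg
  obtain ⟨k, hk⟩ := (Fact.out : p.Prime).eq_two_or_odd'.resolve_left hp
  rw [hk, pow_succ, pow_mul, pow_two, h1, one_pow, one_mul]

/-- (H1) -/
theorem H1 (hρ : Function.Injective ρ) (x : G) (hx : x ∉ Zsub ρ) (a b : G)
    (ha : a ∈ Subgroup.centralizer {x}) (hb : b ∈ Subgroup.centralizer {x}) : a * b = b * a := by
  rw [Subgroup.mem_centralizer_singleton_iff] at ha hb
  apply hρ
  rw [map_mul, map_mul]
  apply commute_of_commute (ρ x) _ _ (fun h => hx ((mem_Zsub_iff ρ x).mpr h))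
  · rw [← map_mul, ← map_mul, ha]
  · rw [← map_mul, ← map_mul, hb]

theorem tr_sq_of_dvd_card_centralizer (hp : p ≠ 2) (hρ : Function.Injective ρ) (x : G)
    (hdvd : p ∣ Nat.card (Subgroup.centralizer {x})) : tr (ρ x) ^ 2 = 4 := by
  obtain ⟨y, hy⟩ := exists_prime_orderOf_dvd_card' p hdvd
  have hy1 : (y : G) ^ p = 1 := by
    have := pow_orderOf_eq_one y
    rw [hy] at this
    have := congrArg Subtype.val this
    simpa using this
  have hyne : (y : G) ≠ 1 := by
    intro h
    have : y = 1 := Subtype.ext h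
    rw [this, orderOf_one] at hy
    exact (Fact.out : p.Prime).ne_one hy.symm
  have hty : tr (ρ y) ^ 2 = 4 := by
    apply tr_sq_of_pow_char_eq_one p
    rw [← map_pow, hy1, map_one]
  have hysc : ¬ IsSc (ρ (y : G)).1 := by
    intro h
    have h1 : (y : G) * y = 1 := sq_eq_one_of_mem_Zsub hρ ((mem_Zsub_iff ρ _).mpr h)
    have h2 : (y : G) ^ 2 = 1 := by rw [pow_two]; exact h1
    have h3 : (y : G) ^ (Nat.gcd p 2) = 1 := by
      rw [← orderOf_dvd_iff_pow_eq_one]
      exact Nat.dvd_gcd (orderOf_dvd_of_pow_eq_one hy1) (orderOf_dvd_of_pow_eq_one h2)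
    have hcop : Nat.gcd p 2 = 1 := by
      rw [Nat.coprime_primes Fact.out Nat.prime_two |>.mpr hp]
    rw [hcop, pow_one] at h3
    exact hyne h3
  have hcomm := Subgroup.mem_centralizer_singleton_iff.mp y.2
  apply tr_sq_of_commute (ρ (y : G)) (ρ x) hysc hty
  rw [← map_mul, ← map_mul, hcomm]

/-- (H3) -/
theorem H3 (hp : p ≠ 2) (hρ : Function.Injective ρ) (x : G) (hx : x ∉ Zsub ρ)
    (hdvd : p ∣ Nat.card (Subgroup.centralizer {x})) :
    ∃ k : ℕ, Nat.card (Subgroup.centralizer {x}) = Nat.card (Zsub ρ) * p ^ k := by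
  have htx := tr_sq_of_dvd_card_centralizer p hp hρ x hdvd
  have hxsc : ¬ IsSc (ρ x).1 := fun h => hx ((mem_Zsub_iff ρ x).mpr h)
  -- every element of the centralizer has `p`-th power in `Z`
  have hpow : ∀ g : Subgroup.centralizer {x}, (g : G) ^ p ∈ Zsub ρ := by
    intro g
    rw [mem_Zsub_iff, map_pow]
    apply pow_char_isSc p
    apply tr_sq_of_commute (ρ x) (ρ g) hxsc htx
    rw [← map_mul, ← map_mul, Subgroup.mem_centralizer_singleton_iff.mp g.2]
  have hcomm : ∀ a b : Subgroup.centralizer {x}, (a : G) * b = b * a :=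
    fun a b => H1 hρ x hx a b a.2 b.2
  let φ : Subgroup.centralizer {x} →* Zsub ρ :=
    { toFun := fun g => ⟨(g : G) ^ p, hpow g⟩
      map_one' := by apply Subtype.ext; simp
      map_mul' := by
        intro a b
        apply Subtype.ext
        simp only [Subgroup.coe_mul]
        exact (show Commute (a : G) b from hcomm a b).mul_pow p }
  have hsurj : Function.Surjective φ := by
    intro z
    have hzc : (z : G) ∈ Subgroup.centralizer {x} := by
      rw [Subgroup.mem_centralizer_singleton_iff]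
      exact (Subgroup.mem_center_iff.mp (Zsub_le_center hρ z.2) x).symm
    refine ⟨⟨z, hzc⟩, ?_⟩
    apply Subtype.ext
    exact pow_char_eq_self_of_mem_Zsub p hp hρ z.2
  have hker : IsPGroup p φ.ker := by
    intro g
    refine ⟨1, ?_⟩
    have hg : φ g.1 = 1 := g.2
    have h1 : ((g.1 : Subgroup.centralizer {x}) : G) ^ p = 1 := by
      have := congrArg Subtype.val hg
      simpa [φ] using this
    apply Subtype.ext
    apply Subtype.ext
    simpa using h1
  obtain ⟨k, hk⟩ := hker.exists_card_eq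
  refine ⟨k, ?_⟩
  have h1 := Subgroup.card_mul_index φ.ker
  rw [Subgroup.index_ker, hk] at h1
  have h2 : Nat.card φ.range = Nat.card (Zsub ρ) := by
    rw [MonoidHom.range_eq_top.mpr hsurj]
    exact Subgroup.card_top
  rw [h2] at h1
  rw [← h1, mul_comm]

theorem tr_sq_ne_of_not_dvd (hp : p ≠ 2) (hρ : Function.Injective ρ) (x : G) (hx : x ∉ Zsub ρ)
    (hndvd : ¬ p ∣ Nat.card (Subgroup.centralizer {x})) : tr (ρ x) ^ 2 ≠ 4 := by
  intro htx
  apply hndvd
  have h2F : (2 : F) ≠ 0 := by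
    intro h
    have : ((2 : ℕ) : F) = 0 := by exact_mod_cast h
    rw [CharP.cast_eq_zero_iff F p] at this
    exact hp ((Nat.prime_dvd_prime_iff_eq Fact.out Nat.prime_two).mp this)
  have hxsc : ¬ IsSc (ρ x).1 := fun h => hx ((mem_Zsub_iff ρ x).mpr h)
  -- `x²` has order `p`
  have hxp : x ^ p ∈ Zsub ρ := by
    rw [mem_Zsub_iff, map_pow]
    exact pow_char_isSc p _ htx
  have h1 : (x ^ 2) ^ p = 1 := by
    rw [← pow_mul, mul_comm, pow_mul, pow_two]
    exact sq_eq_one_of_mem_Zsub hρ hxp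
  have h2 : x ^ 2 ≠ 1 := by
    intro h
    apply hxsc
    apply isSc_of_mul_self_eq_one h2F
    rw [← map_mul, ← pow_two, h, map_one]
  have hord : orderOf (x ^ 2) = p := orderOf_eq_prime h1 h2
  have hmem : x ^ 2 ∈ Subgroup.centralizer {x} := by
    rw [Subgroup.mem_centralizer_singleton_iff, pow_two, mul_assoc]
  have : orderOf (⟨x ^ 2, hmem⟩ : Subgroup.centralizer {x}) = p := by
    rw [← hord]
    exact (Subgroup.orderOf_mk _ hmem)
  rw [← this]
  exact orderOf_dvd_natCard _

theorem two_ne_zero_of_char (hp : p ≠ 2) : (2 : F) ≠ 0 := by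
  intro h
  have : ((2 : ℕ) : F) = 0 := by exact_mod_cast h
  rw [CharP.cast_eq_zero_iff F p] at this
  exact hp ((Nat.prime_dvd_prime_iff_eq Fact.out Nat.prime_two).mp this)

/-- (H2) -/
theorem H2 (hp : p ≠ 2) (hρ : Function.Injective ρ) (x : G) (hx : x ∉ Zsub ρ)
    (hndvd : ¬ p ∣ Nat.card (Subgroup.centralizer {x})) :
    Nat.card (Subgroup.normalizer ((Subgroup.centralizer {x} : Subgroup G) : Set G)) ≤
      2 * Nat.card (Subgroup.centralizer {x}) := by
  have htx := tr_sq_ne_of_not_dvd p hp hρ x hx hndvd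
  have h2F : (2 : F) ≠ 0 := two_ne_zero_of_char p hp
  have hxsc : ¬ IsSc (ρ x).1 := fun h => hx ((mem_Zsub_iff ρ x).mpr h)
  have hxC : x ∈ Subgroup.centralizer {x} := Subgroup.mem_centralizer_singleton_iff.mpr rfl
  have key : ∀ g ∈ Subgroup.normalizer ((Subgroup.centralizer {x} : Subgroup G) : Set G),
      g * x * g⁻¹ = x ∨ g * x * g⁻¹ = x⁻¹ := by
    intro g hg
    have h1 : g * x * g⁻¹ ∈ Subgroup.centralizer {x} :=
      (Subgroup.mem_normalizer_iff.mp hg x).mp hxC
    rw [Subgroup.mem_centralizer_singleton_iff] at h1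
    have := eq_or_eq_inv_of_commute h2F (ρ x) (ρ (g * x * g⁻¹)) hxsc htx
      (by rw [← map_mul, ← map_mul, h1]) (by rw [map_mul, map_mul, map_inv, tr_conj])
    rcases this with h | h
    · left; exact hρ h
    · right; apply hρ; rw [h, map_inv]
  have hmemC : ∀ g : G, g ∈ Subgroup.centralizer {x} ↔ g * x * g⁻¹ = x := by
    intro g
    rw [Subgroup.mem_centralizer_singleton_iff, mul_inv_eq_iff_eq_mul]
  by_cases hNC : Subgroup.normalizer ((Subgroup.centralizer {x} : Subgroup G) : Set G) ≤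
      Subgroup.centralizer {x}
  · calc Nat.card (Subgroup.normalizer ((Subgroup.centralizer {x} : Subgroup G) : Set G))
        ≤ Nat.card (Subgroup.centralizer {x}) := Subgroup.card_le_of_le hNC
      _ ≤ 2 * Nat.card (Subgroup.centralizer {x}) := by omega
  · obtain ⟨h, hhN, hhC⟩ := SetLike.not_le_iff_exists.mp hNC
    have hh : h * x * h⁻¹ = x⁻¹ := (key h hhN).resolve_left (fun e => hhC ((hmemC h).mpr e))
    have hsub : ((Subgroup.normalizer ((Subgroup.centralizer {x} : Subgroup G) : Set G) :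
        Subgroup G) : Set G) ⊆ ((Subgroup.centralizer {x} : Subgroup G) : Set G) ∪
          (fun c => h * c) '' ((Subgroup.centralizer {x} : Subgroup G) : Set G) := by
      intro g hg
      by_cases hgC : g ∈ Subgroup.centralizer {x}
      · left; exact hgC
      · right
        have hgx : g * x * g⁻¹ = x⁻¹ := (key g hg).resolve_left (fun e => hgC ((hmemC g).mpr e))
        refine ⟨h⁻¹ * g, ?_, by group⟩
        rw [SetLike.mem_coe, hmemC]
        have : h⁻¹ * g * x * (h⁻¹ * g)⁻¹ = h⁻¹ * (g * x * g⁻¹) * h := by group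
        rw [this, hgx, ← hh]
        group
    have hfin : ((Subgroup.centralizer {x} : Subgroup G) : Set G).Finite := Set.toFinite _
    have h1 := Set.ncard_le_ncard hsub (Set.toFinite _)
    have h2 := Set.ncard_union_le ((Subgroup.centralizer {x} : Subgroup G) : Set G)
      ((fun c => h * c) '' ((Subgroup.centralizer {x} : Subgroup G) : Set G))
    have h3 := Set.ncard_image_le (f := fun c => h * c) hfin
    have e1 : Nat.card (Subgroup.normalizer ((Subgroup.centralizer {x} : Subgroup G) : Set G)) =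
        Set.ncard ((Subgroup.normalizer ((Subgroup.centralizer {x} : Subgroup G) : Set G) :
          Subgroup G) : Set G) := (Nat.card_coe_set_eq _)
    have e2 : Nat.card (Subgroup.centralizer {x}) =
        Set.ncard ((Subgroup.centralizer {x} : Subgroup G) : Set G) := (Nat.card_coe_set_eq _)
    rw [e1, e2]
    omega

end group

section borel
variable {F : Type*} [Field F]

open Cfsg.Agent.Helper5

theorem mem_slU_iff' (g : SL2 F) :
    g ∈ slU F ↔ g.1 0 0 = 1 ∧ g.1 1 0 = 0 ∧ g.1 1 1 = 1 := by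
  rw [mem_slU_iff]
  constructor
  · rintro ⟨x, rfl⟩
    refine ⟨?_, ?_, ?_⟩ <;> simp [SpecialLinearGroup.transvection_coe]
  · rintro ⟨h00, h10, h11⟩
    refine ⟨g.1 0 1, ?_⟩
    ext i j
    fin_cases i <;> fin_cases j <;>
      simp [SpecialLinearGroup.transvection_coe, h00, h10, h11]

/-- entries of a product with upper triangular factors -/
theorem mul_10 (a b : SL2 F) (ha : a.1 1 0 = 0) : (a * b).1 1 0 = a.1 1 1 * b.1 1 0 := by
  simp [Matrix.mul_apply, Fin.sum_univ_two, ha]

theorem mul_00 (a b : SL2 F) (hb : b.1 1 0 = 0) : (a * b).1 0 0 = a.1 0 0 * b.1 0 0 := by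
  simp [Matrix.mul_apply, Fin.sum_univ_two, hb]

theorem mul_11 (a b : SL2 F) (ha : a.1 1 0 = 0) : (a * b).1 1 1 = a.1 1 1 * b.1 1 1 := by
  simp [Matrix.mul_apply, Fin.sum_univ_two, ha]

theorem inv_10 (a : SL2 F) : (a⁻¹).1 1 0 = - a.1 1 0 := by
  rw [Matrix.SpecialLinearGroup.coe_inv, Matrix.adjugate_fin_two]; simp

theorem inv_00 (a : SL2 F) : (a⁻¹).1 0 0 = a.1 1 1 := by
  rw [Matrix.SpecialLinearGroup.coe_inv, Matrix.adjugate_fin_two]; simp

theorem inv_11 (a : SL2 F) : (a⁻¹).1 1 1 = a.1 0 0 := by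
  rw [Matrix.SpecialLinearGroup.coe_inv, Matrix.adjugate_fin_two]; simp

theorem diag_mul_of_ut (a : SL2 F) (ha : a.1 1 0 = 0) : a.1 0 0 * a.1 1 1 = 1 := by
  have := a.det_coe
  rw [Matrix.det_fin_two, ha, mul_zero, sub_zero] at this
  exact this

/-- the Borel subgroup normalizes the unipotent radical -/
theorem conj_mem_slU (a s : SL2 F) (ha : a.1 1 0 = 0) (hs : s ∈ slU F) :
    a * s * a⁻¹ ∈ slU F := by
  rw [mem_slU_iff'] at hs ⊢
  obtain ⟨h00, h10, h11⟩ := hs
  have hd := diag_mul_of_ut a ha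
  have hainv : (a⁻¹).1 1 0 = 0 := by rw [inv_10, ha, neg_zero]
  have has : (a * s).1 1 0 = 0 := by rw [mul_10 a s ha, h10, mul_zero]
  refine ⟨?_, ?_, ?_⟩
  · rw [mul_00 _ _ hainv, mul_00 _ _ h10, h00, mul_one, inv_00, hd]
  · rw [mul_10 _ _ has, hainv, mul_zero]
  · rw [mul_11 _ _ has, mul_11 _ _ ha, h11, mul_one, inv_11, mul_comm, hd]

theorem conj_mem_slU_iff (a s : SL2 F) (ha : a.1 1 0 = 0) :
    a * s * a⁻¹ ∈ slU F ↔ s ∈ slU F := by
  constructor
  · intro h
    have hainv : (a⁻¹).1 1 0 = 0 := by rw [inv_10, ha, neg_zero]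
    have := conj_mem_slU a⁻¹ _ hainv h
    simpa [mul_assoc] using this
  · exact conj_mem_slU a s ha

/-- if a conjugate of a nontrivial element of `slU` is in `slU`, the conjugating element is upper
triangular -/
theorem ut_of_conj_mem_slU (g u : SL2 F) (hu : u ∈ slU F) (hu1 : u ≠ 1)
    (h : g * u * g⁻¹ ∈ slU F) : g.1 1 0 = 0 := by
  rw [mem_slU_iff'] at hu h
  obtain ⟨h00, h10, h11⟩ := hu
  have hs : u.1 0 1 ≠ 0 := by
    intro h01
    apply hu1
    ext i j
    fin_cases i <;> fin_cases j <;> simp [h00, h10, h11, h01]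
  have h2 := h.2.1
  rw [Matrix.SpecialLinearGroup.coe_mul, Matrix.SpecialLinearGroup.coe_mul,
    Matrix.SpecialLinearGroup.coe_inv, Matrix.adjugate_fin_two] at h2
  simp [Matrix.mul_apply, Fin.sum_univ_two, h00, h10, h11] at h2
  have : g.1 1 0 * g.1 1 0 * u.1 0 1 = 0 := by linear_combination (-1 : F) * h2
  rcases mul_eq_zero.mp this with h | h
  · rcases mul_eq_zero.mp h with h | h <;> exact h
  · exact absurd h hs

theorem commutator_mem_slU (a b : SL2 F) (ha : a.1 1 0 = 0) (hb : b.1 1 0 = 0) :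
    a * b * a⁻¹ * b⁻¹ ∈ slU F := by
  rw [mem_slU_iff']
  have hda := diag_mul_of_ut a ha
  have hdb := diag_mul_of_ut b hb
  have hainv : (a⁻¹).1 1 0 = 0 := by rw [inv_10, ha, neg_zero]
  have hbinv : (b⁻¹).1 1 0 = 0 := by rw [inv_10, hb, neg_zero]
  have hab : (a * b).1 1 0 = 0 := by rw [mul_10 a b ha, hb, mul_zero]
  have haba : (a * b * a⁻¹).1 1 0 = 0 := by rw [mul_10 _ _ hab, hainv, mul_zero]
  refine ⟨?_, ?_, ?_⟩
  · rw [mul_00 _ _ hbinv, mul_00 _ _ hainv, mul_00 _ _ hb, inv_00, inv_00]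
    linear_combination (a.1 0 0 * a.1 1 1) * hdb + hda
  · rw [mul_10 _ _ haba, hbinv, mul_zero]
  · rw [mul_11 _ _ haba, mul_11 _ _ hab, mul_11 _ _ ha, inv_11, inv_11]
    linear_combination (a.1 0 0 * a.1 1 1) * hdb + hda

/-- an upper triangular element commuting with an upper triangular element with distinct
eigenvalues -/
theorem ut_of_commute (c g : SL2 F) (hc : c.1 1 0 = 0) (hne : c.1 0 0 ≠ c.1 1 1)
    (hcg : g * c = c * g) : g.1 1 0 = 0 := by
  have h := congrArg (fun m : SL2 F => m.1 1 0) hcg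
  simp only [Matrix.SpecialLinearGroup.coe_mul, Matrix.mul_apply, Fin.sum_univ_two, hc] at h
  have : g.1 1 0 * (c.1 0 0 - c.1 1 1) = 0 := by linear_combination h
  rcases mul_eq_zero.mp this with h | h
  · exact h
  · exact absurd (sub_eq_zero.mp h) hne

end borel

section sylow
variable {F : Type*} [Field F] [Fintype F] (p : ℕ) [Fact p.Prime] [CharP F p]
variable {G : Type*} [Group G] [Finite G] {ρ : G →* SL2 F}

open Cfsg.Agent.Helper5

theorem isPGroup_slU : IsPGroup p (slU F) := by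
  have h := (slUSylow (F := F) p).isPGroup'
  have e : ((slUSylow (F := F) p : Sylow p (SL2 F)) : Subgroup (SL2 F)) = slU F := by
    unfold slUSylow
    rw [Sylow.coe_ofCard]
  rw [e] at h
  exact h

theorem mem_sylow_iff (hρ : Function.Injective ρ) (U : Sylow p G)
    (hU : ∀ u ∈ U, ρ u ∈ slU F) (g : G) : ρ g ∈ slU F ↔ g ∈ U := by
  have hP : IsPGroup p ((slU F).comap ρ) := (isPGroup_slU p).comap_of_injective ρ hρ
  have hle : (U : Subgroup G) ≤ (slU F).comap ρ := fun u hu => hU u hu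
  have h := U.is_maximal' hP hle
  rw [← Subgroup.mem_comap, h]
  rfl

theorem mem_normalizer_of_ut (hρ : Function.Injective ρ) (U : Sylow p G)
    (hU : ∀ u ∈ U, ρ u ∈ slU F) (g : G) (hg : (ρ g).1 1 0 = 0) :
    g ∈ Subgroup.normalizer ((U : Subgroup G) : Set G) := by
  rw [Subgroup.mem_normalizer_iff]
  intro n
  change n ∈ U ↔ g * n * g⁻¹ ∈ U
  rw [← mem_sylow_iff p hρ U hU, ← mem_sylow_iff p hρ U hU, map_mul, map_mul, map_inv,
    conj_mem_slU_iff _ _ hg]

theorem ut_of_mem_normalizer (hρ : Function.Injective ρ) (U : Sylow p G)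
    (hU : ∀ u ∈ U, ρ u ∈ slU F) (hne : (U : Subgroup G) ≠ ⊥) (g : G)
    (hg : g ∈ Subgroup.normalizer ((U : Subgroup G) : Set G)) : (ρ g).1 1 0 = 0 := by
  obtain ⟨u, hu⟩ := (Subgroup.ne_bot_iff_exists_ne_one.mp hne)
  have hu1 : (u : G) ≠ 1 := fun h => hu (Subtype.ext h)
  have hρu1 : ρ (u : G) ≠ 1 := by
    intro h
    apply hu1
    apply hρ
    rw [h, map_one]
  have hmem : g * u * g⁻¹ ∈ U := (Subgroup.mem_normalizer_iff.mp hg u).mp u.2
  have h1 : ρ (g * u * g⁻¹) ∈ slU F := hU _ hmem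
  rw [map_mul, map_mul, map_inv] at h1
  exact ut_of_conj_mem_slU (ρ g) (ρ u) (hU _ u.2) hρu1 h1

/-- (H6), upper triangular position -/
theorem H6_aux (hρ : Function.Injective ρ) (U : Sylow p G)
    (hU : ∀ u ∈ U, ρ u ∈ slU F) (hne : (U : Subgroup G) ≠ ⊥) (a b : G)
    (ha : a ∈ Subgroup.normalizer ((U : Subgroup G) : Set G))
    (hb : b ∈ Subgroup.normalizer ((U : Subgroup G) : Set G)) :
    a * b * a⁻¹ * b⁻¹ ∈ U := by
  rw [← mem_sylow_iff p hρ U hU]
  simp only [map_mul, map_inv]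
  exact commutator_mem_slU _ _ (ut_of_mem_normalizer p hρ U hU hne a ha)
    (ut_of_mem_normalizer p hρ U hU hne b hb)

/-- (H5), upper triangular position -/
theorem H5_aux (hp : p ≠ 2) (hρ : Function.Injective ρ) (U : Sylow p G)
    (hU : ∀ u ∈ U, ρ u ∈ slU F) (c : G)
    (hc : c ∈ Subgroup.normalizer ((U : Subgroup G) : Set G))
    (hc' : c ∉ Zsub ρ ⊔ (U : Subgroup G)) :
    Subgroup.centralizer {c} ≤ Subgroup.normalizer ((U : Subgroup G) : Set G) := by
  by_cases hne : (U : Subgroup G) = ⊥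
  · intro g _
    rw [Subgroup.mem_normalizer_iff]
    intro n
    rw [hne, Subgroup.mem_bot, Subgroup.mem_bot, conj_eq_one_iff]
  · have hc10 := ut_of_mem_normalizer p hρ U hU hne c hc
    have hdiag := diag_mul_of_ut (ρ c) hc10
    have hne' : (ρ c).1 0 0 ≠ (ρ c).1 1 1 := by
      intro heq
      apply hc'
      have haa : (ρ c).1 0 0 * (ρ c).1 0 0 = 1 := by rw [heq] at hdiag ⊢; exact hdiag
      have htr : tr (ρ c) ^ 2 = 4 := by
        unfold tr
        rw [← heq]
        linear_combination 4 * haa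
      have hZ : c ^ p ∈ Zsub ρ := by
        rw [mem_Zsub_iff, map_pow]
        exact pow_char_isSc p _ htr
      have hUU : c * c ∈ (U : Subgroup G) := by
        change c * c ∈ U
        rw [← mem_sylow_iff p hρ U hU, map_mul, mem_slU_iff']
        refine ⟨?_, ?_, ?_⟩
        · rw [mul_00 _ _ hc10, haa]
        · rw [mul_10 _ _ hc10, hc10, mul_zero]
        · rw [mul_11 _ _ hc10, ← heq, haa]
      obtain ⟨k, hk⟩ := (Fact.out : p.Prime).eq_two_or_odd'.resolve_left hp
      have hceq : c = c ^ p * ((c * c) ^ k)⁻¹ := by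
        rw [hk, ← pow_two, ← pow_mul, pow_succ]
        group
      rw [hceq]
      exact Subgroup.mul_mem_sup hZ (inv_mem (pow_mem hUU k))
    intro g hg
    rw [Subgroup.mem_centralizer_singleton_iff] at hg
    apply mem_normalizer_of_ut p hρ U hU
    apply ut_of_commute (ρ c) (ρ g) hc10 hne'
    rw [← map_mul, ← map_mul, hg]

/-- conjugating the representation -/
def conjHom (h : SL2 F) (ρ : G →* SL2 F) : G →* SL2 F :=
  (MulAut.conj h⁻¹).toMonoidHom.comp ρ

theorem conjHom_apply (h : SL2 F) (ρ : G →* SL2 F) (g : G) :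
    conjHom h ρ g = h⁻¹ * ρ g * h := by
  simp [conjHom]

theorem conjHom_injective (h : SL2 F) (hρ : Function.Injective ρ) :
    Function.Injective (conjHom h ρ) := by
  intro a b hab
  rw [conjHom_apply, conjHom_apply] at hab
  apply hρ
  have := congrArg (fun m => h * m * h⁻¹) hab
  simpa [mul_assoc] using this

theorem Zsub_conjHom (h : SL2 F) (ρ : G →* SL2 F) : Zsub (conjHom h ρ) = Zsub ρ := by
  ext g
  rw [mem_Zsub_iff, mem_Zsub_iff, conjHom_apply]
  have := isSc_conj_iff h⁻¹ (ρ g)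
  rw [inv_inv] at this
  exact this

theorem exists_conj (ρ : G →* SL2 F) (U : Sylow p G) :
    ∃ h : SL2 F, ∀ u ∈ U, conjHom h ρ u ∈ slU F := by
  have hP : IsPGroup p ((U : Subgroup G).map ρ) := U.isPGroup'.map ρ
  obtain ⟨Q, hQ⟩ := hP.exists_le_sylow
  obtain ⟨h, rfl⟩ := MulAction.exists_smul_eq (SL2 F) (slUSylow p) Q
  refine ⟨h, fun u hu => ?_⟩
  rw [conjHom_apply, ← mem_smul_slUSylow_iff]
  exact hQ (Subgroup.mem_map_of_mem ρ hu)

/-- (H5) -/
theorem H5 (hp : p ≠ 2) (hρ : Function.Injective ρ) (U : Sylow p G) (c : G)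
    (hc : c ∈ Subgroup.normalizer ((U : Subgroup G) : Set G))
    (hc' : c ∉ Zsub ρ ⊔ (U : Subgroup G)) :
    Subgroup.centralizer {c} ≤ Subgroup.normalizer ((U : Subgroup G) : Set G) := by
  obtain ⟨h, hh⟩ := exists_conj p ρ U
  apply H5_aux p hp (conjHom_injective h hρ) U hh c hc
  rw [Zsub_conjHom]
  exact hc'

/-- (H6): `N_G(U)/U` is abelian for a nontrivial Sylow `p`-subgroup `U` -/
theorem H6 (hρ : Function.Injective ρ) (U : Sylow p G) (hne : (U : Subgroup G) ≠ ⊥) (a b : G)
    (ha : a ∈ Subgroup.normalizer ((U : Subgroup G) : Set G))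
    (hb : b ∈ Subgroup.normalizer ((U : Subgroup G) : Set G)) :
    a * b * a⁻¹ * b⁻¹ ∈ U := by
  obtain ⟨h, hh⟩ := exists_conj p ρ U
  exact H6_aux p (conjHom_injective h hρ) U hh hne a b ha hb

end sylow

/-! ### The hypotheses for a subgroup `L ≤ SL₂(F)` (take `G := L`, `ρ := L.subtype`) -/

section subgroup
variable {F : Type*} [Field F] [Fintype F] (p : ℕ) [Fact p.Prime] [CharP F p]
variable (L : Subgroup (SL2 F))

/-- the central subgroup `L ∩ {±1}` of `L` -/
abbrev ZL : Subgroup L := Zsub L.subtype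

theorem mem_ZL_iff (g : L) : g ∈ ZL L ↔ (g : SL2 F) ∈ Subgroup.center (SL2 F) := Iff.rfl

theorem ZL_le_center : ZL L ≤ Subgroup.center L := Zsub_le_center L.subtype_injective

theorem not_dvd_card_ZL (hp : p ≠ 2) : ¬ p ∣ Nat.card (ZL L) :=
  not_dvd_card_Zsub p hp L.subtype_injective

theorem subgroup_H1 (x : L) (hx : x ∉ ZL L) (a b : L)
    (ha : a ∈ Subgroup.centralizer {x}) (hb : b ∈ Subgroup.centralizer {x}) : a * b = b * a :=
  H1 L.subtype_injective x hx a b ha hb

theorem subgroup_H2 (hp : p ≠ 2) (x : L) (hx : x ∉ ZL L)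
    (hndvd : ¬ p ∣ Nat.card (Subgroup.centralizer {x})) :
    Nat.card (Subgroup.normalizer ((Subgroup.centralizer {x} : Subgroup L) : Set L)) ≤
      2 * Nat.card (Subgroup.centralizer {x}) :=
  H2 p hp L.subtype_injective x hx hndvd

theorem subgroup_H3 (hp : p ≠ 2) (x : L) (hx : x ∉ ZL L)
    (hdvd : p ∣ Nat.card (Subgroup.centralizer {x})) :
    ∃ k : ℕ, Nat.card (Subgroup.centralizer {x}) = Nat.card (ZL L) * p ^ k :=
  H3 p hp L.subtype_injective x hx hdvd

theorem subgroup_H5 (hp : p ≠ 2) (U : Sylow p L) (c : L)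
    (hc : c ∈ Subgroup.normalizer ((U : Subgroup L) : Set L))
    (hc' : c ∉ ZL L ⊔ (U : Subgroup L)) :
    Subgroup.centralizer {c} ≤ Subgroup.normalizer ((U : Subgroup L) : Set L) :=
  H5 p hp L.subtype_injective U c hc hc'

theorem subgroup_H6 (U : Sylow p L) (hne : (U : Subgroup L) ≠ ⊥) (a b : L)
    (ha : a ∈ Subgroup.normalizer ((U : Subgroup L) : Set L))
    (hb : b ∈ Subgroup.normalizer ((U : Subgroup L) : Set L)) :
    a * b * a⁻¹ * b⁻¹ ∈ U :=
  H6 p L.subtype_injective U hne a b ha hb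

end subgroup

end Cfsg.Agent.Helper59.SL2Sub
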