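import Cfsg.Agent.Lib.Helper6.WeylChain

/-!
# Poincaré series of the concrete Weyl groups of helper6: parabolic factorisation

For a dominant vector `lam` with stabiliser `W J` in `W J'`:
`∑_{w ∈ W J'} t^{n(w)} = (∑_{v ∈ W J} t^{n(v)}) * ∑_{μ ∈ W J' • lam} t^{depth μ}`.
-/

set_option autoImplicit false
set_option linter.unusedSectionVars false

namespace Cfsg.Agent.Helper59.Poincare

open Cfsg.Agent.Helper6.Weyl Matrix

variable {n : ℕ} (D : VDatum n)

/-! ### finiteness -/

theorem finite_roots (J : Fin n → Prop) [DecidablePred J] : {v : Vec n | D.IsRoot J v}.Finite := by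
  have : {v : Vec n | D.IsRoot J v} = ↑(D.posJ J) ∪ (fun v => -v) ⁻¹' ↑(D.posJ J) := by
    ext v; rfl
  rw [this]
  exact (D.posJ J).finite_toSet.union ((D.posJ J).finite_toSet.preimage neg_injective.injOn)

theorem finite_Wf : Finite D.Wf := by
  haveI : Finite {v : Vec n | D.IsRoot VDatum.allJ v} := (finite_roots D VDatum.allJ).to_subtype
  let f : D.Wf → (Fin n → {v : Vec n | D.IsRoot VDatum.allJ v}) := fun w j =>
    ⟨w.1 • (Pi.single j 1 : Vec n),
      D.isRoot_smul VDatum.allJ w.2 (Or.inl (D.single_mem_posJ VDatum.allJ trivial))⟩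
  apply Finite.of_injective f
  intro w w' h
  apply Subtype.ext
  apply Units.ext
  ext i j
  have h1 := congrArg Subtype.val (congrFun h j)
  have h2 := congrFun h1 i
  change ((w.1 : Mat n).mulVec (Pi.single j 1)) i = ((w'.1 : Mat n).mulVec (Pi.single j 1)) i at h2
  simpa [Matrix.mulVec, dotProduct, Pi.single_apply] using h2

theorem finite_W (J : Fin n → Prop) [DecidablePred J] : Finite (D.W J) := by
  haveI := finite_Wf D
  have h : D.W J ≤ D.Wf := D.W_mono VDatum.allJ J (fun _ _ => trivial)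
  exact Finite.of_injective (Subgroup.inclusion h) (Subgroup.inclusion_injective h)

/-! ### depth of a vector -/

variable (J' J : Fin n → Prop) [DecidablePred J'] [DecidablePred J]

/-- number of positive `J'`-roots having negative product with `μ` -/
def depth (μ : Vec n) : ℕ := ∑ β ∈ D.posJ J', if D.form μ β < 0 then 1 else 0

/-- number of positive `J`-roots made negative by `w` -/
def mJ (w : (Mat n)ˣ) : ℕ := ∑ β ∈ D.posJ J, if -(w • β) ∈ D.posJ J' then 1 else 0

variable (lam : Vec n) (hdom : ∀ i, J' i → 0 ≤ pair D.A i lam)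
  (hJ : ∀ i, J i ↔ (J' i ∧ pair D.A i lam = 0))

include hdom in
theorem form_single_nonneg {j : Fin n} (hj : J' j) : 0 ≤ D.form lam (Pi.single j 1) := by
  have h1 := D.two_form_single lam j
  have h2 := mul_nonneg (hdom j hj) (D.valid.gpos j).le
  omega

include hJ in
theorem form_single_eq_zero {j : Fin n} (hj : J j) : D.form lam (Pi.single j 1) = 0 := by
  have h1 := D.two_form_single lam j
  rw [((hJ j).1 hj).2, zero_mul] at h1
  omega

include hdom hJ in
theorem form_single_pos {j : Fin n} (hj : J' j) (hj' : ¬ J j) : 0 < D.form lam (Pi.single j 1) := by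
  have h1 := D.two_form_single lam j
  have h0 : 0 < pair D.A j lam := by
    rcases (hdom j hj).lt_or_eq with h | h
    · exact h
    · exact absurd ((hJ j).2 ⟨hj, h.symm⟩) hj'
  have h2 := mul_pos h0 (D.valid.gpos j)
  omega

include hdom in
theorem form_nonneg {β : Vec n} (hβ : β ∈ D.posJ J') : 0 ≤ D.form lam β := by
  rw [D.form_eq_sum]
  apply Finset.sum_nonneg
  intro j _
  rw [VDatum.mem_posJ] at hβ
  by_cases hj : J' j
  · exact mul_nonneg ((D.valid.nonneg _ hβ.1).1 j) (form_single_nonneg D J' lam hdom hj)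
  · rw [hβ.2 j hj, zero_mul]

include hJ in
theorem posJ_subset : D.posJ J ⊆ D.posJ J' := by
  intro β hβ
  rw [VDatum.mem_posJ] at hβ ⊢
  exact ⟨hβ.1, fun j hj => hβ.2 j (fun h => hj ((hJ j).1 h).1)⟩

include hdom hJ in
theorem form_eq_zero_iff {β : Vec n} (hβ : β ∈ D.posJ J') : D.form lam β = 0 ↔ β ∈ D.posJ J := by
  have hβ' := (VDatum.mem_posJ D J').1 hβ
  constructor
  · intro h
    rw [D.form_eq_sum] at h
    have hnn : ∀ j ∈ Finset.univ, 0 ≤ β j * D.form lam (Pi.single j 1) := by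
      intro j _
      by_cases hj : J' j
      · exact mul_nonneg ((D.valid.nonneg _ hβ'.1).1 j) (form_single_nonneg D J' lam hdom hj)
      · rw [hβ'.2 j hj, zero_mul]
    have h0 := (Finset.sum_eq_zero_iff_of_nonneg hnn).1 h
    rw [VDatum.mem_posJ]
    refine ⟨hβ'.1, fun j hj => ?_⟩
    by_cases hj' : J' j
    · have := h0 j (Finset.mem_univ j)
      rcases mul_eq_zero.1 this with h1 | h1
      · exact h1
      · exact absurd h1 (form_single_pos D J' J lam hdom hJ hj' hj).ne'
    · exact hβ'.2 j hj'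
  · intro h
    rw [VDatum.mem_posJ] at h
    rw [D.form_eq_sum]
    apply Finset.sum_eq_zero
    intro j _
    by_cases hj : J j
    · rw [form_single_eq_zero D J' J lam hJ hj, mul_zero]
    · rw [h.2 j hj, zero_mul]


/-! ### Lemma A: `n(w) = m_J(w) + depth (w • lam)` -/

theorem isRoot_cases {w : (Mat n)ˣ} (hw : w ∈ D.W J') {β : Vec n} (hβ : β ∈ D.posJ J') :
    w • β ∈ D.posJ J' ∨ -(w • β) ∈ D.posJ J' :=
  D.isRoot_smul J' hw (Or.inl hβ)

include hdom hJ in
theorem nJ_eq {w : (Mat n)ˣ} (hw : w ∈ D.W J') :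
    D.nJ J' w = mJ D J' J w + depth D J' (w • lam) := by
  have hsub := posJ_subset D J' J lam hJ
  have hisom := D.isIsom_of_mem_W J' hw
  have hwinv : w⁻¹ ∈ D.W J' := (D.W J').inv_mem hw
  have hisom' := D.isIsom_of_mem_W J' hwinv
  unfold VDatum.nJ mJ depth
  rw [← Finset.sum_sdiff hsub, add_comm]
  congr 1
  rw [Finset.sum_boole, Finset.sum_boole]
  simp only [Nat.cast_id]
  apply Finset.card_nbij' (fun β => -(w • β)) (fun γ => -(w⁻¹ • γ))
  · intro β hβ
    rw [Finset.mem_coe, Finset.mem_filter, Finset.mem_sdiff] at hβ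
    obtain ⟨⟨h1, h2⟩, h3⟩ := hβ
    rw [Finset.mem_coe, Finset.mem_filter]
    refine ⟨h3, ?_⟩
    rw [D.form_neg_right, D.form_smul hisom]
    have h4 := form_nonneg D J' lam hdom h1
    have h5 : D.form lam β ≠ 0 := fun h => h2 ((form_eq_zero_iff D J' J lam hdom hJ h1).1 h)
    omega
  · intro γ hγ
    rw [Finset.mem_coe, Finset.mem_filter] at hγ
    obtain ⟨h1, h2⟩ := hγ
    have h3 : D.form lam (w⁻¹ • γ) < 0 := by
      have := D.form_smul hisom lam (w⁻¹ • γ)
      rw [smul_inv_smul] at this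
      rw [← this]; exact h2
    have h4 : -(w⁻¹ • γ) ∈ D.posJ J' := by
      rcases isRoot_cases D J' hwinv h1 with h | h
      · have := form_nonneg D J' lam hdom h
        omega
      · exact h
    rw [Finset.mem_coe, Finset.mem_filter, Finset.mem_sdiff]
    refine ⟨⟨h4, ?_⟩, ?_⟩
    · intro h5
      have := (form_eq_zero_iff D J' J lam hdom hJ h4).2 h5
      rw [D.form_neg_right] at this
      omega
    · rw [VDatum.smul_neg', neg_neg, smul_inv_smul]
      exact h1
  · intro β _
    simp only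
    rw [VDatum.smul_neg', neg_neg, inv_smul_smul]
  · intro γ _
    simp only
    rw [VDatum.smul_neg', neg_neg, smul_inv_smul]

/-! ### Lemma B: minimal coset representatives -/

include hJ in
theorem W_le : D.W J ≤ D.W J' := D.W_mono J' J (fun i hi => ((hJ i).1 hi).1)

include hJ in
theorem exists_min : ∀ (k : ℕ) (w : (Mat n)ˣ), D.nJ J' w = k → w ∈ D.W J' →
    ∃ u ∈ D.W J', ∃ v ∈ D.W J, w = u * v ∧
      ∀ j, J j → u • (Pi.single j 1 : Vec n) ∈ D.posJ J' := by
  intro k
  induction k using Nat.strong_induction_on with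
  | _ k ih =>
    intro w hk hw
    by_cases h : ∀ j, J j → w • (Pi.single j 1 : Vec n) ∈ D.posJ J'
    · exact ⟨w, hw, 1, (D.W J).one_mem, (mul_one w).symm, h⟩
    · obtain ⟨j, hj0⟩ := not_forall.1 h
      obtain ⟨hj, hneg⟩ := Classical.not_imp.1 hj0
      have hj' : J' j := ((hJ j).1 hj).1
      have hneg' : -(w • (Pi.single j 1 : Vec n)) ∈ D.posJ J' := by
        rcases isRoot_cases D J' hw (D.single_mem_posJ J' hj') with h | h
        · exact absurd h hneg
        · exact h
      have h1 := D.nJ_mul_s_of_neg J' w hj' hneg'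
      have hw' : w * D.s j ∈ D.W J' := (D.W J').mul_mem hw (D.s_mem_W J' hj')
      obtain ⟨u, hu, v, hv, huv, hpos⟩ := ih (D.nJ J' (w * D.s j)) (by omega) (w * D.s j) rfl hw'
      refine ⟨u, hu, v * D.s j, (D.W J).mul_mem hv (D.s_mem_W J hj), ?_, hpos⟩
      rw [← mul_assoc, ← huv, mul_assoc, D.s_mul_s, mul_one]

/-! ### Lemma C: a minimal representative keeps `Φ_J⁺` positive -/

theorem smul_apply (w : (Mat n)ˣ) (β : Vec n) (m : Fin n) :
    (w • β) m = ∑ j, β j * (w • (Pi.single j 1 : Vec n)) m := by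
  change ((w : Mat n).mulVec β) m = ∑ j, β j * ((w : Mat n).mulVec (Pi.single j 1)) m
  simp only [Matrix.mulVec, dotProduct, Pi.single_apply, mul_ite, mul_one, mul_zero,
    Finset.sum_ite_eq', Finset.mem_univ, if_true]
  apply Finset.sum_congr rfl
  intro j _
  ring

theorem min_pos {u : (Mat n)ˣ} (hu : u ∈ D.W J') (hJJ : ∀ i, J i → J' i)
    (hpos : ∀ j, J j → u • (Pi.single j 1 : Vec n) ∈ D.posJ J')
    {β : Vec n} (hβ : β ∈ D.posJ J) : u • β ∈ D.posJ J' := by
  have hβ' : β ∈ D.posJ J' := by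
    rw [VDatum.mem_posJ] at hβ ⊢
    exact ⟨hβ.1, fun j hj => hβ.2 j (fun h => hj (hJJ j h))⟩
  have hβ0 := (VDatum.mem_posJ D J).1 hβ
  rcases isRoot_cases D J' hu hβ' with h | h
  · exact h
  · exfalso
    have hnn : ∀ m, 0 ≤ (u • β) m := by
      intro m
      rw [smul_apply]
      apply Finset.sum_nonneg
      intro j _
      by_cases hj : J j
      · have h1 := (VDatum.mem_posJ D J').1 (hpos j hj)
        exact mul_nonneg ((D.valid.nonneg _ hβ0.1).1 j) ((D.valid.nonneg _ h1.1).1 m)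
      · rw [hβ0.2 j hj, zero_mul]
    have h1 := (VDatum.mem_posJ D J').1 h
    obtain ⟨h2, h3⟩ := D.valid.nonneg _ h1.1
    apply h3
    funext m
    have := h2 m
    have := hnn m
    simp only [Pi.neg_apply, Pi.zero_apply] at *
    omega

/-! ### Lemma D -/

theorem mJ_mul {u v : (Mat n)ˣ} (hu : u ∈ D.W J') (hv : v ∈ D.W J) (hJJ : ∀ i, J i → J' i)
    (hpos : ∀ j, J j → u • (Pi.single j 1 : Vec n) ∈ D.posJ J') :
    mJ D J' J (u * v) = D.nJ J v := by
  unfold mJ VDatum.nJ
  apply Finset.sum_congr rfl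
  intro β hβ
  rcases D.isRoot_smul J hv (Or.inl hβ) with h | h
  · have h1 := min_pos D J' J hu hJJ hpos h
    rw [mul_smul, if_neg (D.neg_not_mem_posJ J' h1), if_neg (D.neg_not_mem_posJ J h)]
  · have h1 := min_pos D J' J hu hJJ hpos h
    rw [VDatum.smul_neg'] at h1
    rw [mul_smul, if_pos h1, if_pos h]


/-! ### The factorisation -/

/-- the Poincaré sum of a parabolic subgroup -/
noncomputable def poinc (J : Fin n → Prop) [DecidablePred J] (t : ℕ) : ℕ :=
  ∑ᶠ w : D.W J, t ^ D.nJ J (w : (Mat n)ˣ)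

/-- the depth sum of an orbit -/
noncomputable def orbSum (t : ℕ) : ℕ :=
  ∑ᶠ μ : MulAction.orbit (D.W J') lam, t ^ depth D J' (μ : Vec n)

include hdom hJ in
theorem exists_rep (μ : MulAction.orbit (D.W J') lam) :
    ∃ u ∈ D.W J', u • lam = (μ : Vec n) ∧
      ∀ j, J j → u • (Pi.single j 1 : Vec n) ∈ D.posJ J' := by
  obtain ⟨μ, ⟨⟨w, hw⟩, rfl⟩⟩ := μ
  obtain ⟨u, hu, v, hv, huv, hpos⟩ := exists_min D J' J lam hJ _ w rfl hw
  refine ⟨u, hu, ?_, hpos⟩
  change u • lam = w • lam
  rw [huv, mul_smul, D.fix_of_mem_W J lam (fun i hi => ((hJ i).1 hi).2) hv]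

include hdom hJ in
theorem poinc_step (t : ℕ) :
    poinc D J' t = poinc D J t * orbSum D J' lam t := by
  classical
  haveI := finite_W D J'
  haveI := finite_W D J
  have hle := W_le D J' J lam hJ
  have hJJ : ∀ i, J i → J' i := fun i hi => ((hJ i).1 hi).1
  have hfixJ : ∀ v ∈ D.W J, v • lam = lam :=
    fun v hv => D.fix_of_mem_W J lam (fun i hi => ((hJ i).1 hi).2) hv
  choose rep hrep using exists_rep D J' J lam hdom hJ
  let Φ : (MulAction.orbit (D.W J') lam) × (D.W J) → D.W J' := fun p =>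
    ⟨rep p.1 * p.2.1, (D.W J').mul_mem (hrep p.1).1 (hle p.2.2)⟩
  have hΦ : Function.Bijective Φ := by
    constructor
    · rintro ⟨μ, v⟩ ⟨μ', v'⟩ h
      have h1 : rep μ * v.1 = rep μ' * v'.1 := congrArg Subtype.val h
      have h2 : (μ : Vec n) = μ' := by
        have := congrArg (fun g : (Mat n)ˣ => g • lam) h1
        simp only [mul_smul, hfixJ _ v.2, hfixJ _ v'.2, (hrep μ).2.1, (hrep μ').2.1] at this
        exact this
      have h3 : μ = μ' := Subtype.ext h2
      subst h3
      have h4 : v.1 = v'.1 := mul_left_cancel h1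
      rw [Subtype.ext h4]
    · rintro ⟨w, hw⟩
      let μ : MulAction.orbit (D.W J') lam := ⟨w • lam, ⟨⟨w, hw⟩, rfl⟩⟩
      have hu := hrep μ
      have hfix : ((rep μ)⁻¹ * w) • lam = lam := by
        rw [mul_smul]
        have : w • lam = rep μ • lam := hu.2.1.symm
        rw [this, inv_smul_smul]
      have hmem : (rep μ)⁻¹ * w ∈ D.W J :=
        D.mem_W_of_fix J' J lam hdom hJ _ _ rfl
          ((D.W J').mul_mem ((D.W J').inv_mem hu.1) hw) hfix
      refine ⟨(μ, ⟨(rep μ)⁻¹ * w, hmem⟩), ?_⟩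
      apply Subtype.ext
      show rep μ * ((rep μ)⁻¹ * w) = w
      group
  have hn : ∀ p, D.nJ J' (Φ p : (Mat n)ˣ) = D.nJ J (p.2 : (Mat n)ˣ) + depth D J' (p.1 : Vec n) := by
    rintro ⟨μ, v⟩
    have hu := hrep μ
    rw [nJ_eq D J' J lam hdom hJ (Φ (μ, v)).2]
    show mJ D J' J (rep μ * v.1) + depth D J' ((rep μ * v.1) • lam) = _
    rw [mJ_mul D J' J hu.1 v.2 hJJ hu.2.2, mul_smul, hfixJ _ v.2, hu.2.1]
  unfold poinc orbSum
  rw [← finsum_comp_equiv (Equiv.ofBijective Φ hΦ)]
  simp only [Equiv.ofBijective_apply, hn, pow_add]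
  haveI : Finite (MulAction.orbit (D.W J') lam) := (Set.finite_range _).to_subtype
  letI : Fintype (MulAction.orbit (D.W J') lam) := Fintype.ofFinite _
  letI : Fintype (D.W J) := Fintype.ofFinite _
  rw [finsum_eq_sum_of_fintype, finsum_eq_sum_of_fintype, finsum_eq_sum_of_fintype,
    Fintype.sum_prod_type, Finset.sum_comm, Finset.sum_mul_sum]

end Cfsg.Agent.Helper59.Poincare
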