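import Cfsg.Agent.Lib.Helper59.BNCount
import Cfsg.Agent.Lib.Helper59.PoincA

/-!
# The order of a finite group with a (B,N)-pair whose Weyl group is one of the concrete models

`|G| = |B| * ∑_{w ∈ W} q^{n(w)}` when `N/(B ⊓ N)` is identified with the model Weyl group `V.Wf`.
-/

set_option autoImplicit false
set_option linter.unusedSectionVars false

namespace Cfsg.Agent.Helper59.WeylGlue

open Cfsg Cfsg.Agent.Helper6 Cfsg.Agent.Helper6.Weyl Cfsg.Agent.Helper59.Poincare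

variable {G : Type*} [Group G] (P : Cfsg.BNPair G) {l : ℕ} (V : VDatum l)
  (ψ : P.N →* V.Wf)
  (hker : ∀ n : P.N, ψ n = 1 ↔ (n : G) ∈ P.B)
  (hS : ∀ s (hs : s ∈ P.S), ∃ i, ψ ⟨s, P.subset hs⟩ = V.σ i)
  (hS' : ∀ i, ∃ s, ∃ hs : s ∈ P.S, ψ ⟨s, P.subset hs⟩ = V.σ i)

include hS' in
theorem exists_lift (L : List (Fin l)) :
    ∃ Ls : List G, (∀ x ∈ Ls, x ∈ P.S) ∧ Ls.length = L.length ∧
      ∃ x : P.N, (x : G) = Ls.prod ∧ ((ψ x : V.Wf) : (Mat l)ˣ) = V.wpM L := by
  induction L with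
  | nil => exact ⟨[], by simp, rfl, 1, by simp, by simp [VDatum.wpM]⟩
  | cons i L ih =>
    obtain ⟨Ls, h1, h2, x, h3, h4⟩ := ih
    obtain ⟨s, hs, hsi⟩ := hS' i
    refine ⟨s :: Ls, ?_, by simp [h2], ⟨s, P.subset hs⟩ * x, ?_, ?_⟩
    · intro y hy
      rcases List.mem_cons.1 hy with rfl | hy
      · exact hs
      · exact h1 y hy
    · simp [h3]
    · rw [map_mul, Subgroup.coe_mul, hsi, h4, VDatum.wpM_cons]
      rfl

include hS in
theorem exists_word_of_list (Ls : List G) (hLs : ∀ x ∈ Ls, x ∈ P.S) :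
    ∃ x : P.N, (x : G) = Ls.prod ∧ ∃ L : List (Fin l), L.length = Ls.length ∧
      ((ψ x : V.Wf) : (Mat l)ˣ) = V.wpM L := by
  induction Ls with
  | nil => exact ⟨1, by simp, [], rfl, by simp [VDatum.wpM]⟩
  | cons s Ls ih =>
    obtain ⟨x, h1, L, h2, h3⟩ := ih (fun y hy => hLs y (List.mem_cons_of_mem _ hy))
    have hs : s ∈ P.S := hLs s (by simp)
    obtain ⟨i, hi⟩ := hS s hs
    refine ⟨⟨s, P.subset hs⟩ * x, by simp [h1], i :: L, by simp [h2], ?_⟩
    rw [map_mul, Subgroup.coe_mul, hi, h3, VDatum.wpM_cons]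
    rfl

include hker hS hS' in
theorem len_eq_nJ (n : P.N) :
    len P (n : G) = V.nJ VDatum.allJ ((ψ n : V.Wf) : (Mat l)ˣ) := by
  apply le_antisymm
  · obtain ⟨L, _, hL, hlen⟩ := V.exists_word_length_eq_nJ VDatum.allJ (ψ n).2
    obtain ⟨Ls, h1, h2, x, h3, h4⟩ := exists_lift P V ψ hS' L
    have hrep : Rep P Ls (n : G) := by
      refine ⟨h1, ?_⟩
      rw [← h3]
      have : ψ (x⁻¹ * n) = 1 := by
        rw [map_mul, map_inv]
        apply Subtype.ext
        rw [Subgroup.coe_mul, Subgroup.coe_inv, h4, hL]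
        simp
      exact (hker _).1 this
    calc len P (n : G) ≤ Ls.length := len_le_of_rep P hrep
      _ = _ := by rw [h2, hlen]
  · obtain ⟨Ls, hrep, hlen⟩ := exists_rep_len P n.2
    obtain ⟨x, h1, L, h2, h3⟩ := exists_word_of_list P V ψ hS Ls hrep.1
    have hB : ((x⁻¹ * n : P.N) : G) ∈ P.B := by
      rw [Subgroup.coe_mul, Subgroup.coe_inv, h1]
      exact hrep.2
    have h4 := (hker _).2 hB
    rw [map_mul, map_inv, inv_mul_eq_one] at h4
    rw [← h4, h3, ← hlen, ← h2]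
    exact V.nJ_wpM_le VDatum.allJ (fun _ _ => trivial)

variable [Finite G]

include hker hS hS' in
/-- the order formula -/
theorem card_eq (hsurj : Function.Surjective ψ) {q : ℕ}
    (hq : ∀ s ∈ P.S, Nat.card (C P s) = q * Nat.card P.B) :
    Nat.card G = Nat.card P.B * poinc V VDatum.allJ q := by
  classical
  haveI := finite_Wf V
  letI : Fintype V.Wf := Fintype.ofFinite _
  let ν : V.Wf → G := fun w => ((Function.surjInv hsurj w : P.N) : G)
  have hν : ∀ w, ν w ∈ P.N := fun w => (Function.surjInv hsurj w).2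
  have hψν : ∀ w, ψ (Function.surjInv hsurj w) = w := Function.surjInv_eq hsurj
  have hν' : ∀ n ∈ P.N, ∃! w, (ν w)⁻¹ * n ∈ P.B := by
    intro n hn
    have key : ∀ w, (ν w)⁻¹ * n ∈ P.B ↔ w = ψ ⟨n, hn⟩ := by
      intro w
      have : (ν w)⁻¹ * n = (((Function.surjInv hsurj w)⁻¹ * ⟨n, hn⟩ : P.N) : G) := rfl
      rw [this, ← hker, map_mul, map_inv, hψν, inv_mul_eq_one]
    exact ⟨ψ ⟨n, hn⟩, (key _).2 rfl, fun w hw => (key w).1 hw⟩
  rw [BNCount.card_eq P hq ν hν hν']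
  congr 1
  unfold poinc
  rw [finsum_eq_sum_of_fintype]
  apply Finset.sum_congr rfl
  intro w _
  have := len_eq_nJ P V ψ hker hS hS' (Function.surjInv hsurj w)
  rw [hψν] at this
  show q ^ len P ((Function.surjInv hsurj w : P.N) : G) = _
  rw [this]

end Cfsg.Agent.Helper59.WeylGlue
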