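import Cfsg.Agent.Lib.Helper59.TwFixE

/-!
# The recursion data `Rec` for a twisted Chevalley group
-/

set_option autoImplicit false
set_option linter.unusedSectionVars false
set_option linter.unusedVariables false

namespace Cfsg.Agent.Helper59.TwFix

open Cfsg Cfsg.Lie Cfsg.Agent.S1043 Cfsg.Agent.Helper17 Cfsg.Agent.Helper18
open Cfsg.Agent.Helper6.Twist
open scoped Pointwise

section

variable {F : Type*} [Field F] {D : ChevalleyDatum} (hD : Good D) {tbl : List ℕ}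
  (C : ChevHyp F D tbl)

include hD C

/-- if `n` keeps `p_i` positive, it sends `-p_i` to a negative root -/
theorem pos_simple_neg {n : GL D.Idx F} (hn : n ∈ D.monomialSubgroup F) {i : ℕ} (hi : i < D.rank)
    (hpos : Pos hD n i) (t : F) :
    n * xU D hD (D.neg (D.simple i)) t * n⁻¹ ∈ D.negUnipotent F := by
  obtain ⟨h, hh, l, hl, rfl, hp⟩ := exists_word_pos hD C hn hi hpos
  have hsi := C.hB.hsimp i hi
  obtain ⟨c, _, hc⟩ := conj_N_xU D hD C.hB C.hT C.hconj h hh l hl (D.neg (D.simple i))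
    (C.hB.hnv _ hsi)
  rw [hc t, permW_neg C.hB l hl _ hsi]
  have hlt := permW_lt C.hB l hl _ hsi
  have hneg : D.IsNegRoot (D.neg (permW D l (D.simple i))) :=
    (C.hB.hpn _ (C.hB.hnv _ hlt)).resolve_left (C.hB.hnegpos _ hp)
  exact Subgroup.subset_closure ⟨_, _, hneg, rfl⟩

theorem neg_of_desc {n' : GL D.Idx F} (hn' : n' ∈ D.monomialSubgroup F) {j : ℕ} (hj : j < D.rank)
    (hpos : Pos hD n' j) : Neg hD (n' * nGL D hD j) j := by
  intro t
  have hsj := C.hB.hsimp j hj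
  have hlj : ∀ i ∈ [j], i < D.rank := by
    intro i hi
    rw [List.mem_singleton] at hi
    rw [hi]; exact hj
  obtain ⟨c, _, hc⟩ := conj_N_xU D hD C.hB C.hT C.hconj 1 (one_mem _) [j] hlj (D.simple j) hsj
  have e3 := hc t
  rw [one_mul, nWordGL_cons, nWordGL_nil, mul_one] at e3
  have e4 : permW D [j] (D.simple j) = D.neg (D.simple j) := reflect_simple D j
  rw [e4] at e3
  have e : n' * nGL D hD j * xU D hD (D.simple j) t * (n' * nGL D hD j)⁻¹ =
      n' * (nGL D hD j * xU D hD (D.simple j) t * (nGL D hD j)⁻¹) * n'⁻¹ := by group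
  rw [e, e3]
  exact pos_simple_neg hD C hn' hj hpos _

end

section

variable {F : Type*} [Field F] {D : ChevalleyDatum} (hD : Good D) {tbl : List ℕ}
  (C : ChevHyp F D tbl)
  (φ : F →+* F) (hφ : Function.Surjective φ) (Pg : GL D.Idx F) (R : ℕ → ℕ) (ηs : ℕ → ℤ)
  (hconjP : ∀ s < D.nroots, ∀ t : F, (Pg : Matrix D.Idx D.Idx F) * D.x F s t =
      D.x F (R s) ((ηs s : F) * t) * (Pg : Matrix D.Idx D.Idx F))
  (TF : TauFacts D R ηs)
  (G1 : Subgroup (GL D.Idx F)) (hG1 : G1 ≤ D.group F) (hfix : G1 ≤ fixTau φ Pg)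
  {ι : Type*} (orb : ι → List ℕ)
  (horb : ∀ j, OrthList D (orb j))
  (hne : ∀ j, orb j ≠ [])
  (hcover : ∀ i < D.rank, ∃ j, i ∈ orb j)
  (π : ℕ → ℕ)
  (hπR : ∀ i < D.rank, R (D.simple i) = D.simple (π i))
  (hπη : ∀ i < D.rank, ηs (D.simple i) = 1)
  (hπorb : ∀ j, ∀ a ∈ orb j, π a ∈ orb j)
  (hπtrans : ∀ j, ∀ a ∈ orb j, ∀ b ∈ orb j, ∃ k : ℕ, π^[k] a = b)
  (hnJ : ∀ j, nWordGL D hD (orb j) ∈ G1)
  (hfixX : ∀ j, ∀ x ∈ XJ hD (F := F) (orb j), tau φ Pg x = x → x ∈ G1)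

include hD C hφ hconjP TF hπR hπη in
theorem neg_tau {n : GL D.Idx F} (hn : n ∈ D.monomialSubgroup F)
    (hτ : n⁻¹ * tau φ Pg n ∈ D.diagonalSubgroup F) {i : ℕ} (hi : i < D.rank) (hπi : π i < D.rank)
    (hneg : Neg hD n i) : Neg hD n (π i) := by
  intro t
  set h : GL D.Idx F := n⁻¹ * tau φ Pg n with hh
  obtain ⟨c, hc0, hc⟩ := conj_N_xU D hD C.hB C.hT C.hconj h hτ []
    (fun j hj => absurd hj List.not_mem_nil) (D.simple (π i)) (C.hB.hsimp _ hπi)
  obtain ⟨t'', ht''⟩ := hφ (c⁻¹ * t)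
  have h1 : tau φ Pg (n * xU D hD (D.simple i) t'' * n⁻¹) ∈ D.negUnipotent F :=
    tau_V hD φ Pg R ηs hconjP TF _ (hneg t'')
  rw [map_mul, map_mul, map_inv, tau_xU hD φ Pg R ηs hconjP _ (C.hB.hsimp i hi), hπR i hi, hπη i hi,
    ht''] at h1
  simp only [Int.cast_one, one_mul] at h1
  have e1 : tau φ Pg n = n * h := by rw [hh]; group
  have e2 := hc (c⁻¹ * t)
  rw [nWordGL_nil, mul_one, ← mul_assoc, mul_inv_cancel₀ hc0, one_mul] at e2
  change h * xU D hD (D.simple (π i)) (c⁻¹ * t) * h⁻¹ = xU D hD (D.simple (π i)) t at e2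
  rw [← e2]
  have e3 : n * (h * xU D hD (D.simple (π i)) (c⁻¹ * t) * h⁻¹) * n⁻¹ =
      n * h * xU D hD (D.simple (π i)) (c⁻¹ * t) * (n * h)⁻¹ := by group
  rw [e3, ← e1]
  exact h1

include hD C hφ hconjP TF hπR hπη horb hπorb in
theorem neg_tau_iter {n : GL D.Idx F} (hn : n ∈ D.monomialSubgroup F)
    (hτ : n⁻¹ * tau φ Pg n ∈ D.diagonalSubgroup F) (j : ι) {i : ℕ} (hi : i ∈ orb j)
    (hneg : Neg hD n i) : ∀ k : ℕ, π^[k] i ∈ orb j ∧ Neg hD n (π^[k] i) := by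
  intro k
  induction k with
  | zero => exact ⟨hi, hneg⟩
  | succ k ih =>
    rw [Function.iterate_succ_apply']
    refine ⟨hπorb j _ ih.1, ?_⟩
    exact neg_tau hD C φ hφ Pg R ηs hconjP TF π hπR hπη hn hτ ((horb j).lt _ ih.1)
      ((horb j).lt _ (hπorb j _ ih.1)) ih.2

include hD C hconjP TF hπR hπη hπorb horb in
theorem tau_XJ (j : ι) (x : GL D.Idx F) (hx : x ∈ XJ hD (F := F) (orb j)) :
    tau φ Pg x ∈ XJ hD (F := F) (orb j) := by
  have hle : XJ hD (F := F) (orb j) ≤ (XJ hD (F := F) (orb j)).comap (tau φ Pg) := by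
    conv_lhs => rw [XJ]
    rw [Subgroup.closure_le]
    rintro g ⟨i, hi, t, rfl⟩
    change tau φ Pg (xU D hD (D.simple i) t) ∈ XJ hD (F := F) (orb j)
    have hir := (horb j).lt i hi
    rw [tau_xU hD φ Pg R ηs hconjP _ (C.hB.hsimp i hir), hπR i hir, hπη i hir]
    exact Subgroup.subset_closure ⟨π i, hπorb j i hi, _, rfl⟩
  exact hle hx

include hD C in
theorem pos_of_XJ {J : List ℕ} {n : GL D.Idx F}
    (h : ∀ x ∈ XJ hD (F := F) J, n * x * n⁻¹ ∈ D.posUnipotent F) : ∀ i ∈ J, Pos hD n i :=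
  fun i hi t => h _ (Subgroup.subset_closure ⟨i, hi, t, rfl⟩)

include hD C in
theorem XJ_of_pos {J : List ℕ} {n : GL D.Idx F} (h : ∀ i ∈ J, Pos hD n i) :
    ∀ x ∈ XJ hD (F := F) J, n * x * n⁻¹ ∈ D.posUnipotent F := by
  have hle : XJ hD (F := F) J ≤ (D.posUnipotent F).comap (MulAut.conj n).toMonoidHom := by
    unfold XJ
    rw [Subgroup.closure_le]
    rintro g ⟨i, hi, t, rfl⟩
    exact h i hi t
  exact fun x hx => hle hx

/-- the recursion data of a twisted Chevalley group -/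
noncomputable def chevRec :
    Rec (chevTwist hD C φ hφ Pg R ηs hconjP TF G1 hG1 hfix) ι where
  XJ := fun j => XJ hD (orb j)
  nJ := fun j => nWordGL D hD (orb j)
  nJ_N := fun j => nWordGL_mem D hD (orb j) (fun i hi => C.hB.hsimp i ((horb j).lt i hi))
  nJ_G1 := hnJ
  τXJ := fun j x hx => tau_XJ hD C φ Pg R ηs hconjP TF orb horb π hπR hπη hπorb j x hx
  fixXJ := hfixX
  XJ_ne := by
    intro j
    obtain ⟨i, hi⟩ := List.exists_mem_of_ne_nil _ (hne j)
    refine ⟨xU D hD (D.simple i) 1, Subgroup.subset_closure ⟨i, hi, 1, rfl⟩, ?_⟩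
    intro h1
    have := xU_eq_one D hD C.hB _ (C.hB.hsimp i ((horb j).lt i hi)) _ h1
    exact one_ne_zero this
  ostep_mem := fun n hn j hpos y hy x hx =>
    orbit_mem hD C (horb j) hn (pos_of_XJ hD C hpos) y hy x hx
  ostep_surj := fun n hn j hpos u hu =>
    orbit_surj hD C (orb j) (horb j) n hn (pos_of_XJ hD C hpos) u hu
  ostep_inj := fun n hn j hpos y hy y' hy' x hx x' hx' e =>
    orbit_inj hD C (horb j) y y' hy hy' x x' hx hx' e
  desc := by
    intro n hn hnH hτ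
    obtain ⟨j₀, hj₀, n', hn', rfl, hpos⟩ := exists_desc_single hD C hn hnH
    have hneg := neg_of_desc hD C hn' hj₀ hpos
    obtain ⟨j, hj⟩ := hcover j₀ hj₀
    refine ⟨j, ?_⟩
    apply XJ_of_pos hD C
    apply pos_of_neg_orbit hD C (horb j) hn
    intro i hi
    obtain ⟨k, rfl⟩ := hπtrans j j₀ hj i hi
    exact (neg_tau_iter hD C φ hφ Pg R ηs hconjP TF orb horb π hπR hπη hπorb hn hτ j hj hneg k).2

end

end Cfsg.Agent.Helper59.TwFix
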