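import Cfsg.Agent.Lib.Helper59.F4SuzFix
import Cfsg.Agent.Lib.Helper6.TwistTorus
import Cfsg.Agent.Lib.Helper6.ChevFactsS18
import Cfsg.Agent.Lib.Helper18.TorusAll

/-!
# `²F₄`: the torus `H¹ = G¹ ∩ H`
-/

set_option autoImplicit false
set_option linter.unusedSectionVars false
set_option linter.unusedVariables false
set_option maxRecDepth 100000

namespace Cfsg.Agent.Helper59.F4Suz

open Cfsg Cfsg.Lie Cfsg.Agent.Helper18 Cfsg.Agent.Helper15.Ree4 Cfsg.Agent.Helper6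
open Cfsg.Agent.Helper6.ChevGraph Cfsg.Agent.Helper6.ChevGraph.F4 Cfsg.Agent.S1043

section

variable {K : Type*} [Field K]

theorem xg_eq (r : ℕ) (t : K) : Chev.xg (Chev.nData_F4 (F := K)) r t = xg r t := Units.ext rfl

theorem cartan_vals :
    (chevF4.cartan 0 47 = 0 ∧ chevF4.cartan 1 47 = 0 ∧ chevF4.cartan 2 47 = 0 ∧ chevF4.cartan 3 47 = 1) ∧
    (chevF4.cartan 0 44 = 1 ∧ chevF4.cartan 1 44 = 0 ∧ chevF4.cartan 2 44 = 0 ∧ chevF4.cartan 3 44 = 0) ∧
    (chevF4.cartan 0 46 = 0 ∧ chevF4.cartan 1 46 = 0 ∧ chevF4.cartan 2 46 = 1 ∧ chevF4.cartan 3 46 = -1) ∧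
    (chevF4.cartan 0 40 = -1 ∧ chevF4.cartan 1 40 = 1 ∧ chevF4.cartan 2 40 = 0 ∧ chevF4.cartan 3 40 = 0) := by
  decide

theorem chi_47 (c : ℕ → K) : Cfsg.Agent.Helper18.chi chevF4 c 47 = c 3 := by
  have h4 : chevF4.rank = 4 := rfl
  obtain ⟨⟨a0, a1, a2, a3⟩, -, -, -⟩ := cartan_vals
  simp only [Cfsg.Agent.Helper18.chi, h4, List.range_succ, List.range_zero, List.nil_append, List.cons_append,
    List.map_cons, List.map_nil, List.prod_cons, List.prod_nil, a0, a1, a2, a3, zpow_zero,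
    zpow_one, one_mul, mul_one]

theorem chi_44 (c : ℕ → K) : Cfsg.Agent.Helper18.chi chevF4 c 44 = c 0 := by
  have h4 : chevF4.rank = 4 := rfl
  obtain ⟨-, ⟨a0, a1, a2, a3⟩, -, -⟩ := cartan_vals
  simp only [Cfsg.Agent.Helper18.chi, h4, List.range_succ, List.range_zero, List.nil_append, List.cons_append,
    List.map_cons, List.map_nil, List.prod_cons, List.prod_nil, a0, a1, a2, a3, zpow_zero,
    zpow_one, one_mul, mul_one]

theorem chi_46 (c : ℕ → K) : Cfsg.Agent.Helper18.chi chevF4 c 46 = c 2 * (c 3)⁻¹ := by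
  have h4 : chevF4.rank = 4 := rfl
  obtain ⟨-, -, ⟨a0, a1, a2, a3⟩, -⟩ := cartan_vals
  simp only [Cfsg.Agent.Helper18.chi, h4, List.range_succ, List.range_zero, List.nil_append, List.cons_append,
    List.map_cons, List.map_nil, List.prod_cons, List.prod_nil, a0, a1, a2, a3, zpow_zero,
    zpow_one, one_mul, mul_one, zpow_neg]

theorem chi_40 (c : ℕ → K) : Cfsg.Agent.Helper18.chi chevF4 c 40 = (c 0)⁻¹ * c 1 := by
  have h4 : chevF4.rank = 4 := rfl
  obtain ⟨-, -, -, ⟨a0, a1, a2, a3⟩⟩ := cartan_vals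
  simp only [Cfsg.Agent.Helper18.chi, h4, List.range_succ, List.range_zero, List.nil_append, List.cons_append,
    List.map_cons, List.map_nil, List.prod_cons, List.prod_nil, a0, a1, a2, a3, zpow_zero,
    zpow_one, one_mul, mul_one, zpow_neg]

/-- the torus elements act on the root subgroups `X₄₇`, `X₄₄`, `X₄₆`, `X₄₀` through the coordinates -/
theorem tor_conj {tbl : List ℕ} (hT : TorusData chevF4 tbl) (c : ℕ → Kˣ) (s : K) :
    (Twist.torHom chevF4 c * xg 47 s = xg 47 ((c 3 : K) * s) * Twist.torHom chevF4 c ∧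
    Twist.torHom chevF4 c * xg 44 s = xg 44 ((c 0 : K) * s) * Twist.torHom chevF4 c) ∧
    Twist.torHom chevF4 c * xg 46 s = xg 46 ((c 2 : K) * (c 3 : K)⁻¹ * s) * Twist.torHom chevF4 c ∧
    Twist.torHom chevF4 c * xg 40 s = xg 40 ((c 0 : K)⁻¹ * (c 1 : K) * s) * Twist.torHom chevF4 c := by
  have h47 := Twist.torHom_conj_xg chevF4 hT (Chev.nData_F4 (F := K)) c 47 (by decide) s
  have h44 := Twist.torHom_conj_xg chevF4 hT (Chev.nData_F4 (F := K)) c 44 (by decide) s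
  have h46 := Twist.torHom_conj_xg chevF4 hT (Chev.nData_F4 (F := K)) c 46 (by decide) s
  have h40 := Twist.torHom_conj_xg chevF4 hT (Chev.nData_F4 (F := K)) c 40 (by decide) s
  rw [chi_47, xg_eq, xg_eq, mul_inv_eq_iff_eq_mul] at h47
  rw [chi_44, xg_eq, xg_eq, mul_inv_eq_iff_eq_mul] at h44
  rw [chi_46, xg_eq, xg_eq, mul_inv_eq_iff_eq_mul] at h46
  rw [chi_40, xg_eq, xg_eq, mul_inv_eq_iff_eq_mul] at h40
  exact ⟨⟨h47, h44⟩, h46, h40⟩

theorem xg_inj' (r : ℕ) (hr : r < 48) {a b : K} (he : xg r a = xg r b) : a = b := by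
  have hn : chevF4.neg r < chevF4.nroots ∧ chevF4.neg r ≠ r := by
    interval_cases r <;> decide
  apply Twist.xg_inj chevF4 goodF4 (Chev.nData_F4 (F := K)) (r := r) hr hn
  rw [xg_eq, xg_eq, he]

end

section

variable {K : Type*} [Field K] [CharP K 2] {e : ℕ} (FD : FieldData K e)
  (α : ↥(chevF4.group K) ≃* ↥(chevF4.group K))
  (hα : ∀ (r : Fin chevF4.nroots) (t : K),
      α (xG goodF4 r.val t) = xG goodF4 (sig r.val) (if isShort r.val then t ^ 2 else t))

include FD hα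

/-- transport of a conjugation relation on a long root subgroup through `σ` -/
theorem fixed_transport {g : GL chevF4.Idx K} (hg : g ∈ twistedF4 K e) (r r' : ℕ) (hr : r < 48)
    (hr' : r' < 48) (hl : isShort r = false) (hsig : sig r = r') (μ μ' : K)
    (h1 : g * xg r 1 = xg r (μ * 1) * g) (h2 : g * xg r' 1 = xg r' (μ' * 1) * g) : μ' = μ ^ e := by
  obtain ⟨hmem, hfix⟩ := twisted_fixed FD α hα _ hg
  have h1' : (⟨g, hmem⟩ : ↥(chevF4.group K)) * XG r 1 = XG r (μ * 1) * ⟨g, hmem⟩ :=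
    Subtype.ext (by rw [Subgroup.coe_mul, Subgroup.coe_mul, XG_val, XG_val]; exact h1)
  have h3 := congrArg (sigma FD α) h1'
  rw [map_mul, map_mul, hfix, sigma_long FD α hα r r' hr hl hsig,
    sigma_long FD α hα r r' hr hl hsig, one_pow, mul_one] at h3
  have h2' : (⟨g, hmem⟩ : ↥(chevF4.group K)) * XG r' 1 = XG r' (μ' * 1) * ⟨g, hmem⟩ :=
    Subtype.ext (by rw [Subgroup.coe_mul, Subgroup.coe_mul, XG_val, XG_val]; exact h2)
  rw [h2', mul_one] at h3
  have h4 := mul_right_cancel h3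
  have h5 := congrArg (fun g : ↥(chevF4.group K) => (g : GL chevF4.Idx K)) h4
  simp only [XG_val] at h5
  exact xg_inj' r' hr' h5

/-- a `σ`-fixed torus element: the coordinates at `p₁`, `p₂` are `θ` of those at `p₄`, `p₃` -/
theorem tor_fixed {tbl : List ℕ} (hT : TorusData chevF4 tbl) (c : ℕ → Kˣ)
    (hg : Twist.torHom chevF4 c ∈ twistedF4 K e) :
    (c 0 : K) = (c 3 : K) ^ e ∧ (c 1 : K) = (c 2 : K) ^ e := by
  obtain ⟨⟨h47, h44⟩, h46, h40⟩ := tor_conj hT c (1 : K)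
  have a1 := fixed_transport FD α hα hg 47 44 (by decide) (by decide) (by decide) (by decide) _ _ h47 h44
  have a2 := fixed_transport FD α hα hg 46 40 (by decide) (by decide) (by decide) (by decide) _ _ h46 h40
  refine ⟨a1, ?_⟩
  rw [a1, mul_pow, inv_pow] at a2
  have h0 : ((c 3 : K) ^ e) ≠ 0 := pow_ne_zero _ (c 3).ne_zero
  have h1 : (c 1 : K) = (c 3 : K) ^ e * (((c 3 : K) ^ e)⁻¹ * (c 1 : K)) := by
    rw [← mul_assoc, mul_inv_cancel₀ h0, one_mul]
  rw [h1, a2, mul_comm ((c 2 : K) ^ e), ← mul_assoc, mul_inv_cancel₀ h0, one_mul]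

end

end Cfsg.Agent.Helper59.F4Suz
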