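import Cfsg.Agent.Lib.Helper59.F4SuzMem
import Cfsg.Agent.Lib.Helper59.F4SuzTor

/-!
# `²F₄`: `|H¹| = (q - 1)²`
-/

set_option autoImplicit false
set_option linter.unusedSectionVars false
set_option linter.unusedVariables false
set_option maxRecDepth 100000

namespace Cfsg.Agent.Helper59.F4Suz

open Cfsg Cfsg.Lie Cfsg.Agent.Helper18 Cfsg.Agent.Helper15.Ree4 Cfsg.Agent.Helper6
open Cfsg.Agent.Helper6.ChevGraph Cfsg.Agent.Helper6.ChevGraph.F4 Cfsg.Agent.S1043

section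

variable {K : Type*} [Field K]

/-- the coordinates of the `σ`-fixed torus elements -/
def cLS (e : ℕ) (l s : Kˣ) : ℕ → Kˣ :=
  fun i => if i = 0 then l ^ e else if i = 1 then s ^ e else if i = 2 then s else l

/-- the coordinates of `h_{p₁}(l^θ) h_{p₄}(l)` -/
def cL (e : ℕ) (l : Kˣ) : ℕ → Kˣ :=
  fun i => if i = 0 then l ^ e else if i = 1 then 1 else if i = 2 then 1 else l

/-- the coordinates of `h_{p₂}(s^θ) h_{p₃}(s)` -/
def cS (e : ℕ) (s : Kˣ) : ℕ → Kˣ :=
  fun i => if i = 0 then 1 else if i = 1 then s ^ e else if i = 2 then s else 1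

theorem cLS_eq (e : ℕ) (l s : Kˣ) : cLS e l s = cL e l * cS e s := by
  funext i
  simp only [cLS, cL, cS, Pi.mul_apply]
  split_ifs <;> simp

theorem hg_eq_Hr (r : ℕ) (t : Kˣ) :
    Chev.hg (Chev.nData_F4 (F := K)) r (t : K) = Hr r (chevF4.neg r) t := by
  apply Units.ext
  rw [Chev.hg_val]
  unfold Hr
  rw [wordG_val]
  simp only [ChevalleyDatum.hMat, ChevalleyDatum.hWord, ChevalleyDatum.nWord, List.cons_append,
    List.nil_append, Units.val_inv_eq_inv_val, inv_neg, inv_one, neg_neg]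

theorem simple_vals : chevF4.simple 0 = 33 ∧ chevF4.simple 1 = 27 ∧ chevF4.simple 2 = 25 ∧
    chevF4.simple 3 = 24 ∧ chevF4.neg 33 = 14 ∧ chevF4.neg 27 = 20 ∧ chevF4.neg 25 = 22 ∧
    chevF4.neg 24 = 23 := by decide

theorem torHom_prod {tbl : List ℕ} (hT : TorusData chevF4 tbl) (c : ℕ → Kˣ) :
    Twist.torHom chevF4 c = Hr 33 14 (c 0) * (Hr 27 20 (c 1) * (Hr 25 22 (c 2) * Hr 24 23 (c 3))) := by
  rw [Twist.torHom_eq_prod chevF4 hT (Chev.nData_F4 (F := K)) c]
  have h4 : chevF4.rank = 4 := rfl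
  obtain ⟨s0, s1, s2, s3, n0, n1, n2, n3⟩ := simple_vals
  simp only [h4, List.range_succ, List.range_zero, List.nil_append, List.cons_append, List.map_cons,
    List.map_nil, List.prod_cons, List.prod_nil, mul_one, hg_eq_Hr, s0, s1, s2, s3, n0, n1, n2, n3]

theorem Hr_one (r nr : ℕ) (hn : chevF4.neg r = nr) : Hr r nr (1 : Kˣ) = 1 := by
  rw [← hn, ← hg_eq_Hr, Units.val_one]
  exact Twist.hg_one chevF4 (Chev.nData_F4 (F := K)) r

end

section

variable {K : Type*} [Field K] [CharP K 2] {e : ℕ} (FD : FieldData K e)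

include FD

theorem unit_sq (x : Kˣ) : ((x ^ e) ^ e) ^ 2 = x := Units.ext (by
  simp only [Units.val_pow_eq_pow_val]; exact FD.sq _)

theorem torL_mem {tbl : List ℕ} (hT : TorusData chevF4 tbl) (l : Kˣ) :
    Twist.torHom chevF4 (cL e l) ∈ twistedF4 K e := by
  obtain ⟨s0, s1, s2, s3, n0, n1, n2, n3⟩ := simple_vals
  rw [torHom_prod hT]
  have e0 : cL e l 0 = l ^ e := by simp [cL]
  have e1 : cL e l 1 = 1 := by simp [cL]
  have e2 : cL e l 2 = 1 := by simp [cL]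
  have e3 : cL e l 3 = l := by simp [cL]
  rw [e0, e1, e2, e3, Hr_one 27 20 n1, Hr_one 25 22 n2, one_mul, one_mul]
  exact FD.hl_mem l

theorem torS_mem {tbl : List ℕ} (hT : TorusData chevF4 tbl) (s : Kˣ) :
    Twist.torHom chevF4 (cS e s) ∈ twistedF4 K e := by
  obtain ⟨s0, s1, s2, s3, n0, n1, n2, n3⟩ := simple_vals
  rw [torHom_prod hT]
  have e0 : cS e s 0 = 1 := by simp [cS]
  have e1 : cS e s 1 = s ^ e := by simp [cS]
  have e2 : cS e s 2 = s := by simp [cS]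
  have e3 : cS e s 3 = 1 := by simp [cS]
  rw [e0, e1, e2, e3, Hr_one 33 14 n0, Hr_one 24 23 n3, one_mul, mul_one]
  -- the parameter `v` with `v² = s⁻¹`
  set v : Kˣ := ((s⁻¹) ^ e) ^ e with hv
  have hv2 : v ^ 2 = s⁻¹ := unit_sq FD _
  have h := suz_torus_mem FD v (v ^ (2 * e)) (by rw [Units.val_pow_eq_pow_val])
  have a1 : v ^ (0 : ℤ) * (v ^ (2 * e)) ^ (-1 : ℤ) = s ^ e := by
    rw [zpow_zero, one_mul, zpow_neg_one, pow_mul, hv2, inv_pow, inv_inv]
  have a2 : v ^ (-2 : ℤ) * (v ^ (2 * e)) ^ (0 : ℤ) = s := by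
    rw [zpow_zero, mul_one, zpow_neg, zpow_ofNat, hv2, inv_inv]
  rw [a1, a2] at h
  exact h

theorem torLS_mem {tbl : List ℕ} (hT : TorusData chevF4 tbl) (l s : Kˣ) :
    Twist.torHom chevF4 (cLS e l s) ∈ twistedF4 K e := by
  rw [cLS_eq, map_mul]
  exact mul_mem (torL_mem FD hT l) (torS_mem FD hT s)

omit FD in
theorem torLS_inj {l s l' s' : Kˣ}
    (h : Twist.torHom (F := K) chevF4 (cLS e l s) = Twist.torHom chevF4 (cLS e l' s')) :
    l = l' ∧ s = s' := by
  have h47 := Twist.chi_of_torHom_eq chevF4 _ _ h 47 (by decide)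
  have h46 := Twist.chi_of_torHom_eq chevF4 _ _ h 46 (by decide)
  rw [chi_47, chi_47] at h47
  rw [chi_46, chi_46] at h46
  have e3 : ∀ l s : Kˣ, cLS e l s 3 = l := fun l s => by simp [cLS]
  have e2 : ∀ l s : Kˣ, cLS e l s 2 = s := fun l s => by simp [cLS]
  simp only [e3, e2] at h47 h46
  have hl : l = l' := Units.ext h47
  subst hl
  refine ⟨rfl, Units.ext ?_⟩
  have hl0 : ((l : K))⁻¹ ≠ 0 := inv_ne_zero l.ne_zero
  exact mul_right_cancel₀ hl0 h46

/-- `|H¹| = |Kˣ|²` -/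
theorem card_H1 {tbl : List ℕ} (hT : TorusData chevF4 tbl)
    (α : ↥(chevF4.group K) ≃* ↥(chevF4.group K))
    (hα : ∀ (r : Fin chevF4.nroots) (t : K),
      α (xG goodF4 r.val t) = xG goodF4 (sig r.val) (if isShort r.val then t ^ 2 else t)) :
    Nat.card ↥(chevF4.diagonalSubgroup K ⊓ twistedF4 K e) = Nat.card Kˣ * Nat.card Kˣ := by
  let f : Kˣ × Kˣ → ↥(chevF4.diagonalSubgroup K ⊓ twistedF4 K e) := fun p =>
    ⟨Twist.torHom chevF4 (cLS e p.1 p.2),
      ⟨Twist.torHom_mem_H chevF4 hT (Chev.nData_F4 (F := K)) _, torLS_mem FD hT p.1 p.2⟩⟩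
  have finj : Function.Injective f := by
    rintro ⟨l, s⟩ ⟨l', s'⟩ h
    have h' := congrArg Subtype.val h
    obtain ⟨h1, h2⟩ := torLS_inj h'
    rw [Prod.mk.injEq]
    exact ⟨h1, h2⟩
  have fsurj : Function.Surjective f := by
    rintro ⟨g, hgH, hgG⟩
    obtain ⟨c, hc⟩ := (Twist.mem_H_iff chevF4 hT (Chev.nData_F4 (F := K)) g).1 hgH
    have hfix := tor_fixed FD α hα hT c (by rw [hc]; exact hgG)
    refine ⟨(c 3, c 2), ?_⟩
    apply Subtype.ext
    change Twist.torHom chevF4 (cLS e (c 3) (c 2)) = g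
    rw [← hc]
    apply Twist.torHom_congr
    intro i hi
    have hi' : i < 4 := hi
    interval_cases i
    · apply Units.ext
      simp only [cLS, if_true, Units.val_pow_eq_pow_val]
      exact hfix.1.symm
    · apply Units.ext
      simp only [cLS, if_true, Units.val_pow_eq_pow_val]
      simpa using hfix.2.symm
    · simp [cLS]
    · simp [cLS]
  rw [← Nat.card_prod]
  exact (Nat.card_congr (Equiv.ofBijective f ⟨finj, fsurj⟩)).symm

end

end Cfsg.Agent.Helper59.F4Suz
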