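import Mathlib
import Cfsg.Agent.Lib.Helper62.SLN0

set_option autoImplicit false

namespace Cfsg.Agent.Helper59.SLN

open Matrix Module Cfsg.Agent.Helper93.U2 Cfsg.Agent.Helper62.SLN

section GRP

variable {F : Type*} [Field F] {κ : Type} [Fintype κ] [DecidableEq κ]

/-- rank-one perturbation of the identity -/
def h59R (u v : κ → F) : Matrix κ κ F := 1 + vecMulVec u v

theorem h59R_det (u v : κ → F) : (h59R u v).det = 1 + v ⬝ᵥ u := by
  unfold h59R
  rw [vecMulVec_eq Unit, det_one_add_replicateCol_mul_replicateRow]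

theorem h59R_mulVec (u v x : κ → F) : h59R u v *ᵥ x = x + (v ⬝ᵥ x) • u := by
  unfold h59R
  rw [Matrix.add_mulVec, Matrix.one_mulVec, Matrix.vecMulVec_mulVec, op_smul_eq_smul]

theorem h59R_vecMul (u v r : κ → F) : vecMul r (h59R u v) = r + (r ⬝ᵥ u) • v := by
  unfold h59R
  rw [Matrix.vecMul_add, Matrix.vecMul_one, Matrix.vecMul_vecMulVec]

/-- `E r * E r' = E (r + r')` when `r ⬝ᵥ e = 0` -/
theorem h59E_mul (e r r' : κ → F) (hre : r ⬝ᵥ e = 0) :
    h59R e r * h59R e r' = h59R e (r + r') := by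
  unfold h59R
  rw [Matrix.add_mul, Matrix.mul_add, Matrix.mul_add, Matrix.one_mul, Matrix.mul_one,
    Matrix.one_mul, vecMulVec_mul_vecMulVec, hre, zero_smul, vecMulVec_zero, add_zero,
    vecMulVec_add]
  abel

/-- `M * E r = E (a² r) * M` when `M e = a e`, `r M = a⁻¹ r` -/
theorem h59E_conj (M : Matrix κ κ F) (e r : κ → F) (a : F) (ha : a ≠ 0)
    (hMe : M *ᵥ e = a • e) (hrM : vecMul r M = a⁻¹ • r) :
    M * h59R e r = h59R e (a ^ 2 • r) * M := by
  unfold h59R
  rw [Matrix.mul_add, Matrix.mul_one, Matrix.add_mul, Matrix.one_mul, mul_vecMulVec,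
    vecMulVec_mul, hMe, Matrix.smul_vecMul, hrM, smul_smul, smul_vecMulVec, vecMulVec_smul]
  congr 2
  field_simp

theorem h59_exists_alpha [Fintype F] (hq : 4 ≤ Fintype.card F) :
    ∃ a : F, a ≠ 0 ∧ a ^ 2 ≠ 1 := by
  classical
  by_contra hcon
  push Not at hcon
  have hsub : (Finset.univ : Finset F) ⊆ {0, 1, -1} := by
    intro a _
    by_cases ha : a = 0
    · simp [ha]
    · have h2 := hcon a ha
      have h3 : (a - 1) * (a + 1) = 0 := by linear_combination h2
      rcases mul_eq_zero.mp h3 with h | h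
      · have h4 : a = 1 := sub_eq_zero.mp h
        simp [h4]
      · have h4 : a = -1 := eq_neg_of_add_eq_zero_left h
        simp [h4]
  have hle : Fintype.card F ≤ 3 := by
    calc Fintype.card F = (Finset.univ : Finset F).card := rfl
      _ ≤ ({0, 1, -1} : Finset F).card := Finset.card_le_card hsub
      _ ≤ 3 := Finset.card_le_three
  omega

theorem h59_tvEl_val (j : κ) (t : κ → F) :
    (tvEl j t : Matrix κ κ F) = h59R (Pi.single j 1) (Function.update t j 0) := rfl

omit [Fintype κ] in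
theorem h59_update_smul (j : κ) (t : κ → F) (c : F) :
    Function.update (c • t) j 0 = c • Function.update t j 0 := by
  ext i
  by_cases hij : i = j
  · subst hij; simp
  · simp [Function.update_of_ne hij]

/-- the torus-commutator formula, valid for any `κ` as soon as `q ≥ 4` -/
theorem h59_tvEl_comm_fix_vec [Fintype F] (hq : 4 ≤ Fintype.card F)
    (j : κ) (w t : κ → F) (hwj : w j = 0) (ht : t ⬝ᵥ w = 0) :
    ∃ X Y : SpecialLinearGroup κ F, X.1 *ᵥ w = w ∧ Y.1 *ᵥ w = w ∧ tvEl j t = X * Y * X⁻¹ * Y⁻¹ := by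
  classical
  set e : κ → F := Pi.single j 1 with he
  set τ : κ → F := Function.update t j 0 with hτ
  have hτj : τ j = 0 := by simp [hτ]
  have hτw : τ ⬝ᵥ w = 0 := by
    rw [← ht]
    simp only [dotProduct]
    apply Finset.sum_congr rfl
    intro i _
    by_cases hij : i = j
    · subst hij; rw [hwj, mul_zero, mul_zero]
    · rw [hτ, Function.update_of_ne hij]
  have hτe : τ ⬝ᵥ e = 0 := by rw [he, dotProduct_single_one, hτj]
  have hew : e ⬝ᵥ w = 0 := by rw [he, single_one_dotProduct, hwj]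
  have hee : e ⬝ᵥ e = 1 := by rw [he, single_one_dotProduct, Pi.single_eq_same]
  by_cases hτ0 : τ = 0
  · have h1 : tvEl j t = 1 := by
      apply Subtype.ext
      rw [h59_tvEl_val, ← hτ, hτ0]
      unfold h59R
      rw [vecMulVec_zero, add_zero]
      rfl
    refine ⟨1, 1, by simp, by simp, ?_⟩
    rw [h1]; simp
  · obtain ⟨k, hk⟩ : ∃ k, τ k ≠ 0 := by
      by_contra h
      push Not at h
      exact hτ0 (funext h)
    obtain ⟨a, ha0, ha2⟩ := h59_exists_alpha (F := F) hq
    have ha21 : a ^ 2 - 1 ≠ 0 := sub_ne_zero.mpr ha2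
    set ek : κ → F := Pi.single k 1 with hek
    set ψ : κ → F := (τ k)⁻¹ • τ with hψ
    set M₁ : Matrix κ κ F := h59R ((a - 1) • e) e with hM₁
    set M₂ : Matrix κ κ F := h59R ((a⁻¹ - 1) • ek) ψ with hM₂
    have hψk : ψ ⬝ᵥ ek = 1 := by
      rw [hek, dotProduct_single_one, hψ, Pi.smul_apply, smul_eq_mul, inv_mul_cancel₀ hk]
    have hψe : ψ ⬝ᵥ e = 0 := by rw [hψ, smul_dotProduct, hτe, smul_zero]
    have hψw : ψ ⬝ᵥ w = 0 := by rw [hψ, smul_dotProduct, hτw, smul_zero]
    have hdet : (M₁ * M₂).det = 1 := by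
      rw [det_mul, hM₁, hM₂, h59R_det, h59R_det, dotProduct_smul, dotProduct_smul, hee, hψk]
      simp only [smul_eq_mul, mul_one]
      field_simp
      ring
    -- action on `w`
    have hM₂w : M₂ *ᵥ w = w := by rw [hM₂, h59R_mulVec, hψw, zero_smul, add_zero]
    have hM₁w : M₁ *ᵥ w = w := by rw [hM₁, h59R_mulVec, hew, zero_smul, add_zero]
    have hMw : (M₁ * M₂) *ᵥ w = w := by
      rw [← Matrix.mulVec_mulVec, hM₂w, hM₁w]
    -- action on `e`
    have hM₂e : M₂ *ᵥ e = e := by rw [hM₂, h59R_mulVec, hψe, zero_smul, add_zero]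
    have hM₁e : M₁ *ᵥ e = a • e := by
      rw [hM₁, h59R_mulVec, hee, one_smul, sub_smul, one_smul]
      abel
    have hMe : (M₁ * M₂) *ᵥ e = a • e := by
      rw [← Matrix.mulVec_mulVec, hM₂e, hM₁e]
    -- right action on multiples of `τ`
    have hr₁ : ∀ c : F, vecMul (c • τ) M₁ = c • τ := by
      intro c
      rw [hM₁, h59R_vecMul, dotProduct_smul, smul_dotProduct, hτe, smul_zero, smul_zero,
        zero_smul, add_zero]
    have hr₂ : ∀ c : F, vecMul (c • τ) M₂ = a⁻¹ • (c • τ) := by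
      intro c
      rw [hM₂, h59R_vecMul, dotProduct_smul, smul_dotProduct, hek, dotProduct_single_one, hψ]
      ext i
      simp only [Pi.add_apply, Pi.smul_apply, smul_eq_mul]
      field_simp
      ring
    have hrM : ∀ c : F, vecMul (c • τ) (M₁ * M₂) = a⁻¹ • (c • τ) := by
      intro c
      rw [← Matrix.vecMul_vecMul, hr₁, hr₂]
    set c : F := (a ^ 2 - 1)⁻¹ with hc
    let X : SpecialLinearGroup κ F := ⟨M₁ * M₂, hdet⟩
    have hXval : (X : Matrix κ κ F) = M₁ * M₂ := rfl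
    refine ⟨X, tvEl j (c • t), hMw, ?_, ?_⟩
    · rw [h59_tvEl_val, h59_update_smul, ← hτ, h59R_mulVec, smul_dotProduct, hτw, smul_zero,
        zero_smul, add_zero]
    · rw [eq_mul_inv_iff_mul_eq, eq_mul_inv_iff_mul_eq]
      apply Subtype.ext
      change (tvEl j t).1 * (tvEl j (c • t)).1 * (M₁ * M₂) = (M₁ * M₂) * (tvEl j (c • t)).1
      rw [h59_tvEl_val, h59_tvEl_val, h59_update_smul, ← hτ, ← he, h59E_mul e τ (c • τ) hτe,
        h59E_conj (M₁ * M₂) e (c • τ) a ha0 hMe (hrM c)]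
      congr 2
      rw [smul_smul]
      have h1c : a ^ 2 * c = 1 + c := by
        rw [hc]
        field_simp
        ring
      rw [h1c, add_smul, one_smul]

/-- piece G13 -/
theorem tvEl_comm_fix_vec_three [Fintype F] (hκ : Fintype.card κ = 3) (hq : 4 ≤ Fintype.card F)
    (j : κ) (w t : κ → F) (hwj : w j = 0) (hw : w ≠ 0) (ht : t ⬝ᵥ w = 0) :
    ∃ X Y : SpecialLinearGroup κ F, X.1 *ᵥ w = w ∧ Y.1 *ᵥ w = w ∧ tvEl j t = X * Y * X⁻¹ * Y⁻¹ :=
  h59_tvEl_comm_fix_vec hq j w t hwj ht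

end GRP

end Cfsg.Agent.Helper59.SLN
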