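import Cfsg.Agent.Lib.Helper59.TwD4B
import Cfsg.Agent.Lib.Helper18.UCardData

/-!
# The twisted group `³D₄(q)`: assembling the order
-/

set_option autoImplicit false
set_option linter.unusedSectionVars false
set_option linter.unusedVariables false
set_option maxRecDepth 100000

namespace Cfsg.Agent.Helper59.TwD4

open Cfsg Cfsg.Lie Cfsg.Agent.S1043 Cfsg.Agent.Helper17 Cfsg.Agent.Helper18
open Cfsg.Agent.Helper6.Twist Cfsg.Agent.Helper6.Twist.D4 Cfsg.Agent.Helper6.Chev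
open Cfsg.Agent.Helper6.ChevS Cfsg.Agent.Helper6.ChevLen Cfsg.Agent.Helper6.Weyl
open Cfsg.Agent.Helper59.TwFix Cfsg.Agent.Helper59.TwPoinc

section

variable {K : Type*} [Field K] [Fintype K] (p k : ℕ) [ExpChar K p]
  (hK : Fintype.card K = (p ^ k) ^ 3) (hq : 1 < p ^ k)

theorem hπtransD4 : ∀ j, ∀ a ∈ orbD j, ∀ b ∈ orbD j, ∃ k : ℕ, pif^[k] a = b := by
  intro j a ha b hb
  obtain ⟨k, _, hk⟩ := orbFacts.2.2.2.2.2 j a ha b hb
  exact ⟨k, hk⟩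

include hK hq in
theorem card_twistedD4 :
    Nat.card ↥(twistedD4 K (p ^ k)) =
      Nat.card ↥(chevD4.borelSubgroup K ⊓ twistedD4 K (p ^ k)) *
        (TwPoinc.D4.vs.map (fun v => (p ^ k) ^ depthL Cfsg.Agent.Helper6.Weyl.D4.vd v)).sum :=
  card_twisted goodD4 (hypD4 (K := K)) (frob (K := K) p k) (frob_surj p k) Pg Rf etaf hconjP tauFactsD4
    (twistedD4 K (p ^ k)) (twisted_le_group p k) (twisted_le_fix p k hK)
    orbD orthD4 orbFacts.1 orbFacts.2.1 pif orbFacts.2.2.1 orbFacts.2.2.2.1 orbFacts.2.2.2.2.1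
    hπtransD4 (hnJ p k) (hfixX p k) (p ^ k) 3 (by norm_num) hK (hdD4 p k hK hq)
    (nData_D4 (F := K)) bridge_D4 hsimpD4 Cfsg.Lie.coxeterD4
    (ordersOK_spec Cfsg.Agent.Helper6.Weyl.D4.vd Cfsg.Lie.coxeterD4 Cfsg.Agent.Helper6.Weyl.D4.orders_ok)
    (fun i j hij => by rw [mf_D4]; exact hrel_D4 nData_D4 i j hij j.2)
    Pm hPact piFun hPsingle hPpos orb horb_cover horb_trans horb_orth hg_comm lam hreg (hgen p k)
    TwPoinc.D4.vs TwPoinc.D4.nxt TwPoinc.D4.par TwPoinc.D4.hlen TwPoinc.D4.hne TwPoinc.D4.hclosed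
    TwPoinc.D4.hreach TwPoinc.D4.hnodup TwPoinc.D4.hposnd

theorem sumD4 (q : ℕ) :
    (TwPoinc.D4.vs.map (fun v => q ^ depthL Cfsg.Agent.Helper6.Weyl.D4.vd v)).sum =
      1 + q + q ^ 3 + 2 * q ^ 4 + q ^ 5 + q ^ 7 + 2 * q ^ 8 + q ^ 9 + q ^ 11 + q ^ 12 := by
  have e : TwPoinc.D4.vs.map (fun v => q ^ depthL Cfsg.Agent.Helper6.Weyl.D4.vd v) =
      (TwPoinc.D4.vs.map (depthL Cfsg.Agent.Helper6.Weyl.D4.vd)).map (fun d => q ^ d) := by
    rw [List.map_map]; rfl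
  rw [e, TwPoinc.D4.hds]
  simp only [TwPoinc.D4.ds, List.map_cons, List.map_nil, List.sum_cons, List.sum_nil]
  ring

theorem card_U_D4 : Nat.card ↥(chevD4.posUnipotent K) = Fintype.card K ^ 12 := by
  obtain ⟨tbls, l, hperm, hred, hw0, hlen⟩ := w0Data_all chevD4 goodD4
  have hl : l.length = 12 := by
    rw [hlen]
    decide +kernel
  have C := hypD4 (K := K)
  rw [← hl, ← Nat.card_eq_fintype_card]
  exact posUnipotent_card chevD4 goodD4 C.hB C.hU C.hT C.hTri C.hNeg C.hconj C.hS C.hNH tbls hperm l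
    hred hw0

include hK hq in
theorem card_unipD4 :
    Nat.card ↥(chevD4.posUnipotent K ⊓ twistedD4 K (p ^ k)) = (p ^ k) ^ 12 :=
  card_unip1 goodD4 (hypD4 (K := K)) (frob (K := K) p k) (frob_surj p k) Pg Rf etaf hconjP tauFactsD4
    (twistedD4 K (p ^ k)) (twisted_le_group p k) (twisted_le_fix p k hK)
    orbD orthD4 orbFacts.1 orbFacts.2.1 pif orbFacts.2.2.1 orbFacts.2.2.2.1 orbFacts.2.2.2.2.1
    hπtransD4 (hnJ p k) (hfixX p k) (p ^ k) 3 (by norm_num) hK (hdD4 p k hK hq)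
    (nData_D4 (F := K)) bridge_D4 hsimpD4 Cfsg.Lie.coxeterD4
    (ordersOK_spec Cfsg.Agent.Helper6.Weyl.D4.vd Cfsg.Lie.coxeterD4 Cfsg.Agent.Helper6.Weyl.D4.orders_ok)
    (fun i j hij => by rw [mf_D4]; exact hrel_D4 nData_D4 i j hij j.2)
    n0 n0_mem_N (n0_mem_G p k) n0_conj 12 card_U_D4

include hK hq in
theorem card_borelD4 :
    Nat.card ↥(chevD4.borelSubgroup K ⊓ twistedD4 K (p ^ k)) =
      Nat.card ↥(chevD4.posUnipotent K ⊓ twistedD4 K (p ^ k)) *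
        Nat.card ↥(chevD4.diagonalSubgroup K ⊓ twistedD4 K (p ^ k)) :=
  card_borel1 goodD4 (hypD4 (K := K)) (frob (K := K) p k) (frob_surj p k) Pg Rf etaf hconjP tauFactsD4
    (twistedD4 K (p ^ k)) (twisted_le_group p k) (twisted_le_fix p k hK)
    orbD orthD4 orbFacts.1 orbFacts.2.1 pif orbFacts.2.2.1 orbFacts.2.2.2.1 orbFacts.2.2.2.2.1
    hπtransD4 (hnJ p k) (hfixX p k) (p ^ k) 3 (by norm_num) hK (hdD4 p k hK hq)
    (nData_D4 (F := K)) bridge_D4 hsimpD4 Cfsg.Lie.coxeterD4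
    (ordersOK_spec Cfsg.Agent.Helper6.Weyl.D4.vd Cfsg.Lie.coxeterD4 Cfsg.Agent.Helper6.Weyl.D4.orders_ok)
    (fun i j hij => by rw [mf_D4]; exact hrel_D4 nData_D4 i j hij j.2)
    n0 n0_mem_N (n0_mem_G p k) n0_conj

include hK hq in
/-- `|³D₄(q)| = q¹² |H¹| (1 + q)(1 + q³)(1 + q⁴ + q⁸)` -/
theorem card_twistedD4' :
    Nat.card ↥(twistedD4 K (p ^ k)) =
      (p ^ k) ^ 12 * Nat.card ↥(chevD4.diagonalSubgroup K ⊓ twistedD4 K (p ^ k)) *
        (1 + p ^ k + (p ^ k) ^ 3 + 2 * (p ^ k) ^ 4 + (p ^ k) ^ 5 + (p ^ k) ^ 7 + 2 * (p ^ k) ^ 8 +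
          (p ^ k) ^ 9 + (p ^ k) ^ 11 + (p ^ k) ^ 12) := by
  rw [card_twistedD4 p k hK hq, card_borelD4 p k hK hq, card_unipD4 p k hK hq, sumD4]

/-- reduction of the hypotheses of the statements to `q = p ^ k` with `p` the characteristic -/
theorem exists_char {q : ℕ} (hq : IsPrimePow q) (hK : Fintype.card K = q ^ 3) :
    ∃ (p k : ℕ) (_ : ExpChar K p), q = p ^ k ∧ 1 < p ^ k := by
  obtain ⟨p, k, hp, hk, rfl⟩ := (isPrimePow_nat_iff q).1 hq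
  obtain ⟨p', hchar⟩ := CharP.exists K
  have := hchar
  obtain ⟨n, hp', hn⟩ := FiniteField.card K p'
  have hpp : p' = p := by
    have h1 : p' ∣ (p ^ k) ^ 3 := by
      rw [← hK, hn]
      exact dvd_pow_self p' n.ne_zero
    exact (Nat.prime_dvd_prime_iff_eq hp' hp).1 (hp'.dvd_of_dvd_pow (hp'.dvd_of_dvd_pow h1))
  subst hpp
  refine ⟨p', k, ExpChar.prime hp', rfl, ?_⟩
  exact Nat.one_lt_pow hk.ne' hp'.one_lt

end

end Cfsg.Agent.Helper59.TwD4
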