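import Mathlib
import Cfsg.Agent.Lib.Helper93.RU0
import Cfsg.Agent.Lib.Helper82.RUA
import Cfsg.Agent.Lib.Helper34.RUB3

/-!
# TU project (S2279, 10u): `SL_n(F)`, `n ≥ 4`, is generated by two conjugate regular unipotents.
Shared definitions (helper59), on top of the RU library of helper93 (`n = m + 3`).

`u = 1 + N` (`Helper93.RU.uEl`), `g = x_{n-1,0}(c)`, `v = g u g⁻¹`, `H = ⟨u, v⟩`.
`p_k = u^k e_{n-1}` (columns), `q_k = e_0ᵀ u^{-k}` (rows), `k ∈ ℤ`; Gram `q_i · p_j = γ(j - i)`,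
`γ(t) = (u^t)_{0,n-1} = C(t, n-1)`.  `P(i,j) = {a : 1 + a p_i q_jᵀ ∈ H}`.
-/

set_option autoImplicit false

namespace Cfsg.Agent.Helper59.TU

open Matrix Cfsg.Agent.Helper93.RU

variable {F : Type*} [Field F] {m : ℕ}

/-- the last index `n - 1` -/
def lastI (m : ℕ) : Fin (m + 3) := Fin.last (m + 2)

/-- `p_k = u^k e_{n-1}` -/
noncomputable def pV (m : ℕ) (F : Type*) [Field F] (k : ℤ) : Fin (m + 3) → F :=
  ((uEl m F) ^ k).1 *ᵥ eV (lastI m)

/-- `q_k = e_0ᵀ u^{-k}` -/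
noncomputable def qV (m : ℕ) (F : Type*) [Field F] (k : ℤ) : Fin (m + 3) → F :=
  eV 0 ᵥ* ((uEl m F) ^ (-k)).1

/-- the Gram function `γ(t) = (u^t)_{0,n-1}` -/
noncomputable def gam (m : ℕ) (F : Type*) [Field F] (t : ℤ) : F :=
  ((uEl m F) ^ t).1 0 (lastI m)

/-- the lowest root element `g = x_{n-1,0}(c)` -/
noncomputable def gEl (c : F) : SLm m F := tvS (eV (lastI m)) (c • eV 0)

/-- `P(i,j) = {a : 1 + a p_i q_jᵀ ∈ H}` -/
def PP (H : Subgroup (SLm m F)) (i j : ℤ) : Set F := {a | tvS (pV m F i) (a • qV m F j) ∈ H}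

/-- `τ_k = 1 + c p_k q_kᵀ = u^k g u^{-k}` -/
noncomputable def tauEl (c : F) (k : ℤ) : SLm m F := tvS (pV m F k) (c • qV m F k)

/-- `P_d = P(d,0)` -/
def Pd (H : Subgroup (SLm m F)) (d : ℕ) : Set F := PP H (d : ℤ) 0

theorem mem_PP (H : Subgroup (SLm m F)) (i j : ℤ) (a : F) :
    a ∈ PP H i j ↔ tvS (pV m F i) (a • qV m F j) ∈ H := Iff.rfl

theorem pV_zero : pV m F 0 = eV (lastI m) := by
  unfold pV
  rw [zpow_zero, Matrix.SpecialLinearGroup.coe_one, Matrix.one_mulVec]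

theorem qV_zero : qV m F 0 = eV 0 := by
  unfold qV
  rw [neg_zero, zpow_zero, Matrix.SpecialLinearGroup.coe_one, Matrix.vecMul_one]

theorem gEl_eq (c : F) : (gEl c : SLm m F) = tauEl c 0 := by
  unfold tauEl
  rw [pV_zero, qV_zero]; rfl

/-- the Gram relation -/
theorem gram (i j : ℤ) : qV m F i ⬝ᵥ pV m F j = gam m F (j - i) := by
  unfold qV pV gam
  rw [← Matrix.dotProduct_mulVec, Matrix.mulVec_mulVec, ← Matrix.SpecialLinearGroup.coe_mul,
    ← _root_.zpow_add, show -i + j = j - i by ring]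
  unfold eV
  rw [single_one_dotProduct, Matrix.mulVec_single_one]
  rfl

/-- `u p_k = p_{k+1}` -/
theorem u_pV (k : ℤ) : (uEl m F).1 *ᵥ pV m F k = pV m F (k + 1) := by
  unfold pV
  rw [Matrix.mulVec_mulVec, ← Matrix.SpecialLinearGroup.coe_mul, ← _root_.zpow_one_add, add_comm 1 k]

/-- `q_k u⁻¹ = q_{k+1}` -/
theorem qV_u (k : ℤ) : qV m F k ᵥ* ((uEl m F)⁻¹).1 = qV m F (k + 1) := by
  unfold qV
  rw [Matrix.vecMul_vecMul, ← Matrix.SpecialLinearGroup.coe_mul, ← _root_.zpow_neg_one, ← _root_.zpow_add,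
    show -k + -1 = -(k + 1) by ring]

/-- `u^j p_k = p_{k+j}` -/
theorem zpow_pV (j k : ℤ) : ((uEl m F) ^ j).1 *ᵥ pV m F k = pV m F (k + j) := by
  unfold pV
  rw [Matrix.mulVec_mulVec, ← Matrix.SpecialLinearGroup.coe_mul, ← _root_.zpow_add, add_comm j k]

/-- `q_k u^{-j} = q_{k+j}` -/
theorem qV_zpow (j k : ℤ) : qV m F k ᵥ* (((uEl m F) ^ j)⁻¹).1 = qV m F (k + j) := by
  unfold qV
  rw [Matrix.vecMul_vecMul, ← Matrix.SpecialLinearGroup.coe_mul, ← _root_.zpow_neg, ← _root_.zpow_add,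
    show -k + -j = -(k + j) by ring]

end Cfsg.Agent.Helper59.TU
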