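import Cfsg.Agent.Lib.Helper59.F4CoreChk
import Cfsg.Agent.Lib.Helper6.TwistTorus

/-!
# The normal core of `B¹` in `²F₄(q)` is trivial
-/

set_option autoImplicit false
set_option linter.unusedSectionVars false
set_option linter.unusedVariables false
set_option maxRecDepth 100000

namespace Cfsg.Agent.Helper59.F4Suz

open Cfsg Cfsg.Lie Cfsg.Agent.Helper18 Cfsg.Agent.Helper17 Cfsg.Agent.Helper15.Ree4 Cfsg.Agent.Helper6
open Cfsg.Agent.Helper6.ChevGraph.F4 Cfsg.Agent.S1043

section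

variable {K : Type*} [Field K]

theorem hconjF4 : ∀ i < chevF4.rank, ∀ s < chevF4.nroots, ConjGoal' K chevF4 i s := by
  intro i hi s hs
  refine ⟨Chev.etaF4 i s, (Chev.nData_F4 (F := K)).eta_pm i hi s hs, fun t => ?_⟩
  rw [(Chev.nData_F4 (F := K)).mono i hi]
  exact (Chev.nData_F4 (F := K)).conj i hi s hs t

/-- the representative of the longest element -/
noncomputable def n0 : GL chevF4.Idx K := nWordGL chevF4 goodF4 longWordF4

theorem n0_mem_N : (n0 : GL chevF4.Idx K) ∈ chevF4.monomialSubgroup K := by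
  obtain ⟨-, -, hl, -⟩ := coreTableF4
  exact nWordGL_mem chevF4 goodF4 longWordF4
    fun i hi => (Chev.nData_F4 (F := K)).simple_lt i (hl i hi)

theorem n0_conj : (chevF4.posUnipotent K).map (MulAut.conj (n0 : GL chevF4.Idx K)).toMonoidHom =
    chevF4.negUnipotent K := by
  obtain ⟨-, -, hl, hpn, hnp, -⟩ := coreTableF4
  exact longest_conj chevF4 goodF4 (Chev.nData_F4 (F := K)).refl_lt hconjF4 longWordF4 hl
    (fun s hs => hpn s hs.1 hs) (fun r hr => hnp r hr.1 hr)

theorem simple_vals_core : chevF4.simple 0 = 33 ∧ chevF4.simple 1 = 27 ∧ chevF4.simple 2 = 25 ∧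
    chevF4.simple 3 = 24 ∧ chevF4.neg 33 = 14 ∧ chevF4.neg 27 = 20 ∧ chevF4.neg 25 = 22 ∧
    chevF4.neg 24 = 23 := by decide

theorem xU_eq (r : ℕ) (t : K) : xU chevF4 goodF4 r t = xg r t := Units.ext rfl

theorem nGL_eq (i : ℕ) : nGL (F := K) chevF4 goodF4 i =
    xg (chevF4.simple i) 1 * xg (chevF4.neg (chevF4.simple i)) (-1) * xg (chevF4.simple i) 1 := by
  rw [nGL, xU_eq, xU_eq]

end

section

variable {K : Type*} [Field K] [CharP K 2] {e : ℕ} (FD : FieldData K e)

include FD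

theorem n03_mem : nGL (F := K) chevF4 goodF4 0 * nGL chevF4 goodF4 3 ∈ twistedF4 K e := by
  obtain ⟨s0, s1, s2, s3, n0', n1, n2, n3⟩ := simple_vals_core
  have h := wordG_eq_of_wordEqP (1 : Kˣ) (1 : Kˣ) _ _ chk_n03
  have e1 : nGL (F := K) chevF4 goodF4 0 * nGL chevF4 goodF4 3 =
      wordG (evalWord (1 : Kˣ) (1 : Kˣ)
        [(33, kq 1), (14, kq (-1)), (33, kq 1), (24, kq 1), (23, kq (-1)), (24, kq 1)]) := by
    rw [nGL_eq, nGL_eq, s0, s3, n0', n3]
    simp [evalWord, kq, LP.eval, LP.evalMono, wordG, mul_assoc]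
  rw [e1, h]
  have e2 : wordG (evalWord (1 : Kˣ) (1 : Kˣ)
      [(33, kq 1), (24, kq 1), (14, kq 1), (23, kq 1), (33, kq 1), (24, kq 1)]) =
      (xg 33 ((1 : K) ^ e) * xg 24 1) * (xg 14 ((1 : K) ^ e) * xg 23 1) *
        (xg 33 ((1 : K) ^ e) * xg 24 1) := by
    simp [evalWord, kq, LP.eval, LP.evalMono, wordG, mul_assoc]
  rw [e2]
  exact mul_mem (mul_mem (FD.pairP_mem 1) (FD.pairN_mem 1)) (FD.pairP_mem 1)

theorem n1212_mem : nGL (F := K) chevF4 goodF4 1 * (nGL chevF4 goodF4 2 *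
    (nGL chevF4 goodF4 1 * nGL chevF4 goodF4 2)) ∈ twistedF4 K e := by
  obtain ⟨s0, s1, s2, s3, n0', n1, n2, n3⟩ := simple_vals_core
  have h := wordG_eq_of_wordEqP (1 : Kˣ) (1 : Kˣ) _ _ chk_n1212
  have e1 : nGL (F := K) chevF4 goodF4 1 * (nGL chevF4 goodF4 2 *
      (nGL chevF4 goodF4 1 * nGL chevF4 goodF4 2)) =
      wordG (evalWord (1 : Kˣ) (1 : Kˣ)
        [(27, kq 1), (20, kq (-1)), (27, kq 1), (25, kq 1), (22, kq (-1)), (25, kq 1),
          (27, kq 1), (20, kq (-1)), (27, kq 1), (25, kq 1), (22, kq (-1)), (25, kq 1)]) := by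
    rw [nGL_eq, nGL_eq, s1, s2, n1, n2]
    simp [evalWord, kq, LP.eval, LP.evalMono, wordG, mul_assoc]
  rw [e1, h]
  have e2 : wordG (evalWord (1 : Kˣ) (1 : Kˣ)
      [(27, kq 1), (25, kq 1), (28, kq 1), (19, kq 1), (17, kq 1), (27, kq 1), (25, kq 1), (30, kq 1)]) =
      wordG (evalWord (1 : Kˣ) (1 : Kˣ) (wS 27 25 28 30 19 17)) := by
    simp [evalWord, kq, wS, LP.eval, LP.evalMono, wordG, mul_assoc]
  rw [e2]
  exact wS_mem FD 1 1 (by simp)

theorem n0_mem_G : (n0 : GL chevF4.Idx K) ∈ twistedF4 K e := by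
  have hA := n03_mem FD
  have hB := n1212_mem FD
  set A := nGL (F := K) chevF4 goodF4 0 * nGL chevF4 goodF4 3 with hAdef
  set B := nGL (F := K) chevF4 goodF4 1 * (nGL chevF4 goodF4 2 *
    (nGL chevF4 goodF4 1 * nGL chevF4 goodF4 2)) with hBdef
  have e : (n0 : GL chevF4.Idx K) = A * (B * (A * (B * (A * (B * (A * B)))))) := by
    simp only [n0, nWordGL, longWordF4, List.map_cons, List.map_nil, List.prod_cons, List.prod_nil,
      mul_one, hAdef, hBdef, mul_assoc]
  rw [e]
  exact mul_mem hA (mul_mem hB (mul_mem hA (mul_mem hB (mul_mem hA (mul_mem hB (mul_mem hA hB))))))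

end

section

variable {K : Type*} [Field K] [CharP K 2] {e : ℕ} (FD : FieldData K e)

theorem xg_eq_core (r : ℕ) (t : K) : Chev.xg (Chev.nData_F4 (F := K)) r t = xg r t := Units.ext rfl

theorem xg_inj_core (r : ℕ) (hr : r < 48) {a b : K} (he : xg r a = xg r b) : a = b := by
  have hn : chevF4.neg r < chevF4.nroots ∧ chevF4.neg r ≠ r := coreTableF4.1 r hr
  apply Twist.xg_inj chevF4 goodF4 (Chev.nData_F4 (F := K)) (r := r) hr hn
  rw [xg_eq_core, xg_eq_core, he]

include FD

/-- **the normal core of `B¹` in `²F₄(q)` is trivial** -/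
theorem core_twistedF4 {tbl : List ℕ} (hT : TorusData chevF4 tbl) :
    ((chevF4.borelSubgroup K ⊓ twistedF4 K e).subgroupOf (twistedF4 K e)).normalCore = ⊥ := by
  obtain ⟨hneg, hcart, -, -, -, horth, hin, ⟨p33, p24, p28, p30⟩, ⟨c28, c30⟩, h27, h25⟩ := coreTableF4
  obtain ⟨s0, s1, s2, s3, -⟩ := simple_vals_core
  refine Cfsg.Agent.Helper36.Ree.core_trivial_sep chevF4 goodF4 hT (Chev.nData_F4 (F := K)) triOK_F4
    negTriOK_F4 hcart (twistedF4 K e) n0 n0_mem_N (n0_mem_G FD) n0_conj ?_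
  intro k c hc hkc hcent j hj
  have h4 : chevF4.rank = 4 := rfl
  by_cases hK2 : ∀ x : K, x = 0 ∨ x = 1
  · have hc1 : ∀ i, c i = 1 := fun i => (hK2 (c i)).resolve_left (hc i)
    simp [Cfsg.Agent.Helper18.chi, hc1]
  · simp only [not_forall, not_or] at hK2
    obtain ⟨lam, hlam, hlam1⟩ := hK2
    have hlam2 : lam ^ 2 ≠ 1 := by
      intro h
      apply hlam1
      have h2 : (2 : K) = 0 := FD.h2
      have h3 : (lam - 1) ^ 2 = 0 := by linear_combination h + (1 - lam) * h2
      have h4' := pow_eq_zero_iff (two_ne_zero) |>.1 h3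
      exact sub_eq_zero.1 h4'
    -- conjugation of root elements by `k`
    have kconj : ∀ s < chevF4.nroots, ∀ t : K, k * xg s t * k⁻¹ = xg s (chi chevF4 c s * t) := by
      intro s hs t
      rw [mul_inv_eq_iff_eq_mul]
      apply Units.ext
      rw [Units.val_mul, Units.val_mul, xg_val, xg_val, hkc]
      exact torMat_mul_x chevF4 s (fun i hi => hT.addOK chevF4 i hi s hs) c hc t
    have hconj2 : ∀ a b : GL chevF4.Idx K, k * (a * b) * k⁻¹ = (k * a * k⁻¹) * (k * b * k⁻¹) := by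
      intro a b; group
    -- the pair element
    have gP_mem : xg 33 ((1 : K) ^ e) * xg 24 1 ∈ twistedF4 K e := FD.pairP_mem 1
    have gP_U : xg 33 ((1 : K) ^ e) * xg 24 1 ∈ chevF4.posUnipotent K :=
      mul_mem (Subgroup.subset_closure ⟨33, _, p33, rfl⟩) (Subgroup.subset_closure ⟨24, _, p24, rfl⟩)
    have hP := hcent _ gP_mem gP_U
    rw [hconj2, kconj 33 (by decide), kconj 24 (by decide), one_pow, mul_one, mul_one] at hP
    have hsep := Twist.sep chevF4 goodF4 hT (Chev.nData_F4 (F := K)) hneg lam hlam hlam2 [0, 3]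
      (fun i => if i = 0 then chi chevF4 c 33 else chi chevF4 c 24) (fun _ => 1) horth hin
      (by
        simp only [List.map_cons, List.map_nil, List.prod_cons, List.prod_nil, mul_one, s0, s3,
          xg_eq_core]
        simpa using hP)
    have h33 : chi chevF4 c 33 = 1 := by simpa using hsep 0 (by simp)
    have h24 : chi chevF4 c 24 = 1 := by simpa using hsep 3 (by simp)
    -- the central element of the class
    have he0 : (0 : K) ^ e = 0 := zero_pow FD.epos
    have he1 : (0 : K) ^ (e + 1) = 0 := zero_pow (by omega)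
    have gZ_mem : xg 28 (1 : K) * xg 30 1 ∈ twistedF4 K e := by
      have := class_mem_pos FD (0 : K) 1
      rwa [he0, he1, zero_add, xg_zero, xg_zero, one_mul, one_mul, one_pow] at this
    have gZ_U : xg 28 (1 : K) * xg 30 1 ∈ chevF4.posUnipotent K :=
      mul_mem (Subgroup.subset_closure ⟨28, _, p28, rfl⟩) (Subgroup.subset_closure ⟨30, _, p30, rfl⟩)
    have hZ := hcent _ gZ_mem gZ_U
    rw [hconj2, kconj 28 (by decide), kconj 30 (by decide), mul_one, mul_one] at hZ
    set α := chi chevF4 c 28 with hα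
    set β := chi chevF4 c 30 with hβ
    -- conjugate by `h_{p₃}(lam)`
    set hh := Chev.hg (Chev.nData_F4 (F := K)) (chevF4.simple 2) lam with hhh
    have hh28 : ∀ t : K, hh * xg 28 t * hh⁻¹ = xg 28 (lam * t) := by
      intro t
      have := Twist.hg_conj chevF4 hT (Chev.nData_F4 (F := K)) 2 (by decide) 28 (by decide) lam hlam t
      rw [xg_eq_core, xg_eq_core, c28, zpow_one] at this
      exact this
    have hh30 : ∀ t : K, hh * xg 30 t * hh⁻¹ = xg 30 t := by
      intro t
      have := Twist.hg_conj chevF4 hT (Chev.nData_F4 (F := K)) 2 (by decide) 30 (by decide) lam hlam t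
      rw [xg_eq_core, xg_eq_core, c30, zpow_zero, one_mul] at this
      exact this
    have hZ2 : xg 28 (lam * α) * xg 30 β = xg 28 (lam * 1) * xg 30 1 := by
      have : hh * (xg 28 α * xg 30 β) * hh⁻¹ = hh * (xg 28 1 * xg 30 1) * hh⁻¹ := by rw [hZ]
      have e1 : ∀ a b : GL chevF4.Idx K, hh * (a * b) * hh⁻¹ = (hh * a * hh⁻¹) * (hh * b * hh⁻¹) := by
        intro a b; group
      rw [e1, e1, hh28, hh28, hh30, hh30] at this
      exact this
    -- `x₃₀(β) x₃₀(1)⁻¹` in two ways
    have k1 : xg 30 β * (xg 30 (1 : K))⁻¹ = xg 28 (1 - α) := by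
      have : xg 30 β = (xg 28 α)⁻¹ * (xg 28 1 * xg 30 1) := by rw [← hZ]; group
      rw [this, xg_inv, ← mul_assoc, xg_add]
      have : -α + 1 = 1 - α := by ring
      rw [this]; group
    have k2 : xg 30 β * (xg 30 (1 : K))⁻¹ = xg 28 (lam * (1 - α)) := by
      have : xg 30 β = (xg 28 (lam * α))⁻¹ * (xg 28 (lam * 1) * xg 30 1) := by rw [← hZ2]; group
      rw [this, xg_inv, ← mul_assoc, xg_add]
      have : -(lam * α) + lam * 1 = lam * (1 - α) := by ring
      rw [this]; group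
    have k3 : xg 28 ((lam - 1) * (1 - α)) = xg 28 0 := by
      have : xg 28 ((lam - 1) * (1 - α)) = xg 28 (lam * (1 - α)) * (xg 28 (1 - α))⁻¹ := by
        rw [xg_inv, xg_add]
        congr 1
        ring
      rw [this, ← k1, ← k2, mul_inv_cancel, xg_zero]
    have k4 := xg_inj_core 28 (by decide) k3
    have hα1 : α = 1 := by
      rcases mul_eq_zero.1 k4 with h0 | h0
      · exact absurd (sub_eq_zero.1 h0) hlam1
      · exact (sub_eq_zero.1 h0).symm
    have hβ1 : β = 1 := by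
      rw [hα1] at hZ
      exact xg_inj_core 30 (by decide) (mul_left_cancel hZ)
    -- the characters at `p₂`, `p₃`
    have h27' : chi chevF4 c 27 = 1 := by
      have e : chi chevF4 c 27 = chi chevF4 c 30 * ((chi chevF4 c 28) ^ (1 : ℤ))⁻¹ := by
        unfold Cfsg.Agent.Helper18.chi
        rw [← Twist.prod_zpow_sub (List.range chevF4.rank) c hc]
        congr 1
      rw [e, ← hα, ← hβ, hα1, hβ1]
      simp
    have h25' : chi chevF4 c 25 = 1 := by
      have e : chi chevF4 c 25 = chi chevF4 c 28 * ((chi chevF4 c 27) ^ (1 : ℤ))⁻¹ := by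
        unfold Cfsg.Agent.Helper18.chi
        rw [← Twist.prod_zpow_sub (List.range chevF4.rank) c hc]
        congr 1
      rw [e, ← hα, hα1, h27']
      simp
    have hj' : j < 4 := hj
    interval_cases j
    · rw [s0]; exact h33
    · rw [s1]; exact h27'
    · rw [s2]; exact h25'
    · rw [s3]; exact h24

end

end Cfsg.Agent.Helper59.F4Suz
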