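import Cfsg.Agent.Lib.Helper59.TwFixA

/-!
# Fixed points of a twisting endomorphism: the recursion over orbit reflections (abstract part)
-/

set_option autoImplicit false
set_option linter.unusedSectionVars false
set_option linter.unusedVariables false

namespace Cfsg.Agent.Helper59.TwFix

variable {G : Type*} [Group G]

/-- data for the recursion: orbit root subgroups `XJ j` and fixed representatives `nJ j` of the
orbit reflections -/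
structure Rec {A : Amb G} (T : Twist A) (ι : Type*) where
  XJ : ι → Subgroup G
  nJ : ι → G
  nJ_N : ∀ j, nJ j ∈ A.N
  nJ_G1 : ∀ j, nJ j ∈ T.G1
  τXJ : ∀ j, ∀ x ∈ XJ j, T.τ x ∈ XJ j
  fixXJ : ∀ j, ∀ x ∈ XJ j, T.τ x = x → x ∈ T.G1
  XJ_ne : ∀ j, ∃ x ∈ XJ j, x ≠ 1
  ostep_mem : ∀ n ∈ A.N, ∀ j, (∀ x ∈ XJ j, n * x * n⁻¹ ∈ A.U) →
    ∀ y ∈ A.Uw n, ∀ x ∈ XJ j, (nJ j)⁻¹ * y * nJ j * x ∈ A.Uw (n * nJ j)
  ostep_surj : ∀ n ∈ A.N, ∀ j, (∀ x ∈ XJ j, n * x * n⁻¹ ∈ A.U) →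
    ∀ u ∈ A.Uw (n * nJ j), ∃ y ∈ A.Uw n, ∃ x ∈ XJ j, u = (nJ j)⁻¹ * y * nJ j * x
  ostep_inj : ∀ n ∈ A.N, ∀ j, (∀ x ∈ XJ j, n * x * n⁻¹ ∈ A.U) →
    ∀ y ∈ A.Uw n, ∀ y' ∈ A.Uw n, ∀ x ∈ XJ j, ∀ x' ∈ XJ j,
      (nJ j)⁻¹ * y * nJ j * x = (nJ j)⁻¹ * y' * nJ j * x' → y = y' ∧ x = x'
  desc : ∀ n ∈ A.N, n ∉ A.H → n⁻¹ * T.τ n ∈ A.H →
    ∃ j, ∀ x ∈ XJ j, (n * (nJ j)⁻¹) * x * (n * (nJ j)⁻¹)⁻¹ ∈ A.U

namespace Rec

variable {A : Amb G} {T : Twist A} {ι : Type*} (R : Rec T ι)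

/-- the fixed points of `τ` in `XJ j` -/
def FixX (j : ι) : Subgroup G where
  carrier := {x | x ∈ R.XJ j ∧ T.τ x = x}
  mul_mem' := by
    rintro a b ⟨ha, ha'⟩ ⟨hb, hb'⟩
    exact ⟨(R.XJ j).mul_mem ha hb, by rw [map_mul, ha', hb']⟩
  one_mem' := ⟨(R.XJ j).one_mem, map_one _⟩
  inv_mem' := by
    rintro a ⟨ha, ha'⟩
    exact ⟨(R.XJ j).inv_mem ha, by rw [map_inv, ha']⟩

theorem card_step [Finite G] {n : G} (hn : n ∈ A.N) (j : ι)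
    (hpos : ∀ x ∈ R.XJ j, n * x * n⁻¹ ∈ A.U) :
    Nat.card ↥(A.Uw (n * R.nJ j)) = Nat.card ↥(A.Uw n) * Nat.card ↥(R.XJ j) := by
  let f : ↥(A.Uw n) × ↥(R.XJ j) → ↥(A.Uw (n * R.nJ j)) := fun p =>
    ⟨(R.nJ j)⁻¹ * p.1 * R.nJ j * p.2, R.ostep_mem n hn j hpos _ p.1.2 _ p.2.2⟩
  have hf : Function.Bijective f := by
    constructor
    · rintro ⟨y, x⟩ ⟨y', x'⟩ e
      have e1 := congrArg Subtype.val e
      have := R.ostep_inj n hn j hpos _ y.2 _ y'.2 _ x.2 _ x'.2 e1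
      exact Prod.ext (Subtype.ext this.1) (Subtype.ext this.2)
    · rintro ⟨u, hu⟩
      obtain ⟨y, hy, x, hx, e⟩ := R.ostep_surj n hn j hpos u hu
      exact ⟨(⟨y, hy⟩, ⟨x, hx⟩), Subtype.ext e.symm⟩
  rw [← Nat.card_prod]
  exact (Nat.card_congr (Equiv.ofBijective f hf)).symm

theorem card_XJ_ge [Finite G] (j : ι) : 2 ≤ Nat.card ↥(R.XJ j) := by
  obtain ⟨x, hx, hne⟩ := R.XJ_ne j
  have : Nontrivial ↥(R.XJ j) := ⟨⟨⟨x, hx⟩, 1, fun h => hne (congrArg Subtype.val h)⟩⟩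
  exact Finite.one_lt_card

theorem card_fix_step [Finite G] {n : G} (hn : n ∈ A.N) (hnG : n ∈ T.G1) (j : ι)
    (hpos : ∀ x ∈ R.XJ j, n * x * n⁻¹ ∈ A.U) :
    Nat.card ↥(T.FixUw (n * R.nJ j)) = Nat.card ↥(T.FixUw n) * Nat.card ↥(R.FixX j) := by
  have hτn := T.fix n hnG
  have hτJ := T.fix _ (R.nJ_G1 j)
  let f : ↥(T.FixUw n) × ↥(R.FixX j) → ↥(T.FixUw (n * R.nJ j)) := fun p =>
    ⟨(R.nJ j)⁻¹ * p.1 * R.nJ j * p.2, R.ostep_mem n hn j hpos _ p.1.2.1 _ p.2.2.1, by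
      rw [map_mul, map_mul, map_mul, map_inv, hτJ, p.1.2.2, p.2.2.2]⟩
  have hf : Function.Bijective f := by
    constructor
    · rintro ⟨y, x⟩ ⟨y', x'⟩ e
      have e1 := congrArg Subtype.val e
      have := R.ostep_inj n hn j hpos _ y.2.1 _ y'.2.1 _ x.2.1 _ x'.2.1 e1
      exact Prod.ext (Subtype.ext this.1) (Subtype.ext this.2)
    · rintro ⟨u, hu, hτu⟩
      obtain ⟨y, hy, x, hx, e⟩ := R.ostep_surj n hn j hpos u hu
      have hτy : T.τ y ∈ A.Uw n := by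
        have := T.τUw n y hy
        rwa [hτn] at this
      have e2 : (R.nJ j)⁻¹ * y * R.nJ j * x = (R.nJ j)⁻¹ * T.τ y * R.nJ j * T.τ x := by
        have : T.τ u = (R.nJ j)⁻¹ * T.τ y * R.nJ j * T.τ x := by
          rw [e, map_mul, map_mul, map_mul, map_inv, hτJ]
        rw [← this, hτu, e]
      have h3 := R.ostep_inj n hn j hpos _ hy _ hτy _ hx _ (R.τXJ j x hx) e2
      exact ⟨(⟨y, hy, h3.1.symm⟩, ⟨x, hx, h3.2.symm⟩), Subtype.ext e.symm⟩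
  rw [← Nat.card_prod]
  exact (Nat.card_congr (Equiv.ofBijective f hf)).symm

theorem fix_step {n : G} (hn : n ∈ A.N) (hnG : n ∈ T.G1) (j : ι)
    (hpos : ∀ x ∈ R.XJ j, n * x * n⁻¹ ∈ A.U)
    (ih : ∀ u ∈ A.Uw n, T.τ u = u → u ∈ T.G1) :
    ∀ u ∈ A.Uw (n * R.nJ j), T.τ u = u → u ∈ T.G1 := by
  intro u hu hτu
  have hτn := T.fix n hnG
  have hτJ := T.fix _ (R.nJ_G1 j)
  obtain ⟨y, hy, x, hx, e⟩ := R.ostep_surj n hn j hpos u hu
  have hτy : T.τ y ∈ A.Uw n := by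
    have := T.τUw n y hy
    rwa [hτn] at this
  have e2 : (R.nJ j)⁻¹ * y * R.nJ j * x = (R.nJ j)⁻¹ * T.τ y * R.nJ j * T.τ x := by
    have : T.τ u = (R.nJ j)⁻¹ * T.τ y * R.nJ j * T.τ x := by
      rw [e, map_mul, map_mul, map_mul, map_inv, hτJ]
    rw [← this, hτu, e]
  have h3 := R.ostep_inj n hn j hpos _ hy _ hτy _ hx _ (R.τXJ j x hx) e2
  rw [e]
  exact T.G1.mul_mem (T.G1.mul_mem (T.G1.mul_mem (T.G1.inv_mem (R.nJ_G1 j))
    (ih y hy h3.1.symm)) (R.nJ_G1 j)) (R.fixXJ j x hx h3.2.symm)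

/-- descent: writing `n = n' * nJ j` with `n'` positive on the orbit `j` -/
theorem exists_desc {n : G} (hn : n ∈ A.N) (hnH : n ∉ A.H) (hτ : n⁻¹ * T.τ n ∈ A.H) :
    ∃ j, ∃ n' ∈ A.N, n = n' * R.nJ j ∧ n'⁻¹ * T.τ n' ∈ A.H ∧
      ∀ x ∈ R.XJ j, n' * x * n'⁻¹ ∈ A.U := by
  obtain ⟨j, hj⟩ := R.desc n hn hnH hτ
  refine ⟨j, n * (R.nJ j)⁻¹, A.N.mul_mem hn (A.N.inv_mem (R.nJ_N j)), by group, ?_, hj⟩
  have hτJ := T.fix _ (R.nJ_G1 j)
  have : (n * (R.nJ j)⁻¹)⁻¹ * T.τ (n * (R.nJ j)⁻¹) = R.nJ j * (n⁻¹ * T.τ n) * (R.nJ j)⁻¹ := by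
    rw [map_mul, map_inv, hτJ]; group
  rw [this]
  exact A.H_normal _ (R.nJ_N j) _ hτ

include R in
/-- every `τ`-stable coset `nH` contains an element of `G1` -/
theorem lift [Finite G] : ∀ n ∈ A.N, n⁻¹ * T.τ n ∈ A.H →
    ∃ n₁ ∈ A.N, n₁ ∈ T.G1 ∧ n₁⁻¹ * n ∈ A.H := by
  have key : ∀ k : ℕ, ∀ n ∈ A.N, n⁻¹ * T.τ n ∈ A.H → Nat.card ↥(A.Uw n) = k →
      ∃ n₁ ∈ A.N, n₁ ∈ T.G1 ∧ n₁⁻¹ * n ∈ A.H := by
    intro k
    induction k using Nat.strong_induction_on with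
    | _ k ih =>
      intro n hn hτ hk
      by_cases hnH : n ∈ A.H
      · exact ⟨1, A.N.one_mem, T.G1.one_mem, by simpa using hnH⟩
      · obtain ⟨j, n', hn', rfl, hτ', hpos⟩ := R.exists_desc hn hnH hτ
        have hc := R.card_step hn' j hpos
        have hlt : Nat.card ↥(A.Uw n') < k := by
          rw [← hk, hc]
          have h2 := R.card_XJ_ge j
          have h1 : 0 < Nat.card ↥(A.Uw n') := Nat.card_pos
          nlinarith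
        obtain ⟨n₁, hn₁, hn₁G, hh⟩ := ih _ hlt n' hn' hτ' rfl
        refine ⟨n₁ * R.nJ j, A.N.mul_mem hn₁ (R.nJ_N j), T.G1.mul_mem hn₁G (R.nJ_G1 j), ?_⟩
        have : (n₁ * R.nJ j)⁻¹ * (n' * R.nJ j) = (R.nJ j)⁻¹ * (n₁⁻¹ * n') * R.nJ j := by group
        rw [this]
        exact A.H_normal' (R.nJ_N j) hh
  intro n hn hτ
  exact key _ n hn hτ rfl

/-- the fixed points of `Uw n` lie in `G1`, and their number -/
theorem fixUw_and_card [Finite G] (d : ℕ)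
    (hd : ∀ j, Nat.card ↥(R.FixX j) ^ d = Nat.card ↥(R.XJ j)) :
    ∀ n ∈ A.N, n ∈ T.G1 → (∀ u ∈ A.Uw n, T.τ u = u → u ∈ T.G1) ∧
      Nat.card ↥(T.FixUw n) ^ d = Nat.card ↥(A.Uw n) := by
  have key : ∀ k : ℕ, ∀ n ∈ A.N, n ∈ T.G1 → Nat.card ↥(A.Uw n) = k →
      (∀ u ∈ A.Uw n, T.τ u = u → u ∈ T.G1) ∧
      Nat.card ↥(T.FixUw n) ^ d = Nat.card ↥(A.Uw n) := by
    intro k
    induction k using Nat.strong_induction_on with
    | _ k ih =>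
      intro n hn hnG hk
      by_cases hnH : n ∈ A.H
      · have hbot : A.Uw n = ⊥ := A.Uw_of_mem_H hnH
        constructor
        · intro u hu _
          rw [hbot, Subgroup.mem_bot] at hu
          rw [hu]; exact T.G1.one_mem
        · have h1 : Nat.card ↥(A.Uw n) = 1 := by rw [hbot]; exact Subgroup.card_bot
          have h2 : Nat.card ↥(T.FixUw n) = 1 := by
            have hle : T.FixUw n ≤ A.Uw n := fun u hu => hu.1
            rw [hbot, le_bot_iff] at hle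
            rw [hle]; exact Subgroup.card_bot
          rw [h1, h2, one_pow]
      · have hτ : n⁻¹ * T.τ n ∈ A.H := by
          rw [T.fix n hnG, inv_mul_cancel]; exact A.H.one_mem
        obtain ⟨j, n', hn', rfl, hτ', hpos⟩ := R.exists_desc hn hnH hτ
        have hn'G : n' ∈ T.G1 := by
          have : n' = n' * R.nJ j * (R.nJ j)⁻¹ := by group
          rw [this]
          exact T.G1.mul_mem hnG (T.G1.inv_mem (R.nJ_G1 j))
        have hc := R.card_step hn' j hpos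
        have hlt : Nat.card ↥(A.Uw n') < k := by
          rw [← hk, hc]
          have h2 := R.card_XJ_ge j
          have h1 : 0 < Nat.card ↥(A.Uw n') := Nat.card_pos
          nlinarith
        obtain ⟨ih1, ih2⟩ := ih _ hlt n' hn' hn'G rfl
        refine ⟨R.fix_step hn' hn'G j hpos ih1, ?_⟩
        rw [R.card_fix_step hn' hn'G j hpos, hc, mul_pow, ih2, hd]
  intro n hn hnG
  exact key _ n hn hnG rfl

end Rec

end Cfsg.Agent.Helper59.TwFix
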