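import Cfsg.Agent.Lib.Helper18.ChevBruhatNF
import Cfsg.Agent.Lib.Helper59.TwFixB

/-!
# The Chevalley groups of helper18 as an `Amb`, and the single-root step of the recursion
-/

set_option autoImplicit false
set_option linter.unusedSectionVars false
set_option linter.unusedVariables false

namespace Cfsg.Agent.Helper59.TwFix

open Cfsg Cfsg.Lie Cfsg.Agent.S1043 Cfsg.Agent.Helper17 Cfsg.Agent.Helper18
open scoped Pointwise

/-- the table facts and matrix identities of helper18, bundled -/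
structure ChevHyp (F : Type*) [Field F] (D : ChevalleyDatum) (tbl : List ℕ) : Prop where
  hB : BNFacts D
  hU : UiFacts D
  hT : TorusData D tbl
  hTri : TriOK D
  hNeg : NegTriOK D
  hconj : ∀ i < D.rank, ∀ s < D.nroots, ConjGoal' F D i s
  hS : ∀ i < D.rank, ConjGoalS' F D i
  hNH : D.monomialSubgroup F ≤ Subgroup.normalizer (D.diagonalSubgroup F : Set (GL D.Idx F))

section

variable {F : Type*} [Field F] {D : ChevalleyDatum} (hD : Good D) {tbl : List ℕ}
  (C : ChevHyp F D tbl)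

include hD C

theorem Uw_H (n h : GL D.Idx F) (hh : h ∈ D.diagonalSubgroup F) : Uw D (h * n) = Uw D n := by
  have key : ∀ r : ℕ,
      ((D.rootSubgroup F r).map (MulAut.conj (h * n)).toMonoidHom ≤ D.negUnipotent F ↔
        (D.rootSubgroup F r).map (MulAut.conj n).toMonoidHom ≤ D.negUnipotent F) := by
    intro r
    constructor
    · intro hle x hx
      obtain ⟨a, ha, rfl⟩ := Subgroup.mem_map.mp hx
      have h1 : (MulAut.conj (h * n)).toMonoidHom a ∈ D.negUnipotent F :=
        hle (Subgroup.mem_map_of_mem _ ha)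
      have h2 := conj_mem_negUnipotent D C.hT h⁻¹ (inv_mem hh) _ h1
      have e : h⁻¹ * (MulAut.conj (h * n)).toMonoidHom a * h⁻¹⁻¹ = (MulAut.conj n).toMonoidHom a := by
        simp only [MulEquiv.toMonoidHom_eq_coe, MonoidHom.coe_coe, MulAut.conj_apply]
        group
      rwa [e] at h2
    · intro hle x hx
      obtain ⟨a, ha, rfl⟩ := Subgroup.mem_map.mp hx
      have h1 : (MulAut.conj n).toMonoidHom a ∈ D.negUnipotent F :=
        hle (Subgroup.mem_map_of_mem _ ha)
      have h2 := conj_mem_negUnipotent D C.hT h hh _ h1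
      have e : h * (MulAut.conj n).toMonoidHom a * h⁻¹ = (MulAut.conj (h * n)).toMonoidHom a := by
        simp only [MulEquiv.toMonoidHom_eq_coe, MonoidHom.coe_coe, MulAut.conj_apply]
        group
      rwa [e] at h2
  unfold Uw
  congr 1
  ext x
  constructor
  · rintro ⟨r, t, hr, hle, hx⟩
    exact ⟨r, t, hr, (key r).1 hle, hx⟩
  · rintro ⟨r, t, hr, hle, hx⟩
    exact ⟨r, t, hr, (key r).2 hle, hx⟩

theorem Uw_one : Uw (F := F) D 1 = ⊥ := by
  rw [eq_bot_iff]
  unfold Uw
  rw [Subgroup.closure_le]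
  intro g hg
  have e1 : (1 : GL D.Idx F) = 1 * nWordGL D hD [] := by rw [nWordGL_nil, mul_one]
  rw [e1] at hg
  obtain ⟨r, t, hr, hnp, _⟩ := UwSet_gen D hD C.hB C.hT C.hTri C.hNeg C.hconj 1 (one_mem _) []
    (fun i hi => absurd hi List.not_mem_nil) g hg
  exact absurd hr hnp

/-- the Chevalley group with its Bruhat normal form -/
noncomputable def chevAmb : Amb (GL D.Idx F) where
  Γ := D.group F
  U := D.posUnipotent F
  H := D.diagonalSubgroup F
  N := D.monomialSubgroup F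
  B := D.borelSubgroup F
  Uw := Uw D
  U_le_B := le_sup_left
  H_le_B := le_sup_right
  B_decomp := by
    intro b hb
    have hBs : ((D.borelSubgroup F : Subgroup (GL D.Idx F)) : Set (GL D.Idx F)) =
        (D.posUnipotent F : Set (GL D.Idx F)) * (D.diagonalSubgroup F : Set (GL D.Idx F)) :=
      Subgroup.coe_mul_of_right_le_normalizer_left _ _ (diag_le_normalizer D C.hT)
    have hb' : b ∈ ((D.borelSubgroup F : Subgroup (GL D.Idx F)) : Set (GL D.Idx F)) := hb
    rw [hBs] at hb'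
    obtain ⟨u, hu, h, hh, rfl⟩ := hb'
    exact ⟨u, hu, h, hh, rfl⟩
  UH_bot := by
    intro x hxU hxH
    have := pos_inf_diag (F := F) D C.hT C.hTri
    rw [← Subgroup.mem_bot, ← this]
    exact ⟨hxU, hxH⟩
  H_le_N := le_sup_left
  H_normal := by
    intro n hn h hh
    exact (Subgroup.mem_normalizer_iff.mp (C.hNH hn) h).mp hh
  BN := by
    intro x hxB hxN
    rw [← (borel_inf_monomial (F := F) D hD C.hB C.hT C.hTri C.hNeg C.hconj C.hS C.hNH).2]
    exact ⟨hxB, hxN⟩
  Uw_le := fun n => Uw_le_pos D n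
  Uw_H := fun n h hh => Uw_H hD C n h hh
  Uw_one := Uw_one hD C
  nf_exists := fun g hg =>
    bruhat_nf_exists D hD C.hB C.hU C.hT C.hTri C.hNeg C.hconj C.hS C.hNH g hg
  nf_unique := fun b b' n n' u u' hb hb' hn hn' hu hu' e =>
    bruhat_nf_unique D hD C.hB C.hU C.hT C.hTri C.hNeg C.hconj C.hS C.hNH b b' n n' u u'
      hb hb' hn hn' hu hu' e

/-- `n` keeps the `i`-th fundamental root positive -/
def Pos (n : GL D.Idx F) (i : ℕ) : Prop :=
  ∀ t : F, n * xU D hD (D.simple i) t * n⁻¹ ∈ D.posUnipotent F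

omit C in
theorem nWord_snoc (l : List ℕ) (j : ℕ) (h : GL D.Idx F) :
    h * nWordGL D hD (l ++ [j]) = (h * nWordGL D hD l) * nGL D hD j := by
  rw [nWordGL_append, nWordGL_cons, nWordGL_nil, mul_one, mul_assoc]

/-- word form of an element of `N` keeping a fundamental root positive -/
theorem exists_word_pos {n : GL D.Idx F} (hn : n ∈ D.monomialSubgroup F) {j : ℕ} (hj : j < D.rank)
    (hpos : Pos hD n j) :
    ∃ h ∈ D.diagonalSubgroup F, ∃ l : List ℕ, (∀ i ∈ l, i < D.rank) ∧ n = h * nWordGL D hD l ∧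
      D.IsPosRoot (permW D l (D.simple j)) := by
  obtain ⟨h, hh, l, hl, e⟩ := mem_monomial_decomp D hD C.hB C.hS C.hNH n hn
  refine ⟨h, hh, l, hl, e, ?_⟩
  apply pos_of_conj_mem_borel D hD C.hB C.hT C.hTri C.hNeg C.hconj h hh l hl _ (C.hB.hsimp j hj)
  rw [← e]
  exact Subgroup.mem_sup_left (hpos 1)

theorem step_mem {n : GL D.Idx F} (hn : n ∈ D.monomialSubgroup F) {j : ℕ} (hj : j < D.rank)
    (hpos : Pos hD n j) (y : GL D.Idx F) (hy : y ∈ Uw D n) (t : F) :
    (nGL D hD j)⁻¹ * y * nGL D hD j * xU D hD (D.simple j) t ∈ Uw D (n * nGL D hD j) := by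
  obtain ⟨h, hh, l, hl, rfl, hp⟩ := exists_word_pos hD C hn hj hpos
  rw [← nWord_snoc]
  exact mul_mem (conj_Uw_step D hD C.hB C.hU C.hT C.hTri C.hNeg C.hconj h hh l hl j hj hp y hy)
    (xU_simple_mem_Uw_step D hD C.hB C.hT C.hTri C.hNeg C.hconj h hh l hl j hj hp t)

theorem step_surj {n : GL D.Idx F} (hn : n ∈ D.monomialSubgroup F) {j : ℕ} (hj : j < D.rank)
    (hpos : Pos hD n j) (u : GL D.Idx F) (hu : u ∈ Uw D (n * nGL D hD j)) :
    ∃ y ∈ Uw D n, ∃ t : F, u = (nGL D hD j)⁻¹ * y * nGL D hD j * xU D hD (D.simple j) t := by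
  obtain ⟨h, hh, l₁, hl₁, rfl, hp⟩ := exists_word_pos hD C hn hj hpos
  rw [← nWord_snoc] at hu
  have hUB : D.posUnipotent F ≤ D.borelSubgroup F := le_sup_left
  have hbot := (borel_inf_neg (F := F) D C.hT C.hTri C.hNeg).1
  obtain ⟨u₁, hu₁, y₂, hy₂, t, e, hnu₁⟩ :=
    Uw_step_decomp D hD C.hB C.hU C.hT C.hTri C.hNeg C.hconj h hh l₁ hl₁ j hj hp
      (Uw_decomp D hD C.hB C.hU C.hT C.hTri C.hNeg C.hconj C.hS C.hNH l₁.length l₁ le_rfl hl₁ h hh)
      u (Uw_le_pos D _ hu)
  have hmem : (nGL D hD j)⁻¹ * y₂ * nGL D hD j * xU D hD (D.simple j) t ∈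
      Uw D (h * nWordGL D hD (l₁ ++ [j])) :=
    mul_mem (conj_Uw_step D hD C.hB C.hU C.hT C.hTri C.hNeg C.hconj h hh l₁ hl₁ j hj hp y₂ hy₂)
      (xU_simple_mem_Uw_step D hD C.hB C.hT C.hTri C.hNeg C.hconj h hh l₁ hl₁ j hj hp t)
  have hu₁' : u₁ ∈ Uw D (h * nWordGL D hD (l₁ ++ [j])) := by
    have : u₁ = u * ((nGL D hD j)⁻¹ * y₂ * nGL D hD j * xU D hD (D.simple j) t)⁻¹ := by
      rw [e]
      group
    rw [this]
    exact mul_mem hu (inv_mem hmem)
  have h1 := conj_Uw_mem_neg D _ u₁ hu₁'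
  have h3 : (h * nWordGL D hD (l₁ ++ [j])) * u₁ * (h * nWordGL D hD (l₁ ++ [j]))⁻¹ = 1 := by
    rw [← Subgroup.mem_bot, ← hbot]
    exact ⟨hUB hnu₁, h1⟩
  have h4 : u₁ = 1 := by
    have : u₁ = (h * nWordGL D hD (l₁ ++ [j]))⁻¹ *
        ((h * nWordGL D hD (l₁ ++ [j])) * u₁ * (h * nWordGL D hD (l₁ ++ [j]))⁻¹) *
        (h * nWordGL D hD (l₁ ++ [j])) := by group
    rw [this, h3]
    group
  refine ⟨y₂, hy₂, t, ?_⟩
  rw [e, h4, one_mul]

/-- conjugation by `n_j` sends the root subgroup of `p_j` into `V` -/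
theorem nGL_conj_simple_neg {j : ℕ} (hj : j < D.rank) (t : F) :
    nGL D hD j * xU D hD (D.simple j) t * (nGL D hD j)⁻¹ ∈ D.negUnipotent F := by
  have hsj := C.hB.hsimp j hj
  have hlj : ∀ i ∈ [j], i < D.rank := by
    intro i hi
    rw [List.mem_singleton] at hi
    rw [hi]; exact hj
  obtain ⟨c, _, hc⟩ := conj_N_xU D hD C.hB C.hT C.hconj 1 (one_mem _) [j] hlj (D.simple j) hsj
  have e3 := hc t
  rw [one_mul, nWordGL_cons, nWordGL_nil, mul_one] at e3
  rw [e3]
  have hnegr : D.IsNegRoot (permW D [j] (D.simple j)) := by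
    have e4 : permW D [j] (D.simple j) = D.neg (D.simple j) := reflect_simple D j
    rw [e4]
    exact (C.hB.hpn _ (C.hB.hnv _ hsj)).resolve_left (C.hB.hnegpos _ (C.hB.hsimpPos j hj))
  exact Subgroup.subset_closure ⟨_, _, hnegr, rfl⟩

/-- every element of `N` outside `H` is `n' * n_j` with `n'` keeping `p_j` positive -/
theorem exists_desc_single {n : GL D.Idx F} (hn : n ∈ D.monomialSubgroup F)
    (hnH : n ∉ D.diagonalSubgroup F) :
    ∃ j < D.rank, ∃ n' ∈ D.monomialSubgroup F, n = n' * nGL D hD j ∧ Pos hD n' j := by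
  obtain ⟨h, hh, l, hl, e⟩ := mem_monomial_decomp D hD C.hB C.hS C.hNH n hn
  have key : ∀ k : ℕ, ∀ l : List ℕ, l.length = k → (∀ i ∈ l, i < D.rank) →
      ∀ h ∈ D.diagonalSubgroup F, h * nWordGL D hD l ∉ D.diagonalSubgroup F →
      ∃ j < D.rank, ∃ n' ∈ D.monomialSubgroup F, h * nWordGL D hD l = n' * nGL D hD j ∧
        Pos hD n' j := by
    intro k
    induction k using Nat.strong_induction_on with
    | _ k ih =>
      intro l hlen hl h hh hnot
      rcases List.eq_nil_or_concat' l with rfl | ⟨l₁, j, rfl⟩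
      · exfalso
        apply hnot
        rw [nWordGL_nil, mul_one]
        exact hh
      · have hj : j < D.rank := hl j (by simp)
        have hl₁ : ∀ i ∈ l₁, i < D.rank := fun i hi => hl i (by simp [hi])
        by_cases hp : D.IsPosRoot (permW D l₁ (D.simple j))
        · refine ⟨j, hj, h * nWordGL D hD l₁, ?_, nWord_snoc hD l₁ j h, ?_⟩
          · exact mul_mem (le_sup_left (a := D.diagonalSubgroup F) hh)
              (nWordGL_mem D hD l₁ (fun i hi => C.hB.hsimp i (hl₁ i hi)))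
          · intro t
            obtain ⟨c, _, hc⟩ := conj_N_xU D hD C.hB C.hT C.hconj h hh l₁ hl₁ (D.simple j)
              (C.hB.hsimp j hj)
            rw [hc t]
            exact Subgroup.subset_closure ⟨_, _, hp, rfl⟩
        · obtain ⟨h₁, hh₁, l', hl', hlen', e'⟩ :=
            nWordGL_deletion D hD C.hB C.hS C.hNH l₁ j hl₁ hj hp
          have e2 : h * nWordGL D hD (l₁ ++ [j]) = (h * h₁) * nWordGL D hD l' := by
            rw [e', mul_assoc]
          rw [e2] at hnot ⊢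
          have hlt : l'.length < k := by
            rw [← hlen, List.length_append, List.length_singleton]
            omega
          exact ih _ hlt l' rfl hl' (h * h₁) (mul_mem hh hh₁) hnot
  rw [e] at hnH ⊢
  exact key _ l rfl hl h hh hnH

end

end Cfsg.Agent.Helper59.TwFix
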