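import Cfsg.Agent.Lib.Helper39.StbAsm

/-!
# STB2 (M): `C(n) C(k) ⊆ C(n k)` for `ψ n` minimal and `k ∈ ⟨T⟩`
(helper59, for helper39's STB2 server)
-/

set_option autoImplicit false
set_option linter.unusedSectionVars false

namespace Cfsg.Agent.Helper59.Stb2

open Cfsg Cfsg.Agent.Helper6 Cfsg.Agent.Helper6.Weyl Cfsg.Agent.Helper59.Poincare Cfsg.Agent.Helper39.Stb Matrix

section Group

variable {G : Type*} [Group G] (P : Cfsg.BNPair G) {l : ℕ} (V : VDatum l)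
  (ψ : P.N →* V.Wf)
  (hker : ∀ n : P.N, ψ n = 1 ↔ (n : G) ∈ P.B)
  (hS : ∀ s (hs : s ∈ P.S), ∃ i, ψ ⟨s, P.subset hs⟩ = V.σ i)
  (hS' : ∀ i, ∃ s, ∃ hs : s ∈ P.S, ψ ⟨s, P.subset hs⟩ = V.σ i)
variable (J : Fin l → Prop) [DecidablePred J] (T : Set G) (hT : T ⊆ P.S)
  (hT1 : ∀ s (hs : s ∈ T), ∃ i, J i ∧ ψ ⟨s, P.subset (hT hs)⟩ = V.σ i)
  (hT2 : ∀ i, J i → ∃ s, ∃ hs : s ∈ T, ψ ⟨s, P.subset (hT hs)⟩ = V.σ i)

/-- a non-trivial element of `W_J` makes some simple root of `J` negative -/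
theorem h59m_exists_neg {v : (Mat l)ˣ} (hv : v ∈ V.W J) (hne : V.nJ J v ≠ 0) :
    ∃ j, J j ∧ -(v • (Pi.single j 1 : Vec l)) ∈ V.posJ J := by
  by_contra hcon
  push Not at hcon
  have hpos : ∀ j, J j → v • (Pi.single j 1 : Vec l) ∈ V.posJ J := by
    intro j hj
    rcases isRoot_cases V J hv (V.single_mem_posJ J hj) with h | h
    · exact h
    · exact absurd h (hcon j hj)
  apply hne
  unfold VDatum.nJ
  apply Finset.sum_eq_zero
  intro β hβ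
  rw [if_neg (V.neg_not_mem_posJ J (min_pos V J J hv (fun _ h => h) hpos hβ))]

theorem h59m_s_inv (j : Fin l) : (V.s j)⁻¹ = V.s j :=
  inv_eq_of_mul_eq_one_right (V.s_mul_s j)

include hker hS hS' hT1 hT2 in
/-- (M) `C(n) C(k) ⊆ C(n k)` for `ψ n` minimal and `k ∈ ⟨T⟩`. -/
theorem C_mul_mem_min
    (hR : ∀ {s n x y : G}, s ∈ P.S → n ∈ P.N → len P n ≤ len P (n * s) → x ∈ C P n → y ∈ C P s →
      x * y ∈ C P (n * s))
    {n : G} (hn : n ∈ P.N) (hmin : IsMin V J ((ψ ⟨n, hn⟩ : V.Wf) : (Mat l)ˣ))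
    {k : G} (hk : k ∈ Subgroup.closure T) {x y : G} (hx : x ∈ C P n) (hy : y ∈ C P k) :
    x * y ∈ C P (n * k) := by
  have hsd : ∀ w ∈ V.W J, ∀ β ∈ V.posJ VDatum.allJ \ V.posJ J,
      w • β ∈ V.posJ VDatum.allJ \ V.posJ J :=
    fun w hw β hβ => Cfsg.Agent.Helper95.Stb.smul_mem_sdiff V J hw hβ
  have hu : ((ψ ⟨n, hn⟩ : V.Wf) : (Mat l)ˣ) ∈ V.Wf := (ψ ⟨n, hn⟩).2
  have key : ∀ (m : ℕ) (k : G) (hk : k ∈ Subgroup.closure T),
      V.nJ J ((ψ ⟨k, closure_le_N P hT hk⟩ : V.Wf) : (Mat l)ˣ) = m →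
      ∀ x y : G, x ∈ C P n → y ∈ C P k → x * y ∈ C P (n * k) := by
    intro m
    induction m with
    | zero =>
      intro k hk hm x y hx hy
      have hv := Cfsg.Agent.Helper15.Stb.psi_mem_W P V ψ J T hT hT1 hk
      have h1 := V.eq_one_of_nJ_eq_zero J hv hm
      have h2 : ψ ⟨k, closure_le_N P hT hk⟩ = 1 := Subtype.ext h1
      have hkB : k ∈ P.B := (hker _).1 h2
      rw [C_mul_right P hkB]
      exact mul_right_mem_C P ((mem_C_iff_mem_B P hkB).1 hy) hx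
    | succ m ih =>
      intro k hk hm x y hx hy
      have hkN : k ∈ P.N := closure_le_N P hT hk
      have hv : ((ψ ⟨k, hkN⟩ : V.Wf) : (Mat l)ˣ) ∈ V.W J :=
        Cfsg.Agent.Helper15.Stb.psi_mem_W P V ψ J T hT hT1 hk
      obtain ⟨j, hj, hneg⟩ := h59m_exists_neg V J hv (by rw [hm]; exact Nat.succ_ne_zero m)
      obtain ⟨s, hsT, hsj⟩ := hT2 j hj
      have hsS : s ∈ P.S := hT hsT
      have hsN : s ∈ P.N := P.subset hsS
      have hscl : s ∈ Subgroup.closure T := Subgroup.subset_closure hsT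
      have hk' : k * s⁻¹ ∈ Subgroup.closure T :=
        Subgroup.mul_mem _ hk (Subgroup.inv_mem _ hscl)
      have hk'N : k * s⁻¹ ∈ P.N := closure_le_N P hT hk'
      have hstep := V.nJ_mul_s_of_neg J _ hj hneg
      have hv' : ((ψ ⟨k * s⁻¹, hk'N⟩ : V.Wf) : (Mat l)ˣ) =
          ((ψ ⟨k, hkN⟩ : V.Wf) : (Mat l)ˣ) * V.s j := by
        have e : (⟨k * s⁻¹, hk'N⟩ : P.N) = ⟨k, hkN⟩ * (⟨s, hsN⟩ : P.N)⁻¹ := rfl
        rw [e, map_mul, map_inv, hsj, Subgroup.coe_mul, Subgroup.coe_inv]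
        show _ * (V.s j)⁻¹ = _
        rw [h59m_s_inv]
      have hm' : V.nJ J ((ψ ⟨k * s⁻¹, closure_le_N P hT hk'⟩ : V.Wf) : (Mat l)ˣ) = m := by
        rw [hv']
        omega
      obtain ⟨b, hb, b', hb', rfl⟩ := (mem_C P).1 hy
      have hy1 : b * (k * s⁻¹) ∈ C P (k * s⁻¹) := mul_left_mem_C P hb (self_mem_C P _)
      have hy2 : s * b' ∈ C P s := mul_right_mem_C P hb' (self_mem_C P _)
      have h1 := ih (k * s⁻¹) hk' hm' x (b * (k * s⁻¹)) hx hy1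
      have hnk'N : n * (k * s⁻¹) ∈ P.N := P.N.mul_mem hn hk'N
      have e2 : n * (k * s⁻¹) * s = n * k := by group
      have hv'W : ((ψ ⟨k, hkN⟩ : V.Wf) : (Mat l)ˣ) * V.s j ∈ V.W J :=
        (V.W J).mul_mem hv (V.s_mem_W J hj)
      have hlen : len P (n * (k * s⁻¹)) ≤ len P (n * (k * s⁻¹) * s) := by
        have a1 : len P (n * (k * s⁻¹)) =
            V.nJ VDatum.allJ (((ψ ⟨n, hn⟩ : V.Wf) : (Mat l)ˣ) *
              (((ψ ⟨k, hkN⟩ : V.Wf) : (Mat l)ˣ) * V.s j)) := by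
          have := Cfsg.Agent.Helper59.WeylGlue.len_eq_nJ P V ψ hker hS hS' ⟨n * (k * s⁻¹), hnk'N⟩
          rw [this]
          have e : (⟨n * (k * s⁻¹), hnk'N⟩ : P.N) = ⟨n, hn⟩ * ⟨k * s⁻¹, hk'N⟩ := rfl
          rw [e, map_mul, Subgroup.coe_mul, hv']
        have a2 : len P (n * (k * s⁻¹) * s) =
            V.nJ VDatum.allJ (((ψ ⟨n, hn⟩ : V.Wf) : (Mat l)ˣ) *
              ((ψ ⟨k, hkN⟩ : V.Wf) : (Mat l)ˣ)) := by
          rw [e2]
          have := Cfsg.Agent.Helper59.WeylGlue.len_eq_nJ P V ψ hker hS hS'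
            ⟨n * k, P.N.mul_mem hn hkN⟩
          rw [this]
          have e : (⟨n * k, P.N.mul_mem hn hkN⟩ : P.N) = ⟨n, hn⟩ * ⟨k, hkN⟩ := rfl
          rw [e, map_mul, Subgroup.coe_mul]
        rw [a1, a2, Cfsg.Agent.Helper96.Stb.nJ_mul_add V J hsd hu hmin hv'W,
          Cfsg.Agent.Helper96.Stb.nJ_mul_add V J hsd hu hmin hv]
        omega
      have h2 := hR hsS hnk'N hlen h1 hy2
      have e1 : x * (b * (k * s⁻¹)) * (s * b') = x * (b * k * b') := by group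
      rw [e1, e2] at h2
      exact h2
  exact key _ k hk rfl x y hx hy

end Group

end Cfsg.Agent.Helper59.Stb2
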