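import Cfsg.Agent.Lib.Helper39.StbAsm

/-!
# STB2 (R): the right-handed version of `BNCount.C_mul_mem` (helper59, for helper39's STB2 server)
-/

set_option autoImplicit false
set_option linter.unusedSectionVars false

namespace Cfsg.Agent.Helper59.Stb2

open Cfsg Cfsg.Agent.Helper6 Cfsg.Agent.Helper6.Weyl Cfsg.Agent.Helper59.Poincare Cfsg.Agent.Helper39.Stb Matrix

section Group

variable {G : Type*} [Group G] (P : Cfsg.BNPair G) {l : ℕ} (V : VDatum l)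
  (ψ : P.N →* V.Wf)
  (hker : ∀ n : P.N, ψ n = 1 ↔ (n : G) ∈ P.B)
  (hS : ∀ s (hs : s ∈ P.S), ∃ i, ψ ⟨s, P.subset hs⟩ = V.σ i)
  (hS' : ∀ i, ∃ s, ∃ hs : s ∈ P.S, ψ ⟨s, P.subset hs⟩ = V.σ i)
variable (J : Fin l → Prop) [DecidablePred J] (T : Set G) (hT : T ⊆ P.S)
  (hT1 : ∀ s (hs : s ∈ T), ∃ i, J i ∧ ψ ⟨s, P.subset (hT hs)⟩ = V.σ i)
  (hT2 : ∀ i, J i → ∃ s, ∃ hs : s ∈ T, ψ ⟨s, P.subset (hT hs)⟩ = V.σ i)

/-- (R) the right-handed version of `BNCount.C_mul_mem` (take inverses: `inv_mem_C`, `C_S_inv`,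
`C_S_inv_mul`, `len_inv`, `len_Sinv_mul`). -/
theorem C_mul_mem_right {s n x y : G} (hs : s ∈ P.S) (hn : n ∈ P.N)
    (hle : len P n ≤ len P (n * s)) (hx : x ∈ C P n) (hy : y ∈ C P s) : x * y ∈ C P (n * s) := by
  have hn' : n⁻¹ ∈ P.N := P.N.inv_mem hn
  have hx' : x⁻¹ ∈ C P n⁻¹ := inv_mem_C P hx
  have hy' : y⁻¹ ∈ C P s := by
    have := inv_mem_C P hy
    rwa [C_S_inv P hs] at this
  have hle' : len P n⁻¹ ≤ len P (s * n⁻¹) := by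
    rw [len_inv P hn, ← len_mul_S_eq P hs hn]
    exact hle
  have h := Cfsg.Agent.Helper59.BNCount.C_mul_mem P hs hn' hle' hy' hx'
  have h2 := inv_mem_C P h
  have e1 : (y⁻¹ * x⁻¹)⁻¹ = x * y := by group
  have e2 : (s * n⁻¹)⁻¹ = n * s⁻¹ := by group
  rw [e1, e2, C_mul_S_inv P hs] at h2
  exact h2

end Group

end Cfsg.Agent.Helper59.Stb2
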