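import Mathlib
import Cfsg.Agent.Lib.Helper53.CD3ADefs

/-!
# CD3A (EXT): `G' ≤ F`, `F` solvable ⇒ `G` solvable (helper59, for helper53's server)
-/

set_option autoImplicit false

namespace Cfsg.Agent.Helper59.CD3A

open Cfsg Cfsg.Agent.Helper53.CD3A
open scoped ComplexConjugate commutatorElement

universe u

/-- (EXT) `G' ≤ F`, `F` solvable ⇒ `G` solvable. -/
theorem solvable_of_comm_le {G : Type u} [Group G] (F : Subgroup G) (hF : commutator G ≤ F)
    (hs : Group.IsSolvable F) : Group.IsSolvable G := by
  have h2 : Group.IsSolvable (Abelianization G) := inferInstance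
  refine Group.isSolvable_of_ker_le_range F.subtype (Abelianization.of : G →* Abelianization G) ?_
  rw [Abelianization.ker_of, Subgroup.range_subtype]
  exact hF

end Cfsg.Agent.Helper59.CD3A
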