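import Mathlib
import Cfsg.Agent.Lib.Helper53.CD3ADefs

/-!
# CD3A (MINN): `G'` perfect and proper quotients solvable ⇒ `G'` is minimal normal
(helper59, for helper53's server)
-/

set_option autoImplicit false

namespace Cfsg.Agent.Helper59.CD3A

open Cfsg Cfsg.Agent.Helper53.CD3A
open scoped ComplexConjugate commutatorElement

universe u

theorem h59_comm_le_derivedSeries {G : Type u} [Group G]
    (hperf : ⁅commutator G, commutator G⁆ = commutator G) (k : ℕ) :
    commutator G ≤ derivedSeries G k := by
  cases k with
  | zero => exact le_top
  | succ k =>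
    have h : ∀ j : ℕ, derivedSeries G (j + 1) = commutator G := by
      intro j
      induction j with
      | zero => exact derivedSeries_one G
      | succ j ih => rw [derivedSeries_succ, ih, hperf]
    rw [h k]

/-- (MINN) `N = G'` perfect, proper quotients solvable ⇒ `N` is a minimal normal subgroup. -/
theorem minComm {G : Type u} [Group G] [Finite G] (hq : QuotSolv G)
    (hperf : ⁅commutator G, commutator G⁆ = commutator G) : MinComm G := by
  intro L hL hle hne
  have hsol : Group.IsSolvable (G ⧸ L) := hq L hL hne
  obtain ⟨k, hk⟩ := (Group.isSolvable_def (G ⧸ L)).1 hsol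
  have h1 : derivedSeries G k ≤ L := by
    rw [← map_derivedSeries_eq (QuotientGroup.mk'_surjective L) k, ← le_bot_iff,
      Subgroup.map_le_iff_le_comap] at hk
    have hk' : derivedSeries G k ≤ (QuotientGroup.mk' L).ker := hk
    rw [QuotientGroup.ker_mk'] at hk'
    exact hk'
  exact le_antisymm hle ((h59_comm_le_derivedSeries hperf k).trans h1)

end Cfsg.Agent.Helper59.CD3A
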