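import Mathlib
import Cfsg.Agent.Lib.Helper53.CD3ADefs

/-!
# CD3A (SIMP): a perfect nonsolvable group with solvable proper quotients is simple
(helper59, for helper53's server)
-/

set_option autoImplicit false

namespace Cfsg.Agent.Helper59.CD3A

open Cfsg Cfsg.Agent.Helper53.CD3A
open scoped ComplexConjugate commutatorElement

universe u

theorem h59_commutator_quot_eq_top {G : Type u} [Group G] (N : Subgroup G) [N.Normal]
    (hperf : commutator G = ⊤) : commutator (G ⧸ N) = ⊤ := by
  have h1 : Subgroup.map (QuotientGroup.mk' N) (⊤ : Subgroup G) = ⊤ :=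
    Subgroup.map_top_of_surjective _ (QuotientGroup.mk'_surjective N)
  rw [commutator_def, ← h1, ← Subgroup.map_commutator, ← commutator_def, hperf]

/-- (SIMP) a perfect nonsolvable group with all proper quotients solvable is simple. -/
theorem simple_of_perfect {G : Type u} [Group G] [Finite G] (hq : QuotSolv G)
    (hns : ¬ Group.IsSolvable G) (hperf : commutator G = ⊤) : IsSimpleGroup G := by
  have hnt : Nontrivial G := by
    by_contra h
    rw [not_nontrivial_iff_subsingleton] at h
    exact hns inferInstance
  refine ⟨fun N hN => ?_⟩
  by_cases hne : N = ⊥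
  · exact Or.inl hne
  · right
    have hsol : Group.IsSolvable (G ⧸ N) := hq N hN hne
    have hp : commutator (G ⧸ N) = ⊤ := h59_commutator_quot_eq_top N hperf
    have hsub : Subsingleton (G ⧸ N) := by
      by_contra h
      rw [not_subsingleton_iff_nontrivial] at h
      have := Group.IsSolvable.commutator_lt_top_of_nontrivial (G ⧸ N)
      rw [hp] at this
      exact lt_irrefl _ this
    rw [eq_top_iff]
    intro g _
    have h1 : (QuotientGroup.mk g : G ⧸ N) = 1 := Subsingleton.elim _ _
    exact (QuotientGroup.eq_one_iff g).1 h1

end Cfsg.Agent.Helper59.CD3A
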