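import Mathlib
import Cfsg.Agent.Lib.Helper53.CD3ADefs

/-!
# CD3A (SQ), (EXT): solvability bookkeeping (helper59, for helper53's server)
-/

set_option autoImplicit false

namespace Cfsg.Agent.Helper59.CD3A

open Cfsg Cfsg.Agent.Helper53.CD3A
open scoped ComplexConjugate commutatorElement

universe u

theorem h59_derivedSeries_two {G : Type u} [Group G] :
    derivedSeries G 2 = ⁅commutator G, commutator G⁆ := by
  rw [derivedSeries_succ, derivedSeries_one]

/-- (SQ) `G'' ≤ K` ⇒ `G/K` solvable. -/
theorem solvable_quot {G : Type u} [Group G] (K : Subgroup G) [K.Normal]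
    (h : ⁅commutator G, commutator G⁆ ≤ K) : Group.IsSolvable (G ⧸ K) := by
  rw [Group.isSolvable_def]
  refine ⟨2, ?_⟩
  have h1 : Subgroup.map (QuotientGroup.mk' K) (derivedSeries G 2) = ⊥ := by
    rw [← le_bot_iff, Subgroup.map_le_iff_le_comap]
    show derivedSeries G 2 ≤ (QuotientGroup.mk' K).ker
    rw [QuotientGroup.ker_mk', h59_derivedSeries_two]
    exact h
  rw [← map_derivedSeries_eq (QuotientGroup.mk'_surjective K) 2]
  exact h1

end Cfsg.Agent.Helper59.CD3A
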