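import Mathlib

/-!
# Bounds on the number of partitions: `p(m+1) ≤ 2 p(m)` and `p(m) ≤ 2^(m-2)` for `m ≥ 5`.
-/

namespace Cfsg.Agent.Helper59

open Multiset

/-- The all-ones partition. -/
def onesPart (m : ℕ) : Nat.Partition m where
  parts := Multiset.replicate m 1
  parts_pos := by
    intro i hi
    rw [Multiset.eq_of_mem_replicate hi]; norm_num
  parts_sum := by simp

/-- The partition `2 + 1 + ... + 1`. -/
def twoOnesPart (m : ℕ) (hm : 2 ≤ m) : Nat.Partition m where
  parts := 2 ::ₘ Multiset.replicate (m - 2) 1
  parts_pos := by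
    intro i hi
    rcases Multiset.mem_cons.mp hi with h | h
    · omega
    · rw [Multiset.eq_of_mem_replicate h]; norm_num
  parts_sum := by simp; omega

/-- The property of having a strictly smallest part. -/
def HasStrictMin {m : ℕ} (q : Nat.Partition m) : Prop :=
  ∃ b ∈ q.parts, ∀ c ∈ q.parts.erase b, b < c

theorem not_hasStrictMin_onesPart (m : ℕ) (hm : 2 ≤ m) : ¬ HasStrictMin (onesPart m) := by
  rintro ⟨b, hb, hc⟩
  have hb1 : b = 1 := Multiset.eq_of_mem_replicate hb
  subst hb1
  have : (1 : ℕ) ∈ (Multiset.replicate m 1).erase 1 := by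
    obtain ⟨k, rfl⟩ : ∃ k, m = k + 2 := ⟨m - 2, by omega⟩
    rw [Multiset.replicate_succ, Multiset.erase_cons_head, Multiset.replicate_succ]
    exact Multiset.mem_cons_self _ _
  exact lt_irrefl _ (hc 1 this)

theorem not_hasStrictMin_twoOnesPart (m : ℕ) (hm : 4 ≤ m) :
    ¬ HasStrictMin (twoOnesPart m (by omega)) := by
  rintro ⟨b, hb, hc⟩
  obtain ⟨k, rfl⟩ : ∃ k, m = k + 4 := ⟨m - 4, by omega⟩
  have hparts : (twoOnesPart (k + 4) (by omega)).parts = 2 ::ₘ 1 ::ₘ 1 ::ₘ Multiset.replicate k 1 := by
    show 2 ::ₘ Multiset.replicate (k + 4 - 2) 1 = _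
    have : k + 4 - 2 = k + 1 + 1 := by omega
    rw [this, Multiset.replicate_succ, Multiset.replicate_succ]
  rw [hparts] at hb hc
  rcases Multiset.mem_cons.mp hb with rfl | hb'
  · have := hc 1 (by simp)
    omega
  · have hb1 : b = 1 := by
      rcases Multiset.mem_cons.mp hb' with h | h
      · exact h
      · rcases Multiset.mem_cons.mp h with h | h
        · exact h
        · exact Multiset.eq_of_mem_replicate h
    subst hb1
    have : (1 : ℕ) ∈ (2 ::ₘ 1 ::ₘ 1 ::ₘ Multiset.replicate k 1).erase 1 := by
      rw [Multiset.erase_cons_tail_of_mem (by simp), Multiset.erase_cons_head]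
      simp
    exact lt_irrefl _ (hc 1 this)

theorem onesPart_ne_twoOnesPart (m : ℕ) (hm : 2 ≤ m) : onesPart m ≠ twoOnesPart m hm := by
  intro h
  have h2 : (2 : ℕ) ∈ (twoOnesPart m hm).parts := by
    show 2 ∈ 2 ::ₘ Multiset.replicate (m - 2) 1
    exact Multiset.mem_cons_self _ _
  rw [← h] at h2
  have := Multiset.eq_of_mem_replicate h2
  omega

/-- The least part of a partition of a positive number. -/
noncomputable def minPart {m : ℕ} (p : Nat.Partition (m + 1)) : ℕ :=
  @Nat.find (fun a => a ∈ p.parts) (Classical.decPred _) (by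
    by_contra h
    have h' : ∀ a, a ∉ p.parts := fun a ha => h ⟨a, ha⟩
    have : p.parts = 0 := Multiset.eq_zero_of_forall_notMem h'
    have hs := p.parts_sum
    rw [this] at hs
    simp at hs)

theorem minPart_mem {m : ℕ} (p : Nat.Partition (m + 1)) : minPart p ∈ p.parts := by
  classical
  unfold minPart
  exact @Nat.find_spec (fun a => a ∈ p.parts) (Classical.decPred _) _

theorem minPart_le {m : ℕ} (p : Nat.Partition (m + 1)) {c : ℕ} (hc : c ∈ p.parts) :
    minPart p ≤ c := by
  classical
  unfold minPart
  exact @Nat.find_min' (fun a => a ∈ p.parts) (Classical.decPred _) _ c hc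

/-- Decrease the least part by one. -/
noncomputable def decMin {m : ℕ} (p : {p : Nat.Partition (m + 1) // 1 ∉ p.parts}) :
    Nat.Partition m where
  parts := (minPart p.1 - 1) ::ₘ p.1.parts.erase (minPart p.1)
  parts_pos := by
    intro i hi
    rcases Multiset.mem_cons.mp hi with h | h
    · have h1 := minPart_mem p.1
      have h2 := p.1.parts_pos h1
      have h3 : minPart p.1 ≠ 1 := fun h => p.2 (by rw [h] at h1; exact h1)
      omega
    · exact p.1.parts_pos (Multiset.mem_of_mem_erase h)
  parts_sum := by
    have h1 := minPart_mem p.1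
    have h2 := p.1.parts_pos h1
    have hs : minPart p.1 + (p.1.parts.erase (minPart p.1)).sum = m + 1 := by
      simpa [p.1.parts_sum] using congrArg Multiset.sum (Multiset.cons_erase h1)
    rw [Multiset.sum_cons]
    omega

theorem decMin_hasStrictMin {m : ℕ} (p : {p : Nat.Partition (m + 1) // 1 ∉ p.parts}) :
    HasStrictMin (decMin p) := by
  refine ⟨minPart p.1 - 1, Multiset.mem_cons_self _ _, ?_⟩
  intro c hc
  have hc' : c ∈ p.1.parts.erase (minPart p.1) := by
    have : (decMin p).parts.erase (minPart p.1 - 1) = p.1.parts.erase (minPart p.1) := by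
      show ((minPart p.1 - 1) ::ₘ p.1.parts.erase (minPart p.1)).erase (minPart p.1 - 1) = _
      rw [Multiset.erase_cons_head]
    rwa [this] at hc
  have h1 := minPart_le p.1 (Multiset.mem_of_mem_erase hc')
  have h2 := p.1.parts_pos (minPart_mem p.1)
  omega

theorem decMin_injective {m : ℕ} : Function.Injective (@decMin m) := by
  intro p p' h
  have hparts : (minPart p.1 - 1) ::ₘ p.1.parts.erase (minPart p.1) =
      (minPart p'.1 - 1) ::ₘ p'.1.parts.erase (minPart p'.1) := congrArg Nat.Partition.parts h
  have ha := minPart_mem p.1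
  have ha' := minPart_mem p'.1
  have hpos := p.1.parts_pos ha
  have hpos' := p'.1.parts_pos ha'
  have heq : minPart p.1 = minPart p'.1 := by
    have m1 : minPart p.1 - 1 ∈ (minPart p'.1 - 1) ::ₘ p'.1.parts.erase (minPart p'.1) := by
      rw [← hparts]; exact Multiset.mem_cons_self _ _
    have m2 : minPart p'.1 - 1 ∈ (minPart p.1 - 1) ::ₘ p.1.parts.erase (minPart p.1) := by
      rw [hparts]; exact Multiset.mem_cons_self _ _
    rcases Multiset.mem_cons.mp m1 with h1 | h1
    · omega
    · have := minPart_le p'.1 (Multiset.mem_of_mem_erase h1)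
      rcases Multiset.mem_cons.mp m2 with h2 | h2
      · omega
      · have := minPart_le p.1 (Multiset.mem_of_mem_erase h2)
        omega
  rw [heq] at hparts
  have h3 : p.1.parts.erase (minPart p'.1) = p'.1.parts.erase (minPart p'.1) := by
    exact (Multiset.cons_inj_right _).mp hparts
  apply Subtype.ext
  apply Nat.Partition.ext
  have ha2 : minPart p'.1 ∈ p.1.parts := by rw [← heq]; exact ha
  rw [← Multiset.cons_erase ha2, ← Multiset.cons_erase ha', h3]

/-- The partition number. -/
noncomputable def pnum (m : ℕ) : ℕ := Fintype.card (Nat.Partition m)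

open Classical in
theorem pnum_succ_le_add (m : ℕ) :
    pnum (m + 1) ≤ pnum m + Fintype.card {q : Nat.Partition m // HasStrictMin q} := by
  unfold pnum
  have h1 : Fintype.card (Nat.Partition (m + 1)) =
      Fintype.card {p : Nat.Partition (m + 1) // 1 ∈ p.parts} +
      Fintype.card {p : Nat.Partition (m + 1) // 1 ∉ p.parts} := by
    rw [Fintype.card_subtype_compl]
    have := Fintype.card_subtype_le (fun p : Nat.Partition (m + 1) => 1 ∈ p.parts)
    omega
  have h2 : Fintype.card {p : Nat.Partition (m + 1) // 1 ∈ p.parts} =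
      Fintype.card (Nat.Partition m) :=
    Fintype.card_congr (Nat.Partition.partitionWithPartEquiv (le_refl 1) (by omega))
  have h3 : Fintype.card {p : Nat.Partition (m + 1) // 1 ∉ p.parts} ≤
      Fintype.card {q : Nat.Partition m // HasStrictMin q} := by
    apply Fintype.card_le_of_injective
      (fun p => (⟨decMin p, decMin_hasStrictMin p⟩ : {q : Nat.Partition m // HasStrictMin q}))
    intro p p' h
    exact decMin_injective (congrArg Subtype.val h)
  omega

open Classical in
theorem card_hasStrictMin_le (m : ℕ) :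
    Fintype.card {q : Nat.Partition m // HasStrictMin q} ≤ pnum m :=
  Fintype.card_subtype_le _

open Classical in
theorem card_hasStrictMin_add_one_le (m : ℕ) (hm : 2 ≤ m) :
    Fintype.card {q : Nat.Partition m // HasStrictMin q} + 1 ≤ pnum m := by
  unfold pnum
  rw [Fintype.card_subtype]
  have hsub : (Finset.univ.filter fun q : Nat.Partition m => HasStrictMin q) ⊆
      Finset.univ.erase (onesPart m) := by
    intro q hq
    rw [Finset.mem_filter] at hq
    rw [Finset.mem_erase]
    refine ⟨?_, Finset.mem_univ _⟩
    rintro rfl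
    exact not_hasStrictMin_onesPart m hm hq.2
  have := Finset.card_le_card hsub
  rw [Finset.card_erase_of_mem (Finset.mem_univ _), Finset.card_univ] at this
  have hpos : 0 < Fintype.card (Nat.Partition m) := Fintype.card_pos_iff.mpr ⟨onesPart m⟩
  omega

open Classical in
theorem card_hasStrictMin_add_two_le (m : ℕ) (hm : 4 ≤ m) :
    Fintype.card {q : Nat.Partition m // HasStrictMin q} + 2 ≤ pnum m := by
  unfold pnum
  rw [Fintype.card_subtype]
  have hsub : (Finset.univ.filter fun q : Nat.Partition m => HasStrictMin q) ⊆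
      (Finset.univ.erase (onesPart m)).erase (twoOnesPart m (by omega)) := by
    intro q hq
    rw [Finset.mem_filter] at hq
    rw [Finset.mem_erase, Finset.mem_erase]
    refine ⟨?_, ?_, Finset.mem_univ _⟩
    · rintro rfl
      exact not_hasStrictMin_twoOnesPart m hm hq.2
    · rintro rfl
      exact not_hasStrictMin_onesPart m (by omega) hq.2
  have := Finset.card_le_card hsub
  rw [Finset.card_erase_of_mem (by
    rw [Finset.mem_erase]
    exact ⟨(onesPart_ne_twoOnesPart m (by omega)).symm, Finset.mem_univ _⟩),
    Finset.card_erase_of_mem (Finset.mem_univ _), Finset.card_univ] at this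
  have h2 : 2 ≤ Fintype.card (Nat.Partition m) := by
    have : (({onesPart m, twoOnesPart m (by omega)} : Finset (Nat.Partition m))).card = 2 :=
      Finset.card_pair (onesPart_ne_twoOnesPart m (by omega))
    have h3 := Finset.card_le_univ ({onesPart m, twoOnesPart m (by omega)} :
      Finset (Nat.Partition m))
    omega
  omega

theorem pnum_one : pnum 1 = 1 := by
  unfold pnum
  rw [Fintype.card_eq_one_iff]
  refine ⟨onesPart 1, fun q => ?_⟩
  apply Nat.Partition.ext
  rw [Nat.Partition.partition_one_parts, Nat.Partition.partition_one_parts]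

theorem pnum_five_le : pnum 5 ≤ 8 := by
  have h1 := pnum_one
  have h2 := pnum_succ_le_add 1
  have h2' := card_hasStrictMin_le 1
  have h3 := pnum_succ_le_add 2
  have h3' := card_hasStrictMin_add_one_le 2 (by norm_num)
  have h4 := pnum_succ_le_add 3
  have h4' := card_hasStrictMin_add_one_le 3 (by norm_num)
  have h5 := pnum_succ_le_add 4
  have h5' := card_hasStrictMin_add_two_le 4 (by norm_num)
  norm_num at h2 h3 h4 h5
  omega

theorem pnum_le_two_pow (m : ℕ) (hm : 5 ≤ m) : pnum m ≤ 2 ^ (m - 2) := by
  induction m, hm using Nat.le_induction with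
  | base => exact pnum_five_le
  | succ k hk ih =>
    have h1 := pnum_succ_le_add k
    have h2 := card_hasStrictMin_le k
    have h3 : 2 ^ (k + 1 - 2) = 2 * 2 ^ (k - 2) := by
      have : k + 1 - 2 = (k - 2) + 1 := by omega
      rw [this, pow_succ]; ring
    omega

end Cfsg.Agent.Helper59
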