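import Mathlib
import Cfsg.Agent.Lib.Helper59.PartitionBound

/-!
# Counting conjugacy classes of the alternating group against the symmetric group.
-/

namespace Cfsg.Agent.Helper59

open Multiset Equiv Equiv.Perm

/-- All parts odd and distinct. -/
def IsSpecialP {m : ℕ} (q : Nat.Partition m) : Prop :=
  q.parts.Nodup ∧ ∀ c ∈ q.parts, Odd c

/-- Cycle types of odd permutations. -/
def IsOddP {m : ℕ} (q : Nat.Partition m) : Prop :=
  Odd (m + Multiset.card q.parts)

theorem sum_add_card_even_of_odd (s : Multiset ℕ) (h : ∀ c ∈ s, Odd c) :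
    Even (s.sum + Multiset.card s) := by
  induction s using Multiset.induction_on with
  | empty => simp
  | cons a s ih =>
    have ha : Odd a := h a (Multiset.mem_cons_self _ _)
    have hs := ih (fun c hc => h c (Multiset.mem_cons_of_mem hc))
    rw [Multiset.sum_cons, Multiset.card_cons]
    obtain ⟨k, hk⟩ := ha
    obtain ⟨l, hl⟩ := hs
    exact ⟨k + l + 1, by omega⟩

theorem IsSpecialP.not_isOddP {m : ℕ} {q : Nat.Partition m} (h : IsSpecialP q) : ¬ IsOddP q := by
  intro ho
  have := sum_add_card_even_of_odd q.parts h.2
  rw [q.parts_sum] at this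
  exact (Nat.not_even_iff_odd.mpr ho) this

theorem IsSpecialP.exists_three_le {m : ℕ} (hm : 5 ≤ m) {q : Nat.Partition m} (h : IsSpecialP q) :
    ∃ a ∈ q.parts, 3 ≤ a := by
  by_contra hcon
  have hall : ∀ a ∈ q.parts, a = 1 := by
    intro a ha
    have h1 : a < 3 := by
      by_contra h3
      exact hcon ⟨a, ha, by omega⟩
    have h2 := q.parts_pos ha
    obtain ⟨k, hk⟩ := h.2 a ha
    omega
  have hrep : q.parts = Multiset.replicate (Multiset.card q.parts) 1 :=
    Multiset.eq_replicate_card.mpr hall
  have hcard : Multiset.card q.parts ≤ 1 := by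
    have := Multiset.nodup_iff_count_le_one.mp h.1 1
    rw [hrep, Multiset.count_replicate_self] at this
    exact this
  have hs := q.parts_sum
  rw [hrep, Multiset.sum_replicate] at hs
  simp at hs
  omega

/-- split a part `a ≥ 3` of a special partition into `a - 1` and `1`. -/
noncomputable def splitPart {m : ℕ} (hm : 5 ≤ m) (q : {q : Nat.Partition m // IsSpecialP q}) :
    Nat.Partition m where
  parts := ((q.2.exists_three_le hm).choose - 1) ::ₘ 1 ::ₘ
    q.1.parts.erase (q.2.exists_three_le hm).choose
  parts_pos := by
    intro i hi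
    have ha := (q.2.exists_three_le hm).choose_spec
    rcases Multiset.mem_cons.mp hi with h | h
    · omega
    · rcases Multiset.mem_cons.mp h with h | h
      · omega
      · exact q.1.parts_pos (Multiset.mem_of_mem_erase h)
  parts_sum := by
    have ha := (q.2.exists_three_le hm).choose_spec
    have hs : (q.2.exists_three_le hm).choose +
        (q.1.parts.erase (q.2.exists_three_le hm).choose).sum = m := by
      simpa [q.1.parts_sum] using congrArg Multiset.sum (Multiset.cons_erase ha.1)
    rw [Multiset.sum_cons, Multiset.sum_cons]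
    omega

theorem splitPart_isOddP {m : ℕ} (hm : 5 ≤ m) (q : {q : Nat.Partition m // IsSpecialP q}) :
    IsOddP (splitPart hm q) := by
  have ha := (q.2.exists_three_le hm).choose_spec
  have hcard : Multiset.card (splitPart hm q).parts = Multiset.card q.1.parts + 1 := by
    show Multiset.card (((q.2.exists_three_le hm).choose - 1) ::ₘ 1 ::ₘ
      q.1.parts.erase (q.2.exists_three_le hm).choose) = _
    rw [Multiset.card_cons, Multiset.card_cons, Multiset.card_erase_of_mem ha.1]
    have : 0 < Multiset.card q.1.parts := Multiset.card_pos_iff_exists_mem.mpr ⟨_, ha.1⟩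
    rw [Nat.pred_eq_sub_one]
    omega
  have hev := sum_add_card_even_of_odd q.1.parts q.2.2
  rw [q.1.parts_sum] at hev
  unfold IsOddP
  rw [hcard]
  obtain ⟨k, hk⟩ := hev
  exact ⟨k, by omega⟩

theorem filter_even_splitPart {m : ℕ} (hm : 5 ≤ m) (q : {q : Nat.Partition m // IsSpecialP q}) :
    (splitPart hm q).parts.filter Even = {(q.2.exists_three_le hm).choose - 1} := by
  have ha := (q.2.exists_three_le hm).choose_spec
  have hodd : Odd (q.2.exists_three_le hm).choose := q.2.2 _ ha.1
  show (((q.2.exists_three_le hm).choose - 1) ::ₘ 1 ::ₘ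
      q.1.parts.erase (q.2.exists_three_le hm).choose).filter Even = _
  have hev : Even ((q.2.exists_three_le hm).choose - 1) := by
    obtain ⟨k, hk⟩ := hodd
    exact ⟨k, by omega⟩
  rw [Multiset.filter_cons_of_pos _ hev, Multiset.filter_cons_of_neg _ (by decide),
    Multiset.filter_eq_nil.mpr]
  · rfl
  · intro c hc
    exact Nat.not_even_iff_odd.mpr (q.2.2 c (Multiset.mem_of_mem_erase hc))

theorem splitPart_injective {m : ℕ} (hm : 5 ≤ m) : Function.Injective (splitPart hm) := by
  intro q q' h
  have ha := (q.2.exists_three_le hm).choose_spec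
  have ha' := (q'.2.exists_three_le hm).choose_spec
  have h1 := filter_even_splitPart hm q
  have h2 := filter_even_splitPart hm q'
  rw [h] at h1
  have h3 : (q.2.exists_three_le hm).choose - 1 = (q'.2.exists_three_le hm).choose - 1 := by
    have := h1.symm.trans h2
    exact Multiset.singleton_inj.mp this
  have heq : (q.2.exists_three_le hm).choose = (q'.2.exists_three_le hm).choose := by omega
  have hparts : ((q.2.exists_three_le hm).choose - 1) ::ₘ 1 ::ₘ
      q.1.parts.erase (q.2.exists_three_le hm).choose =
      ((q'.2.exists_three_le hm).choose - 1) ::ₘ 1 ::ₘ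
      q'.1.parts.erase (q'.2.exists_three_le hm).choose := congrArg Nat.Partition.parts h
  rw [h3] at hparts
  have h4 := (Multiset.cons_inj_right _).mp ((Multiset.cons_inj_right _).mp hparts)
  apply Subtype.ext
  apply Nat.Partition.ext
  rw [← Multiset.cons_erase ha.1, ← Multiset.cons_erase ha'.1, h4, heq]

theorem twoOnes_not_mem_range {m : ℕ} (hm : 5 ≤ m) (q : {q : Nat.Partition m // IsSpecialP q}) :
    splitPart hm q ≠ twoOnesPart m (by omega) := by
  intro h
  have ha := (q.2.exists_three_le hm).choose_spec
  have h1 : Multiset.count 1 (splitPart hm q).parts ≤ 2 := by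
    show Multiset.count 1 (((q.2.exists_three_le hm).choose - 1) ::ₘ 1 ::ₘ
      q.1.parts.erase (q.2.exists_three_le hm).choose) ≤ 2
    rw [Multiset.count_cons_of_ne (by omega), Multiset.count_cons_self]
    have h2 : Multiset.count 1 (q.1.parts.erase (q.2.exists_three_le hm).choose) ≤
        Multiset.count 1 q.1.parts := Multiset.count_le_of_le _ (Multiset.erase_le _ _)
    have h3 := Multiset.nodup_iff_count_le_one.mp q.2.1 1
    omega
  rw [h] at h1
  have h2 : Multiset.count 1 (twoOnesPart m (by omega)).parts = m - 2 := by
    show Multiset.count 1 (2 ::ₘ Multiset.replicate (m - 2) 1) = m - 2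
    rw [Multiset.count_cons_of_ne (by norm_num), Multiset.count_replicate_self]
  omega

theorem twoOnes_isOddP {m : ℕ} (hm : 2 ≤ m) : IsOddP (twoOnesPart m hm) := by
  unfold IsOddP
  have : Multiset.card (twoOnesPart m hm).parts = m - 1 := by
    show Multiset.card (2 ::ₘ Multiset.replicate (m - 2) 1) = m - 1
    rw [Multiset.card_cons, Multiset.card_replicate]; omega
  rw [this]
  exact ⟨m - 1, by omega⟩

open Classical in
theorem card_special_lt_card_odd {m : ℕ} (hm : 5 ≤ m) :
    Fintype.card {q : Nat.Partition m // IsSpecialP q} <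
      Fintype.card {q : Nat.Partition m // IsOddP q} := by
  apply Fintype.card_lt_of_injective_of_notMem
    (fun q => (⟨splitPart hm q, splitPart_isOddP hm q⟩ : {q : Nat.Partition m // IsOddP q}))
    (b := ⟨twoOnesPart m (by omega), twoOnes_isOddP (by omega)⟩)
  case h =>
    intro q q' h
    exact splitPart_injective hm (congrArg Subtype.val h)
  case w =>
    intro hmem
    obtain ⟨q, hq⟩ := hmem
    exact twoOnes_not_mem_range hm q (congrArg Subtype.val hq)

section perm

variable {α : Type*} [Fintype α] [DecidableEq α]

/-- conjugacy class of the symmetric group ↦ partition -/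
def classPartition (c : ConjClasses (Perm α)) : (Fintype.card α).Partition :=
  Quotient.liftOn c (fun g : Perm α => g.partition) (fun _ _ h => partition_eq_of_isConj.mp h)

theorem classPartition_mk (g : Perm α) : classPartition (ConjClasses.mk g) = g.partition := rfl

theorem classPartition_injective : Function.Injective (classPartition (α := α)) := by
  intro c c' h
  obtain ⟨a, rfl⟩ := c.exists_rep
  obtain ⟨b, rfl⟩ := c'.exists_rep
  rw [classPartition_mk, classPartition_mk] at h
  exact ConjClasses.mk_eq_mk_iff_isConj.mpr (partition_eq_of_isConj.mpr h)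

theorem classPartition_surjective : Function.Surjective (classPartition (α := α)) := by
  intro q
  have hsplit := Multiset.filter_add_not (fun n => 2 ≤ n) q.parts
  have hones : q.parts.filter (fun n => ¬ 2 ≤ n) =
      Multiset.replicate (Multiset.card (q.parts.filter (fun n => ¬ 2 ≤ n))) 1 := by
    apply Multiset.eq_replicate_card.mpr
    intro b hb
    have h1 := q.parts_pos (Multiset.mem_of_mem_filter hb)
    have h2 := (Multiset.mem_filter.mp hb).2
    omega
  set k := Multiset.card (q.parts.filter (fun n => ¬ 2 ≤ n)) with hk
  have hsum : (q.parts.filter (fun n => 2 ≤ n)).sum + k = Fintype.card α := by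
    have := congrArg Multiset.sum hsplit
    rw [Multiset.sum_add, hones, Multiset.sum_replicate, q.parts_sum] at this
    simpa using this
  obtain ⟨g, hg⟩ := (Equiv.Perm.exists_with_cycleType_iff α
    (m := q.parts.filter (fun n => 2 ≤ n))).mpr
    ⟨by omega, fun a ha => (Multiset.mem_filter.mp ha).2⟩
  refine ⟨ConjClasses.mk g, ?_⟩
  rw [classPartition_mk]
  apply Nat.Partition.ext
  rw [parts_partition, hg]
  have hks : Fintype.card α - g.support.card = k := by
    have := sum_cycleType g
    rw [hg] at this
    omega
  rw [hks, ← hones]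
  exact hsplit

theorem card_conjClasses_perm :
    Nat.card (ConjClasses (Perm α)) = pnum (Fintype.card α) := by
  unfold pnum
  rw [← Nat.card_eq_fintype_card]
  exact Nat.card_eq_of_bijective _ ⟨classPartition_injective, classPartition_surjective⟩

theorem card_add_card_parts_partition (g : Perm α) :
    Fintype.card α + Multiset.card g.partition.parts =
      (g.cycleType.sum + Multiset.card g.cycleType) +
        2 * (Fintype.card α - g.support.card) := by
  rw [parts_partition, Multiset.card_add, Multiset.card_replicate, sum_cycleType]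
  have := g.support.card_le_univ
  omega

theorem not_isOddP_partition_of_mem {g : Perm α} (hg : g ∈ alternatingGroup α) :
    ¬ IsOddP g.partition := by
  intro ho
  unfold IsOddP at ho
  rw [card_add_card_parts_partition] at ho
  have hodd : Odd (g.cycleType.sum + Multiset.card g.cycleType) := by
    rcases Nat.even_or_odd (g.cycleType.sum + Multiset.card g.cycleType) with h | h
    · exfalso
      have : Even (g.cycleType.sum + Multiset.card g.cycleType +
          2 * (Fintype.card α - g.support.card)) := h.add (even_two_mul _)
      exact (Nat.not_even_iff_odd.mpr ho) this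
    · exact h
  rw [mem_alternatingGroup, sign_of_cycleType, hodd.neg_one_pow] at hg
  exact absurd hg (by decide)

theorem isSpecialP_partition_of_centralizer_le {g : Perm α}
    (h : Subgroup.centralizer {g} ≤ alternatingGroup α) : IsSpecialP g.partition := by
  obtain ⟨hodd, hcard, hcount⟩ := centralizer_le_alternating_iff.mp h
  have hk : Fintype.card α - g.support.card ≤ 1 := by
    rw [sum_cycleType] at hcard
    omega
  constructor
  · rw [parts_partition, Multiset.nodup_add]
    refine ⟨Multiset.nodup_iff_count_le_one.mpr hcount, ?_, ?_⟩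
    · rw [Multiset.nodup_iff_count_le_one]
      intro a
      rw [Multiset.count_replicate]
      split_ifs <;> omega
    · rw [Multiset.disjoint_left]
      intro a ha ha'
      have := two_le_of_mem_cycleType ha
      have := Multiset.eq_of_mem_replicate ha'
      omega
  · intro c hc
    rw [parts_partition] at hc
    rcases Multiset.mem_add.mp hc with h1 | h1
    · exact hodd c h1
    · rw [Multiset.eq_of_mem_replicate h1]
      exact odd_one

/-- conjugacy class of the alternating group ↦ partition -/
def classPartitionAlt (c : ConjClasses (alternatingGroup α)) : (Fintype.card α).Partition :=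
  Quotient.liftOn c (fun g : alternatingGroup α => (g : Perm α).partition)
    (fun a b h => partition_eq_of_isConj.mp
      (show IsConj ((alternatingGroup α).subtype a) ((alternatingGroup α).subtype b) from
        (alternatingGroup α).subtype.map_isConj h))

theorem classPartitionAlt_mk (g : alternatingGroup α) :
    classPartitionAlt (ConjClasses.mk g) = (g : Perm α).partition := rfl

theorem mk_eq_mk_of_conj_mem {a b : alternatingGroup α} {g : Perm α}
    (hg : g ∈ alternatingGroup α) (h : g * a * g⁻¹ = b) :
    ConjClasses.mk a = ConjClasses.mk b :=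
  ConjClasses.mk_eq_mk_iff_isConj.mpr (isConj_iff.mpr ⟨⟨g, hg⟩, Subtype.ext h⟩)

theorem mul_mem_alt_of_not_mem {g h : Perm α} (hg : g ∉ alternatingGroup α)
    (hh : h ∉ alternatingGroup α) : g * h ∈ alternatingGroup α := by
  rw [mem_alternatingGroup] at hg hh ⊢
  rw [map_mul]
  rcases Int.units_eq_one_or (sign g) with h1 | h1
  · exact absurd h1 hg
  · rcases Int.units_eq_one_or (sign h) with h2 | h2
    · exact absurd h2 hh
    · rw [h1, h2]; decide

theorem inv_not_mem_alt {g : Perm α} (hg : g ∉ alternatingGroup α) :
    g⁻¹ ∉ alternatingGroup α := fun h => hg (by simpa using inv_mem h)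

theorem classPartitionAlt_ne_of_isOddP {q : (Fintype.card α).Partition} (hq : IsOddP q)
    (c : ConjClasses (alternatingGroup α)) : classPartitionAlt c ≠ q := by
  obtain ⟨a, rfl⟩ := c.exists_rep
  rw [classPartitionAlt_mk]
  rintro rfl
  exact not_isOddP_partition_of_mem a.2 hq

theorem eq_of_classPartitionAlt_eq_of_not_special {q : (Fintype.card α).Partition}
    (hq : ¬ IsSpecialP q) {c c' : ConjClasses (alternatingGroup α)}
    (hc : classPartitionAlt c = q) (hc' : classPartitionAlt c' = q) : c = c' := by
  obtain ⟨a, rfl⟩ := c.exists_rep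
  obtain ⟨b, rfl⟩ := c'.exists_rep
  · · rw [classPartitionAlt_mk] at hc hc'
      have hconj : IsConj (a : Perm α) (b : Perm α) :=
        partition_eq_of_isConj.mpr (hc.trans hc'.symm)
      obtain ⟨g, hg⟩ := isConj_iff.mp hconj
      by_cases hgA : g ∈ alternatingGroup α
      · exact mk_eq_mk_of_conj_mem hgA hg
      · have hnot : ¬ Subgroup.centralizer {(a : Perm α)} ≤ alternatingGroup α := by
          intro hle
          exact hq (hc ▸ isSpecialP_partition_of_centralizer_le hle)
        obtain ⟨t, htc, htA⟩ := SetLike.not_le_iff_exists.mp hnot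
        have hcomm : t * (a : Perm α) = (a : Perm α) * t :=
          (Subgroup.mem_centralizer_singleton_iff.mp htc)
        refine mk_eq_mk_of_conj_mem (mul_mem_alt_of_not_mem hgA htA) ?_
        rw [← hg, mul_inv_rev]
        have : t * (a : Perm α) * t⁻¹ = a := by rw [hcomm]; group
        calc g * t * ↑a * (t⁻¹ * g⁻¹) = g * (t * ↑a * t⁻¹) * g⁻¹ := by group
          _ = g * ↑a * g⁻¹ := by rw [this]

theorem two_of_three_eq {c₁ c₂ c₃ : ConjClasses (alternatingGroup α)}
    (h12 : classPartitionAlt c₁ = classPartitionAlt c₂)
    (h13 : classPartitionAlt c₁ = classPartitionAlt c₃) :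
    c₁ = c₂ ∨ c₁ = c₃ ∨ c₂ = c₃ := by
  obtain ⟨a₁, rfl⟩ := c₁.exists_rep
  obtain ⟨a₂, rfl⟩ := c₂.exists_rep
  obtain ⟨a₃, rfl⟩ := c₃.exists_rep
  · · · rw [classPartitionAlt_mk, classPartitionAlt_mk] at h12 h13
        obtain ⟨g, hg⟩ := isConj_iff.mp (partition_eq_of_isConj.mpr h12)
        obtain ⟨h, hh⟩ := isConj_iff.mp (partition_eq_of_isConj.mpr h13)
        by_cases hgA : g ∈ alternatingGroup α
        · exact Or.inl (mk_eq_mk_of_conj_mem hgA hg)
        · by_cases hhA : h ∈ alternatingGroup α
          · exact Or.inr (Or.inl (mk_eq_mk_of_conj_mem hhA hh))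
          · refine Or.inr (Or.inr (mk_eq_mk_of_conj_mem
              (mul_mem_alt_of_not_mem hhA (inv_not_mem_alt hgA)) ?_))
            rw [← hg, ← hh]
            group

open Classical in
theorem card_fiber_le (q : (Fintype.card α).Partition) :
    Fintype.card {c : ConjClasses (alternatingGroup α) // classPartitionAlt c = q} ≤
      (if IsOddP q then 0 else 1) + (if IsSpecialP q then 1 else 0) := by
  by_cases ho : IsOddP q
  · have : IsEmpty {c : ConjClasses (alternatingGroup α) // classPartitionAlt c = q} :=
      ⟨fun c => classPartitionAlt_ne_of_isOddP ho c.1 c.2⟩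
    rw [Fintype.card_eq_zero]
    exact Nat.zero_le _
  · rw [if_neg ho]
    by_cases hs : IsSpecialP q
    · rw [if_pos hs]
      by_contra hlt
      push Not at hlt
      obtain ⟨c₁, c₂, c₃, h12, h13, h23⟩ := Fintype.two_lt_card_iff.mp hlt
      rcases two_of_three_eq (c₁.2.trans c₂.2.symm) (c₁.2.trans c₃.2.symm) with h | h | h
      · exact h12 (Subtype.ext h)
      · exact h13 (Subtype.ext h)
      · exact h23 (Subtype.ext h)
    · rw [if_neg hs]
      have : Subsingleton {c : ConjClasses (alternatingGroup α) // classPartitionAlt c = q} :=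
        ⟨fun c c' => Subtype.ext (eq_of_classPartitionAlt_eq_of_not_special hs c.2 c'.2)⟩
      exact Fintype.card_le_one_iff_subsingleton.mpr this

open Classical in
theorem card_conjClasses_alt_lt (h5 : 5 ≤ Fintype.card α) :
    Nat.card (ConjClasses (alternatingGroup α)) < Nat.card (ConjClasses (Perm α)) := by
  rw [card_conjClasses_perm, Nat.card_eq_fintype_card,
    Fintype.card_congr (Equiv.sigmaFiberEquiv (classPartitionAlt (α := α))).symm,
    Fintype.card_sigma]
  have h1 : ∑ q : (Fintype.card α).Partition,
      Fintype.card {c : ConjClasses (alternatingGroup α) // classPartitionAlt c = q} ≤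
      ∑ q : (Fintype.card α).Partition,
        ((if IsOddP q then 0 else 1) + (if IsSpecialP q then 1 else 0)) :=
    Finset.sum_le_sum (fun q _ => card_fiber_le q)
  rw [Finset.sum_add_distrib] at h1
  have h2 : ∑ q : (Fintype.card α).Partition, (if IsSpecialP q then 1 else 0) =
      Fintype.card {q : (Fintype.card α).Partition // IsSpecialP q} := by
    rw [Fintype.card_subtype, Finset.card_filter]
  have h3 : ∑ q : (Fintype.card α).Partition, (if IsOddP q then 0 else 1) =
      Fintype.card {q : (Fintype.card α).Partition // ¬ IsOddP q} := by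
    rw [Fintype.card_subtype, Finset.card_filter]
    apply Finset.sum_congr rfl
    intro q _
    by_cases h : IsOddP q <;> simp [h]
  rw [h2, h3, Fintype.card_subtype_compl] at h1
  have h4 := card_special_lt_card_odd h5
  have h5' := Fintype.card_subtype_le (fun q : (Fintype.card α).Partition => IsOddP q)
  unfold pnum
  omega

end perm

end Cfsg.Agent.Helper59
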