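import Mathlib

/-!
# Abstract word manipulations relating the Coxeter relations of type A and
Carmichael's relations for the alternating group.
-/

namespace Cfsg.Agent.Helper59.AltPres

section basic

variable {H : Type*} [Group H]

theorem pow_swap {a b : H} {n : ℕ} (h : (a * b) ^ n = 1) : (b * a) ^ n = 1 := by
  have : (b * a) ^ n = b * (a * b) ^ n * b⁻¹ := by
    rw [← conj_pow]
    congr 1
    group
  rw [this, h]; group

theorem pow_inv_mul {a b : H} {n : ℕ} (hb : b * b = 1) (h : (a * b) ^ n = 1) :
    (a⁻¹ * b) ^ n = 1 := by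
  have hb' : b⁻¹ = b := inv_eq_of_mul_eq_one_left hb
  have : a⁻¹ * b = (b * a)⁻¹ := by rw [mul_inv_rev, hb']
  rw [this, inv_pow, pow_swap h, inv_one]

theorem sq_of_comm {a b : H} (ha : a * a = 1) (hb : b * b = 1) (hab : a * b = b * a) :
    (a * b) ^ 2 = 1 := by
  rw [pow_two]
  calc a * b * (a * b) = a * (b * a) * b := by group
    _ = a * (a * b) * b := by rw [hab]
    _ = (a * a) * (b * b) := by group
    _ = 1 := by rw [ha, hb, mul_one]

theorem comm_of_sq' {a b : H} (ha : a * a = 1) (hb : b * b = 1) (h : (a * b) ^ 2 = 1) :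
    a * b = b * a := by
  have ha' : a⁻¹ = a := inv_eq_of_mul_eq_one_left ha
  have hb' : b⁻¹ = b := inv_eq_of_mul_eq_one_left hb
  rw [pow_two] at h
  have : a * b = (a * b)⁻¹ := eq_inv_of_mul_eq_one_left h
  rw [this, mul_inv_rev, ha', hb']

end basic

section coxToCar

variable {H : Type*} [Group H] (s : ℕ → H) (N : ℕ)
  (hs1 : ∀ a, a < N → s a * s a = 1)
  (hs2 : ∀ a b, a + 2 ≤ b → b < N → s a * s b = s b * s a)
  (hs3 : ∀ a, a + 1 < N → (s a * s (a + 1)) ^ 3 = 1)

/-- Carmichael generators from Coxeter generators -/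
def X (i : ℕ) : H := s 0 * s (i + 1)

include hs3 in
theorem X_r1 (hN : 1 < N) : X s 0 ^ 3 = 1 := hs3 0 hN

include hs1 hs2 in
theorem X_r2 (i : ℕ) (hi : 1 ≤ i) (hiN : i + 1 < N) : X s i ^ 2 = 1 :=
  sq_of_comm (hs1 0 (by omega)) (hs1 (i + 1) hiN) (hs2 0 (i + 1) (by omega) hiN)

include hs1 hs2 hs3 in
theorem X_r3 (i : ℕ) (hiN : i + 2 < N) : (X s i * X s (i + 1)) ^ 3 = 1 := by
  have h00 := hs1 0 (by omega)
  rcases Nat.eq_zero_or_pos i with rfl | hi
  · -- s0 s1 s0 s2
    have hc : s 0 * s 2 = s 2 * s 0 := hs2 0 2 (by omega) (by omega)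
    have h0inv : (s 0)⁻¹ = s 0 := inv_eq_of_mul_eq_one_left h00
    have : X s 0 * X s (0 + 1) = s 0 * (s 1 * s 2) * (s 0)⁻¹ := by
      unfold X
      rw [h0inv]
      calc s 0 * s (0 + 1) * (s 0 * s (0 + 1 + 1)) = s 0 * s 1 * (s 0 * s 2) := rfl
        _ = s 0 * s 1 * (s 2 * s 0) := by rw [hc]
        _ = s 0 * (s 1 * s 2) * s 0 := by group
    rw [this, conj_pow, hs3 1 (by omega)]
    group
  · have hc : s 0 * s (i + 1) = s (i + 1) * s 0 := hs2 0 (i + 1) (by omega) (by omega)
    have : X s i * X s (i + 1) = s (i + 1) * s (i + 1 + 1) := by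
      unfold X
      calc s 0 * s (i + 1) * (s 0 * s (i + 1 + 1))
          = (s 0 * s (i + 1)) * s 0 * s (i + 1 + 1) := by group
        _ = (s (i + 1) * s 0) * s 0 * s (i + 1 + 1) := by rw [hc]
        _ = s (i + 1) * (s 0 * s 0) * s (i + 1 + 1) := by group
        _ = s (i + 1) * s (i + 1 + 1) := by rw [h00, mul_one]
    rw [this]
    exact hs3 (i + 1) (by omega)

include hs1 hs2 in
theorem X_r4 (i j : ℕ) (hij : i + 2 ≤ j) (hjN : j + 1 < N) : (X s i * X s j) ^ 2 = 1 := by
  have h00 := hs1 0 (by omega)
  rcases Nat.eq_zero_or_pos i with rfl | hi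
  · -- (s0 s1 s0) s_{j+1}
    have hc0 : s 0 * s (j + 1) = s (j + 1) * s 0 := hs2 0 (j + 1) (by omega) hjN
    have hc1 : s 1 * s (j + 1) = s (j + 1) * s 1 := hs2 1 (j + 1) (by omega) hjN
    have h11 := hs1 1 (by omega)
    have : X s 0 * X s j = (s 0 * s 1 * s 0) * s (j + 1) := by
      unfold X; group
    rw [this]
    apply sq_of_comm
    · calc s 0 * s 1 * s 0 * (s 0 * s 1 * s 0) = s 0 * s 1 * (s 0 * s 0) * s 1 * s 0 := by group
        _ = s 0 * (s 1 * s 1) * s 0 := by rw [h00]; group
        _ = 1 := by rw [h11, mul_one, h00]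
    · exact hs1 (j + 1) hjN
    · calc s 0 * s 1 * s 0 * s (j + 1) = s 0 * s 1 * (s 0 * s (j + 1)) := by group
        _ = s 0 * s 1 * (s (j + 1) * s 0) := by rw [hc0]
        _ = s 0 * (s 1 * s (j + 1)) * s 0 := by group
        _ = s 0 * (s (j + 1) * s 1) * s 0 := by rw [hc1]
        _ = (s 0 * s (j + 1)) * s 1 * s 0 := by group
        _ = (s (j + 1) * s 0) * s 1 * s 0 := by rw [hc0]
        _ = s (j + 1) * (s 0 * s 1 * s 0) := by group
  · have hc : s 0 * s (i + 1) = s (i + 1) * s 0 := hs2 0 (i + 1) (by omega) (by omega)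
    have : X s i * X s j = s (i + 1) * s (j + 1) := by
      unfold X
      calc s 0 * s (i + 1) * (s 0 * s (j + 1))
          = (s 0 * s (i + 1)) * s 0 * s (j + 1) := by group
        _ = (s (i + 1) * s 0) * s 0 * s (j + 1) := by rw [hc]
        _ = s (i + 1) * (s 0 * s 0) * s (j + 1) := by group
        _ = s (i + 1) * s (j + 1) := by rw [h00, mul_one]
    rw [this]
    exact sq_of_comm (hs1 _ (by omega)) (hs1 _ hjN) (hs2 (i + 1) (j + 1) (by omega) hjN)

end coxToCar

section carToCox

variable {G : Type*} [Group G] (x : ℕ → G) (L : ℕ)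
  (hx1 : x 0 ^ 3 = 1)
  (hx2 : ∀ i, 1 ≤ i → i < L → x i * x i = 1)
  (hx3 : ∀ i, i + 1 < L → (x i * x (i + 1)) ^ 3 = 1)
  (hx4 : ∀ i j, i + 2 ≤ j → j < L → (x i * x j) ^ 2 = 1)

/-- `y 0 = 1`, `y (k+1) = x k` -/
def y (k : ℕ) : G := if k = 0 then 1 else x (k - 1)

/-- the twisted version: `z 0 = 1`, `z 1 = (x 0)⁻¹`, `z (k+1) = x k` for `k ≥ 1` -/
def z (k : ℕ) : G := if k = 0 then 1 else if k = 1 then (x 0)⁻¹ else x (k - 1)

/-- the Coxeter exponent of type A -/
def Mexp (k k' : ℕ) : ℕ := if k = k' then 1 else if k' + 1 = k ∨ k + 1 = k' then 3 else 2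

include hx1 hx2 hx3 hx4 in
theorem twisted (k k' : ℕ) (hk : k < L + 1) (hk' : k' < L + 1) :
    (z x k * y x k') ^ Mexp k k' = 1 := by
  unfold Mexp
  by_cases hkk : k = k'
  · subst hkk
    rw [if_pos rfl, pow_one]
    unfold z y
    by_cases h0 : k = 0
    · simp [h0]
    · by_cases h1 : k = 1
      · simp [h1]
      · rw [if_neg h0, if_neg h1, if_neg h0]
        exact hx2 (k - 1) (by omega) (by omega)
  · rw [if_neg hkk]
    by_cases h0 : k = 0
    · -- z = 1
      subst h0
      have hz : z x 0 = 1 := by simp [z]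
      rw [hz, one_mul]
      have hk'0 : k' ≠ 0 := fun h => hkk h.symm
      have hy : y x k' = x (k' - 1) := by simp [y, hk'0]
      rw [hy]
      by_cases h1 : k' = 1
      · subst h1
        simpa using hx1
      · rw [if_neg (by omega), pow_two]
        exact hx2 (k' - 1) (by omega) (by omega)
    · by_cases h0' : k' = 0
      · subst h0'
        have hy : y x 0 = 1 := by simp [y]
        rw [hy, mul_one]
        by_cases h1 : k = 1
        · subst h1
          have hz : z x 1 = (x 0)⁻¹ := by simp [z]
          rw [hz, if_pos (by omega), inv_pow, hx1, inv_one]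
        · have hz : z x k = x (k - 1) := by simp [z, h0, h1]
          rw [hz, if_neg (by omega), pow_two]
          exact hx2 (k - 1) (by omega) (by omega)
      · have hy : y x k' = x (k' - 1) := by simp [y, h0']
        rw [hy]
        by_cases h1 : k = 1
        · subst h1
          have hz : z x 1 = (x 0)⁻¹ := by simp [z]
          rw [hz]
          have hinv : x (k' - 1) * x (k' - 1) = 1 := hx2 (k' - 1) (by omega) (by omega)
          by_cases h2 : k' = 2
          · subst h2
            rw [if_pos (by omega)]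
            exact pow_inv_mul hinv (hx3 0 (by omega))
          · rw [if_neg (by omega)]
            exact pow_inv_mul hinv (hx4 0 (k' - 1) (by omega) (by omega))
        · have hz : z x k = x (k - 1) := by simp [z, h0, h1]
          rw [hz]
          by_cases h1' : k' = 1
          · subst h1'
            by_cases h2 : k = 2
            · subst h2
              rw [if_pos (by omega)]
              exact pow_swap (hx3 0 (by omega))
            · rw [if_neg (by omega)]
              exact pow_swap (hx4 0 (k - 1) (by omega) (by omega))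
          · -- both ≥ 2
            by_cases ha : k + 1 = k'
            · rw [if_pos (Or.inr ha)]
              have := hx3 (k - 1) (by omega)
              have e : k - 1 + 1 = k' - 1 := by omega
              rwa [e] at this
            · by_cases hb : k' + 1 = k
              · rw [if_pos (Or.inl hb)]
                have := hx3 (k' - 1) (by omega)
                have e : k' - 1 + 1 = k - 1 := by omega
                rw [e] at this
                exact pow_swap this
              · rw [if_neg (by omega)]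
                rcases Nat.lt_or_ge k k' with hlt | hge
                · exact hx4 (k - 1) (k' - 1) (by omega) (by omega)
                · exact pow_swap (hx4 (k' - 1) (k - 1) (by omega) (by omega))

end carToCox

end Cfsg.Agent.Helper59.AltPres
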