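import Mathlib
import Cfsg.Agent.S2530
import Cfsg.Agent.Lib.Helper59.AltPresAbs

/-!
# Carmichael's presentation of the alternating group, from the Coxeter presentation of the
symmetric group (S2530).
-/

namespace Cfsg.Agent.Helper59.AltPres

open Equiv

/-- Carmichael's relations on `k` generators. -/
def rels (k : ℕ) : Set (FreeGroup (Fin k)) :=
  {g : FreeGroup (Fin k) | ∃ i : Fin k, i.val = 0 ∧ g = FreeGroup.of i ^ 3} ∪
   {g | ∃ i : Fin k, 1 ≤ i.val ∧ g = FreeGroup.of i ^ 2} ∪
   {g | ∃ i j : Fin k, j.val = i.val + 1 ∧ g = (FreeGroup.of i * FreeGroup.of j) ^ 3} ∪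
   {g | ∃ i j : Fin k, i.val + 1 < j.val ∧ g = (FreeGroup.of i * FreeGroup.of j) ^ 2}

/-- the presented group -/
abbrev CG (k : ℕ) := PresentedGroup (rels k)

/-- generators indexed by `ℕ` -/
noncomputable def xg (k : ℕ) (i : ℕ) : CG k :=
  if h : i < k then PresentedGroup.of ⟨i, h⟩ else 1

theorem xg_of (k : ℕ) (i : Fin k) : xg k i.val = PresentedGroup.of i := by
  simp [xg, i.2]

theorem xg_r1 (k : ℕ) (hk : 0 < k) : xg k 0 ^ 3 = 1 := by
  have : FreeGroup.of (⟨0, hk⟩ : Fin k) ^ 3 ∈ rels k :=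
    Or.inl (Or.inl (Or.inl ⟨⟨0, hk⟩, rfl, rfl⟩))
  have h := PresentedGroup.one_of_mem this
  rw [map_pow] at h
  unfold xg
  rw [dif_pos hk]
  exact h

theorem xg_r2 (k : ℕ) (i : ℕ) (hi : 1 ≤ i) (hik : i < k) : xg k i * xg k i = 1 := by
  have : FreeGroup.of (⟨i, hik⟩ : Fin k) ^ 2 ∈ rels k :=
    Or.inl (Or.inl (Or.inr ⟨⟨i, hik⟩, hi, rfl⟩))
  have h := PresentedGroup.one_of_mem this
  rw [map_pow, pow_two] at h
  unfold xg
  rw [dif_pos hik]
  exact h

theorem xg_r3 (k : ℕ) (i : ℕ) (hik : i + 1 < k) : (xg k i * xg k (i + 1)) ^ 3 = 1 := by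
  have : (FreeGroup.of (⟨i, by omega⟩ : Fin k) * FreeGroup.of (⟨i + 1, hik⟩ : Fin k)) ^ 3
      ∈ rels k :=
    Or.inl (Or.inr ⟨⟨i, by omega⟩, ⟨i + 1, hik⟩, rfl, rfl⟩)
  have h := PresentedGroup.one_of_mem this
  rw [map_pow, map_mul] at h
  have hi : i < k := by omega
  unfold xg
  rw [dif_pos hik, dif_pos hi]
  exact h

theorem xg_r4 (k : ℕ) (i j : ℕ) (hij : i + 2 ≤ j) (hjk : j < k) :
    (xg k i * xg k j) ^ 2 = 1 := by
  have : (FreeGroup.of (⟨i, by omega⟩ : Fin k) * FreeGroup.of (⟨j, hjk⟩ : Fin k)) ^ 2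
      ∈ rels k :=
    Or.inr ⟨⟨i, by omega⟩, ⟨j, hjk⟩, by simp; omega, rfl⟩
  have h := PresentedGroup.one_of_mem this
  rw [map_pow, map_mul] at h
  have hi : i < k := by omega
  unfold xg
  rw [dif_pos hjk, dif_pos hi]
  exact h

/-- Universal property in `ℕ`-indexed form. -/
theorem rels_lift_eq_one {H : Type*} [Group H] (k : ℕ) (X : ℕ → H)
    (h1 : 0 < k → X 0 ^ 3 = 1)
    (h2 : ∀ i, 1 ≤ i → i < k → X i ^ 2 = 1)
    (h3 : ∀ i, i + 1 < k → (X i * X (i + 1)) ^ 3 = 1)
    (h4 : ∀ i j, i + 2 ≤ j → j < k → (X i * X j) ^ 2 = 1) :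
    ∀ r ∈ rels k, FreeGroup.lift (fun i : Fin k => X i.val) r = 1 := by
  intro r hr
  rcases hr with ((⟨i, hi, rfl⟩ | ⟨i, hi, rfl⟩) | ⟨i, j, hij, rfl⟩) | ⟨i, j, hij, rfl⟩
  · rw [map_pow, FreeGroup.lift_apply_of, hi]
    exact h1 (by have := i.2; omega)
  · rw [map_pow, FreeGroup.lift_apply_of]
    exact h2 i.val hi i.2
  · rw [map_pow, map_mul, FreeGroup.lift_apply_of, FreeGroup.lift_apply_of, hij]
    exact h3 i.val (by have := j.2; omega)
  · rw [map_pow, map_mul, FreeGroup.lift_apply_of, FreeGroup.lift_apply_of]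
    exact h4 i.val j.val (by omega) j.2

/-- images of the generators under the twisting automorphism -/
noncomputable def T (k : ℕ) (i : ℕ) : CG k := if i = 0 then (xg k 0)⁻¹ else xg k i

theorem T_rels (k : ℕ) : ∀ r ∈ rels k, FreeGroup.lift (fun i : Fin k => T k i.val) r = 1 := by
  apply rels_lift_eq_one
  · intro hk
    simp only [T, if_pos]
    rw [inv_pow, xg_r1 k hk, inv_one]
  · intro i hi hik
    have : T k i = xg k i := by simp [T, show i ≠ 0 by omega]
    rw [this, pow_two]
    exact xg_r2 k i hi hik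
  · intro i hik
    have h1 : T k (i + 1) = xg k (i + 1) := by simp [T]
    rw [h1]
    rcases Nat.eq_zero_or_pos i with rfl | hi
    · have h0 : T k 0 = (xg k 0)⁻¹ := by simp [T]
      rw [h0]
      exact pow_inv_mul (xg_r2 k 1 le_rfl hik) (xg_r3 k 0 hik)
    · have h0 : T k i = xg k i := by simp [T, show i ≠ 0 by omega]
      rw [h0]
      exact xg_r3 k i hik
  · intro i j hij hjk
    have h1 : T k j = xg k j := by simp [T, show j ≠ 0 by omega]
    rw [h1]
    rcases Nat.eq_zero_or_pos i with rfl | hi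
    · have h0 : T k 0 = (xg k 0)⁻¹ := by simp [T]
      rw [h0]
      exact pow_inv_mul (xg_r2 k j (by omega) hjk) (xg_r4 k 0 j hij hjk)
    · have h0 : T k i = xg k i := by simp [T, show i ≠ 0 by omega]
      rw [h0]
      exact xg_r4 k i j hij hjk

/-- the twisting endomorphism -/
noncomputable def tau0 (k : ℕ) : CG k →* CG k := PresentedGroup.toGroup (T_rels k)

theorem tau0_xg (k : ℕ) (i : ℕ) (hi : i < k) : tau0 k (xg k i) = T k i := by
  have : xg k i = PresentedGroup.of ⟨i, hi⟩ := by simp [xg, hi]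
  rw [this]
  exact PresentedGroup.toGroup.of (T_rels k)

theorem tau0_tau0 (k : ℕ) : (tau0 k).comp (tau0 k) = MonoidHom.id (CG k) := by
  apply PresentedGroup.ext
  intro x
  rw [MonoidHom.comp_apply, MonoidHom.id_apply, ← xg_of, tau0_xg k x.val x.2]
  by_cases h0 : x.val = 0
  · have hk : 0 < k := by have := x.2; omega
    rw [h0]
    have : T k 0 = (xg k 0)⁻¹ := by simp [T]
    rw [this, map_inv, tau0_xg k 0 hk, this, inv_inv]
  · have : T k x.val = xg k x.val := by simp [T, h0]
    rw [this, tau0_xg k x.val x.2, this]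

theorem tau0_tau0_apply (k : ℕ) (g : CG k) : tau0 k (tau0 k g) = g := by
  have := congrArg (fun f => f g) (tau0_tau0 k)
  simpa using this

/-- the twisting automorphism -/
noncomputable def tauE (k : ℕ) : CG k ≃* CG k where
  toFun := tau0 k
  invFun := tau0 k
  left_inv := tau0_tau0_apply k
  right_inv := tau0_tau0_apply k
  map_mul' := (tau0 k).map_mul

theorem tauE_apply (k : ℕ) (g : CG k) : tauE k g = tau0 k g := rfl

theorem tauE_mul_self (k : ℕ) : tauE k * tauE k = 1 := by
  ext g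
  simp [MulAut.mul_apply, tauE_apply, tau0_tau0_apply]

/-- the action of `ℤˣ` -/
noncomputable def theta (k : ℕ) : ℤˣ →* MulAut (CG k) where
  toFun u := if u = 1 then 1 else tauE k
  map_one' := by simp
  map_mul' := by
    intro u v
    rcases Int.units_eq_one_or u with rfl | rfl <;> rcases Int.units_eq_one_or v with rfl | rfl
    · simp
    · simp
    · simp
    · have : (-1 : ℤˣ) * (-1) = 1 := by decide
      rw [this]
      have hne : (-1 : ℤˣ) ≠ 1 := by decide
      simp only [if_neg hne, if_pos]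
      exact (tauE_mul_self k).symm

theorem theta_neg_one (k : ℕ) : theta k (-1) = tauE k := by
  have hne : (-1 : ℤˣ) ≠ 1 := by decide
  simp [theta, hne]

/-- the extension of the presented group by the twist -/
abbrev WG (k : ℕ) := CG k ⋊[theta k] ℤˣ

/-- the twist as an element -/
noncomputable def tt (k : ℕ) : WG k := SemidirectProduct.inr (-1)

theorem tt_mul_tt (k : ℕ) : tt k * tt k = 1 := by
  unfold tt
  rw [← map_mul]
  have : (-1 : ℤˣ) * (-1) = 1 := by decide
  rw [this, map_one]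

theorem tt_inv (k : ℕ) : (tt k)⁻¹ = tt k := inv_eq_of_mul_eq_one_left (tt_mul_tt k)

theorem tt_conj (k : ℕ) (g : CG k) :
    tt k * SemidirectProduct.inl g * tt k = SemidirectProduct.inl (tau0 k g) := by
  have h := SemidirectProduct.inl_aut (φ := theta k) (-1 : ℤˣ) g
  rw [theta_neg_one] at h
  have h2 : (SemidirectProduct.inr (-1 : ℤˣ)⁻¹ : WG k) = tt k := by
    rw [map_inv]; exact tt_inv k
  rw [h2] at h
  exact h.symm

theorem xg_r1' (k : ℕ) : xg k 0 ^ 3 = 1 := by
  by_cases hk : 0 < k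
  · exact xg_r1 k hk
  · simp [xg, hk]

theorem tau0_y (k : ℕ) (j : ℕ) (hj : j < k + 1) : tau0 k (y (xg k) j) = z (xg k) j := by
  unfold y z
  by_cases h0 : j = 0
  · simp [h0]
  · rw [if_neg h0, if_neg h0, tau0_xg k (j - 1) (by omega)]
    by_cases h1 : j = 1
    · subst h1
      simp [T]
    · rw [if_neg h1]
      simp [T, show j - 1 ≠ 0 by omega]

/-- images of the Coxeter generators -/
noncomputable def ff (k : ℕ) (j : ℕ) : WG k := tt k * SemidirectProduct.inl (y (xg k) j)

theorem ff_mul_ff (k : ℕ) (j j' : ℕ) (hj : j < k + 1) :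
    ff k j * ff k j' = SemidirectProduct.inl (z (xg k) j * y (xg k) j') := by
  unfold ff
  rw [map_mul, ← tau0_y k j hj, ← tt_conj]
  group

theorem ff_liftable (k : ℕ) :
    (CoxeterMatrix.A (k + 1)).IsLiftable (fun i : Fin (k + 1) => ff k i.val) := by
  intro i i'
  have hM : CoxeterMatrix.A (k + 1) i i' = Mexp i.val i'.val := by
    rw [Cfsg.Agent.S2530.A_apply]
    unfold Mexp
    by_cases h : i = i'
    · rw [if_pos h, if_pos (congrArg Fin.val h)]
    · rw [if_neg h, if_neg (fun h' => h (Fin.ext h'))]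
  rw [hM, ff_mul_ff k _ _ i.2, ← map_pow,
    twisted (xg k) k (xg_r1' k) (xg_r2 k) (xg_r3 k) (xg_r4 k) i.val i'.val i.2 i'.2, map_one]

theorem ff_zero (k : ℕ) : ff k 0 = tt k := by
  simp [ff, y]

theorem inl_xg_eq (k : ℕ) (i : ℕ) :
    (SemidirectProduct.inl (xg k i) : WG k) = ff k 0 * ff k (i + 1) := by
  rw [ff_zero]
  unfold ff
  have : y (xg k) (i + 1) = xg k i := by simp [y]
  rw [this, ← mul_assoc, tt_mul_tt, one_mul]

section lift

variable {P : Type*} [Group P] (k : ℕ) (cs : CoxeterSystem (CoxeterMatrix.A (k + 1)) P)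

/-- the homomorphism from the Coxeter group onto the extension -/
noncomputable def psi : P →* WG k := cs.lift ⟨_, ff_liftable k⟩

theorem psi_simple (i : Fin (k + 1)) : psi k cs (cs.simple i) = ff k i.val :=
  cs.lift_apply_simple (ff_liftable k) i

theorem psi_surjective : Function.Surjective (psi k cs) := by
  rw [← MonoidHom.range_eq_top, eq_top_iff]
  have hff : ∀ j, j < k + 1 → ff k j ∈ (psi k cs).range := by
    intro j hj
    exact ⟨cs.simple ⟨j, hj⟩, psi_simple k cs ⟨j, hj⟩⟩
  have htt : tt k ∈ (psi k cs).range := by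
    rw [← ff_zero]; exact hff 0 (by omega)
  have hinl : ∀ g : CG k, (SemidirectProduct.inl g : WG k) ∈ (psi k cs).range := by
    intro g
    have hle : (⊤ : Subgroup (CG k)) ≤ (psi k cs).range.comap SemidirectProduct.inl := by
      rw [← PresentedGroup.closure_range_of, Subgroup.closure_le]
      rintro _ ⟨i, rfl⟩
      rw [SetLike.mem_coe, Subgroup.mem_comap, ← xg_of, inl_xg_eq]
      exact mul_mem (hff 0 (by omega)) (hff (i.val + 1) (by have := i.2; omega))
    exact hle (Subgroup.mem_top g)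
  intro w _
  rw [← SemidirectProduct.inl_left_mul_inr_right w]
  refine mul_mem (hinl _) ?_
  rcases Int.units_eq_one_or w.right with h | h
  · rw [h, map_one]; exact one_mem _
  · rw [h]; exact htt

end lift

section concrete

variable (k : ℕ) (cs : CoxeterSystem (CoxeterMatrix.A (k + 1)) (Perm (Fin (k + 1 + 1))))

/-- Coxeter generators indexed by `ℕ` -/
noncomputable def sN (a : ℕ) : Perm (Fin (k + 1 + 1)) :=
  if h : a < k + 1 then cs.simple ⟨a, h⟩ else 1

theorem sN_of (a : ℕ) (h : a < k + 1) : sN k cs a = cs.simple ⟨a, h⟩ := by simp [sN, h]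

theorem sN_h1 : ∀ a, a < k + 1 → sN k cs a * sN k cs a = 1 := by
  intro a ha
  rw [sN_of k cs a ha]
  exact cs.simple_mul_simple_self _

theorem sN_h2 : ∀ a b, a + 2 ≤ b → b < k + 1 → sN k cs a * sN k cs b = sN k cs b * sN k cs a := by
  intro a b hab hb
  have ha : a < k + 1 := by omega
  apply comm_of_sq' (sN_h1 k cs a ha) (sN_h1 k cs b hb)
  rw [sN_of k cs a ha, sN_of k cs b hb]
  have := cs.simple_mul_simple_pow ⟨a, ha⟩ ⟨b, hb⟩
  rw [Cfsg.Agent.S2530.A_apply] at this
  have hne : (⟨a, ha⟩ : Fin (k + 1)) ≠ ⟨b, hb⟩ := by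
    intro h; have := congrArg Fin.val h; simp at this; omega
  rw [if_neg hne, if_neg (by simp; omega)] at this
  exact this

theorem sN_h3 : ∀ a, a + 1 < k + 1 → (sN k cs a * sN k cs (a + 1)) ^ 3 = 1 := by
  intro a ha1
  have ha : a < k + 1 := by omega
  rw [sN_of k cs a ha, sN_of k cs (a + 1) ha1]
  have := cs.simple_mul_simple_pow ⟨a, ha⟩ ⟨a + 1, ha1⟩
  rw [Cfsg.Agent.S2530.A_apply] at this
  have hne : (⟨a, ha⟩ : Fin (k + 1)) ≠ ⟨a + 1, ha1⟩ := by
    intro h; have := congrArg Fin.val h; simp at this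
  rw [if_neg hne, if_pos (Or.inr rfl)] at this
  exact this

theorem X_rels : ∀ r ∈ rels k, FreeGroup.lift (fun i : Fin k => X (sN k cs) i.val) r = 1 := by
  apply rels_lift_eq_one
  · intro hk
    exact X_r1 (sN k cs) (k + 1) (sN_h3 k cs) (by omega)
  · intro i hi hik
    exact X_r2 (sN k cs) (k + 1) (sN_h1 k cs) (sN_h2 k cs) i hi (by omega)
  · intro i hik
    exact X_r3 (sN k cs) (k + 1) (sN_h1 k cs) (sN_h2 k cs) (sN_h3 k cs) i (by omega)
  · intro i j hij hjk
    exact X_r4 (sN k cs) (k + 1) (sN_h1 k cs) (sN_h2 k cs) i j hij (by omega)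

/-- the homomorphism to the symmetric group -/
noncomputable def phi0 : CG k →* Perm (Fin (k + 1 + 1)) := PresentedGroup.toGroup (X_rels k cs)

theorem phi0_of (i : Fin k) : phi0 k cs (PresentedGroup.of i) = X (sN k cs) i.val :=
  PresentedGroup.toGroup.of (X_rels k cs)

variable (hcs : ∀ i : Fin (k + 1), cs.simple i = Equiv.swap i.castSucc i.succ)

include hcs in
theorem sign_sN (a : ℕ) (ha : a < k + 1) : Perm.sign (sN k cs a) = -1 := by
  rw [sN_of k cs a ha, hcs]
  apply Perm.sign_swap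
  intro h
  have := congrArg Fin.val h
  simp at this

include hcs in
theorem sN_not_mem (a : ℕ) (ha : a < k + 1) : sN k cs a ∉ alternatingGroup (Fin (k + 1 + 1)) := by
  rw [Perm.mem_alternatingGroup, sign_sN k cs hcs a ha]
  decide

include hcs in
theorem X_mem_alt (i : ℕ) (hi : i < k) : X (sN k cs) i ∈ alternatingGroup (Fin (k + 1 + 1)) := by
  rw [Perm.mem_alternatingGroup]
  unfold X
  rw [map_mul, sign_sN k cs hcs 0 (by omega), sign_sN k cs hcs (i + 1) (by omega)]
  decide

include hcs in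
theorem range_phi0_le : (phi0 k cs).range ≤ alternatingGroup (Fin (k + 1 + 1)) := by
  rw [MonoidHom.range_eq_map, ← PresentedGroup.closure_range_of, MonoidHom.map_closure,
    Subgroup.closure_le]
  rintro _ ⟨_, ⟨i, rfl⟩, rfl⟩
  rw [phi0_of]
  exact X_mem_alt k cs hcs i.val i.2

theorem X_mem_range (i : ℕ) (hi : i < k) : X (sN k cs) i ∈ (phi0 k cs).range :=
  ⟨PresentedGroup.of ⟨i, hi⟩, phi0_of k cs ⟨i, hi⟩⟩

theorem mem_or_mul_mem (w : Perm (Fin (k + 1 + 1))) :
    w ∈ (phi0 k cs).range ∨ sN k cs 0 * w ∈ (phi0 k cs).range := by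
  have h00 := sN_h1 k cs 0 (by omega)
  induction w using cs.simple_induction_left with
  | one => exact Or.inl (one_mem _)
  | mul_simple_left w i ih =>
    have hi : cs.simple i = sN k cs i.val := (sN_of k cs i.val i.2).symm
    rw [hi]
    -- s_i s_0 or s_0 s_i in range
    have hkey : sN k cs 0 * sN k cs i.val ∈ (phi0 k cs).range := by
      by_cases h0 : i.val = 0
      · rw [h0, h00]; exact one_mem _
      · have : sN k cs 0 * sN k cs i.val = X (sN k cs) (i.val - 1) := by
          unfold X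
          rw [Nat.sub_add_cancel (by omega)]
        rw [this]
        exact X_mem_range k cs (i.val - 1) (by have := i.2; omega)
    have hkey' : sN k cs i.val * sN k cs 0 ∈ (phi0 k cs).range := by
      have hii := sN_h1 k cs i.val i.2
      have : sN k cs i.val * sN k cs 0 = (sN k cs 0 * sN k cs i.val)⁻¹ := by
        rw [mul_inv_rev, inv_eq_of_mul_eq_one_left h00, inv_eq_of_mul_eq_one_left hii]
      rw [this]
      exact inv_mem hkey
    rcases ih with h | h
    · right
      rw [← mul_assoc]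
      exact mul_mem hkey h
    · left
      have : sN k cs i.val * w = (sN k cs i.val * sN k cs 0) * (sN k cs 0 * w) := by
        calc sN k cs i.val * w = sN k cs i.val * (sN k cs 0 * sN k cs 0) * w := by
              rw [h00, mul_one]
          _ = _ := by group
      rw [this]
      exact mul_mem hkey' h

include hcs in
theorem alt_le_range : alternatingGroup (Fin (k + 1 + 1)) ≤ (phi0 k cs).range := by
  intro w hw
  rcases mem_or_mul_mem k cs w with h | h
  · exact h
  · exfalso
    have h1 : sN k cs 0 * w ∈ alternatingGroup (Fin (k + 1 + 1)) := range_phi0_le k cs hcs h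
    have h2 : sN k cs 0 ∈ alternatingGroup (Fin (k + 1 + 1)) := by
      have := mul_mem h1 (inv_mem hw)
      simpa using this
    exact sN_not_mem k cs hcs 0 (by omega) h2

/-- the homomorphism to the alternating group -/
noncomputable def phi : CG k →* alternatingGroup (Fin (k + 1 + 1)) :=
  (phi0 k cs).codRestrict (alternatingGroup (Fin (k + 1 + 1)))
    (fun g => range_phi0_le k cs hcs ⟨g, rfl⟩)

include hcs in
theorem phi_surjective : Function.Surjective (phi k cs hcs) := by
  rintro ⟨w, hw⟩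
  obtain ⟨g, hg⟩ := alt_le_range k cs hcs hw
  exact ⟨g, Subtype.ext hg⟩

include hcs in
theorem phi_bijective : Function.Bijective (phi k cs hcs) := by
  have hfinW : Finite (WG k) := Finite.of_surjective (psi k cs) (psi_surjective k cs)
  have hfinG : Finite (CG k) :=
    Finite.of_injective (SemidirectProduct.inl : CG k →* WG k) SemidirectProduct.inl_injective
  apply (phi_surjective k cs hcs).bijective_of_nat_card_le
  have h1 : Nat.card (WG k) ≤ Nat.card (Perm (Fin (k + 1 + 1))) :=
    Nat.card_le_card_of_surjective (psi k cs) (psi_surjective k cs)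
  have h2 : Nat.card (WG k) = Nat.card (CG k) * Nat.card ℤˣ := SemidirectProduct.card
  have h3 : Nat.card ℤˣ = 2 := by
    rw [Nat.card_eq_fintype_card]; rfl
  have h4 := two_mul_nat_card_alternatingGroup (α := Fin (k + 1 + 1))
  rw [h2, h3] at h1
  omega

include hcs in
theorem nonempty_equiv : Nonempty (CG k ≃* alternatingGroup (Fin (k + 1 + 1))) :=
  ⟨MulEquiv.ofBijective (phi k cs hcs) (phi_bijective k cs hcs)⟩

end concrete

end Cfsg.Agent.Helper59.AltPres
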