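import Mathlib
import Cfsg.Agent.Lib.Helper59.AltPres

namespace Cfsg.Agent.Helper59.AltSection

open Cfsg.Agent.Helper59

section

variable {H : Type*} [Group H] (k : ℕ) (p : H →* AltPres.CG k) (z : H)

/-- sign adjustment -/
noncomputable def adj (u w : H) : H := by
  classical exact if (u * w) ^ 3 = 1 then w else z * w

theorem p_adj (hpz : p z = 1) (u w : H) : p (adj z u w) = p w := by
  unfold adj
  split_ifs
  · rfl
  · rw [map_mul, hpz, one_mul]

theorem adj_cube (hzc : ∀ g, g * z = z * g) (hzz : z * z = 1)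
    (hker : ∀ a, p a = 1 → a = 1 ∨ a = z) (u w : H) (h : p ((u * w) ^ 3) = 1) :
    (u * adj z u w) ^ 3 = 1 := by
  unfold adj
  split_ifs with h1
  · exact h1
  · rcases hker _ h with h2 | h2
    · exact absurd h2 h1
    · have hcomm : Commute z (u * w) := (hzc (u * w)).symm
      have : u * (z * w) = z * (u * w) := by rw [← mul_assoc, hzc u, mul_assoc]
      rw [this, hcomm.mul_pow, h2, pow_succ, pow_two, hzz, one_mul, hzz]

variable (hp : Function.Surjective p)

/-- arbitrary lifts -/
noncomputable def b (i : ℕ) : H := (hp (AltPres.xg k i)).choose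

theorem p_b (i : ℕ) : p (b k p hp i) = AltPres.xg k i := (hp _).choose_spec

/-- adjusted lifts -/
noncomputable def a : ℕ → H
  | 0 => adj z 1 (b k p hp 0)
  | (i + 1) => adj z (a i) (b k p hp (i + 1))

variable (hzc : ∀ g, g * z = z * g) (hzz : z * z = 1) (hpz : p z = 1)
  (hker : ∀ a, p a = 1 → a = 1 ∨ a = z) (hB : ∀ a : H, p a * p a = 1 → a * a = 1)

include hpz in
theorem p_a (i : ℕ) : p (a k p z hp i) = AltPres.xg k i := by
  cases i with
  | zero => rw [a, p_adj k p z hpz, p_b]
  | succ i => rw [a, p_adj k p z hpz, p_b]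

include hzc hzz hker in
theorem a_r1 (hk : 0 < k) : a k p z hp 0 ^ 3 = 1 := by
  have h := adj_cube k p z hzc hzz hker 1 (b k p hp 0)
    (by rw [one_mul, map_pow, p_b, AltPres.xg_r1 k hk])
  rw [one_mul] at h
  exact h

include hpz hB in
theorem a_r2 (i : ℕ) (hi : 1 ≤ i) (hik : i < k) : a k p z hp i ^ 2 = 1 := by
  rw [pow_two]
  apply hB
  rw [p_a k p z hp hpz, AltPres.xg_r2 k i hi hik]

include hzc hzz hker hpz in
theorem a_r3 (i : ℕ) (hik : i + 1 < k) : (a k p z hp i * a k p z hp (i + 1)) ^ 3 = 1 := by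
  show (a k p z hp i * adj z (a k p z hp i) (b k p hp (i + 1))) ^ 3 = 1
  apply adj_cube k p z hzc hzz hker
  rw [map_pow, map_mul, p_a k p z hp hpz, p_b, AltPres.xg_r3 k i hik]

include hpz hB in
theorem a_r4 (i j : ℕ) (hij : i + 2 ≤ j) (hjk : j < k) :
    (a k p z hp i * a k p z hp j) ^ 2 = 1 := by
  rw [pow_two]
  apply hB
  rw [map_mul, p_a k p z hp hpz, p_a k p z hp hpz, ← pow_two, AltPres.xg_r4 k i j hij hjk]

include hp hzc hzz hker hpz hB in
theorem section_exists : ∃ σ : AltPres.CG k →* H, ∀ c, p (σ c) = c := by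
  have hrels := AltPres.rels_lift_eq_one k (a k p z hp)
    (a_r1 k p z hp hzc hzz hker)
    (a_r2 k p z hp hpz hB)
    (a_r3 k p z hp hzc hzz hpz hker)
    (a_r4 k p z hp hpz hB)
  refine ⟨PresentedGroup.toGroup hrels, ?_⟩
  have : p.comp (PresentedGroup.toGroup hrels) = MonoidHom.id _ := by
    apply PresentedGroup.ext
    intro i
    rw [MonoidHom.comp_apply, PresentedGroup.toGroup.of, p_a k p z hp hpz, AltPres.xg_of]
    rfl
  intro c
  exact DFunLike.congr_fun this c

end

end Cfsg.Agent.Helper59.AltSection
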