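import Cfsg.Agent.Lib.Helper6.BNBruhat

set_option autoImplicit false

namespace Cfsg.Agent.Helper59.BNCount

open Cfsg Cfsg.Agent.Helper6

variable {G : Type*} [Group G] (P : Cfsg.BNPair G)

theorem C_mul_mem {s n x y : G} (hs : s ∈ P.S) (hn : n ∈ P.N) (hle : len P n ≤ len P (s * n))
    (hx : x ∈ C P s) (hy : y ∈ C P n) : x * y ∈ C P (s * n) := by
  obtain ⟨b, hb, b', hb', rfl⟩ := (mem_C P).1 hx
  obtain ⟨c, hc, c', hc', rfl⟩ := (mem_C P).1 hy
  have h := lemmaA P hs hn hle (P.B.mul_mem hb' hc)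
  have e : b * s * b' * (c * n * c') = b * (s * (b' * c) * n) * c' := by group
  rw [e]
  exact mul_mem_C P hb hc' h

theorem C_inv_mul_mem {s x x' : G} (hs : s ∈ P.S) (hx : x ∈ C P s) (hx' : x' ∈ C P s) :
    x'⁻¹ * x ∈ P.B ∨ x'⁻¹ * x ∈ C P s := by
  obtain ⟨b, hb, b', hb', rfl⟩ := (mem_C P).1 hx
  obtain ⟨c, hc, c', hc', rfl⟩ := (mem_C P).1 hx'
  have e : (c * s * c')⁻¹ * (b * s * b') = c'⁻¹ * (s⁻¹ * (c⁻¹ * b) * s) * b' := by group
  rw [e]
  rcases T3_left_inv P hs (P.subset hs) (P.B.mul_mem (P.B.inv_mem hc) hb) with h | h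
  · left
    have h2 : s⁻¹ * (c⁻¹ * b) * s ∈ P.B := by
      rw [C_of_mem_B P (P.sq_mem s hs)] at h
      exact h
    exact P.B.mul_mem (P.B.mul_mem (P.B.inv_mem hc') h2) hb'
  · right
    exact mul_mem_C P (P.B.inv_mem hc') hb' h

theorem fiber_B {s n x x' y y' : G} (hs : s ∈ P.S) (hn : n ∈ P.N)
    (hlt : len P n < len P (s * n))
    (hx : x ∈ C P s) (hx' : x' ∈ C P s) (hy : y ∈ C P n) (hy' : y' ∈ C P n)
    (h : x * y = x' * y') : x'⁻¹ * x ∈ P.B := by
  rcases C_inv_mul_mem P hs hx hx' with hB | hC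
  · exact hB
  · exfalso
    have hg : x'⁻¹ * x * y = y' := by
      have : x'⁻¹ * x * y = x'⁻¹ * (x * y) := by group
      rw [this, h]; group
    have h1 : x'⁻¹ * x * y ∈ C P (s * n) := C_mul_mem P hs hn hlt.le hC hy
    rw [hg] at h1
    have h2 := bruhat_unique P (P.N.mul_mem (P.subset hs) hn) hn (C_eq_of_mem_of_mem P h1 hy')
    exact not_S_mul_eqv P hs hn h2

variable [Finite G]

theorem card_C_mul {s n : G} (hs : s ∈ P.S) (hn : n ∈ P.N) (hlt : len P n < len P (s * n)) :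
    Nat.card (C P s) * Nat.card (C P n) = Nat.card (C P (s * n)) * Nat.card P.B := by
  classical
  let f : (C P s) × (C P n) → C P (s * n) := fun p =>
    ⟨p.1.1 * p.2.1, C_mul_mem P hs hn hlt.le p.1.2 p.2.2⟩
  letI : Fintype (C P (s * n)) := Fintype.ofFinite _
  have hfib : ∀ g : C P (s * n), Nat.card {p // f p = g} = Nat.card P.B := by
    intro g
    -- pick a point of the fibre
    obtain ⟨b, hb, b', hb', hg⟩ := (mem_C P).1 g.2
    have hx0 : b * s ∈ C P s := (mem_C P).2 ⟨b, hb, 1, P.B.one_mem, by group⟩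
    have hy0 : n * b' ∈ C P n := (mem_C P).2 ⟨1, P.B.one_mem, b', hb', by group⟩
    have h0 : (b * s) * (n * b') = g.1 := by rw [hg]; group
    refine (Nat.card_congr (Equiv.ofBijective
      (fun c : P.B => (⟨(⟨b * s * c.1, mul_right_mem_C P c.2 hx0⟩,
        ⟨c.1⁻¹ * (n * b'), mul_left_mem_C P (P.B.inv_mem c.2) hy0⟩), ?_⟩ : {p // f p = g})) ⟨?_, ?_⟩)).symm
    · apply Subtype.ext
      show b * s * c.1 * (c.1⁻¹ * (n * b')) = g.1
      rw [← h0]; group
    · intro c c' hcc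
      have := congrArg (fun p : {p // f p = g} => p.1.1.1) hcc
      simp only at this
      exact Subtype.ext (mul_left_cancel this)
    · rintro ⟨⟨⟨x, hx⟩, ⟨y, hy⟩⟩, hp⟩
      have hxy : x * y = g.1 := congrArg Subtype.val hp
      have hB := fiber_B P hs hn hlt hx hx0 hy hy0 (by rw [hxy, h0])
      refine ⟨⟨(b * s)⁻¹ * x, hB⟩, ?_⟩
      apply Subtype.ext
      apply Prod.ext
      · apply Subtype.ext
        show b * s * ((b * s)⁻¹ * x) = x
        group
      · apply Subtype.ext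
        show ((b * s)⁻¹ * x)⁻¹ * (n * b') = y
        have : n * b' = (b * s)⁻¹ * (x * y) := by rw [hxy, ← h0]; group
        rw [this]; group
  calc Nat.card (C P s) * Nat.card (C P n) = Nat.card ((C P s) × (C P n)) := (Nat.card_prod _ _).symm
    _ = Nat.card (Σ g : C P (s * n), {p // f p = g}) := Nat.card_congr (Equiv.sigmaFiberEquiv f).symm
    _ = ∑ g : C P (s * n), Nat.card {p // f p = g} := Nat.card_sigma
    _ = ∑ _g : C P (s * n), Nat.card P.B := Finset.sum_congr rfl (fun g _ => hfib g)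
    _ = Nat.card (C P (s * n)) * Nat.card P.B := by
      rw [Finset.sum_const, Finset.card_univ, smul_eq_mul, ← Nat.card_eq_fintype_card]

theorem card_C {q : ℕ} (hq : ∀ s ∈ P.S, Nat.card (C P s) = q * Nat.card P.B) :
    ∀ (k : ℕ) (n : G), n ∈ P.N → len P n = k → Nat.card (C P n) = q ^ k * Nat.card P.B := by
  intro k
  induction k with
  | zero =>
    intro n hn hk
    have hnB : n ∈ P.B := (len_eq_zero_iff P hn).1 hk
    rw [C_of_mem_B P hnB]
    simp
  | succ k ih =>
    intro n hn hk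
    obtain ⟨s, hs, hm⟩ := exists_peel_left P hn hk
    have hsN : s ∈ P.N := P.subset hs
    have hmN : s⁻¹ * n ∈ P.N := P.N.mul_mem (P.N.inv_mem hsN) hn
    have e : s * (s⁻¹ * n) = n := by group
    have hlt : len P (s⁻¹ * n) < len P (s * (s⁻¹ * n)) := by rw [e, hm, hk]; omega
    have h1 := card_C_mul P hs hmN hlt
    rw [e, hq s hs, ih _ hmN hm] at h1
    have hBpos : 0 < Nat.card P.B := Nat.card_pos
    have : Nat.card (C P n) * Nat.card P.B = (q ^ (k + 1) * Nat.card P.B) * Nat.card P.B := by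
      rw [← h1]; ring
    exact Nat.eq_of_mul_eq_mul_right hBpos this

/-- The order formula of a finite group with a (B,N)-pair all of whose rank-one double cosets
`B s B` consist of `q` cosets of `B`: `|G| = |B| * ∑_w q^(l(w))`, the sum over a transversal
`ν` of `B ⊓ N` in `N`. -/
theorem card_eq {q : ℕ} (hq : ∀ s ∈ P.S, Nat.card (C P s) = q * Nat.card P.B)
    {W : Type*} [Fintype W] (ν : W → G) (hν : ∀ w, ν w ∈ P.N)
    (hν' : ∀ n ∈ P.N, ∃! w, (ν w)⁻¹ * n ∈ P.B) :
    Nat.card G = Nat.card P.B * ∑ w, q ^ len P (ν w) := by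
  classical
  have hbij : Function.Bijective (fun p : (Σ w : W, C P (ν w)) => (p.2.1 : G)) := by
    constructor
    · rintro ⟨w, x, hx⟩ ⟨w', x', hx'⟩ h
      simp only at h
      subst h
      have h1 := bruhat_unique P (hν w) (hν w') (C_eq_of_mem_of_mem P hx hx')
      obtain ⟨w0, _, huniq⟩ := hν' (ν w') (hν w')
      have e1 : w = w0 := huniq w h1
      have e2 : w' = w0 := huniq w' (by simp [P.B.one_mem])
      have : w = w' := e1.trans e2.symm
      subst this
      rfl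
    · intro g
      obtain ⟨n, hn, hg⟩ := bruhat_exists P g
      obtain ⟨w, hw, _⟩ := hν' n hn
      refine ⟨⟨w, g, ?_⟩, rfl⟩
      rw [C_congr P hw]
      exact hg
  calc Nat.card G = Nat.card (Σ w : W, C P (ν w)) := (Nat.card_congr (Equiv.ofBijective _ hbij)).symm
    _ = ∑ w, Nat.card (C P (ν w)) := Nat.card_sigma
    _ = ∑ w, q ^ len P (ν w) * Nat.card P.B :=
        Finset.sum_congr rfl (fun w _ => card_C P hq _ _ (hν w) rfl)
    _ = Nat.card P.B * ∑ w, q ^ len P (ν w) := by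
        rw [Finset.mul_sum]; exact Finset.sum_congr rfl (fun w _ => by ring)

end Cfsg.Agent.Helper59.BNCount
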