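import Cfsg.Agent.Lib.Helper59.PoincB

/-!
# The chain of prefix parabolics and list polynomials
-/

set_option autoImplicit false
set_option linter.unusedSectionVars false

namespace Cfsg.Agent.Helper59.Poincare

open Cfsg.Agent.Helper6.Weyl Matrix

variable {n : ℕ} (D : VDatum n)

theorem poinc_congr (J1 J2 : Fin n → Prop) [DecidablePred J1] [DecidablePred J2]
    (h : ∀ i, J1 i ↔ J2 i) (t : ℕ) : poinc D J1 t = poinc D J2 t := by
  obtain rfl : J1 = J2 := funext fun i => propext (h i)
  have : (inferInstance : DecidablePred J1) = ‹DecidablePred J1› := Subsingleton.elim _ _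
  congr!

theorem poinc_zero (t : ℕ) : poinc D (Jk n 0) t = 1 := by
  have h0 : ∀ w : D.W (Jk n 0), w = 1 := by
    intro w
    have h1 : (w : (Mat n)ˣ) ∈ (⊥ : Subgroup (Mat n)ˣ) := by
      rw [← W_Jk_zero D]; exact w.2
    rw [Subgroup.mem_bot] at h1
    exact Subtype.ext h1
  haveI : Unique (D.W (Jk n 0)) := ⟨⟨1⟩, h0⟩
  unfold poinc
  rw [finsum_unique]
  have : ((default : D.W (Jk n 0)) : (Mat n)ˣ) = 1 := congrArg Subtype.val (h0 default)
  rw [this, VDatum.nJ_one, pow_zero]

theorem poinc_chain_step (k : ℕ) (codes depths : List ℕ) (c0 : ℕ) (rest : List ℕ)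
    (hc : codes = c0 :: rest)
    (h : stepCertOK D.A k codes = true) (hlen : depths.length = codes.length)
    (hd : depthOK (Jk n (k + 1)) D.A c0 (codes.zip depths) = true) (t : ℕ) :
    poinc D (Jk n (k + 1)) t = poinc D (Jk n k) t * (depths.map (fun d => t ^ d)).sum := by
  subst hc
  unfold stepCertOK at h
  simp only [Bool.and_eq_true] at h
  obtain ⟨⟨⟨⟨h1, h2⟩, h3⟩, h4⟩, h5⟩ := h
  have hnd : (c0 :: rest).Nodup := of_decide_eq_true h4
  have hlt : ∀ c ∈ c0 :: rest, c < 16 ^ n := by
    intro c hc
    rw [List.all_eq_true] at h5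
    exact of_decide_eq_true (h5 c hc)
  have hdom : ∀ i, Jk n (k + 1) i → 0 ≤ pair D.A i (decode n c0) := by
    intro i hi
    have := domOK_spec h1 i
    by_cases hik : i.val < k
    · rw [this.1 hik]
    · have : i.val = k := by unfold Jk at hi; omega
      exact le_of_lt ((domOK_spec h1 i).2 this)
  have hJ : ∀ i, Jk n k i ↔ (Jk n (k + 1) i ∧ pair D.A i (decode n c0) = 0) := by
    intro i
    have := domOK_spec h1 i
    unfold Jk
    constructor
    · intro hi
      exact ⟨by omega, this.1 hi⟩
    · rintro ⟨hi, h0⟩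
      by_contra hne
      have hik : i.val = k := by omega
      have := this.2 hik
      omega
  rw [poinc_step D (Jk n (k + 1)) (Jk n k) (decode n c0) hdom hJ t,
    orbSum_eq D (Jk n (k + 1)) t c0 rest depths (by simpa using hlen) h2 h3 hnd hlt hdom hd]

/-! ### list polynomials -/

/-- evaluation of a coefficient list (lowest degree first) -/
def evalL (t : ℕ) : List ℕ → ℕ
  | [] => 0
  | a :: L => a + t * evalL t L

def addL : List ℕ → List ℕ → List ℕ
  | [], q => q
  | p, [] => p
  | a :: p, b :: q => (a + b) :: addL p q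

def smulL (a : ℕ) (q : List ℕ) : List ℕ := q.map (a * ·)

def mulL : List ℕ → List ℕ → List ℕ
  | [], _ => []
  | a :: p, q => addL (smulL a q) (0 :: mulL p q)

theorem evalL_add (t : ℕ) : ∀ p q : List ℕ, evalL t (addL p q) = evalL t p + evalL t q
  | [], q => by simp [addL, evalL]
  | a :: p, [] => by simp [addL, evalL]
  | a :: p, b :: q => by
    simp only [addL, evalL, evalL_add t p q]; ring

theorem evalL_smul (t a : ℕ) : ∀ q : List ℕ, evalL t (smulL a q) = a * evalL t q
  | [] => by simp [smulL, evalL]
  | b :: q => by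
    have := evalL_smul t a q
    simp only [smulL, List.map_cons, evalL] at this ⊢
    rw [this]; ring

theorem evalL_mul (t : ℕ) : ∀ p q : List ℕ, evalL t (mulL p q) = evalL t p * evalL t q
  | [], q => by simp [mulL, evalL]
  | a :: p, q => by
    simp only [mulL, evalL_add, evalL_smul, evalL, evalL_mul t p q]; ring

/-- the monomial `t^d` -/
def monoL (d : ℕ) : List ℕ := List.replicate d 0 ++ [1]

theorem evalL_mono (t : ℕ) : ∀ d : ℕ, evalL t (monoL d) = t ^ d
  | 0 => by simp [monoL, evalL]
  | d + 1 => by
    have := evalL_mono t d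
    simp only [monoL, List.replicate_succ, List.cons_append, evalL] at this ⊢
    rw [this]; ring

/-- the polynomial `∑_{d ∈ depths} t^d` -/
def depthsPoly (depths : List ℕ) : List ℕ := depths.foldr (fun d acc => addL (monoL d) acc) []

theorem evalL_depthsPoly (t : ℕ) : ∀ depths : List ℕ,
    evalL t (depthsPoly depths) = (depths.map (fun d => t ^ d)).sum
  | [] => by simp [depthsPoly, evalL]
  | d :: L => by
    have := evalL_depthsPoly t L
    simp only [depthsPoly, List.foldr_cons, evalL_add, evalL_mono, List.map_cons,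
      List.sum_cons] at this ⊢
    rw [this]

/-- `1 + t + ... + t^(m-1)` -/
def qnL (m : ℕ) : List ℕ := List.replicate m 1

/-- `1 + t + ... + t^(m-1)` -/
def qn (m t : ℕ) : ℕ := evalL t (qnL m)

theorem qn_succ (m t : ℕ) : qn (m + 1) t = 1 + t * qn m t := by
  simp [qn, qnL, List.replicate_succ, evalL]

theorem qn_zero (t : ℕ) : qn 0 t = 0 := by simp [qn, qnL, evalL]

theorem qn_mul (m s : ℕ) : s * qn m (s + 1) + 1 = (s + 1) ^ m := by
  induction m with
  | zero => simp [qn_zero]
  | succ m ih =>
    rw [qn_succ, pow_succ, ← ih]; ring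

theorem qn_mul' (m t : ℕ) (ht : 1 ≤ t) : (t - 1) * qn m t = t ^ m - 1 := by
  obtain ⟨s, rfl⟩ : ∃ s, t = s + 1 := ⟨t - 1, by omega⟩
  have := qn_mul m s
  simp only [Nat.add_sub_cancel]
  omega

theorem qn_pos (m t : ℕ) (hm : 1 ≤ m) : 0 < qn m t := by
  obtain ⟨k, rfl⟩ : ∃ k, m = k + 1 := ⟨m - 1, by omega⟩
  rw [qn_succ]; omega

/-- product of list polynomials -/
def prodL (Ls : List (List ℕ)) : List ℕ := Ls.foldr mulL [1]

theorem evalL_prodL (t : ℕ) : ∀ Ls : List (List ℕ), evalL t (prodL Ls) = (Ls.map (evalL t)).prod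
  | [] => by simp [prodL, evalL]
  | L :: Ls => by
    have := evalL_prodL t Ls
    simp only [prodL, List.foldr_cons, evalL_mul, List.map_cons, List.prod_cons] at this ⊢
    rw [this]

/-- depth certificate for one step -/
def stepDepthOK (A : Mat n) (k : ℕ) (cs dl : List ℕ) : Bool :=
  match cs with
  | [] => false
  | c0 :: _ => decide (dl.length = cs.length) && depthOK (Jk n (k + 1)) A c0 (cs.zip dl)

/-- depth certificate for the chain -/
def chainDepthOK (A : Mat n) : ℕ → List (List ℕ) → List (List ℕ) → Bool
  | _, [], [] => true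
  | k, cs :: certs, dl :: dls => stepDepthOK A k cs dl && chainDepthOK A (k + 1) certs dls
  | _, _, _ => false

theorem chainDepthOK_nil (A : Mat n) (k : ℕ) : chainDepthOK A k [] [] = true := rfl

theorem chainDepthOK_cons {A : Mat n} {k : ℕ} {cs dl : List ℕ} {certs dls : List (List ℕ)}
    (h1 : stepDepthOK A k cs dl = true) (h2 : chainDepthOK A (k + 1) certs dls = true) :
    chainDepthOK A k (cs :: certs) (dl :: dls) = true := by
  unfold chainDepthOK
  rw [h1, h2]
  rfl

/-- chain of depth lists: the Poincaré sum of the prefix parabolic -/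
theorem poinc_chain (certs : List (List ℕ)) (t : ℕ) :
    ∀ (dls : List (List ℕ)) (k : ℕ), chainOK D.A k certs = true →
      chainDepthOK D.A k certs dls = true →
      poinc D (Jk n (k + certs.length)) t =
        poinc D (Jk n k) t * evalL t (prodL (dls.map depthsPoly)) := by
  induction certs with
  | nil =>
    intro dls k _ h
    cases dls with
    | nil => simp [prodL, evalL]
    | cons dl dls => simp [chainDepthOK] at h
  | cons cs certs ih =>
    intro dls k hc h
    cases dls with
    | nil => simp [chainDepthOK] at h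
    | cons dl dls =>
      unfold chainOK at hc
      unfold chainDepthOK at h
      rw [Bool.and_eq_true] at hc h
      obtain ⟨h1, h2⟩ := h
      cases cs with
      | nil => simp [stepDepthOK] at h1
      | cons c0 rest =>
        unfold stepDepthOK at h1
        simp only [Bool.and_eq_true, decide_eq_true_eq] at h1
        have hstep := poinc_chain_step D k (c0 :: rest) dl c0 rest rfl hc.1 h1.1 h1.2 t
        have hrest := ih dls (k + 1) hc.2 h2
        have e : k + (List.length ((c0 :: rest) :: certs)) = k + 1 + certs.length := by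
          simp only [List.length_cons]; omega
        rw [e, hrest, hstep, List.map_cons]
        simp only [prodL, List.foldr_cons, evalL_mul, evalL_depthsPoly]
        ring

/-- the final form: the Poincaré sum of the full Weyl group -/
theorem poinc_full (certs dls : List (List ℕ)) (degs : List ℕ) (hlen : certs.length = n)
    (hc : chainOK D.A 0 certs = true) (hd : chainDepthOK D.A 0 certs dls = true)
    (hpoly : prodL (dls.map depthsPoly) = prodL (degs.map qnL)) (t : ℕ) :
    poinc D VDatum.allJ t = (degs.map (fun d => qn d t)).prod := by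
  have h1 := poinc_chain D certs t dls 0 hc hd
  rw [zero_add, hlen, poinc_zero, one_mul, hpoly, evalL_prodL, List.map_map] at h1
  rw [← poinc_congr D (Jk n n) VDatum.allJ (fun i => ⟨fun _ => trivial, fun _ => i.2⟩) t, h1]
  rfl

end Cfsg.Agent.Helper59.Poincare
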