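import Cfsg.Agent.Lib.Helper18.ChevBNPair2
import Cfsg.Agent.Lib.Helper59.WeylGlue
import Cfsg.Agent.Lib.Helper59.PoincC

/-!
# Orders of the Chevalley groups from the (B,N)-pair of helper18 and the Poincaré series
-/

set_option autoImplicit false
set_option linter.unusedSectionVars false

namespace Cfsg.Agent.Helper59.ChevOrder

open Cfsg Cfsg.Lie Cfsg.Agent.S1043 Cfsg.Agent.Helper17 Cfsg.Agent.Helper18 Cfsg.Agent.Helper6
open Cfsg.Agent.Helper6.Weyl Cfsg.Agent.Helper59.Poincare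
open scoped Pointwise

/-- `|U ⊔ H| = |U| |H|` when `H` normalises `U` and `U ⊓ H = 1`. -/
theorem card_sup_eq {G : Type*} [Group G] (U H : Subgroup G)
    (hN : H ≤ Subgroup.normalizer (U : Set G)) (hI : U ⊓ H = ⊥) :
    Nat.card ↥(U ⊔ H) = Nat.card U * Nat.card H := by
  have hset : ((U ⊔ H : Subgroup G) : Set G) = (U : Set G) * (H : Set G) :=
    Subgroup.coe_mul_of_right_le_normalizer_left _ _ hN
  let f : U × H → ↥(U ⊔ H) := fun p =>
    ⟨p.1.1 * p.2.1, mul_mem (Subgroup.mem_sup_left p.1.2) (Subgroup.mem_sup_right p.2.2)⟩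
  have hf : Function.Bijective f := by
    constructor
    · rintro ⟨u, h⟩ ⟨u', h'⟩ e
      have e1 : u.1 * h.1 = u'.1 * h'.1 := congrArg Subtype.val e
      have e2 : u'.1⁻¹ * u.1 = h'.1 * h.1⁻¹ := by
        have : u'.1⁻¹ * u.1 = u'.1⁻¹ * (u.1 * h.1) * h.1⁻¹ := by group
        rw [this, e1]; group
      have h3 : u'.1⁻¹ * u.1 ∈ U ⊓ H :=
        Subgroup.mem_inf.2 ⟨U.mul_mem (U.inv_mem u'.2) u.2, by
          rw [e2]; exact H.mul_mem h'.2 (H.inv_mem h.2)⟩
      rw [hI, Subgroup.mem_bot] at h3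
      have h4 : u.1 = u'.1 := by
        have : u.1 = u'.1 * (u'.1⁻¹ * u.1) := by group
        rw [this, h3, mul_one]
      have h5 : h.1 = h'.1 := by
        rw [h4] at e1
        exact mul_left_cancel e1
      exact Prod.ext (Subtype.ext h4) (Subtype.ext h5)
    · rintro ⟨g, hg⟩
      have hg' : g ∈ ((U ⊔ H : Subgroup G) : Set G) := hg
      rw [hset] at hg'
      obtain ⟨u, hu, h, hh, rfl⟩ := hg'
      exact ⟨(⟨u, hu⟩, ⟨h, hh⟩), rfl⟩
  rw [← Nat.card_prod]
  exact (Nat.card_congr (Equiv.ofBijective f hf)).symm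

section

variable {F : Type*} [Field F] (D : ChevalleyDatum) (hD : Good D)

theorem xU_inv_mul (r : ℕ) (t t' : F) : (xU D hD r t)⁻¹ * xU D hD r t' = xU D hD r (t' - t) := by
  rw [xU_inv]
  apply Units.ext
  rw [Units.val_mul, xU_val, xU_val, xU_val, x_add D hD, sub_eq_neg_add]

include hD in
theorem coset_rep (hB : BNFacts D) (hU : UiFacts D) {tbl : List ℕ} (hT : TorusData D tbl)
    (hconj : ∀ i < D.rank, ∀ s < D.nroots, ConjGoal' F D i s)
    (hNH : D.monomialSubgroup F ≤ Subgroup.normalizer (D.diagonalSubgroup F : Set (GL D.Idx F)))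
    (i : ℕ) (hi : i < D.rank) (b : GL D.Idx F) (hb : b ∈ D.borelSubgroup F) :
    ∃ t : F, (xU D hD (D.simple i) t * nGL D hD i)⁻¹ * (b * nGL D hD i) ∈ D.borelSubgroup F := by
  have hUB : D.posUnipotent F ≤ D.borelSubgroup F := le_sup_left
  have hHB : D.diagonalSubgroup F ≤ D.borelSubgroup F := le_sup_right
  obtain ⟨u', hu', h, hh, t, e⟩ := borel_decomp D hD hB hU hT hconj i hi b⁻¹ (inv_mem hb)
  refine ⟨-t, ?_⟩
  have e' : b = (xU D hD (D.simple i) t)⁻¹ * h⁻¹ * u'⁻¹ := by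
    rw [← inv_inv b, e]; group
  have e2 : (xU D hD (D.simple i) (-t) * nGL D hD i)⁻¹ * (b * nGL D hD i) =
      ((nGL D hD i)⁻¹ * h⁻¹ * ((nGL D hD i)⁻¹)⁻¹) * ((nGL D hD i)⁻¹ * u'⁻¹ * ((nGL D hD i)⁻¹)⁻¹) := by
    rw [e', ← xU_inv]; group
  rw [e2]
  have hsN : nGL D hD i ∈ D.monomialSubgroup F := nGL_mem D hD i (hB.hsimp i hi)
  have hn1 : (nGL D hD i)⁻¹ ∈ Subgroup.normalizer (D.diagonalSubgroup F : Set (GL D.Idx F)) :=
    inv_mem (hNH hsN)
  have hn2 : (nGL D hD i)⁻¹ ∈ Subgroup.normalizer (Ui (F := F) D i : Set (GL D.Idx F)) :=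
    inv_mem (nGL_mem_normalizer_Ui D hD hB hU hT hconj i hi)
  apply mul_mem
  · exact hHB ((Subgroup.mem_normalizer_iff.mp hn1 _).mp (inv_mem hh))
  · exact hUB (Ui_le_pos D i ((Subgroup.mem_normalizer_iff.mp hn2 _).mp (inv_mem hu')))

include hD in
theorem coset_inj (hB : BNFacts D) {tbl : List ℕ} (hT : TorusData D tbl)
    (hTri : TriOK D) (hNeg : NegTriOK D)
    (hconj : ∀ i < D.rank, ∀ s < D.nroots, ConjGoal' F D i s)
    (hinj : ∀ r < D.nroots, ∀ t : F, D.x F r t = 1 → t = 0)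
    (i : ℕ) (hi : i < D.rank) (t t' : F)
    (h : (xU D hD (D.simple i) t * nGL D hD i)⁻¹ * (xU D hD (D.simple i) t' * nGL D hD i) ∈
      D.borelSubgroup F) : t = t' := by
  have hp := hB.hsimp i hi
  have e : (xU D hD (D.simple i) t * nGL D hD i)⁻¹ * (xU D hD (D.simple i) t' * nGL D hD i) =
      (nGL D hD i)⁻¹ * xU D hD (D.simple i) (t' - t) * nGL D hD i := by
    rw [← xU_inv_mul D hD]; group
  obtain ⟨c, hc⟩ := nGL_inv_conj_simple D hD hB hconj i hi (t' - t)
  rw [e, hc] at h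
  have hnegroot : D.IsNegRoot (D.neg (D.simple i)) := by
    rcases hB.hpn _ (hB.hnv _ hp) with h1 | h1
    · exact absurd h1 (hB.hnegpos _ (hB.hsimpPos i hi))
    · exact h1
  have hV : xU D hD (D.neg (D.simple i)) c ∈ D.negUnipotent F :=
    Subgroup.subset_closure ⟨_, c, hnegroot, rfl⟩
  have hbot : xU D hD (D.neg (D.simple i)) c ∈ D.borelSubgroup F ⊓ D.negUnipotent F :=
    Subgroup.mem_inf.2 ⟨h, hV⟩
  rw [(borel_inf_neg (F := F) D hT hTri hNeg).1, Subgroup.mem_bot] at hbot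
  rw [hbot] at hc
  have h1 : xU D hD (D.simple i) (t' - t) = 1 := by
    have : xU D hD (D.simple i) (t' - t) =
        nGL D hD i * ((nGL D hD i)⁻¹ * xU D hD (D.simple i) (t' - t) * nGL D hD i) * (nGL D hD i)⁻¹ := by
      group
    rw [this, hc]; group
  have h2 : D.x F (D.simple i) (t' - t) = 1 := by
    have := congrArg (fun g : GL D.Idx F => (g : Matrix D.Idx D.Idx F)) h1
    simpa using this
  have := hinj _ hp _ h2
  exact (sub_eq_zero.1 this).symm

variable [Fintype F]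

include hD in
theorem card_C_simple (P : Cfsg.BNPair ↥(D.group F))
    (hPB : P.B = (D.borelSubgroup F).subgroupOf (D.group F))
    (hB : BNFacts D) (hU : UiFacts D) {tbl : List ℕ} (hT : TorusData D tbl)
    (hTri : TriOK D) (hNeg : NegTriOK D)
    (hconj : ∀ i < D.rank, ∀ s < D.nroots, ConjGoal' F D i s)
    (hNH : D.monomialSubgroup F ≤ Subgroup.normalizer (D.diagonalSubgroup F : Set (GL D.Idx F)))
    (hinj : ∀ r < D.nroots, ∀ t : F, D.x F r t = 1 → t = 0)
    (i : ℕ) (hi : i < D.rank) :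
    Nat.card (C P ⟨nGL D hD i, nGL_mem_group D hD i⟩) = Fintype.card F * Nat.card P.B := by
  have hUB : D.posUnipotent F ≤ D.borelSubgroup F := le_sup_left
  have hmemB : ∀ g : ↥(D.group F), g ∈ P.B ↔ (g : GL D.Idx F) ∈ D.borelSubgroup F := by
    intro g; rw [hPB, Subgroup.mem_subgroupOf]
  set s : ↥(D.group F) := ⟨nGL D hD i, nGL_mem_group D hD i⟩ with hs
  let xh : F → ↥(D.group F) := fun t => ⟨xU D hD (D.simple i) t, xU_mem_group D hD _ t⟩
  have hxB : ∀ t, xh t ∈ P.B := by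
    intro t
    rw [hmemB]
    exact hUB (Subgroup.subset_closure ⟨_, t, hB.hsimpPos i hi, rfl⟩)
  let f : F × P.B → C P s := fun p =>
    ⟨xh p.1 * s * p.2.1, (mem_C P).2 ⟨xh p.1, hxB p.1, p.2.1, p.2.2, rfl⟩⟩
  have hf : Function.Bijective f := by
    constructor
    · rintro ⟨t, b⟩ ⟨t', b'⟩ e
      have e1 : xh t * s * b.1 = xh t' * s * b'.1 := congrArg Subtype.val e
      have e2 : (xh t * s)⁻¹ * (xh t' * s) = b.1 * b'.1⁻¹ := by
        have : xh t' * s = xh t * s * b.1 * b'.1⁻¹ := by rw [e1]; group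
        rw [this]; group
      have h3 : (xh t * s)⁻¹ * (xh t' * s) ∈ P.B := by
        rw [e2]; exact mul_mem b.2 (inv_mem b'.2)
      rw [hmemB] at h3
      have htt : t = t' := coset_inj D hD hB hT hTri hNeg hconj hinj i hi t t' h3
      subst htt
      have : b.1 = b'.1 := mul_left_cancel e1
      rw [Subtype.ext this]
    · rintro ⟨g, hg⟩
      obtain ⟨b1, hb1, b2, hb2, rfl⟩ := (mem_C P).1 hg
      obtain ⟨t, ht⟩ := coset_rep D hD hB hU hT hconj hNH i hi (b1 : GL D.Idx F) ((hmemB b1).1 hb1)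
      have h0 : (xh t * s)⁻¹ * (b1 * s) ∈ P.B := by rw [hmemB]; exact ht
      refine ⟨(t, ⟨(xh t * s)⁻¹ * (b1 * s) * b2, mul_mem h0 hb2⟩), ?_⟩
      apply Subtype.ext
      show xh t * s * ((xh t * s)⁻¹ * (b1 * s) * b2) = b1 * s * b2
      group
  rw [← Nat.card_eq_fintype_card, ← Nat.card_prod]
  exact (Nat.card_congr (Equiv.ofBijective f hf)).symm


include hD in
/-- the order of the Chevalley group as `|B|` times the Poincaré series of the Weyl group -/
theorem card_group {l : ℕ} (hrank : D.rank = l) (M : CoxeterMatrix (Fin l)) (V : VDatum l)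
    (P : Cfsg.BNPair ↥(D.group F))
    (hPB : P.B = (D.borelSubgroup F).subgroupOf (D.group F))
    (hPN : P.N = (D.monomialSubgroup F).subgroupOf (D.group F))
    (hPS : P.S = {n : ↥(D.group F) | ∃ i < D.rank,
      ((n : GL D.Idx F) : Matrix D.Idx D.Idx F) = D.nMat F (D.simple i) 1})
    (φ : ↥(D.monomialSubgroup F) →* M.Group) (hφs : Function.Surjective φ)
    (hφk : φ.ker = (D.diagonalSubgroup F).subgroupOf (D.monomialSubgroup F))
    (hφn : ∀ (i : Fin l) (g : ↥(D.monomialSubgroup F)),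
      ((g : GL D.Idx F) : Matrix D.Idx D.Idx F) = D.nMat F (D.simple i) 1 → φ g = M.simple i)
    (e : M.Group ≃* V.Wf) (he : ∀ i, e (M.simple i) = V.σ i)
    (hBN : D.borelSubgroup F ⊓ D.monomialSubgroup F = D.diagonalSubgroup F)
    {q : ℕ} (hq : ∀ s ∈ P.S, Nat.card (C P s) = q * Nat.card P.B) :
    Nat.card ↥(D.group F) = Nat.card P.B * poinc V VDatum.allJ q := by
  have hNG : D.monomialSubgroup F ≤ D.group F := monomial_le D hD
  have hHB : D.diagonalSubgroup F ≤ D.borelSubgroup F := le_sup_right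
  have hmemN : ∀ n : ↥(D.group F), n ∈ P.N ↔ (n : GL D.Idx F) ∈ D.monomialSubgroup F := by
    intro n; rw [hPN, Subgroup.mem_subgroupOf]
  have hmemB : ∀ g : ↥(D.group F), g ∈ P.B ↔ (g : GL D.Idx F) ∈ D.borelSubgroup F := by
    intro g; rw [hPB, Subgroup.mem_subgroupOf]
  let ι : ↥P.N →* ↥(D.monomialSubgroup F) :=
    { toFun := fun n => ⟨((n : ↥(D.group F)) : GL D.Idx F), (hmemN n.1).1 n.2⟩
      map_one' := rfl
      map_mul' := fun _ _ => rfl }
  have hι : Function.Surjective ι := by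
    rintro ⟨n, hn⟩
    exact ⟨⟨⟨n, hNG hn⟩, (hmemN _).2 hn⟩, rfl⟩
  let ψ : ↥P.N →* V.Wf := e.toMonoidHom.comp (φ.comp ι)
  have hψ : ∀ n, ψ n = e (φ (ι n)) := fun _ => rfl
  have hsurj : Function.Surjective ψ := e.surjective.comp (hφs.comp hι)
  have hker : ∀ n : P.N, ψ n = 1 ↔ (n : ↥(D.group F)) ∈ P.B := by
    intro n
    rw [hψ, hmemB, MulEquiv.map_eq_one_iff, ← MonoidHom.mem_ker, hφk, Subgroup.mem_subgroupOf]
    constructor
    · intro h; exact hHB h
    · intro h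
      have : ((n : ↥(D.group F)) : GL D.Idx F) ∈ D.borelSubgroup F ⊓ D.monomialSubgroup F :=
        Subgroup.mem_inf.2 ⟨h, (hmemN n.1).1 n.2⟩
      rw [hBN] at this
      exact this
  have hS : ∀ s (hs : s ∈ P.S), ∃ i, ψ ⟨s, P.subset hs⟩ = V.σ i := by
    intro s hs
    have hs' := hs
    rw [hPS] at hs'
    obtain ⟨i, hi, hmat⟩ := hs'
    refine ⟨⟨i, hrank ▸ hi⟩, ?_⟩
    rw [hψ, hφn ⟨i, hrank ▸ hi⟩ _ hmat, he]
  have hS' : ∀ i, ∃ s, ∃ hs : s ∈ P.S, ψ ⟨s, P.subset hs⟩ = V.σ i := by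
    intro i
    have hi : (i : ℕ) < D.rank := by rw [hrank]; exact i.2
    have hs : (⟨nGL D hD i, nGL_mem_group D hD i⟩ : ↥(D.group F)) ∈ P.S := by
      rw [hPS]
      exact ⟨i, hi, nGL_val D hD i⟩
    refine ⟨_, hs, ?_⟩
    rw [hψ, hφn i _ (nGL_val D hD i), he]
  exact WeylGlue.card_eq P V ψ hker hS hS' hsurj hq


theorem pow_mul_qn_prod (q : ℕ) (hq : 1 ≤ q) : ∀ L : List ℕ,
    (q - 1) ^ L.length * (L.map (fun m => qn m q)).prod = (L.map (fun m => q ^ m - 1)).prod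
  | [] => by simp
  | m :: L => by
    have ih := pow_mul_qn_prod q hq L
    simp only [List.length_cons, List.map_cons, List.prod_cons, pow_succ]
    rw [← ih, ← qn_mul' m q hq]
    ring

include hD in
/-- the order formula `d |G| = q^N ∏ (q^{d_i} - 1)` -/
theorem card_formula {l : ℕ} (hrank : D.rank = l) (M : CoxeterMatrix (Fin l)) (V : VDatum l)
    (hM : ∀ i j, M i j = orderOf (V.s i * V.s j))
    (hBNP : ∃ P : Cfsg.BNPair ↥(D.group F),
      P.B = (D.borelSubgroup F).subgroupOf (D.group F) ∧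
      P.N = (D.monomialSubgroup F).subgroupOf (D.group F) ∧
      P.S = {n : ↥(D.group F) | ∃ i < D.rank,
        ((n : GL D.Idx F) : Matrix D.Idx D.Idx F) = D.nMat F (D.simple i) 1})
    (hφ : ∃ φ : ↥(D.monomialSubgroup F) →* M.Group, Function.Surjective φ ∧
      φ.ker = (D.diagonalSubgroup F).subgroupOf (D.monomialSubgroup F) ∧
      ∀ (i : Fin l) (g : ↥(D.monomialSubgroup F)),
        ((g : GL D.Idx F) : Matrix D.Idx D.Idx F) = D.nMat F (D.simple i) 1 → φ g = M.simple i)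
    (hB : BNFacts D) (hU : UiFacts D) {tbl : List ℕ} (hT : TorusData D tbl)
    (hTri : TriOK D) (hNeg : NegTriOK D)
    (hconj : ∀ i < D.rank, ∀ s < D.nroots, ConjGoal' F D i s)
    (hNH : D.monomialSubgroup F ≤ Subgroup.normalizer (D.diagonalSubgroup F : Set (GL D.Idx F)))
    (hinj : ∀ r < D.nroots, ∀ t : F, D.x F r t = 1 → t = 0)
    (hBN : D.borelSubgroup F ⊓ D.monomialSubgroup F = D.diagonalSubgroup F)
    (hUH : D.posUnipotent F ⊓ D.diagonalSubgroup F = ⊥)
    (degs : List ℕ) (hdegs : degs.length = l)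
    (hpoinc : ∀ t, poinc V VDatum.allJ t = (degs.map (fun m => qn m t)).prod)
    {q N d : ℕ} (hq : Fintype.card F = q)
    (hUcard : Nat.card (D.posUnipotent F) = q ^ N)
    (hH : d * Nat.card (D.diagonalSubgroup F) = (q - 1) ^ l) :
    d * Nat.card ↥(D.group F) = q ^ N * (degs.map (fun m => q ^ m - 1)).prod := by
  obtain ⟨P, hPB, hPN, hPS⟩ := hBNP
  obtain ⟨φ, hφs, hφk, hφn⟩ := hφ
  obtain ⟨e, he⟩ := V.exists_mulEquiv M hM
  have hq1 : 1 ≤ q := by rw [← hq]; exact Fintype.card_pos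
  have hBG : D.borelSubgroup F ≤ D.group F := borel_le D hD
  have hqC : ∀ s ∈ P.S, Nat.card (C P s) = q * Nat.card P.B := by
    intro s hs
    have hs' := hs
    rw [hPS] at hs'
    obtain ⟨i, hi, hmat⟩ := hs'
    have : s = ⟨nGL D hD i, nGL_mem_group D hD i⟩ :=
      Subtype.ext (Units.ext (hmat.trans (nGL_val D hD i).symm))
    rw [this, ← hq]
    exact card_C_simple D hD P hPB hB hU hT hTri hNeg hconj hNH hinj i hi
  have h1 := card_group D hD hrank M V P hPB hPN hPS φ hφs hφk hφn e he hBN hqC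
  have h2 : Nat.card P.B = Nat.card (D.borelSubgroup F) := by
    rw [hPB]
    exact Nat.card_congr (Subgroup.subgroupOfEquivOfLe hBG).toEquiv
  have h3 : Nat.card (D.borelSubgroup F) =
      Nat.card (D.posUnipotent F) * Nat.card (D.diagonalSubgroup F) :=
    card_sup_eq _ _ (diag_le_normalizer D hT) hUH
  rw [h1, h2, h3, hUcard, hpoinc, ← pow_mul_qn_prod q hq1 degs, hdegs, ← hH]
  ring

end

end Cfsg.Agent.Helper59.ChevOrder
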