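import Mathlib

set_option autoImplicit false
set_option linter.unusedSectionVars false
set_option linter.style.haveILetI false

namespace Cfsg.Agent.Helper59

/-! # Minimal Frobenius groups `W ⋊ C` with spectrum `{1, P, Q}` -/

section construction

variable {K : Type} [Field K]

/-- additive subgroups of `K` invariant under multiplication by `C` -/
def InvSub (C : Subgroup Kˣ) : Type :=
  {W : AddSubgroup K // ∀ c ∈ C, ∀ w ∈ W, ((c : Kˣ) : K) * w ∈ W}

variable {C : Subgroup Kˣ}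

instance instSMulInv (W : InvSub C) : SMul C W.1 :=
  ⟨fun c w => ⟨((c : Kˣ) : K) * w, W.2 c c.2 w w.2⟩⟩

theorem smul_coe (W : InvSub C) (c : C) (w : W.1) :
    ((c • w : W.1) : K) = ((c : Kˣ) : K) * w := rfl

instance instActInv (W : InvSub C) : DistribMulAction C W.1 where
  one_smul w := by apply Subtype.ext; rw [smul_coe]; simp
  mul_smul c d w := by apply Subtype.ext; simp only [smul_coe]; push_cast; ring
  smul_zero c := by apply Subtype.ext; rw [smul_coe]; simp
  smul_add c w w' := by apply Subtype.ext; simp only [smul_coe, AddSubgroup.coe_add]; ring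

/-- the group `W ⋊ C` -/
structure Fr (C : Subgroup Kˣ) (W : InvSub C) where
  w : W.1
  c : C

namespace Fr

variable {W : InvSub C}

@[ext] theorem ext' {a b : Fr C W} (h1 : a.w = b.w) (h2 : a.c = b.c) : a = b := by
  cases a; cases b; simp_all

instance : Mul (Fr C W) := ⟨fun a b => ⟨a.w + a.c • b.w, a.c * b.c⟩⟩
instance : One (Fr C W) := ⟨⟨0, 1⟩⟩
instance : Inv (Fr C W) := ⟨fun a => ⟨-(a.c⁻¹ • a.w), a.c⁻¹⟩⟩

@[simp] theorem mul_w (a b : Fr C W) : (a * b).w = a.w + a.c • b.w := rfl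
@[simp] theorem mul_c (a b : Fr C W) : (a * b).c = a.c * b.c := rfl
@[simp] theorem one_w : (1 : Fr C W).w = 0 := rfl
@[simp] theorem one_c : (1 : Fr C W).c = 1 := rfl
@[simp] theorem inv_w (a : Fr C W) : (a⁻¹).w = -(a.c⁻¹ • a.w) := rfl
@[simp] theorem inv_c (a : Fr C W) : (a⁻¹).c = a.c⁻¹ := rfl

instance : Group (Fr C W) where
  mul_assoc a b d := by
    apply ext'
    · simp only [mul_w, mul_c, smul_add, mul_smul, add_assoc]
    · simp only [mul_c, mul_assoc]
  one_mul a := by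
    apply ext'
    · simp
    · simp
  mul_one a := by
    apply ext'
    · simp
    · simp
  inv_mul_cancel a := by
    apply ext'
    · simp
    · simp

/-- projection to `C` -/
def proj : Fr C W →* C where
  toFun a := a.c
  map_one' := rfl
  map_mul' _ _ := rfl

/-- the normal subgroup `W` -/
def Wn : Subgroup (Fr C W) := MonoidHom.ker (proj (C := C) (W := W))

theorem mem_Wn (a : Fr C W) : a ∈ Wn (C := C) (W := W) ↔ a.c = 1 := Iff.rfl

instance : (Wn (C := C) (W := W)).Normal := MonoidHom.normal_ker _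

/-- `Fr ≃ W × C` -/
def equivProd : Fr C W ≃ W.1 × C where
  toFun a := (a.w, a.c)
  invFun x := ⟨x.1, x.2⟩
  left_inv a := by cases a; rfl
  right_inv x := rfl

/-- `Wn ≃ W` -/
def equivWn : Wn (C := C) (W := W) ≃ W.1 where
  toFun a := a.1.w
  invFun w := ⟨⟨w, 1⟩, rfl⟩
  left_inv a := by
    apply Subtype.ext
    apply ext'
    · rfl
    · exact ((mem_Wn a.1).mp a.2).symm
  right_inv w := rfl

theorem pow_c (a : Fr C W) (n : ℕ) : (a ^ n).c = a.c ^ n := map_pow (proj (C := C) (W := W)) a n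

theorem pow_w (a : Fr C W) (n : ℕ) :
    (((a ^ n).w : W.1) : K) = (∑ i ∈ Finset.range n, (((a.c : C) : Kˣ) : K) ^ i) * (a.w : K) := by
  induction n with
  | zero => simp
  | succ n ih =>
    rw [pow_succ, mul_w, AddSubgroup.coe_add, ih, smul_coe, pow_c, Finset.sum_range_succ]
    push_cast
    ring


section props

variable [Finite K] {P Q : ℕ} (hP : P.Prime) (hQ : Q.Prime) (hPQ : P ≠ Q) [CharP K P]
  (hC : Nat.card C = Q)

include hP in
theorem order_of_mem_Wn (a : Fr C W) (ha : a ∈ Wn (C := C) (W := W)) (ha1 : a ≠ 1) :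
    orderOf a = P := by
  haveI : Fact P.Prime := ⟨hP⟩
  apply orderOf_eq_prime
  · apply ext'
    · apply Subtype.ext
      rw [pow_w]
      have hc : a.c = 1 := (mem_Wn a).mp ha
      rw [hc]
      simp
    · rw [pow_c, (mem_Wn a).mp ha, one_pow]; rfl
  · exact ha1

include hQ hC in
theorem order_of_not_mem_Wn (a : Fr C W) (ha : a ∉ Wn (C := C) (W := W)) :
    orderOf a = Q := by
  haveI : Fact Q.Prime := ⟨hQ⟩
  have hc1 : a.c ≠ 1 := fun h => ha ((mem_Wn a).mpr h)
  have hcQ : a.c ^ Q = 1 := by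
    rw [← hC]; exact pow_card_eq_one'
  apply orderOf_eq_prime
  · apply ext'
    · apply Subtype.ext
      rw [pow_w]
      have hz : (((a.c : C) : Kˣ) : K) ≠ 1 := by
        intro h
        apply hc1
        apply Subtype.ext
        apply Units.ext
        exact h
      have hzQ : (((a.c : C) : Kˣ) : K) ^ Q = 1 := by
        have := congrArg (fun c : C => ((c : Kˣ) : K)) hcQ
        simpa using this
      have hgeom := geom_sum_mul (((a.c : C) : Kˣ) : K) Q
      rw [hzQ, sub_self] at hgeom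
      have hsum : (∑ i ∈ Finset.range Q, (((a.c : C) : Kˣ) : K) ^ i) = 0 := by
        rcases mul_eq_zero.mp hgeom with h | h
        · exact h
        · exact absurd (sub_eq_zero.mp h) hz
      rw [hsum, zero_mul]; rfl
    · rw [pow_c, hcQ]; rfl
  · intro h
    apply ha
    rw [h]; exact Subgroup.one_mem _


theorem card_Fr : Nat.card (Fr C W) = Nat.card W.1 * Nat.card C := by
  rw [Nat.card_congr (equivProd (C := C) (W := W)), Nat.card_prod]

theorem card_Wn : Nat.card (Wn (C := C) (W := W)) = Nat.card W.1 :=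
  Nat.card_congr equivWn

theorem conj_Wn (y u : Fr C W) (hu : u ∈ Wn (C := C) (W := W)) :
    (((y * u * y⁻¹).w : W.1) : K) = (((y.c : C) : Kˣ) : K) * (u.w : K) := by
  have hc : u.c = 1 := (mem_Wn u).mp hu
  simp only [mul_w, mul_c, inv_w, hc, mul_one, smul_neg, AddSubgroup.coe_add,
    NegMemClass.coe_neg, smul_coe]
  have h1 : (((y.c : C) : Kˣ) : K) * (((y.c⁻¹ : C) : Kˣ) : K) = 1 := by
    push_cast
    exact mul_inv_cancel₀ (Units.ne_zero (y.c : Kˣ))
  linear_combination (-(y.w : K)) * h1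

include hQ hC in
/-- irreducibility of `W` under any element outside `Wn` -/
theorem irred (hmin : ∀ U : AddSubgroup K, U ≠ ⊥ → (∀ c ∈ C, ∀ u ∈ U, ((c : Kˣ) : K) * u ∈ U) →
      U ≤ W.1 → U = W.1)
    (U : Subgroup (Fr C W)) (hUW : U ≤ Wn) (hU : U ≠ ⊥) (y : Fr C W) (hy : y ∉ Wn (C := C) (W := W))
    (hnorm : ∀ u ∈ U, y * u * y⁻¹ ∈ U) : U = Wn := by
  haveI : Fact Q.Prime := ⟨hQ⟩
  -- the additive subgroup corresponding to U
  let U0 : AddSubgroup K :=
    { carrier := {x | ∃ h : x ∈ W.1, (⟨⟨x, h⟩, 1⟩ : Fr C W) ∈ U}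
      zero_mem' := ⟨W.1.zero_mem, U.one_mem⟩
      add_mem' := by
        rintro x x' ⟨h, hx⟩ ⟨h', hx'⟩
        refine ⟨W.1.add_mem h h', ?_⟩
        have := U.mul_mem hx hx'
        convert this using 1
        apply ext'
        · apply Subtype.ext
          simp [smul_coe]
        · simp
      neg_mem' := by
        rintro x ⟨h, hx⟩
        refine ⟨W.1.neg_mem h, ?_⟩
        have := U.inv_mem hx
        convert this using 1
        apply ext'
        · apply Subtype.ext
          simp [smul_coe]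
        · simp }
  have hU0mem : ∀ x, x ∈ U0 ↔ ∃ h : x ∈ W.1, (⟨⟨x, h⟩, 1⟩ : Fr C W) ∈ U := fun x => Iff.rfl
  have hU0W : U0 ≤ W.1 := fun x hx => hx.1
  have hU0ne : U0 ≠ ⊥ := by
    intro h
    apply hU
    rw [eq_bot_iff]
    intro u hu
    have hc : u.c = 1 := (mem_Wn u).mp (hUW hu)
    have h1 : (u.w : K) ∈ U0 := by
      refine ⟨u.w.2, ?_⟩
      convert hu using 1
      apply ext'
      · rfl
      · exact hc.symm
    rw [h, AddSubgroup.mem_bot] at h1
    rw [Subgroup.mem_bot]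
    apply ext'
    · apply Subtype.ext; exact h1
    · exact hc
  -- invariance under y.c
  have hyc : y.c ≠ 1 := fun h => hy ((mem_Wn y).mpr h)
  have hinv1 : ∀ x ∈ U0, (((y.c : C) : Kˣ) : K) * x ∈ U0 := by
    rintro x ⟨h, hx⟩
    have h1 := hnorm _ hx
    have h2 := conj_Wn y ⟨⟨x, h⟩, 1⟩ rfl
    have hc : (y * ⟨⟨x, h⟩, 1⟩ * y⁻¹).c = 1 := by simp
    refine ⟨W.2 y.c y.c.2 x h, ?_⟩
    convert h1 using 1
    apply ext'
    · apply Subtype.ext
      exact h2.symm
    · exact hc.symm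
  have hinvpow : ∀ (n : ℕ), ∀ x ∈ U0, ((((y.c : C) ^ n : C) : Kˣ) : K) * x ∈ U0 := by
    intro n
    induction n with
    | zero => intro x hx; simpa using hx
    | succ n ih =>
      intro x hx
      have := ih _ (hinv1 x hx)
      convert this using 1
      push_cast
      ring
  have hgen : ∀ c : C, c ∈ Subgroup.zpowers y.c := by
    intro c
    have : Subgroup.zpowers y.c = ⊤ := by
      apply zpowers_eq_top_of_prime_card (p := Q) hC hyc
    rw [this]; exact Subgroup.mem_top c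
  have hinvC : ∀ c ∈ C, ∀ x ∈ U0, ((c : Kˣ) : K) * x ∈ U0 := by
    intro c hc x hx
    have h1 := hgen ⟨c, hc⟩
    haveI : Finite C := Nat.finite_of_card_ne_zero (by rw [hC]; exact hQ.ne_zero)
    rw [← mem_powers_iff_mem_zpowers] at h1
    obtain ⟨n, hn⟩ := h1
    have hn' : y.c ^ n = ⟨c, hc⟩ := hn
    have := hinvpow n x hx
    rw [hn'] at this
    exact this
  have hU0eq := hmin U0 hU0ne hinvC hU0W
  apply le_antisymm hUW
  intro a ha
  have hc : a.c = 1 := (mem_Wn a).mp ha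
  have h1 : (a.w : K) ∈ U0 := by rw [hU0eq]; exact a.w.2
  obtain ⟨h, hx⟩ := h1
  convert hx using 1
  apply ext'
  · rfl
  · exact hc


include hP in
theorem card_W_pow (hW : W.1 ≠ ⊥) : ∃ k : ℕ, 1 ≤ k ∧ Nat.card W.1 = P ^ k := by
  letI := Fintype.ofFinite K
  obtain ⟨n, _, hn⟩ := FiniteField.card K P
  have h1 : Nat.card W.1 ∣ Nat.card K := AddSubgroup.card_addSubgroup_dvd_card W.1
  rw [Nat.card_eq_fintype_card (α := K), hn] at h1
  obtain ⟨k, _, hk⟩ := (Nat.dvd_prime_pow hP).mp h1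
  refine ⟨k, ?_, hk⟩
  by_contra h0
  have hk0 : k = 0 := by omega
  rw [hk0, pow_zero] at hk
  apply hW
  rw [eq_bot_iff]
  intro x hx
  have : Subsingleton W.1 := (Nat.card_eq_one_iff_unique.mp hk).1
  have h2 : (⟨x, hx⟩ : W.1) = 0 := Subsingleton.elim _ _
  rw [AddSubgroup.mem_bot]
  exact congrArg Subtype.val h2

include hQ hC in
theorem card_W_modEq : Nat.card W.1 ≡ 1 [MOD Q] := by
  haveI : Fact Q.Prime := ⟨hQ⟩
  haveI : Finite C := Nat.finite_of_card_ne_zero (by rw [hC]; exact hQ.ne_zero)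
  have hCp : IsPGroup Q C := IsPGroup.of_card (n := 1) (by rw [hC, pow_one])
  have h1 := hCp.card_modEq_card_fixedPoints W.1
  have h2 : Nat.card (MulAction.fixedPoints C W.1) = 1 := by
    rw [Nat.card_eq_one_iff_unique]
    obtain ⟨c, hc⟩ : ∃ c : C, c ≠ 1 := by
      by_contra hcon
      push_neg at hcon
      have : Subsingleton C := ⟨fun a b => (hcon a).trans (hcon b).symm⟩
      have := Nat.card_eq_one_iff_unique.mpr ⟨this, ⟨1⟩⟩
      rw [hC] at this
      exact hQ.one_lt.ne' this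
    have hz : ∀ w : W.1, w ∈ MulAction.fixedPoints C W.1 → w = 0 := by
      intro w hw
      have h3 : c • w = w := hw c
      have h4 := congrArg Subtype.val h3
      rw [smul_coe] at h4
      have h5 : ((((c : C) : Kˣ) : K) - 1) * (w : K) = 0 := by
        rw [sub_mul, h4, one_mul, sub_self]
      rcases mul_eq_zero.mp h5 with h6 | h6
      · exfalso
        apply hc
        apply Subtype.ext
        apply Units.ext
        exact sub_eq_zero.mp h6
      · exact Subtype.ext h6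
    refine ⟨⟨fun a b => Subtype.ext ((hz a.1 a.2).trans (hz b.1 b.2).symm)⟩,
      ⟨⟨0, fun c => smul_zero c⟩⟩⟩
  rw [h2] at h1
  exact h1

end props

end Fr

end construction

/-- The package of properties of the minimal Frobenius group. -/
structure IsCritPQ (F : Type) [Group F] (P Q : ℕ) : Prop where
  fin : Finite F
  ex : ∃ (W : Subgroup F) (k : ℕ), W.Normal ∧ 1 ≤ k ∧ Nat.card W = P ^ k ∧
      Nat.card F = P ^ k * Q ∧ P ^ k ≡ 1 [MOD Q] ∧
      (∀ x ∈ W, x ≠ 1 → orderOf x = P) ∧ (∀ x, x ∉ W → orderOf x = Q) ∧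
      (∀ U : Subgroup F, U ≤ W → U ≠ ⊥ → ∀ y, y ∉ W → (∀ u ∈ U, y * u * y⁻¹ ∈ U) → U = W)

/-- Existence. -/
theorem exists_isCritPQ (P Q : ℕ) (hP : P.Prime) (hQ : Q.Prime) (hPQ : P ≠ Q) :
    ∃ (F : Type) (_ : Group F), IsCritPQ F P Q := by
  haveI : Fact P.Prime := ⟨hP⟩
  haveI : Fact Q.Prime := ⟨hQ⟩
  -- the field
  let K := GaloisField P (Q - 1)
  have hQ1 : Q - 1 ≠ 0 := by have := hQ.two_le; omega
  haveI : Finite K := inferInstance
  have hcardK : Nat.card K = P ^ (Q - 1) := GaloisField.card P (Q - 1) hQ1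
  -- an element of order Q in Kˣ
  have hdvd : Q ∣ Nat.card Kˣ := by
    have h1 : Nat.card Kˣ = Nat.card K - 1 := by
      letI := Fintype.ofFinite K
      classical
      rw [Nat.card_eq_fintype_card, Nat.card_eq_fintype_card, Fintype.card_units]
    rw [h1, hcardK]
    have hcop : Nat.Coprime P Q := (Nat.coprime_primes hP hQ).mpr hPQ
    have h2 := Nat.ModEq.pow_totient hcop
    rw [Nat.totient_prime hQ] at h2
    exact (Nat.modEq_iff_dvd' (Nat.one_le_pow _ _ hP.pos)).mp h2.symm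
  obtain ⟨ζ, hζ⟩ := exists_prime_orderOf_dvd_card' Q hdvd
  let C : Subgroup Kˣ := Subgroup.zpowers ζ
  have hC : Nat.card C = Q := by rw [Nat.card_zpowers, hζ]
  -- minimal invariant subgroup
  let good : AddSubgroup K → Prop := fun U => U ≠ ⊥ ∧ ∀ c ∈ C, ∀ u ∈ U, ((c : Kˣ) : K) * u ∈ U
  have hgood_top : good ⊤ := by
    refine ⟨?_, fun c _ u _ => AddSubgroup.mem_top _⟩
    intro h
    have : (1 : K) ∈ (⊤ : AddSubgroup K) := AddSubgroup.mem_top _
    rw [h, AddSubgroup.mem_bot] at this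
    exact one_ne_zero this
  obtain ⟨W0, -, hW0min⟩ := Finite.exists_le_minimal (p := good) hgood_top
  let W : InvSub C := ⟨W0, hW0min.1.2⟩
  have hWne : W.1 ≠ ⊥ := hW0min.1.1
  have hmin : ∀ U : AddSubgroup K, U ≠ ⊥ → (∀ c ∈ C, ∀ u ∈ U, ((c : Kˣ) : K) * u ∈ U) →
      U ≤ W.1 → U = W.1 := by
    intro U hU hUinv hUW
    exact le_antisymm hUW (hW0min.2 ⟨hU, hUinv⟩ hUW)
  obtain ⟨k, hk1, hk⟩ := Fr.card_W_pow (C := C) (W := W) hP hWne
  refine ⟨Fr C W, inferInstance, ?_⟩
  haveI : Finite C := Nat.finite_of_card_ne_zero (by rw [hC]; exact hQ.ne_zero)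
  haveI : Finite W.1 := inferInstance
  refine ⟨Finite.of_equiv _ (Fr.equivProd (C := C) (W := W)).symm, Fr.Wn, k, inferInstance, hk1, ?_,
    ?_, ?_, ?_, ?_, ?_⟩
  · rw [Fr.card_Wn, hk]
  · rw [Fr.card_Fr, hk, hC]
  · rw [← hk]; exact Fr.card_W_modEq hQ hC
  · exact fun x hx hx1 => Fr.order_of_mem_Wn hP x hx hx1
  · exact fun x hx => Fr.order_of_not_mem_Wn hQ hC x hx
  · exact fun U hUW hU y hy hnorm => Fr.irred hQ hC hmin U hUW hU y hy hnorm


namespace IsCritPQ

variable {F : Type} [Group F] {P Q : ℕ}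

theorem card_eq (h : IsCritPQ F P Q) :
    ∃ k, 1 ≤ k ∧ Nat.card F = P ^ k * Q ∧ P ^ k ≡ 1 [MOD Q] := by
  obtain ⟨W, k, _, hk1, _, hF, hmod, _⟩ := h.ex
  exact ⟨k, hk1, hF, hmod⟩

theorem orderOf_mem (h : IsCritPQ F P Q) (x : F) :
    orderOf x = 1 ∨ orderOf x = P ∨ orderOf x = Q := by
  obtain ⟨W, k, _, hk1, _, hF, hmod, hW, hnW, _⟩ := h.ex
  by_cases hx : x ∈ W
  · by_cases hx1 : x = 1
    · left; rw [hx1, orderOf_one]
    · right; left; exact hW x hx hx1
  · right; right; exact hnW x hx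

theorem exists_orderOf (h : IsCritPQ F P Q) (hP : P.Prime) (hQ : Q.Prime) :
    (∃ x : F, orderOf x = P) ∧ (∃ x : F, orderOf x = Q) := by
  haveI := h.fin
  obtain ⟨W, k, _, hk1, hWc, hF, hmod, hW, hnW, _⟩ := h.ex
  constructor
  · have h1 : 1 < Nat.card W := by
      rw [hWc]; exact Nat.one_lt_pow (by omega) hP.one_lt
    haveI : Nontrivial W := Finite.one_lt_card_iff_nontrivial.mp h1
    obtain ⟨x, hx⟩ := exists_ne (1 : W)
    refine ⟨x.1, hW x.1 x.2 ?_⟩
    intro hx1
    exact hx (Subtype.ext hx1)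
  · have h1 : W ≠ ⊤ := by
      intro htop
      have : Nat.card W = Nat.card F := by rw [htop, Subgroup.card_top]
      rw [hWc, hF] at this
      have hpos : 0 < P ^ k := pow_pos hP.pos k
      have : P ^ k * 1 = P ^ k * Q := by rw [mul_one]; exact this
      have := Nat.eq_of_mul_eq_mul_left hpos this
      exact hQ.one_lt.ne this
    obtain ⟨y, hy⟩ : ∃ y, y ∉ W := by
      by_contra hcon
      push_neg at hcon
      exact h1 (eq_top_iff.mpr fun y _ => hcon y)
    exact ⟨y, hnW y hy⟩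

theorem crit (h : IsCritPQ F P Q) (hP : P.Prime) (hQ : Q.Prime) (hPQ : P ≠ Q)
    (H N : Subgroup F) (hNH : N ≤ H) (hnorm : ∀ g ∈ H, ∀ n ∈ N, g * n * g⁻¹ ∈ N)
    (x : F) (hxH : x ∈ H) (hxN : x ∉ N) (hx : orderOf x = P)
    (y : F) (hyH : y ∈ H) (hyN : y ∉ N) (hy : orderOf y = Q) : H = ⊤ ∧ N = ⊥ := by
  haveI := h.fin
  obtain ⟨W, k, hWn, hk1, hWc, hF, hmod, hW, hnW, hirr⟩ := h.ex
  have hx1 : x ≠ 1 := fun h1 => hxN (h1 ▸ N.one_mem)
  have hy1 : y ≠ 1 := fun h1 => hyN (h1 ▸ N.one_mem)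
  have hxW : x ∈ W := by
    by_contra hcon
    exact hPQ (hx.symm.trans (hnW x hcon))
  have hyW : y ∉ W := by
    intro hcon
    exact hPQ ((hW y hcon hy1).symm.trans hy)
  -- W ≤ H
  have hWH : W ≤ H := by
    have h1 : H ⊓ W = W := by
      apply hirr (H ⊓ W) inf_le_right ?_ y hyW
      · intro u hu
        exact ⟨H.mul_mem (H.mul_mem hyH hu.1) (H.inv_mem hyH), hWn.conj_mem u hu.2 y⟩
      · intro hbot
        have : x ∈ H ⊓ W := ⟨hxH, hxW⟩
        rw [hbot, Subgroup.mem_bot] at this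
        exact hx1 this
    rw [← h1]; exact inf_le_left
  have hHtop : H = ⊤ := by
    apply Subgroup.eq_top_of_card_eq
    have hd1 : Nat.card W ∣ Nat.card H := Subgroup.card_dvd_of_le hWH
    have hd2 : Nat.card H ∣ Nat.card F := Subgroup.card_subgroup_dvd_card H
    obtain ⟨t, ht⟩ := hd1
    rw [ht, hF, hWc] at hd2
    have hpos : 0 < P ^ k := pow_pos hP.pos k
    have htQ : t ∣ Q := Nat.dvd_of_mul_dvd_mul_left hpos hd2
    rcases (Nat.dvd_prime hQ).mp htQ with h1 | h1
    · exfalso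
      rw [h1, mul_one] at ht
      have : W = H := Subgroup.eq_of_le_of_card_ge hWH (le_of_eq ht)
      exact hyW (this ▸ hyH)
    · rw [ht, hF, hWc, h1]
  refine ⟨hHtop, ?_⟩
  have hNn : ∀ g : F, ∀ n ∈ N, g * n * g⁻¹ ∈ N := fun g n hn =>
    hnorm g (hHtop ▸ Subgroup.mem_top g) n hn
  have hNW : N ⊓ W = ⊥ := by
    by_contra hne
    have h1 : N ⊓ W = W := by
      apply hirr (N ⊓ W) inf_le_right hne y hyW
      intro u hu
      exact ⟨hNn y u hu.1, hWn.conj_mem u hu.2 y⟩
    apply hxN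
    have : x ∈ N ⊓ W := by rw [h1]; exact hxW
    exact this.1
  rw [eq_bot_iff]
  intro n hn
  rw [Subgroup.mem_bot]
  by_contra hn1
  have hnW' : n ∉ W := by
    intro hcon
    have : n ∈ N ⊓ W := ⟨hn, hcon⟩
    rw [hNW, Subgroup.mem_bot] at this
    exact hn1 this
  -- n commutes with x
  have hcomm : Commute n x := by
    have h1 : n * x * n⁻¹ * x⁻¹ ∈ N ⊓ W := by
      constructor
      · have h2 : x * n⁻¹ * x⁻¹ ∈ N := hNn x n⁻¹ (N.inv_mem hn)
        have h3 := N.mul_mem hn h2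
        have : n * (x * n⁻¹ * x⁻¹) = n * x * n⁻¹ * x⁻¹ := by group
        rw [← this]; exact h3
      · have h2 : n * x * n⁻¹ ∈ W := hWn.conj_mem x hxW n
        exact W.mul_mem h2 (W.inv_mem hxW)
    rw [hNW, Subgroup.mem_bot] at h1
    show n * x = x * n
    have : n * x = (n * x * n⁻¹ * x⁻¹) * (x * n) := by group
    rw [this, h1, one_mul]
  have hno : orderOf n = Q := hnW n hnW'
  have hxn : x * n ∉ W := by
    intro hcon
    apply hnW'
    have := W.mul_mem (W.inv_mem hxW) hcon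
    simpa using this
  have h1 : orderOf (x * n) = Q := hnW _ hxn
  have hcop : Nat.Coprime (orderOf x) (orderOf n) := by
    rw [hx, hno]; exact (Nat.coprime_primes hP hQ).mpr hPQ
  have h2 := hcomm.symm.orderOf_mul_eq_mul_orderOf_of_coprime hcop
  rw [h1, hx, hno] at h2
  have : 1 * Q = P * Q := by rw [one_mul]; exact h2
  have := Nat.eq_of_mul_eq_mul_right hQ.pos this
  exact hP.one_lt.ne this

end IsCritPQ

end Cfsg.Agent.Helper59
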