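import Mathlib
import Cfsg.Agent.Lib.Helper59.CritPQ

set_option autoImplicit false
set_option linter.unusedSectionVars false
set_option linter.style.haveILetI false

namespace Cfsg.Agent.Helper59

section prod

variable {ι : Type} [Fintype ι] [DecidableEq ι] {F : ι → Type} [∀ i, Group (F i)] {P Q : ι → ℕ}
  (hP : ∀ i, (P i).Prime) (hQ : ∀ i, (Q i).Prime) (hPQ : ∀ i, P i ≠ Q i)
  (hdis : ∀ i j, i ≠ j → P i ≠ P j ∧ P i ≠ Q j ∧ Q i ≠ P j ∧ Q i ≠ Q j)
  (hF : ∀ i, IsCritPQ (F i) (P i) (Q i))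

include hP hQ hdis hF in
theorem card_coprime (i j : ι) (hij : i ≠ j) :
    Nat.Coprime (Nat.card (F i)) (Nat.card (F j)) := by
  obtain ⟨k, _, hk, _⟩ := (hF i).card_eq
  obtain ⟨l, _, hl, _⟩ := (hF j).card_eq
  obtain ⟨h1, h2, h3, h4⟩ := hdis i j hij
  rw [hk, hl]
  apply Nat.Coprime.mul_left
  · apply Nat.Coprime.mul_right
    · exact Nat.Coprime.pow _ _ ((Nat.coprime_primes (hP i) (hP j)).mpr h1)
    · exact Nat.Coprime.pow_left _ ((Nat.coprime_primes (hP i) (hQ j)).mpr h2)
  · apply Nat.Coprime.mul_right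
    · exact Nat.Coprime.pow_right _ ((Nat.coprime_primes (hQ i) (hP j)).mpr h3)
    · exact (Nat.coprime_primes (hQ i) (hQ j)).mpr h4

include hP hQ hdis hF in
theorem orderOf_pi (g : (i : ι) → F i) : orderOf g = ∏ i, orderOf (g i) := by
  rw [Pi.orderOf]
  apply Finset.lcm_eq_prod
  intro i _ j _ hij
  show Nat.Coprime (orderOf (g i)) (orderOf (g j))
  haveI := (hF i).fin
  haveI := (hF j).fin
  exact Nat.Coprime.coprime_dvd_left (orderOf_dvd_natCard (g i))
    (Nat.Coprime.coprime_dvd_right (orderOf_dvd_natCard (g j)) (card_coprime hP hQ hdis hF i j hij))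

include hP hQ hdis hF in
theorem spectrum_pi : Set.range (orderOf : ((i : ι) → F i) → ℕ) =
    {m : ℕ | ∃ c : ι → ℕ, (∀ j, c j = 1 ∨ c j = P j ∨ c j = Q j) ∧ m = ∏ j, c j} := by
  ext m
  constructor
  · rintro ⟨g, rfl⟩
    exact ⟨fun i => orderOf (g i), fun j => (hF j).orderOf_mem (g j), orderOf_pi hP hQ hdis hF g⟩
  · rintro ⟨c, hc, rfl⟩
    have hex : ∀ j, ∃ x : F j, orderOf x = c j := by
      intro j
      rcases hc j with h | h | h
      · exact ⟨1, by rw [h, orderOf_one]⟩
      · rw [h]; exact ((hF j).exists_orderOf (hP j) (hQ j)).1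
      · rw [h]; exact ((hF j).exists_orderOf (hP j) (hQ j)).2
    choose g hg using hex
    refine ⟨g, ?_⟩
    rw [orderOf_pi hP hQ hdis hF g]
    exact Finset.prod_congr rfl fun j _ => hg j

include hP hQ hdis hF in
theorem exists_pow_eq_mulSingle (g : (i : ι) → F i) (j : ι) :
    ∃ t : ℕ, g ^ t = Pi.mulSingle j (g j) ∧ t ≡ 1 [MOD Nat.card (F j)] := by
  haveI := fun i => (hF i).fin
  set M := ∏ i ∈ Finset.univ.erase j, Nat.card (F i) with hM
  set m := Nat.card (F j) with hm
  have hcop : Nat.Coprime M m := by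
    apply Nat.Coprime.prod_left
    intro i hi
    exact card_coprime hP hQ hdis hF i j (Finset.ne_of_mem_erase hi)
  have hm1 : 1 < m := by
    obtain ⟨k, hk1, hk, _⟩ := (hF j).card_eq
    rw [hm, hk]
    have h1 : 1 ≤ P j ^ k := Nat.one_le_pow _ _ (hP j).pos
    have h2 := (hQ j).two_le
    nlinarith
  obtain ⟨u, -, hu⟩ := Nat.exists_mul_mod_eq_one_of_coprime hcop hm1
  refine ⟨M * u, ?_, ?_⟩
  · funext i
    rw [Pi.pow_apply]
    by_cases hij : i = j
    · subst hij
      rw [Pi.mulSingle_eq_same, ← pow_mod_natCard, ← hm, hu, pow_one]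
    · rw [Pi.mulSingle_eq_of_ne hij]
      have hdvd : Nat.card (F i) ∣ M :=
        Finset.dvd_prod_of_mem _ (Finset.mem_erase.mpr ⟨hij, Finset.mem_univ i⟩)
      obtain ⟨v, hv⟩ := hdvd
      rw [hv, mul_assoc, pow_mul, pow_card_eq_one', one_pow]
  · show M * u % m = 1 % m
    rw [hu, Nat.mod_eq_of_lt hm1]


include hP hQ hPQ hdis hF in
theorem critical_pi (H : Subgroup ((i : ι) → F i)) (N : Subgroup ↥H) [N.Normal]
    (hspec : Set.range (orderOf : (↥H ⧸ N) → ℕ) =
      {m : ℕ | ∃ c : ι → ℕ, (∀ j, c j = 1 ∨ c j = P j ∨ c j = Q j) ∧ m = ∏ j, c j}) :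
    H = ⊤ ∧ N = ⊥ := by
  haveI := fun i => (hF i).fin
  have key : ∀ j (R : ℕ), (R = P j ∨ R = Q j) → ∃ x : F j, orderOf x = R ∧
      ∃ hx : Pi.mulSingle j x ∈ H, (⟨_, hx⟩ : H) ∉ N := by
    intro j R hR
    have hRprime : R.Prime := by
      rcases hR with h | h
      · rw [h]; exact hP j
      · rw [h]; exact hQ j
    have hmem : R ∈ {m : ℕ | ∃ c : ι → ℕ, (∀ j, c j = 1 ∨ c j = P j ∨ c j = Q j) ∧
        m = ∏ j, c j} := by
      refine ⟨Function.update (fun _ => 1) j R, ?_, ?_⟩
      · intro i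
        by_cases hij : i = j
        · subst hij
          rw [Function.update_self]
          rcases hR with h | h
          · right; left; exact h
          · right; right; exact h
        · left
          rw [Function.update_of_ne hij]
      · rw [Finset.prod_update_of_mem (Finset.mem_univ j)]
        simp
    rw [← hspec] at hmem
    obtain ⟨z, hz⟩ := hmem
    obtain ⟨h, rfl⟩ := QuotientGroup.mk_surjective z
    obtain ⟨t, ht, htmod⟩ := exists_pow_eq_mulSingle hP hQ hdis hF (h : (i : ι) → F i) j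
    have hRdvd : R ∣ Nat.card (F j) := by
      obtain ⟨k, hk1, hk, _⟩ := (hF j).card_eq
      rw [hk]
      rcases hR with h | h
      · rw [h]
        exact Dvd.dvd.mul_right (dvd_pow_self _ (by omega)) _
      · rw [h]
        exact Dvd.intro_left _ rfl
    have hzt : ((h ^ t : H) : H ⧸ N) = (h : H ⧸ N) := by
      have h1 : t ≡ 1 [MOD R] := htmod.of_dvd hRdvd
      rw [QuotientGroup.mk_pow, ← pow_mod_orderOf, hz]
      have h2 : t % R = 1 % R := h1
      rw [h2, Nat.mod_eq_of_lt hRprime.one_lt, pow_one]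
    have hx : Pi.mulSingle j ((h : (i : ι) → F i) j) ∈ H := by
      rw [← ht]; exact H.pow_mem h.2 t
    have heq : (⟨_, hx⟩ : H) = h ^ t := by
      apply Subtype.ext
      rw [Subgroup.coe_pow, ht]
    refine ⟨(h : (i : ι) → F i) j, ?_, hx, ?_⟩
    · -- order
      have h1 : R ∣ orderOf ((h : (i : ι) → F i) j) := by
        rw [← hz, ← hzt]
        apply orderOf_dvd_of_pow_eq_one
        rw [← QuotientGroup.mk_pow]
        have h2 : orderOf (h ^ t : H) = orderOf ((h : (i : ι) → F i) j) := by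
          rw [← Subgroup.orderOf_coe, Subgroup.coe_pow, ht, orderOf_piMulSingle]
        rw [← h2, pow_orderOf_eq_one]
        rfl
      rcases (hF j).orderOf_mem ((h : (i : ι) → F i) j) with h2 | h2 | h2
      · rw [h2] at h1
        exact absurd (Nat.dvd_one.mp h1) hRprime.one_lt.ne'
      · rw [h2] at h1 ⊢
        exact ((Nat.prime_dvd_prime_iff_eq hRprime (hP j)).mp h1).symm
      · rw [h2] at h1 ⊢
        exact ((Nat.prime_dvd_prime_iff_eq hRprime (hQ j)).mp h1).symm
    · intro hcon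
      rw [heq] at hcon
      have h1 : ((h ^ t : H) : H ⧸ N) = 1 := (QuotientGroup.eq_one_iff _).mpr hcon
      rw [hzt] at h1
      rw [h1, orderOf_one] at hz
      exact hRprime.one_lt.ne hz
  -- componentwise
  have hcomp : ∀ j, H.comap (MonoidHom.mulSingle F j) = ⊤ ∧
      (N.map H.subtype).comap (MonoidHom.mulSingle F j) = ⊥ := by
    intro j
    obtain ⟨x, hxo, hxH, hxN⟩ := key j (P j) (Or.inl rfl)
    obtain ⟨y, hyo, hyH, hyN⟩ := key j (Q j) (Or.inr rfl)
    have hnotmem : ∀ (u : F j) (hu : Pi.mulSingle j u ∈ H), (⟨_, hu⟩ : H) ∉ N →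
        u ∉ (N.map H.subtype).comap (MonoidHom.mulSingle F j) := by
      intro u hu huN hcon
      rw [Subgroup.mem_comap, Subgroup.mem_map] at hcon
      obtain ⟨n, hn, hne⟩ := hcon
      apply huN
      have : n = ⟨_, hu⟩ := Subtype.ext hne
      rw [← this]; exact hn
    apply (hF j).crit (hP j) (hQ j) (hPQ j) _ _ ?_ ?_ x hxH (hnotmem x hxH hxN) hxo
      y hyH (hnotmem y hyH hyN) hyo
    · intro u hu
      rw [Subgroup.mem_comap, Subgroup.mem_map] at hu
      obtain ⟨n, hn, hne⟩ := hu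
      rw [Subgroup.mem_comap, ← hne]
      exact n.2
    · intro g hg u hu
      rw [Subgroup.mem_comap] at hg
      rw [Subgroup.mem_comap, Subgroup.mem_map] at hu
      obtain ⟨n, hn, hne⟩ := hu
      rw [Subgroup.mem_comap, Subgroup.mem_map]
      refine ⟨⟨_, hg⟩ * n * ⟨_, hg⟩⁻¹, ‹N.Normal›.conj_mem n hn _, ?_⟩
      simp only [map_mul, map_inv]
      rw [hne]
      rfl
  constructor
  · rw [eq_top_iff]
    intro g _
    rw [← Finset.noncommProd_mulSingle g]
    apply Subgroup.noncommProd_mem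
    intro i _
    have : g i ∈ H.comap (MonoidHom.mulSingle F i) := by
      rw [(hcomp i).1]; exact Subgroup.mem_top _
    exact this
  · rw [eq_bot_iff]
    intro n hn
    rw [Subgroup.mem_bot]
    apply Subtype.ext
    funext j
    obtain ⟨t, ht, _⟩ := exists_pow_eq_mulSingle hP hQ hdis hF (n : (i : ι) → F i) j
    have h1 : (n : (i : ι) → F i) j ∈ (N.map H.subtype).comap (MonoidHom.mulSingle F j) := by
      rw [Subgroup.mem_comap, Subgroup.mem_map]
      refine ⟨n ^ t, N.pow_mem hn t, ?_⟩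
      rw [map_pow]
      exact ht
    rw [(hcomp j).2, Subgroup.mem_bot] at h1
    exact h1

include hP hQ hPQ hdis in
theorem card_pi_factorization [∀ i, Finite (F i)] (k : ι → ℕ)
    (hk : ∀ i, Nat.card (F i) = P i ^ k i * Q i) (j : ι) :
    (Nat.card ((i : ι) → F i)).factorization (P j) = k j ∧
      (Nat.card ((i : ι) → F i)).factorization (Q j) = 1 := by
  rw [Nat.card_pi]
  have hne : ∀ i ∈ (Finset.univ : Finset ι), Nat.card (F i) ≠ 0 := by
    intro i _
    exact Nat.card_pos.ne'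
  rw [Nat.factorization_prod hne]
  have hterm : ∀ i (r : ℕ), (Nat.card (F i)).factorization r =
      k i * (if P i = r then 1 else 0) + (if Q i = r then 1 else 0) := by
    intro i r
    rw [hk i, Nat.factorization_mul (pow_ne_zero _ (hP i).ne_zero) (hQ i).ne_zero,
      Nat.factorization_pow, (hP i).factorization, (hQ i).factorization]
    simp [Finsupp.single_apply]
  constructor
  · rw [Finsupp.finsetSum_apply, Finset.sum_eq_single j]
    · rw [hterm]
      simp [(hPQ j).symm]
    · intro i _ hij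
      rw [hterm]
      obtain ⟨h1, h2, h3, h4⟩ := hdis i j hij
      simp [h1, h3]
    · intro h; exact absurd (Finset.mem_univ j) h
  · rw [Finsupp.finsetSum_apply, Finset.sum_eq_single j]
    · rw [hterm]
      simp [hPQ j]
    · intro i _ hij
      rw [hterm]
      obtain ⟨h1, h2, h3, h4⟩ := hdis i j hij
      simp [h2, h4]
    · intro h; exact absurd (Finset.mem_univ j) h

end prod

end Cfsg.Agent.Helper59
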