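import Mathlib

namespace Cfsg.Agent.Helper59.InvolConj

open Equiv Equiv.Perm

theorem cycleType_invol {n : ℕ} (hn : n ≤ 7) (g : Perm (Fin n))
    (hg : g ∈ alternatingGroup (Fin n)) (h2 : g ^ 2 = 1) (h1 : g ≠ 1) :
    g.cycleType = Multiset.replicate 2 2 := by
  have ho : orderOf g = 2 := orderOf_eq_prime h2 h1
  obtain ⟨m, hm⟩ := cycleType_prime_order (σ := g) (by rw [ho]; exact Nat.prime_two)
  rw [ho] at hm
  have hsum := sum_cycleType_le g
  rw [hm, Multiset.sum_replicate, Fintype.card_fin, smul_eq_mul] at hsum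
  have hsign : sign g = 1 := mem_alternatingGroup.mp hg
  rw [sign_of_cycleType, hm, Multiset.sum_replicate, Multiset.card_replicate, smul_eq_mul] at hsign
  have hm2 : m ≤ 2 := by omega
  interval_cases m
  · exfalso; revert hsign; decide
  · exact hm
  · exfalso; revert hsign; decide

theorem exists_conj {n : ℕ} (hn : n ≤ 7) (g h : Perm (Fin n))
    (hg : g ∈ alternatingGroup (Fin n)) (hh : h ∈ alternatingGroup (Fin n))
    (hg2 : g ^ 2 = 1) (hg1 : g ≠ 1) (hh2 : h ^ 2 = 1) (hh1 : h ≠ 1) :
    ∃ c ∈ alternatingGroup (Fin n), c * g * c⁻¹ = h := by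
  have hcg := cycleType_invol hn g hg hg2 hg1
  have hch := cycleType_invol hn h hh hh2 hh1
  have hconj : IsConj g h := isConj_iff_cycleType_eq.mpr (hcg.trans hch.symm)
  obtain ⟨c, hc⟩ := isConj_iff.mp hconj
  by_cases hs : c ∈ alternatingGroup (Fin n)
  · exact ⟨c, hs, hc⟩
  · -- find an odd element of the centraliser
    have hnot : ¬ (Subgroup.centralizer {g} ≤ alternatingGroup (Fin n)) := by
      intro hle
      have := OnCycleFactors.odd_of_centralizer_le_alternatingGroup hle 2
        (by rw [hcg]; simp)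
      revert this; decide
    obtain ⟨τ, hτc, hτa⟩ := SetLike.not_le_iff_exists.mp hnot
    rw [Subgroup.mem_centralizer_singleton_iff] at hτc
    refine ⟨c * τ, ?_, ?_⟩
    · rw [mem_alternatingGroup] at hs hτa ⊢
      rw [map_mul]
      rcases Int.units_eq_one_or (sign c) with h1 | h1
      · exact absurd h1 hs
      · rcases Int.units_eq_one_or (sign τ) with h2 | h2
        · exact absurd h2 hτa
        · rw [h1, h2]; rfl
    · rw [← hc, mul_inv_rev]
      have : τ * g * τ⁻¹ = g := by rw [hτc, mul_inv_cancel_right]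
      calc c * τ * g * (τ⁻¹ * c⁻¹) = c * (τ * g * τ⁻¹) * c⁻¹ := by group
        _ = c * g * c⁻¹ := by rw [this]

end Cfsg.Agent.Helper59.InvolConj
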