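import Mathlib
import Cfsg.Prelude.Def_SporadicB
import Cfsg.Agent.Lib.Helper59.AltPres
import Cfsg.Agent.Lib.Helper59.InvolConj
import Cfsg.Agent.Lib.Helper59.AltSection

namespace Cfsg.Agent.Helper59.DCInvol

open Cfsg.Agent.Helper59

theorem small_cyclic (n : ℕ) (hn : n ≤ 3) : IsCyclic (alternatingGroup (Fin n)) := by
  interval_cases n
  · have : Subsingleton (alternatingGroup (Fin 0)) := inferInstance
    infer_instance
  · have : Subsingleton (alternatingGroup (Fin 1)) := inferInstance
    infer_instance
  · have h : Nat.card (alternatingGroup (Fin 2)) = 1 := by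
      rw [Nat.card_eq_fintype_card]; decide
    have : Subsingleton (alternatingGroup (Fin 2)) := (Nat.card_eq_one_iff_unique.mp h).1
    infer_instance
  · have h : Nat.card (alternatingGroup (Fin 3)) = 3 := by
      rw [Nat.card_eq_fintype_card]; decide
    haveI : Fact (Nat.Prime 3) := ⟨Nat.prime_three⟩
    exact isCyclic_of_prime_card h

theorem small_case (n : ℕ) (hn : n ≤ 3) (H : Type) [Group H]
    (hcov : Cfsg.IsNonsplitDoubleCover H (alternatingGroup (Fin n))) : False := by
  obtain ⟨-, ⟨φ⟩, hns⟩ := hcov
  haveI := small_cyclic n hn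
  have hcomm : ∀ a b : H, a * b = b * a := by
    apply commutative_of_cyclic_center_quotient
      (φ.toMonoidHom.comp (QuotientGroup.mk' (Subgroup.center H)))
    intro a ha
    rw [MonoidHom.mem_ker, MonoidHom.comp_apply] at ha
    have h1 : QuotientGroup.mk' (Subgroup.center H) a = 1 := by
      apply φ.injective
      rw [map_one]
      exact ha
    exact (QuotientGroup.eq_one_iff a).mp h1
  have htop : Subgroup.center H = ⊤ := by
    rw [eq_top_iff]
    intro a _
    rw [Subgroup.mem_center_iff]
    intro g
    exact hcomm g a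
  apply hns ⊥
  rw [htop]
  exact Subgroup.isComplement'_top_bot



theorem big_case (k : ℕ) (hk : k + 1 + 1 ≤ 7) (H : Type) [Group H] [Finite H]
    (hcov : Cfsg.IsNonsplitDoubleCover H (alternatingGroup (Fin (k + 1 + 1))))
    (t z : H) (hz : z ∈ Subgroup.center H) (hz1 : z ≠ 1)
    (hzall : ∀ c ∈ Subgroup.center H, c = 1 ∨ c = z)
    (ht : orderOf t = 2) (htz : t ≠ z) : False := by
  obtain ⟨-, ⟨φ⟩, hns⟩ := hcov
  obtain ⟨cs, hcs⟩ := Cfsg.Agent.S2530.result (k + 1)
  obtain ⟨e⟩ := AltPres.nonempty_equiv k cs hcs
  -- the projection to the presented group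
  let p : H →* AltPres.CG k :=
    e.symm.toMonoidHom.comp (φ.toMonoidHom.comp (QuotientGroup.mk' (Subgroup.center H)))
  have hp : Function.Surjective p := by
    intro c
    obtain ⟨a, ha⟩ := QuotientGroup.mk'_surjective (Subgroup.center H) (φ.symm (e c))
    refine ⟨a, ?_⟩
    show e.symm (φ (QuotientGroup.mk' (Subgroup.center H) a)) = c
    rw [ha, MulEquiv.apply_symm_apply, MulEquiv.symm_apply_apply]
  have hpker : ∀ a, p a = 1 ↔ a ∈ Subgroup.center H := by
    intro a
    show e.symm (φ (QuotientGroup.mk' (Subgroup.center H) a)) = 1 ↔ _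
    rw [MulEquiv.map_eq_one_iff, MulEquiv.map_eq_one_iff]
    exact QuotientGroup.eq_one_iff a
  have hzc : ∀ g, g * z = z * g := Subgroup.mem_center_iff.mp hz
  have hzz : z * z = 1 := by
    rcases hzall (z * z) (mul_mem hz hz) with h | h
    · exact h
    · exfalso
      apply hz1
      calc z = z⁻¹ * (z * z) := by group
        _ = z⁻¹ * z := by rw [h]
        _ = 1 := by group
  have hpz : p z = 1 := (hpker z).mpr hz
  have hker : ∀ a, p a = 1 → a = 1 ∨ a = z := fun a ha => hzall a ((hpker a).mp ha)
  have ht1 : t ≠ 1 := by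
    intro h; rw [h, orderOf_one] at ht; omega
  have htt : t * t = 1 := by
    rw [← pow_two, ← ht]; exact pow_orderOf_eq_one t
  have hpt1 : p t ≠ 1 := by
    intro h
    rcases hker t h with h | h
    · exact ht1 h
    · exact htz h
  have hptt : p t * p t = 1 := by rw [← map_mul, htt, map_one]
  -- every lift of an involution is an involution
  have hB : ∀ a : H, p a * p a = 1 → a * a = 1 := by
    intro a ha
    by_cases ha1 : p a = 1
    · rcases hker a ha1 with h | h
      · rw [h, mul_one]
      · rw [h, hzz]
    · -- conjugacy in the alternating group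
      obtain ⟨c, hc, hconj⟩ := InvolConj.exists_conj hk (e (p t)).1 (e (p a)).1
        (e (p t)).2 (e (p a)).2
        (by rw [pow_two, ← Subgroup.coe_mul, ← map_mul, hptt, map_one]; rfl)
        (by
          intro h
          apply hpt1
          apply e.injective
          rw [map_one]
          exact Subtype.ext h)
        (by rw [pow_two, ← Subgroup.coe_mul, ← map_mul, ha, map_one]; rfl)
        (by
          intro h
          apply ha1
          apply e.injective
          rw [map_one]
          exact Subtype.ext h)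
      obtain ⟨d, hd⟩ := hp (e.symm ⟨c, hc⟩)
      have h1 : p (d * t * d⁻¹) = p a := by
        rw [map_mul, map_mul, map_inv, hd]
        apply e.injective
        rw [map_mul, map_mul, map_inv, MulEquiv.apply_symm_apply]
        exact Subtype.ext hconj
      have h2 : p (a⁻¹ * (d * t * d⁻¹)) = 1 := by
        rw [map_mul, map_inv, h1, inv_mul_cancel]
      have h3 : d * t * d⁻¹ * (d * t * d⁻¹) = 1 := by
        calc d * t * d⁻¹ * (d * t * d⁻¹) = d * (t * t) * d⁻¹ := by group
          _ = 1 := by rw [htt]; group
      rcases hker _ h2 with h | h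
      · have : a = d * t * d⁻¹ := by
          calc a = a * (a⁻¹ * (d * t * d⁻¹)) := by rw [h, mul_one]
            _ = d * t * d⁻¹ := by group
        rw [this]; exact h3
      · have h4 : d * t * d⁻¹ = a * z := by
          calc d * t * d⁻¹ = a * (a⁻¹ * (d * t * d⁻¹)) := by group
            _ = a * z := by rw [h]
        rw [h4] at h3
        calc a * a = a * a * (z * z) := by rw [hzz, mul_one]
          _ = a * z * (a * z) := by
              rw [mul_assoc a z, ← mul_assoc z a, ← hzc a]; simp only [mul_assoc]
          _ = 1 := h3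
  obtain ⟨σ, hσ⟩ := AltSection.section_exists k p z hp hzc hzz hpz hker hB
  apply hns σ.range
  apply Subgroup.isComplement'_of_disjoint_and_mul_eq_univ
  · rw [Subgroup.disjoint_def]
    intro x hx hxr
    obtain ⟨c, rfl⟩ := hxr
    have : c = 1 := by rw [← hσ c]; exact (hpker _).mpr hx
    rw [this, map_one]
  · rw [Set.eq_univ_iff_forall]
    intro h
    refine ⟨h * (σ (p h))⁻¹, ?_, σ (p h), ⟨p h, rfl⟩, by group⟩
    show h * (σ (p h))⁻¹ ∈ Subgroup.center H
    rw [← hpker, map_mul, map_inv, hσ, mul_inv_cancel]

end Cfsg.Agent.Helper59.DCInvol
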