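import Cfsg.Agent.Lib.Helper59.Derangement

set_option autoImplicit false

namespace Cfsg.Agent.Helper59

open MulAction

section Rank

variable {G X : Type*} [Group G] [MulAction G X]

theorem card_fixedBy_prod [Finite X] (g : G) :
    Nat.card (fixedBy (X × X) g) = Nat.card (fixedBy X g) * Nat.card (fixedBy X g) := by
  rw [← Nat.card_prod]
  apply Nat.card_congr
  refine ⟨fun p => (⟨p.1.1, ?_⟩, ⟨p.1.2, ?_⟩), fun q => ⟨(q.1.1, q.2.1), ?_⟩, ?_, ?_⟩
  · have := p.2
    rw [mem_fixedBy] at this ⊢
    exact congrArg Prod.fst this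
  · have := p.2
    rw [mem_fixedBy] at this ⊢
    exact congrArg Prod.snd this
  · rw [mem_fixedBy]
    have h1 := q.1.2
    have h2 := q.2.2
    rw [mem_fixedBy] at h1 h2
    exact Prod.ext h1 h2
  · intro p; rfl
  · intro q; rfl

/-- The rank identity, before cancelling. -/
theorem rank_identity [Fintype G] [Finite X] [Nonempty X] (htrans : IsPretransitive G X)
    (D : Subgroup G) (hD : ∀ g : G, (∀ ω : X, g • ω ≠ ω) → g ∈ D) :
    Nat.card (orbitRel.Quotient G (X × X)) * Nat.card G + Nat.card D =
      Nat.card (orbitRel.Quotient D (X × X)) * Nat.card D + Nat.card G := by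
  classical
  obtain ⟨-, h2⟩ := key_sums htrans D hD
  have hB := burnside_natCard (G := G) (X := X × X)
  have hBD := burnside_subgroup (G := G) (X := X × X) D
  have hsplit : ∑ g : G, Nat.card (fixedBy (X × X) g) =
      ∑ g : G, (if g ∈ D then Nat.card (fixedBy (X × X) g) else 0) +
      ∑ g : G, (if g ∈ D then 0 else 1) := by
    rw [← Finset.sum_add_distrib]
    apply Finset.sum_congr rfl
    intro g _
    split_ifs with h
    · simp
    · rw [card_fixedBy_prod, h2 g h]
  have hcount : ∑ g : G, (if g ∈ D then 0 else 1) + Nat.card D = Nat.card G := by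
    have h1 : ∑ g : G, (if g ∈ D then 1 else 0) = Nat.card D := by
      rw [Finset.sum_boole, Nat.card_eq_fintype_card, Fintype.card_subtype]
      rfl
    rw [← h1, ← Finset.sum_add_distrib]
    rw [Nat.card_eq_fintype_card, ← Finset.card_univ, Finset.card_eq_sum_ones]
    apply Finset.sum_congr rfl
    intro g _
    split_ifs <;> simp
  omega

theorem rank_formula [Finite G] [Finite X] (htrans : IsPretransitive G X)
    (D : Subgroup G) (hD : ∀ g : G, (∀ ω : X, g • ω ≠ ω) → g ∈ D) :
    Nat.card (orbitRel.Quotient D (X × X)) - 1 =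
      (Nat.card (orbitRel.Quotient G (X × X)) - 1) * D.index := by
  classical
  have := Fintype.ofFinite G
  rcases isEmpty_or_nonempty X with hX | hX
  · have h1 : IsEmpty (orbitRel.Quotient D (X × X)) := by
      refine ⟨fun q => ?_⟩
      induction q using Quotient.inductionOn with
      | _ a => exact isEmptyElim a.1
    have h2 : IsEmpty (orbitRel.Quotient G (X × X)) := by
      refine ⟨fun q => ?_⟩
      induction q using Quotient.inductionOn with
      | _ a => exact isEmptyElim a.1
    simp [Nat.card_of_isEmpty]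
  · have hid := rank_identity htrans D hD
    have hidx : Nat.card D * D.index = Nat.card G := D.card_mul_index
    set rG := Nat.card (orbitRel.Quotient G (X × X)) with hrG
    set rD := Nat.card (orbitRel.Quotient D (X × X)) with hrD
    set i := D.index with hi
    set n := Nat.card D with hn
    have hnpos : 0 < n := Nat.card_pos
    have hrGpos : 1 ≤ rG := by
      have : Nonempty (orbitRel.Quotient G (X × X)) :=
        ⟨Quotient.mk'' (Classical.arbitrary X, Classical.arbitrary X)⟩
      exact Nat.one_le_iff_ne_zero.mpr (Nat.card_pos).ne'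
    have hrDpos : 1 ≤ rD := by
      have : Nonempty (orbitRel.Quotient D (X × X)) :=
        ⟨Quotient.mk'' (Classical.arbitrary X, Classical.arbitrary X)⟩
      exact Nat.one_le_iff_ne_zero.mpr (Nat.card_pos).ne'
    rw [← hidx] at hid
    -- rG * (n * i) + n = rD * n + n * i
    have h3 : n * (rG * i + 1) = n * (rD + i) := by nlinarith
    have h4 : rG * i + 1 = rD + i := Nat.eq_of_mul_eq_mul_left hnpos h3
    clear_value rG rD i n
    obtain ⟨a, rfl⟩ : ∃ a, rG = a + 1 := ⟨rG - 1, by omega⟩
    obtain ⟨b, rfl⟩ : ∃ b, rD = b + 1 := ⟨rD - 1, by omega⟩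
    simp only [Nat.add_sub_cancel]
    nlinarith

end Rank

end Cfsg.Agent.Helper59
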