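import Cfsg.Agent.Lib.Helper59.Derangement2

set_option autoImplicit false

namespace Cfsg.Agent.Helper59

open MulAction

section Index

theorem dvd_card_of_forall_dvd_orbit {H Y : Type*} [Group H] [MulAction H Y] [Finite Y] (i : ℕ)
    (h : ∀ y : Y, i ∣ Nat.card (orbit H y)) : i ∣ Nat.card Y := by
  classical
  have := Fintype.ofFinite (orbitRel.Quotient H Y)
  rw [Nat.card_congr (selfEquivSigmaOrbits' H Y), Nat.card_sigma]
  apply Finset.dvd_sum
  intro ω _
  rw [orbitRel.Quotient.orbit_eq_orbit_out ω Quotient.out_eq']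
  exact h _

variable {G X : Type*} [Group G] [MulAction G X]

theorem card_fixedBy_ne_one {g : G} {x y : X} (hx : g • x = x) (hy : g • y = y) (hxy : x ≠ y) :
    Nat.card (fixedBy X g) ≠ 1 := by
  intro h
  rw [Nat.card_eq_one_iff_unique] at h
  obtain ⟨hs, -⟩ := h
  have := hs.elim (⟨x, hx⟩ : fixedBy X g) ⟨y, hy⟩
  exact hxy (congrArg Subtype.val this)

theorem relIndex_stabilizer_eq_index [Finite G] [Finite X] (D : Subgroup G) (a : X)
    (hG : IsPretransitive G X) (hDt : IsPretransitive D X) :
    D.relIndex (stabilizer G a) = D.index := by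
  have hn : 0 < Nat.card X := by
    have : Nonempty X := ⟨a⟩
    exact Nat.card_pos
  have h1 : (stabilizer G a).index = Nat.card X := index_stabilizer_of_transitive G a
  have h2 : (stabilizer G a).relIndex D = Nat.card X := by
    have key : (stabilizer G a).subgroupOf D = stabilizer D a := by
      ext; rfl
    rw [Subgroup.relIndex, key, index_stabilizer_of_transitive]
  have h3 := Subgroup.relIndex_mul_index (inf_le_left : D ⊓ stabilizer G a ≤ D)
  have h4 := Subgroup.relIndex_mul_index (inf_le_right : D ⊓ stabilizer G a ≤ stabilizer G a)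
  rw [Subgroup.inf_relIndex_left] at h3
  rw [Subgroup.inf_relIndex_right] at h4
  rw [h2] at h3
  rw [h1] at h4
  have : Nat.card X * D.index = Nat.card X * D.relIndex (stabilizer G a) := by
    rw [h3, ← h4, mul_comm]
  exact (Nat.eq_of_mul_eq_mul_left hn this).symm

/-- every orbit of the stabilizer of `a` away from `a` has size divisible by the index of `D`. -/
theorem index_dvd_orbit [Finite G] [Finite X] (htrans : IsPretransitive G X)
    (D : Subgroup G) (hD : ∀ g : G, (∀ ω : X, g • ω ≠ ω) → g ∈ D) (a : X)
    (y : SubMulAction.ofStabilizer G a) :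
    D.index ∣ Nat.card (orbit (stabilizer G a) y) := by
  obtain ⟨hDt, hD2⟩ := der_main htrans D hD
  rw [← relIndex_stabilizer_eq_index D a htrans hDt, Nat.card_coe_set_eq, ← index_stabilizer,
    Subgroup.relIndex]
  apply Subgroup.index_dvd_of_le
  intro h hh
  rw [Subgroup.mem_subgroupOf]
  apply hD2
  have h1 : (h : G) • a = a := h.2
  have h2 : (h : G) • (y : X) = y := by
    have := congrArg Subtype.val (mem_stabilizer_iff.mp hh)
    exact this
  exact card_fixedBy_ne_one h1 h2 (SubMulAction.neq_of_mem_ofStabilizer G a).symm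

theorem index_dvd_card_sub_one [Finite G] [Finite X] (htrans : IsPretransitive G X)
    (D : Subgroup G) (hD : ∀ g : G, (∀ ω : X, g • ω ≠ ω) → g ∈ D) (hX : 1 ≤ Nat.card X) :
    D.index ∣ Nat.card X - 1 := by
  have : Nonempty X := by
    by_contra h
    rw [not_nonempty_iff] at h
    simp [Nat.card_of_isEmpty] at hX
  obtain ⟨a⟩ := this
  have h1 := dvd_card_of_forall_dvd_orbit (H := stabilizer G a) (Y := SubMulAction.ofStabilizer G a)
    D.index (index_dvd_orbit htrans D hD a)
  have h2 := SubMulAction.nat_card_ofStabilizer_add_one_eq (G := G) a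
  have h3 : Nat.card X - 1 = Nat.card (SubMulAction.ofStabilizer G a) := by omega
  rw [h3]
  exact h1

end Index

end Cfsg.Agent.Helper59
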