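import Cfsg.Agent.Lib.Helper59.Derangement3

set_option autoImplicit false

namespace Cfsg.Agent.Helper59

open MulAction

section PrimePow

variable {G X : Type*} [Group G] [MulAction G X]

/-- if the index is `n - 1` then the stabilizer is transitive on the remaining points. -/
theorem stabilizer_transitive_of_index [Finite G] [Finite X] (htrans : IsPretransitive G X)
    (D : Subgroup G) (hD : ∀ g : G, (∀ ω : X, g • ω ≠ ω) → g ∈ D) (hX : 2 ≤ Nat.card X)
    (hidx : D.index = Nat.card X - 1) (a : X) (y : SubMulAction.ofStabilizer G a) :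
    Nat.card (orbit (stabilizer G a) y) = Nat.card X - 1 := by
  have h1 := index_dvd_orbit htrans D hD a y
  have h2 := SubMulAction.nat_card_ofStabilizer_add_one_eq (G := G) a
  have h3 : Nat.card (orbit (stabilizer G a) y) ≤ Nat.card (SubMulAction.ofStabilizer G a) :=
    Nat.card_le_card_of_injective _ Subtype.val_injective
  have h4 : 0 < Nat.card (orbit (stabilizer G a) y) := by
    have : Nonempty (orbit (stabilizer G a) y) := ⟨⟨y, mem_orbit_self y⟩⟩
    exact Nat.card_pos
  rw [hidx] at h1
  have h5 := Nat.le_of_dvd h4 h1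
  omega

theorem inf_stabilizer_eq_bot [Finite G] [Finite X] [FaithfulSMul G X]
    (htrans : IsPretransitive G X)
    (D : Subgroup G) (hD : ∀ g : G, (∀ ω : X, g • ω ≠ ω) → g ∈ D) (hX : 2 ≤ Nat.card X)
    (hidx : D.index = Nat.card X - 1) (a : X) :
    D ⊓ stabilizer G a = ⊥ := by
  obtain ⟨hDt, hD2⟩ := der_main htrans D hD
  rw [Subgroup.eq_bot_iff_forall]
  intro g hg
  obtain ⟨hgD, hga⟩ := Subgroup.mem_inf.mp hg
  apply FaithfulSMul.eq_of_smul_eq_smul (α := X)
  intro x
  rw [one_smul]
  by_cases hxa : x = a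
  · rw [hxa]; exact hga
  · let y : SubMulAction.ofStabilizer G a := ⟨x, (SubMulAction.mem_ofStabilizer_iff G a).mpr hxa⟩
    have h1 := stabilizer_transitive_of_index htrans D hD hX hidx a y
    rw [Nat.card_coe_set_eq, ← index_stabilizer] at h1
    have hle : stabilizer (stabilizer G a) y ≤ D.subgroupOf (stabilizer G a) := by
      intro h hh
      rw [Subgroup.mem_subgroupOf]
      apply hD2
      have h1 : (h : G) • a = a := h.2
      have h2 : (h : G) • (y : X) = y := congrArg Subtype.val (mem_stabilizer_iff.mp hh)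
      exact card_fixedBy_ne_one h1 h2 (SubMulAction.neq_of_mem_ofStabilizer G a).symm
    have h2 := Subgroup.relIndex_mul_index hle
    have h3 : (D.subgroupOf (stabilizer G a)).index = Nat.card X - 1 := by
      have := relIndex_stabilizer_eq_index D a htrans hDt
      rw [Subgroup.relIndex] at this
      rw [this, hidx]
    rw [h1, h3] at h2
    have h4 : (stabilizer (stabilizer G a) y).relIndex (D.subgroupOf (stabilizer G a)) = 1 := by
      have hpos : 0 < Nat.card X - 1 := by omega
      exact Nat.eq_of_mul_eq_mul_right hpos (by rw [h2, one_mul])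
    rw [Subgroup.relIndex_eq_one] at h4
    have hmem : (⟨g, hga⟩ : stabilizer G a) ∈ D.subgroupOf (stabilizer G a) := by
      rw [Subgroup.mem_subgroupOf]; exact hgD
    have := h4 hmem
    have := congrArg Subtype.val (mem_stabilizer_iff.mp this)
    exact this

theorem isPrimePow_of_index [Finite G] [Finite X] [FaithfulSMul G X]
    (htrans : IsPretransitive G X)
    (D : Subgroup G) (hD : ∀ g : G, (∀ ω : X, g • ω ≠ ω) → g ∈ D) (hX : 2 ≤ Nat.card X)
    (hidx : D.index = Nat.card X - 1) : IsPrimePow (Nat.card X) := by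
  classical
  obtain ⟨hDt, hD2⟩ := der_main htrans D hD
  have : Nonempty X := by
    by_contra h
    rw [not_nonempty_iff] at h
    simp [Nat.card_of_isEmpty] at hX
  obtain ⟨a⟩ := this
  have hbot := inf_stabilizer_eq_bot htrans D hD hX hidx a
  -- nonidentity elements of D are derangements
  have hder : ∀ d ∈ D, d ≠ 1 → ∀ ω : X, d • ω ≠ ω := by
    intro d hd hd1 ω hω
    obtain ⟨g, hg⟩ := hDt.exists_smul_eq a ω
    have hga : (g : G) • a = ω := hg
    have : (g : G)⁻¹ * d * g ∈ D ⊓ stabilizer G a := by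
      refine Subgroup.mem_inf.mpr ⟨D.mul_mem (D.mul_mem (D.inv_mem g.2) hd) g.2, ?_⟩
      rw [mem_stabilizer_iff, mul_smul, mul_smul, hga, hω, ← hga, inv_smul_smul]
    rw [hbot, Subgroup.mem_bot] at this
    apply hd1
    have h2 : d = g * ((g : G)⁻¹ * d * g) * (g : G)⁻¹ := by group
    rw [h2, this]; group
  -- card D = card X
  have hcard : Nat.card D = Nat.card X := by
    have h1 : (stabilizer D a).index = Nat.card X := index_stabilizer_of_transitive D a
    have h2 : stabilizer D a = ⊥ := by
      rw [Subgroup.eq_bot_iff_forall]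
      intro g hg
      have : (g : G) ∈ D ⊓ stabilizer G a := Subgroup.mem_inf.mpr ⟨g.2, hg⟩
      rw [hbot, Subgroup.mem_bot] at this
      exact Subtype.ext this
    rw [h2, Subgroup.index_bot] at h1
    exact h1
  -- all nonidentity elements of D have the same order
  have hconj : ∀ d ∈ D, d ≠ 1 → ∀ d' ∈ D, d' ≠ 1 → orderOf d' = orderOf d := by
    intro d hd hd1 d' hd' hd1'
    have hda : d • a ≠ a := hder d hd hd1 a
    have hda' : d' • a ≠ a := hder d' hd' hd1' a
    let y : SubMulAction.ofStabilizer G a := ⟨d • a, (SubMulAction.mem_ofStabilizer_iff G a).mpr hda⟩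
    let y' : SubMulAction.ofStabilizer G a :=
      ⟨d' • a, (SubMulAction.mem_ofStabilizer_iff G a).mpr hda'⟩
    have h1 := stabilizer_transitive_of_index htrans D hD hX hidx a y
    have h2 := SubMulAction.nat_card_ofStabilizer_add_one_eq (G := G) a
    have h3 : orbit (stabilizer G a) y = Set.univ := by
      rw [Set.eq_univ_iff_ncard, ← Nat.card_coe_set_eq, h1]; omega
    have h4 : y' ∈ orbit (stabilizer G a) y := by rw [h3]; trivial
    obtain ⟨h, hh⟩ := h4
    have hh' : (h : G) • (d • a) = d' • a := congrArg Subtype.val hh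
    have hha : (h : G) • a = a := h.2
    have hha' : (h : G)⁻¹ • a = a := by
      rw [inv_smul_eq_iff, hha]
    have hcd : (h : G) * d * (h : G)⁻¹ ∈ D := by
      apply hD
      intro ω hω
      apply hder d hd hd1 ((h : G)⁻¹ • ω)
      rw [mul_smul, mul_smul] at hω
      exact (smul_eq_iff_eq_inv_smul _).mp hω
    have : d'⁻¹ * ((h : G) * d * (h : G)⁻¹) ∈ D ⊓ stabilizer G a := by
      refine Subgroup.mem_inf.mpr ⟨D.mul_mem (D.inv_mem hd') hcd, ?_⟩
      rw [mem_stabilizer_iff, mul_smul, mul_smul, mul_smul, hha', hh', inv_smul_smul]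
    rw [hbot, Subgroup.mem_bot] at this
    have h5 : d' = (h : G) * d * (h : G)⁻¹ := by
      rw [inv_mul_eq_one] at this
      exact this
    rw [h5]
    exact (MulAut.conj (h : G)).orderOf_eq d
  -- pick a prime
  have hD1 : Nat.card D ≠ 1 := by omega
  obtain ⟨p, hp, hpd⟩ := Nat.exists_prime_and_dvd hD1
  have : Fact p.Prime := ⟨hp⟩
  obtain ⟨x, hx⟩ := exists_prime_orderOf_dvd_card' p hpd
  have hx1 : (x : G) ≠ 1 := by
    intro h
    have : x = 1 := Subtype.ext h
    rw [this, orderOf_one] at hx
    exact hp.one_lt.ne hx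
  have hxo : orderOf (x : G) = p := by
    rw [← hx]; exact Subgroup.orderOf_coe x
  have hpg : IsPGroup p D := by
    intro g
    refine ⟨1, ?_⟩
    rw [pow_one]
    by_cases hg : (g : G) = 1
    · have : g = 1 := Subtype.ext hg
      rw [this, one_pow]
    · have := hconj x x.2 hx1 g g.2 hg
      rw [hxo] at this
      apply Subtype.ext
      rw [Subgroup.coe_pow, ← this, pow_orderOf_eq_one]
      rfl
  obtain ⟨k, hk⟩ := IsPGroup.iff_card.mp hpg
  rw [hcard] at hk
  rw [isPrimePow_nat_iff]
  refine ⟨p, k, hp, ?_, hk.symm⟩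
  rcases Nat.eq_zero_or_pos k with h0 | h0
  · rw [h0, pow_zero] at hk; omega
  · exact h0

end PrimePow

end Cfsg.Agent.Helper59
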