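import Cfsg.Agent.Lib.Helper59.Derangement3

set_option autoImplicit false

namespace Cfsg.Agent.Helper59

open MulAction
open scoped Pointwise

section Blocks

variable {G X : Type*} [Group G] [MulAction G X]

/-- A permutation moving all translates of a block is a derangement. -/
theorem der_of_der_blocks (htrans : IsPretransitive G X) (B : Set X) (hB : IsBlock G B)
    (hBne : B.Nonempty) (g : G) (hg : ∀ C : orbit G B, g • C ≠ C) : ∀ ω : X, g • ω ≠ ω := by
  intro ω hω
  obtain ⟨β, hβ⟩ := hBne
  obtain ⟨g', hg'⟩ := htrans.exists_smul_eq β ω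
  have hωB : ω ∈ g' • B := by
    rw [← hg']; exact Set.smul_mem_smul_set hβ
  have h1 : (g * g') • B = g' • B := by
    apply (isBlock_iff_smul_eq_smul_of_nonempty.mp hB)
    refine ⟨ω, ?_, hωB⟩
    rw [mul_smul, ← hω]
    exact Set.smul_mem_smul_set hωB
  apply hg ⟨g' • B, mem_orbit B g'⟩
  apply Subtype.ext
  rw [orbit.coe_smul]
  show g • g' • B = g' • B
  rw [← mul_smul, h1]

theorem index_sq_le_of_block [Finite G] [Finite X] (htrans : IsPretransitive G X)
    (D : Subgroup G) (hD : ∀ g : G, (∀ ω : X, g • ω ≠ ω) → g ∈ D)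
    (B : Set X) (hB : IsBlock G B) (hnt : ¬ IsTrivialBlock B) :
    (D.index + 1) ^ 2 ≤ Nat.card X := by
  have hsub : ¬ B.Subsingleton := fun h => hnt (Or.inl h)
  have huniv : B ≠ Set.univ := fun h => hnt (Or.inr h)
  have hBne : B.Nonempty := by
    by_contra h
    rw [Set.not_nonempty_iff_eq_empty] at h
    exact hsub (h ▸ Set.subsingleton_empty)
  have hb2 : 2 ≤ B.ncard := by
    by_contra h
    have : B.ncard ≤ 1 := by omega
    exact hsub (Set.ncard_le_one_iff_subsingleton.mp this)
  have hmul := hB.ncard_block_mul_ncard_orbit_eq hBne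
  have hlt : B.ncard < Nat.card X := by
    by_contra h
    have : Nat.card X ≤ B.ncard := by omega
    have h2 : B.ncard ≤ Nat.card X := by
      rw [← Set.ncard_univ]; exact Set.ncard_le_ncard (Set.subset_univ _)
    exact huniv ((Set.eq_univ_iff_ncard B).mpr (by omega))
  set b := B.ncard with hb
  set a := (orbit G B).ncard with ha
  have ha2 : 2 ≤ a := by
    by_contra h
    have : a ≤ 1 := by omega
    have : b * a ≤ b * 1 := Nat.mul_le_mul_left b this
    omega
  have hn1 : 1 ≤ Nat.card X := by omega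
  have h1 := index_dvd_card_sub_one htrans D hD hn1
  have hDB : ∀ g : G, (∀ C : orbit G B, g • C ≠ C) → g ∈ D :=
    fun g hg => hD g (der_of_der_blocks htrans B hB hBne g hg)
  have hcardo : Nat.card (orbit G B) = a := Nat.card_coe_set_eq _
  have h2 := index_dvd_card_sub_one (X := orbit G B) inferInstance D hDB (by omega)
  rw [hcardo] at h2
  have h3 : Nat.card X - 1 = b * (a - 1) + (b - 1) := by
    rw [← hmul]
    clear_value a b
    obtain ⟨a', rfl⟩ : ∃ a', a = a' + 1 := ⟨a - 1, by omega⟩
    obtain ⟨b', rfl⟩ : ∃ b', b = b' + 1 := ⟨b - 1, by omega⟩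
    simp only [Nat.add_sub_cancel]
    have : (b' + 1) * (a' + 1) = (b' + 1) * a' + b' + 1 := by ring
    omega
  rw [h3] at h1
  have h4 : D.index ∣ b - 1 := (Nat.dvd_add_right (Dvd.dvd.mul_left h2 b)).mp h1
  have h5 : D.index ≤ a - 1 := Nat.le_of_dvd (by omega) h2
  have h6 : D.index ≤ b - 1 := Nat.le_of_dvd (by omega) h4
  rw [← hmul, sq]
  exact Nat.mul_le_mul (by omega) (by omega)

theorem index_le_sqrt_of_not_preprimitive [Finite G] [Finite X] (htrans : IsPretransitive G X)
    (D : Subgroup G) (hD : ∀ g : G, (∀ ω : X, g • ω ≠ ω) → g ∈ D)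
    (himp : ¬ IsPreprimitive G X) :
    (D.index : ℝ) ≤ Real.sqrt (Nat.card X) - 1 := by
  have : ∃ B : Set X, IsBlock G B ∧ ¬ IsTrivialBlock B := by
    by_contra h
    push Not at h
    exact himp { toIsPretransitive := htrans, isTrivialBlock_of_isBlock := fun {B} hB => h B hB }
  obtain ⟨B, hB, hnt⟩ := this
  have h1 := index_sq_le_of_block htrans D hD B hB hnt
  have h2 : ((D.index : ℝ) + 1) ^ 2 ≤ (Nat.card X : ℝ) := by exact_mod_cast h1
  have h3 := Real.le_sqrt_of_sq_le h2
  linarith

end Blocks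

end Cfsg.Agent.Helper59
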