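import Mathlib
import Cfsg.Agent.Lib.Helper59.AltPres

/-!
# The double cover `2.A_n` via the Clifford algebra of the standard form over `ZMod 3`.
-/

namespace Cfsg.Agent.Helper59.DCA

open CliffordAlgebra

/-- the base field -/
abbrev F3 := ZMod 3

instance inv2 : Invertible (2 : F3) := ⟨2, by decide, by decide⟩

section ring

variable {R : Type*} [Ring R]

theorem cube_aux (x y : R) (hx : x * x = -1) (hy : y * y = -1) (hxy : x * y + y * x = 1) :
    (x * y) ^ 3 = -1 := by
  have hyx : y * x = 1 - x * y := by rw [← hxy]; abel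
  have h2 : (x * y) * (x * y) = x * y - 1 := by
    calc x * y * (x * y) = x * (y * x) * y := by noncomm_ring
      _ = x * (1 - x * y) * y := by rw [hyx]
      _ = x * y - (x * x) * (y * y) := by noncomm_ring
      _ = x * y - 1 := by rw [hx, hy]; noncomm_ring
  calc (x * y) ^ 3 = (x * y) * (x * y) * (x * y) := by noncomm_ring
    _ = (x * y - 1) * (x * y) := by rw [h2]
    _ = (x * y) * (x * y) - x * y := by noncomm_ring
    _ = -1 := by rw [h2]; abel

end ring

variable (k : ℕ)

/-- the quadratic space -/
abbrev V := Fin (k + 1 + 1) → F3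

/-- sum of squares -/
noncomputable def Q : QuadraticForm F3 (V k) :=
  QuadraticMap.weightedSumSquares F3 (fun _ : Fin (k + 1 + 1) => (1 : F3))

theorem Q_apply (x : V k) : Q k x = ∑ i, x i * x i := by
  simp [Q, QuadraticMap.weightedSumSquares_apply]

theorem polar_Q (x y : V k) : QuadraticMap.polar (Q k) x y = 2 * ∑ i, x i * y i := by
  simp only [QuadraticMap.polar, Q_apply, Pi.add_apply]
  rw [← Finset.sum_sub_distrib, ← Finset.sum_sub_distrib, Finset.mul_sum]
  apply Finset.sum_congr rfl
  intro i _
  ring

/-- the root vectors `e_a - e_{a+1}` -/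
def v (a : Fin (k + 1)) : V k := Pi.single a.castSucc 1 - Pi.single a.succ 1

theorem sum_v_mul (a : Fin (k + 1)) (y : V k) :
    ∑ i, v k a i * y i = y a.castSucc - y a.succ := by
  simp [v, sub_mul, Finset.sum_sub_distrib, Pi.single_apply, ite_mul]

theorem v_apply (b : Fin (k + 1)) (j : Fin (k + 1 + 1)) :
    v k b j = if j.val = b.val then 1 else if j.val = b.val + 1 then -1 else 0 := by
  simp only [v, Pi.sub_apply, Pi.single_apply, Fin.ext_iff, Fin.val_castSucc, Fin.val_succ]
  split_ifs <;> first | omega | simp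

theorem Q_v (a : Fin (k + 1)) : Q k (v k a) = -1 := by
  rw [Q_apply, sum_v_mul, v_apply, v_apply]
  simp
  decide

theorem polar_adj (a b : Fin (k + 1)) (hab : b.val = a.val + 1) :
    QuadraticMap.polar (Q k) (v k a) (v k b) = 1 := by
  rw [polar_Q, sum_v_mul, v_apply, v_apply]
  simp only [Fin.val_castSucc, Fin.val_succ]
  rw [if_neg (by omega), if_neg (by omega), if_pos (by omega)]
  decide

theorem polar_far (a b : Fin (k + 1)) (hab : a.val + 2 ≤ b.val) :
    QuadraticMap.polar (Q k) (v k a) (v k b) = 0 := by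
  rw [polar_Q, sum_v_mul, v_apply, v_apply]
  simp only [Fin.val_castSucc, Fin.val_succ]
  rw [if_neg (by omega), if_neg (by omega), if_neg (by omega), if_neg (by omega)]
  simp

/-- the Clifford algebra -/
abbrev Cl := CliffordAlgebra (Q k)

/-- the lifts of the simple reflections -/
noncomputable def t (a : Fin (k + 1)) : Cl k := ι (Q k) (v k a)

theorem t_sq (a : Fin (k + 1)) : t k a * t k a = -1 := by
  unfold t
  rw [ι_sq_scalar, Q_v, map_neg, map_one]

theorem t_adj (a b : Fin (k + 1)) (hab : b.val = a.val + 1) :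
    t k a * t k b + t k b * t k a = 1 := by
  unfold t
  rw [ι_mul_ι_add_swap, polar_adj k a b hab, map_one]

theorem t_far (a b : Fin (k + 1)) (hab : a.val + 2 ≤ b.val) :
    t k a * t k b = -(t k b * t k a) := by
  have h : t k a * t k b + t k b * t k a = 0 := by
    unfold t
    rw [ι_mul_ι_add_swap, polar_far k a b hab, map_zero]
  exact eq_neg_of_add_eq_zero_left h

theorem t_cube (a b : Fin (k + 1)) (hab : b.val = a.val + 1) :
    (t k a * t k b) ^ 3 = -1 :=
  cube_aux _ _ (t_sq k a) (t_sq k b) (t_adj k a b hab)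

theorem ι_injective : Function.Injective (ι (Q k)) := by
  intro x y h
  have h2 := congrArg (equivExterior (Q k)) h
  simp only [equivExterior, changeFormEquiv_apply, changeForm_ι] at h2
  exact (ExteriorAlgebra.ι_inj F3 x y).mp h2

theorem neg_one_ne_one : (-1 : Cl k) ≠ 1 := by
  intro h
  have h1 : algebraMap F3 (Cl k) (-1) = algebraMap F3 (Cl k) 1 := by
    rw [map_neg, map_one, h]
  have := (algebraMap F3 (Cl k)).injective h1
  revert this
  decide

end Cfsg.Agent.Helper59.DCA
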