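import Mathlib
import Cfsg.Agent.Lib.Helper59.DoubleCoverAlt

namespace Cfsg.Agent.Helper59.DCA

open CliffordAlgebra
open scoped commutatorElement

variable (k : ℕ)

/-- unit group of the Clifford algebra -/
abbrev U := (Cl k)ˣ

/-- unit lifts of the reflections -/
noncomputable def T (a : Fin (k + 1)) : U k :=
  ⟨t k a, -t k a, by rw [mul_neg, t_sq, neg_neg], by rw [neg_mul, t_sq, neg_neg]⟩

/-- the central involution -/
noncomputable def z : U k := -1

theorem z_mul_z : z k * z k = 1 := by simp [z]

theorem z_ne_one : z k ≠ 1 := by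
  intro h
  apply neg_one_ne_one k
  have := congrArg Units.val h
  simpa [z] using this

theorem z_comm (g : U k) : g * z k = z k * g := by simp [z]

theorem T_sq (a : Fin (k + 1)) : T k a * T k a = z k := by
  apply Units.ext
  simp only [T, z, Units.val_mul, Units.val_neg, Units.val_one]
  exact t_sq k a

theorem T_far (a b : Fin (k + 1)) (hab : a.val + 2 ≤ b.val) :
    T k a * T k b = z k * (T k b * T k a) := by
  apply Units.ext
  simp only [T, z, Units.val_mul, Units.val_neg, Units.val_one, neg_mul, one_mul]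
  exact t_far k a b hab

theorem T_cube (a b : Fin (k + 1)) (hab : b.val = a.val + 1) :
    (T k a * T k b) ^ 3 = z k := by
  apply Units.ext
  simp only [T, z, Units.val_mul, Units.val_neg, Units.val_one, Units.val_pow_eq_pow_val]
  exact t_cube k a b hab

theorem zpowers_normal_of_central {G : Type*} [Group G] (c : G) (hc : ∀ g, g * c = c * g) :
    (Subgroup.zpowers c).Normal := by
  constructor
  intro n hn g
  have hcen : n ∈ Subgroup.center G :=
    (Subgroup.zpowers_le.mpr (Subgroup.mem_center_iff.mpr hc)) hn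
  rw [Subgroup.mem_center_iff] at hcen
  rw [hcen g, mul_inv_cancel_right]
  exact hn

instance Z_normal : (Subgroup.zpowers (z k)).Normal :=
  zpowers_normal_of_central (z k) (z_comm k)

/-- the quotient by the centre `{±1}` -/
abbrev H := U k ⧸ Subgroup.zpowers (z k)

theorem mk_z : (QuotientGroup.mk (z k) : H k) = 1 :=
  (QuotientGroup.eq_one_iff _).mpr (Subgroup.mem_zpowers _)

/-- images of the reflections in the quotient -/
noncomputable def s (a : ℕ) : H k :=
  if h : a < k + 1 then QuotientGroup.mk (T k ⟨a, h⟩) else 1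

theorem s_of (a : ℕ) (h : a < k + 1) : s k a = QuotientGroup.mk (T k ⟨a, h⟩) := by simp [s, h]

theorem s_h1 : ∀ a, a < k + 1 → s k a * s k a = 1 := by
  intro a ha
  rw [s_of k a ha, ← QuotientGroup.mk_mul, T_sq, mk_z]

theorem s_h2 : ∀ a b, a + 2 ≤ b → b < k + 1 → s k a * s k b = s k b * s k a := by
  intro a b hab hb
  have ha : a < k + 1 := by omega
  rw [s_of k a ha, s_of k b hb, ← QuotientGroup.mk_mul, ← QuotientGroup.mk_mul,
    T_far k ⟨a, ha⟩ ⟨b, hb⟩ hab, QuotientGroup.mk_mul, mk_z, one_mul]

theorem s_h3 : ∀ a, a + 1 < k + 1 → (s k a * s k (a + 1)) ^ 3 = 1 := by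
  intro a ha1
  have ha : a < k + 1 := by omega
  rw [s_of k a ha, s_of k (a + 1) ha1, ← QuotientGroup.mk_mul, ← QuotientGroup.mk_pow,
    T_cube k ⟨a, ha⟩ ⟨a + 1, ha1⟩ rfl, mk_z]

theorem X_rels : ∀ r ∈ AltPres.rels k,
    FreeGroup.lift (fun i : Fin k => AltPres.X (s k) i.val) r = 1 := by
  apply AltPres.rels_lift_eq_one
  · intro hk
    exact AltPres.X_r1 (s k) (k + 1) (s_h3 k) (by omega)
  · intro i hi hik
    exact AltPres.X_r2 (s k) (k + 1) (s_h1 k) (s_h2 k) i hi (by omega)
  · intro i hik
    exact AltPres.X_r3 (s k) (k + 1) (s_h1 k) (s_h2 k) (s_h3 k) i (by omega)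
  · intro i j hij hjk
    exact AltPres.X_r4 (s k) (k + 1) (s_h1 k) (s_h2 k) i j hij (by omega)

/-- the homomorphism from the alternating group (as a presented group) -/
noncomputable def θ : AltPres.CG k →* H k := PresentedGroup.toGroup (X_rels k)

theorem θ_of (i : Fin k) : θ k (PresentedGroup.of i) = AltPres.X (s k) i.val :=
  PresentedGroup.toGroup.of (X_rels k)

end Cfsg.Agent.Helper59.DCA
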