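import Mathlib
import Cfsg.Agent.Lib.Helper59.DoubleCoverAlt
import Cfsg.Agent.Lib.Helper59.DoubleCoverAltB

namespace Cfsg.Agent.Helper59.DCA

open CliffordAlgebra
open scoped commutatorElement

variable (k : ℕ)

/-- the double cover as a fibre product -/
noncomputable def Γ : Subgroup (U k × AltPres.CG k) :=
  MonoidHom.eqLocus
    ((QuotientGroup.mk' (Subgroup.zpowers (z k))).comp (MonoidHom.fst (U k) (AltPres.CG k)))
    ((θ k).comp (MonoidHom.snd (U k) (AltPres.CG k)))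

theorem mem_Γ (p : U k × AltPres.CG k) :
    p ∈ Γ k ↔ (QuotientGroup.mk p.1 : H k) = θ k p.2 := Iff.rfl

/-- the central element -/
noncomputable def zΓ : Γ k := ⟨(z k, 1), by rw [mem_Γ]; simp [mk_z]⟩

/-- projection -/
noncomputable def π : Γ k →* AltPres.CG k :=
  (MonoidHom.snd (U k) (AltPres.CG k)).comp (Γ k).subtype

theorem π_surjective : Function.Surjective (π k) := by
  intro c
  obtain ⟨u, hu⟩ := QuotientGroup.mk_surjective (θ k c)
  exact ⟨⟨(u, c), by rw [mem_Γ]; exact hu⟩, rfl⟩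

theorem zΓ_mul_zΓ : zΓ k * zΓ k = 1 := by
  apply Subtype.ext
  apply Prod.ext
  · exact z_mul_z k
  · exact mul_one 1

theorem zΓ_ne_one : zΓ k ≠ 1 := by
  intro h
  apply z_ne_one k
  exact congrArg (fun g : Γ k => g.1.1) h

theorem zΓ_comm (g : Γ k) : g * zΓ k = zΓ k * g := by
  apply Subtype.ext
  apply Prod.ext
  · exact z_comm k _
  · show g.1.2 * 1 = 1 * g.1.2
    rw [mul_one, one_mul]

theorem zΓ_center : zΓ k ∈ Subgroup.center (Γ k) :=
  Subgroup.mem_center_iff.mpr (zΓ_comm k)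

theorem zΓ_order : orderOf (zΓ k) = 2 :=
  orderOf_eq_prime (by rw [pow_two]; exact zΓ_mul_zΓ k) (zΓ_ne_one k)

theorem ker_π : (π k).ker = Subgroup.zpowers (zΓ k) := by
  ext g
  rw [MonoidHom.mem_ker]
  constructor
  · intro hg
    obtain ⟨⟨u, c⟩, hm⟩ := g
    change c = 1 at hg
    subst hg
    rw [mem_Γ] at hm
    simp only [map_one] at hm
    rw [QuotientGroup.eq_one_iff] at hm
    obtain ⟨i, hi⟩ := Subgroup.mem_zpowers_iff.mp hm
    rw [Subgroup.mem_zpowers_iff]
    refine ⟨i, ?_⟩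
    apply Subtype.ext
    rw [Subgroup.coe_zpow]
    apply Prod.ext
    · simpa [zΓ] using hi
    · simp [zΓ]
  · intro hg
    obtain ⟨i, rfl⟩ := Subgroup.mem_zpowers_iff.mp hg
    rw [map_zpow]
    have : π k (zΓ k) = 1 := rfl
    rw [this, one_zpow]

end Cfsg.Agent.Helper59.DCA
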