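import Mathlib
import Cfsg.Agent.Lib.Helper59.DoubleCoverAltC

namespace Cfsg.Agent.Helper59.DCA

open CliffordAlgebra
open scoped commutatorElement

section grp

variable {G : Type*} [Group G]

theorem comm_sq_aux (x y ζ e : G)
    (hζc : ∀ g, g * ζ = ζ * g) (hec : ∀ g, g * e = e * g)
    (hζ : ζ * ζ = 1) (he : e * e = 1)
    (hx : x * (x * x) = ζ) (hy : y * y = ζ)
    (hxy : x * (y * (x * (y * (x * y)))) = e) :
    ⁅x, y⁆ * ⁅x, y⁆ = ζ := by
  have hxi : x⁻¹ = ζ * (x * x) := by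
    apply inv_eq_of_mul_eq_one_right
    rw [← mul_assoc, hζc x, mul_assoc, hx, hζ]
  have hyi : y⁻¹ = ζ * y := by
    apply inv_eq_of_mul_eq_one_right
    rw [← mul_assoc, hζc y, mul_assoc, hy, hζ]
  have a1 : ∀ h, x * (ζ * h) = ζ * (x * h) := fun h => by rw [← mul_assoc, hζc x, mul_assoc]
  have a2 : ∀ h, y * (ζ * h) = ζ * (y * h) := fun h => by rw [← mul_assoc, hζc y, mul_assoc]
  have a3 : ∀ h, x * (e * h) = e * (x * h) := fun h => by rw [← mul_assoc, hec x, mul_assoc]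
  have a4 : ∀ h, y * (e * h) = e * (y * h) := fun h => by rw [← mul_assoc, hec y, mul_assoc]
  have a5 : ∀ h, e * (ζ * h) = ζ * (e * h) := fun h => by rw [← mul_assoc, hζc e, mul_assoc]
  have b1 : ∀ h, ζ * (ζ * h) = h := fun h => by rw [← mul_assoc, hζ, one_mul]
  have b2 : ∀ h, e * (e * h) = h := fun h => by rw [← mul_assoc, he, one_mul]
  have c1 : ∀ h, x * (x * (x * h)) = ζ * h := fun h => by rw [← hx]; simp only [mul_assoc]
  have c2 : ∀ h, y * (y * h) = ζ * h := fun h => by rw [← hy]; simp only [mul_assoc]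
  have c3 : ∀ h, x * (y * (x * (y * (x * (y * h))))) = e * h := fun h => by
    rw [← hxy]; simp only [mul_assoc]
  -- y x y = e ζ x x y x x
  have hyxy : ∀ h, y * (x * (y * h)) = e * (ζ * (x * (x * (y * (x * (x * h)))))) := by
    intro h
    have : y * (x * y) = e * (ζ * (x * (x * (y * (x * x))))) := by
      apply mul_left_cancel (a := x)
      apply mul_right_cancel (b := x * y)
      simp only [mul_assoc, a1, a2, a3, c1, b1, hxy, hy, hζ, mul_one]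
    calc y * (x * (y * h)) = (y * (x * y)) * h := by simp only [mul_assoc]
      _ = _ := by rw [this]; simp only [mul_assoc]
  rw [commutatorElement_def, hxi, hyi]
  simp only [mul_assoc, a1, a2, b1]
  rw [hyxy]
  simp only [mul_assoc, a1, a2, a3, a4, a5, hζc x, hζc y, hec x, hec y, c1, c2, c3, b1, b2, hxy, hx, hy, hζ, he, mul_one]

end grp


variable (k : ℕ)

/-- lift of the 3-cycle -/
noncomputable def xΓ (hk : 2 ≤ k) : Γ k :=
  ⟨(T k ⟨0, by omega⟩ * T k ⟨1, by omega⟩, AltPres.xg k 0), by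
    rw [mem_Γ]
    show (QuotientGroup.mk (T k ⟨0, _⟩ * T k ⟨1, _⟩) : H k) = θ k (AltPres.xg k 0)
    have h0 : AltPres.xg k 0 = PresentedGroup.of (⟨0, by omega⟩ : Fin k) :=
      AltPres.xg_of k ⟨0, by omega⟩
    rw [h0, θ_of, AltPres.X, s_of k 0 (by omega), s_of k 1 (by omega)]
    rfl⟩

/-- lift of the double transposition -/
noncomputable def yΓ (hk : 2 ≤ k) : Γ k :=
  ⟨(T k ⟨0, by omega⟩ * T k ⟨2, by omega⟩, AltPres.xg k 1), by
    rw [mem_Γ]
    show (QuotientGroup.mk (T k ⟨0, _⟩ * T k ⟨2, _⟩) : H k) = θ k (AltPres.xg k 1)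
    have h1 : AltPres.xg k 1 = PresentedGroup.of (⟨1, by omega⟩ : Fin k) :=
      AltPres.xg_of k ⟨1, by omega⟩
    rw [h1, θ_of, AltPres.X, s_of k 0 (by omega), s_of k 2 (by omega)]
    rfl⟩

theorem xΓ_cube (hk : 2 ≤ k) : xΓ k hk * (xΓ k hk * xΓ k hk) = zΓ k := by
  apply Subtype.ext
  apply Prod.ext
  · show T k ⟨0, _⟩ * T k ⟨1, _⟩ * (T k ⟨0, _⟩ * T k ⟨1, _⟩ * (T k ⟨0, _⟩ * T k ⟨1, _⟩)) = z k
    have h := T_cube k ⟨0, by omega⟩ ⟨1, by omega⟩ rfl
    rw [pow_succ, pow_two] at h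
    rw [← h]
    simp only [mul_assoc]
  · show AltPres.xg k 0 * (AltPres.xg k 0 * AltPres.xg k 0) = 1
    have h := AltPres.xg_r1' k
    rw [pow_succ, pow_two, mul_assoc] at h
    exact h

theorem yΓ_sq (hk : 2 ≤ k) : yΓ k hk * yΓ k hk = zΓ k := by
  apply Subtype.ext
  apply Prod.ext
  · show T k ⟨0, _⟩ * T k ⟨2, _⟩ * (T k ⟨0, _⟩ * T k ⟨2, _⟩) = z k
    have h1 := T_far k ⟨0, by omega⟩ ⟨2, by omega⟩ (by simp)
    have h2 := T_sq k ⟨0, by omega⟩
    have h3 := T_sq k ⟨2, by omega⟩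
    calc T k ⟨0, _⟩ * T k ⟨2, _⟩ * (T k ⟨0, _⟩ * T k ⟨2, _⟩)
        = z k * (T k ⟨2, by omega⟩ * T k ⟨0, by omega⟩) * (T k ⟨0, by omega⟩ * T k ⟨2, by omega⟩) := by
          rw [h1]
      _ = z k * (T k ⟨2, by omega⟩ * (T k ⟨0, by omega⟩ * T k ⟨0, by omega⟩) * T k ⟨2, by omega⟩) := by
          simp only [mul_assoc]
      _ = z k := by
          rw [h2, z_comm k (T k ⟨2, by omega⟩), mul_assoc, h3, z_mul_z, mul_one]
  · show AltPres.xg k 1 * AltPres.xg k 1 = 1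
    exact AltPres.xg_r2 k 1 le_rfl (by omega)

theorem xy_mem (hk : 2 ≤ k) :
    xΓ k hk * (yΓ k hk * (xΓ k hk * (yΓ k hk * (xΓ k hk * yΓ k hk)))) ∈ Subgroup.zpowers (zΓ k) := by
  rw [← ker_π, MonoidHom.mem_ker]
  show AltPres.xg k 0 * (AltPres.xg k 1 * (AltPres.xg k 0 * (AltPres.xg k 1 *
    (AltPres.xg k 0 * AltPres.xg k 1)))) = 1
  rw [← AltPres.xg_r3 k 0 (by omega), pow_succ, pow_two]
  simp only [mul_assoc]

theorem zΓ_mem_commutator (hk : 2 ≤ k) : zΓ k ∈ commutator (Γ k) := by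
  have hmem := xy_mem k hk
  have hcen : xΓ k hk * (yΓ k hk * (xΓ k hk * (yΓ k hk * (xΓ k hk * yΓ k hk)))) ∈
      Subgroup.center (Γ k) := (Subgroup.zpowers_le.mpr (zΓ_center k)) hmem
  obtain ⟨i, hi⟩ := Subgroup.mem_zpowers_iff.mp hmem
  have hee : xΓ k hk * (yΓ k hk * (xΓ k hk * (yΓ k hk * (xΓ k hk * yΓ k hk)))) *
      (xΓ k hk * (yΓ k hk * (xΓ k hk * (yΓ k hk * (xΓ k hk * yΓ k hk))))) = 1 := by
    rw [← hi, ← zpow_add, ← two_mul, zpow_mul, zpow_two, zΓ_mul_zΓ, one_zpow]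
  have key := comm_sq_aux (xΓ k hk) (yΓ k hk) (zΓ k) _ (zΓ_comm k)
    (Subgroup.mem_center_iff.mp hcen) (zΓ_mul_zΓ k) hee (xΓ_cube k hk) (yΓ_sq k hk) rfl
  rw [← key, commutator_def]
  exact mul_mem (Subgroup.commutator_mem_commutator (Subgroup.mem_top _) (Subgroup.mem_top _))
    (Subgroup.commutator_mem_commutator (Subgroup.mem_top _) (Subgroup.mem_top _))

theorem exists_double_cover (hk : 2 ≤ k) :
    ∃ (Γ' : Type) (_ : Group Γ') (_ : Finite Γ') (z' : Γ') (hz : z' ∈ Subgroup.center Γ'),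
      orderOf z' = 2 ∧ z' ∈ commutator Γ' ∧ ∃ _ : (Subgroup.zpowers z').Normal,
        Nonempty (Γ' ⧸ Subgroup.zpowers z' ≃* alternatingGroup (Fin (k + 1 + 1))) := by
  obtain ⟨cs, hcs⟩ := Cfsg.Agent.S2530.result (k + 1)
  obtain ⟨eA⟩ := AltPres.nonempty_equiv k cs hcs
  have hN : (Subgroup.zpowers (zΓ k)).Normal := zpowers_normal_of_central _ (zΓ_comm k)
  have e1 : Γ k ⧸ Subgroup.zpowers (zΓ k) ≃* alternatingGroup (Fin (k + 1 + 1)) :=
    ((QuotientGroup.quotientMulEquivOfEq (ker_π k).symm).trans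
      (QuotientGroup.quotientKerEquivOfSurjective (π k) (π_surjective k))).trans eA
  have hfin : Finite (Γ k) := by
    have : Finite (Γ k ⧸ Subgroup.zpowers (zΓ k)) := Finite.of_equiv _ e1.symm.toEquiv
    have : Finite (Subgroup.zpowers (zΓ k)) := by
      apply Nat.finite_of_card_ne_zero
      rw [Nat.card_zpowers, zΓ_order]
      norm_num
    exact Finite.of_equiv _ (Subgroup.groupEquivQuotientProdSubgroup (s := Subgroup.zpowers (zΓ k))).symm
  exact ⟨Γ k, inferInstance, hfin, zΓ k, zΓ_center k, zΓ_order k, zΓ_mem_commutator k hk, hN, ⟨e1⟩⟩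

end Cfsg.Agent.Helper59.DCA
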