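import Mathlib
import Cfsg.Prelude.Def_SporadicB
import Cfsg.Agent.Lib.Helper59.DoubleCoverAltD

namespace Cfsg.Agent.Helper59.DCA

open scoped commutatorElement

variable (k : ℕ)

/-- a chosen Coxeter system on the symmetric group -/
noncomputable def csN : CoxeterSystem (CoxeterMatrix.A (k + 1)) (Equiv.Perm (Fin (k + 1 + 1))) :=
  (Cfsg.Agent.S2530.result (k + 1)).choose

theorem csN_spec : ∀ i : Fin (k + 1), (csN k).simple i = Equiv.swap i.castSucc i.succ :=
  (Cfsg.Agent.S2530.result (k + 1)).choose_spec

/-- the presented group is the alternating group -/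
noncomputable def eA : AltPres.CG k ≃* alternatingGroup (Fin (k + 1 + 1)) :=
  MulEquiv.ofBijective (AltPres.phi k (csN k) (csN_spec k))
    (AltPres.phi_bijective k (csN k) (csN_spec k))

instance zΓ_normal : (Subgroup.zpowers (zΓ k)).Normal :=
  zpowers_normal_of_central _ (zΓ_comm k)

/-- the quotient of the cover is the alternating group -/
noncomputable def quotEquiv :
    Γ k ⧸ Subgroup.zpowers (zΓ k) ≃* alternatingGroup (Fin (k + 1 + 1)) :=
  ((QuotientGroup.quotientMulEquivOfEq (ker_π k).symm).trans
    (QuotientGroup.quotientKerEquivOfSurjective (π k) (π_surjective k))).trans (eA k)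

theorem Γ_finite : Finite (Γ k) := by
  have : Finite (Γ k ⧸ Subgroup.zpowers (zΓ k)) := Finite.of_equiv _ (quotEquiv k).symm.toEquiv
  have : Finite (Subgroup.zpowers (zΓ k)) := by
    apply Nat.finite_of_card_ne_zero
    rw [Nat.card_zpowers, zΓ_order]
    norm_num
  exact Finite.of_equiv _
    (Subgroup.groupEquivQuotientProdSubgroup (s := Subgroup.zpowers (zΓ k))).symm

theorem center_Γ (hk : 2 ≤ k) : Subgroup.center (Γ k) = Subgroup.zpowers (zΓ k) := by
  apply le_antisymm
  · intro c hc
    have h1 : quotEquiv k (QuotientGroup.mk c) ∈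
        Subgroup.center (alternatingGroup (Fin (k + 1 + 1))) := by
      rw [Subgroup.mem_center_iff]
      intro g
      obtain ⟨q, rfl⟩ := (quotEquiv k).surjective g
      obtain ⟨g', rfl⟩ := QuotientGroup.mk_surjective q
      rw [← map_mul, ← map_mul, ← QuotientGroup.mk_mul, ← QuotientGroup.mk_mul,
        Subgroup.mem_center_iff.mp hc g']
    rw [alternatingGroup.center_eq_bot (by simp; omega), Subgroup.mem_bot] at h1
    have h2 : (QuotientGroup.mk c : Γ k ⧸ Subgroup.zpowers (zΓ k)) = 1 :=
      (quotEquiv k).injective (by rw [h1, map_one])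
    exact (QuotientGroup.eq_one_iff c).mp h2
  · exact Subgroup.zpowers_le.mpr (zΓ_center k)

theorem no_complement (hk : 2 ≤ k) (L : Subgroup (Γ k)) :
    ¬ (Subgroup.center (Γ k)).IsComplement' L := by
  intro hL
  have hidx : L.index = 2 := by
    rw [hL.index_eq_card, center_Γ k hk, Nat.card_zpowers, zΓ_order]
  have : L.Normal := Subgroup.normal_of_index_eq_two hidx
  have hle : commutator (Γ k) ≤ L :=
    Subgroup.Normal.commutator_le_of_self_sup_commutative_eq_top
      (H := Subgroup.center (Γ k)) (by rw [sup_comm]; exact hL.sup_eq_top) inferInstance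
  have h1 : zΓ k ∈ L := hle (zΓ_mem_commutator k hk)
  have h2 := hL.disjoint
  rw [Subgroup.disjoint_def] at h2
  exact zΓ_ne_one k (h2 (zΓ_center k) h1)

theorem nonsplit (hk : 2 ≤ k) :
    Cfsg.IsNonsplitDoubleCover (Γ k) (alternatingGroup (Fin (k + 1 + 1))) := by
  refine ⟨?_, ?_, no_complement k hk⟩
  · rw [center_Γ k hk, Nat.card_zpowers, zΓ_order]
  · have : (Subgroup.center (Γ k)).Normal := inferInstance
    exact ⟨(QuotientGroup.quotientMulEquivOfEq (center_Γ k hk)).trans (quotEquiv k)⟩

end Cfsg.Agent.Helper59.DCA
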