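import Mathlib
import Cfsg.Prelude.Def_SporadicB
import Cfsg.Agent.Lib.Helper59.DoubleCoverAltE

namespace Cfsg.Agent.Helper59.DCA

open scoped commutatorElement

section grp

variable {G : Type*} [Group G]

set_option linter.unusedSimpArgs false in
theorem anticomm4 (a b c d ζ : G) (hζc : ∀ g, g * ζ = ζ * g) (hζ : ζ * ζ = 1)
    (ha : a * a = ζ) (hb : b * b = ζ) (hc : c * c = ζ) (hd : d * d = ζ)
    (hab : a * b = ζ * (b * a)) (hac : a * c = ζ * (c * a)) (had : a * d = ζ * (d * a))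
    (hbc : b * c = ζ * (c * b)) (hbd : b * d = ζ * (d * b)) (hcd : c * d = ζ * (d * c)) :
    a * b * (a * c) * (a * d) * (a * b * (a * c) * (a * d)) = 1 := by
  have z1 : ∀ x h, x * (ζ * h) = ζ * (x * h) := fun x h => by rw [← mul_assoc, hζc x, mul_assoc]
  have z2 : ∀ h, ζ * (ζ * h) = h := fun h => by rw [← mul_assoc, hζ, one_mul]
  have sa : ∀ h, a * (a * h) = ζ * h := fun h => by rw [← mul_assoc, ha]
  have sb : ∀ h, b * (b * h) = ζ * h := fun h => by rw [← mul_assoc, hb]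
  have sc : ∀ h, c * (c * h) = ζ * h := fun h => by rw [← mul_assoc, hc]
  have sd : ∀ h, d * (d * h) = ζ * h := fun h => by rw [← mul_assoc, hd]
  have rab : ∀ h, a * (b * h) = ζ * (b * (a * h)) := fun h => by
    rw [← mul_assoc, hab]; simp only [mul_assoc]
  have rac : ∀ h, a * (c * h) = ζ * (c * (a * h)) := fun h => by
    rw [← mul_assoc, hac]; simp only [mul_assoc]
  have rad : ∀ h, a * (d * h) = ζ * (d * (a * h)) := fun h => by
    rw [← mul_assoc, had]; simp only [mul_assoc]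
  have rbc : ∀ h, b * (c * h) = ζ * (c * (b * h)) := fun h => by
    rw [← mul_assoc, hbc]; simp only [mul_assoc]
  have rbd : ∀ h, b * (d * h) = ζ * (d * (b * h)) := fun h => by
    rw [← mul_assoc, hbd]; simp only [mul_assoc]
  have rcd : ∀ h, c * (d * h) = ζ * (d * (c * h)) := fun h => by
    rw [← mul_assoc, hcd]; simp only [mul_assoc]
  simp only [mul_assoc, z1, z2, sa, sb, sc, sd, rab, rac, rad, rbc, rbd, rcd,
    hab, hac, had, hbc, hbd, hcd, ha, hb, hc, hd, hζ, hζc a, hζc b, hζc c, hζc d, mul_one]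

theorem invol3 (x y w : G) (hx : x * x = 1) (hy : y * y = 1) (hw : w * w = 1)
    (hxy : (x * y) ^ 2 = 1) (hxw : (x * w) ^ 2 = 1) (hyw : (y * w) ^ 2 = 1) :
    x * y * w * (x * y * w) = 1 := by
  have cxy := AltPres.comm_of_sq' hx hy hxy
  have cxw := AltPres.comm_of_sq' hx hw hxw
  have cyw := AltPres.comm_of_sq' hy hw hyw
  calc x * y * w * (x * y * w) = x * y * (w * x) * y * w := by group
    _ = x * y * (x * w) * y * w := by rw [cxw]
    _ = x * (y * x) * (w * y) * w := by group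
    _ = x * (x * y) * (y * w) * w := by rw [cxy, cyw]
    _ = (x * x) * (y * y) * (w * w) := by group
    _ = 1 := by rw [hx, hy, hw]; group

end grp

variable (k : ℕ)

/-- generic lifted generator -/
noncomputable def gΓ (i : ℕ) (hi : i < k) : Γ k :=
  ⟨(T k ⟨0, by omega⟩ * T k ⟨i + 1, by omega⟩, AltPres.xg k i), by
    rw [mem_Γ]
    show (QuotientGroup.mk (T k ⟨0, _⟩ * T k ⟨i + 1, _⟩) : H k) = θ k (AltPres.xg k i)
    have h0 : AltPres.xg k i = PresentedGroup.of (⟨i, hi⟩ : Fin k) := AltPres.xg_of k ⟨i, hi⟩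
    rw [h0, θ_of, AltPres.X, s_of k 0 (by omega), s_of k (i + 1) (by omega)]
    rfl⟩

/-- second involution -/
noncomputable def wΓ (hk : 6 ≤ k) : Γ k :=
  gΓ k 1 (by omega) * gΓ k 3 (by omega) * gΓ k 5 (by omega)

theorem T_far' (a b : Fin (k + 1)) (hab : a.val + 2 ≤ b.val) :
    T k a * T k b = z k * (T k b * T k a) := T_far k a b hab

theorem wΓ_sq (hk : 6 ≤ k) : wΓ k hk * wΓ k hk = 1 := by
  apply Subtype.ext
  apply Prod.ext
  · exact anticomm4 (T k ⟨0, by omega⟩) (T k ⟨2, by omega⟩) (T k ⟨4, by omega⟩)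
      (T k ⟨6, by omega⟩) (z k) (z_comm k) (z_mul_z k) (T_sq k _) (T_sq k _) (T_sq k _) (T_sq k _)
      (T_far k _ _ (by simp)) (T_far k _ _ (by simp)) (T_far k _ _ (by simp))
      (T_far k _ _ (by simp)) (T_far k _ _ (by simp)) (T_far k _ _ (by simp))
  · exact invol3 (AltPres.xg k 1) (AltPres.xg k 3) (AltPres.xg k 5)
      (AltPres.xg_r2 k 1 (by omega) (by omega)) (AltPres.xg_r2 k 3 (by omega) (by omega))
      (AltPres.xg_r2 k 5 (by omega) (by omega))
      (AltPres.xg_r4 k 1 3 (by omega) (by omega)) (AltPres.xg_r4 k 1 5 (by omega) (by omega))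
      (AltPres.xg_r4 k 3 5 (by omega) (by omega))



theorem phi0_xg (i : ℕ) (hi : i < k) :
    AltPres.phi0 k (csN k) (AltPres.xg k i) =
      Equiv.swap (⟨0, by omega⟩ : Fin (k + 1 + 1)) ⟨1, by omega⟩ *
        Equiv.swap ⟨i + 1, by omega⟩ ⟨i + 1 + 1, by omega⟩ := by
  have h0 : AltPres.xg k i = PresentedGroup.of (⟨i, hi⟩ : Fin k) := AltPres.xg_of k ⟨i, hi⟩
  rw [h0, AltPres.phi0_of, AltPres.X, AltPres.sN_of k _ 0 (by omega),
    AltPres.sN_of k _ (i + 1) (by omega), csN_spec, csN_spec]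
  rfl

theorem c_ne_one : AltPres.xg 6 1 * AltPres.xg 6 3 * AltPres.xg 6 5 ≠ 1 := by
  intro h
  have h1 := congrArg (AltPres.phi0 6 (csN 6)) h
  rw [map_mul, map_mul, map_one, phi0_xg 6 1 (by omega), phi0_xg 6 3 (by omega),
    phi0_xg 6 5 (by omega)] at h1
  have h2 := DFunLike.congr_fun h1 (⟨2, by omega⟩ : Fin 8)
  revert h2
  decide

theorem wΓ_ne_one : wΓ 6 le_rfl ≠ 1 := by
  intro h
  apply c_ne_one
  exact congrArg (fun g : Γ 6 => g.1.2) h

theorem wΓ_ne_zΓ : wΓ 6 le_rfl ≠ zΓ 6 := by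
  intro h
  apply c_ne_one
  exact congrArg (fun g : Γ 6 => g.1.2) h

theorem wΓ_order : orderOf (wΓ 6 le_rfl) = 2 :=
  orderOf_eq_prime (by rw [pow_two]; exact wΓ_sq 6 le_rfl) wΓ_ne_one

theorem part2 : ∃ (H : Type) (_ : Group H) (_ : Finite H),
    Cfsg.IsNonsplitDoubleCover H (alternatingGroup (Fin 8)) ∧
      ∃ x y : H, x ≠ y ∧ orderOf x = 2 ∧ orderOf y = 2 :=
  ⟨Γ 6, inferInstance, Γ_finite 6, nonsplit 6 (by omega), wΓ 6 le_rfl, zΓ 6, wΓ_ne_zΓ,
    wΓ_order, zΓ_order 6⟩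

end Cfsg.Agent.Helper59.DCA
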