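import Mathlib
import Cfsg.Agent.Lib.Helper89.OutES.AutHeis2
import Cfsg.Agent.Lib.Helper89.ExtraCrit

set_option autoImplicit false
set_option linter.unusedSectionVars false

namespace Cfsg.Agent.Helper59.ESExt

open Cfsg.Agent.Helper89

/-- sign character `ZMod 2 → ZMod 3` -/
def sg (a : ZMod 2) : ZMod 3 := if a = 0 then 1 else -1

theorem sg_zero : sg 0 = 1 := by decide
theorem sg_one : sg 1 = -1 := by decide
theorem sg_add (a b : ZMod 2) : sg (a + b) = sg a * sg b := by revert a b; decide
theorem sg_mul_self (a : ZMod 2) : sg a * sg a = 1 := by revert a; decide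
theorem sg_ne_zero (a : ZMod 2) : sg a ≠ 0 := by revert a; decide
theorem sg_inj {a b : ZMod 2} (h : sg a = sg b) : a = b := by revert a b; decide

variable {ι : Type} [Fintype ι] [DecidableEq ι]

theorem vadd_self (v : ι → ZMod 2) : v + v = 0 := by
  funext i; exact CharTwo.add_self_eq_zero (v i)

theorem vadd_cancel (v w : ι → ZMod 2) : v + w + w = v := by
  rw [add_assoc, vadd_self, add_zero]

/-- the twisted group algebra of `(ι → ZMod 2)` over `ZMod 3` with cocycle `(-1)^(bform M)` -/
@[ext]
structure TGA (M : Matrix ι ι (ZMod 2)) where
  /-- coefficients -/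
  c : (ι → ZMod 2) → ZMod 3

namespace TGA

variable {M : Matrix ι ι (ZMod 2)}

/-- underlying function -/
def equivFun : TGA M ≃ ((ι → ZMod 2) → ZMod 3) where
  toFun x := x.c
  invFun f := ⟨f⟩
  left_inv _ := rfl
  right_inv _ := rfl

instance : AddCommGroup (TGA M) := equivFun.addCommGroup

instance : Mul (TGA M) :=
  ⟨fun x y => ⟨fun w => ∑ u, x.c u * y.c (w + u) * sg (bform M u (w + u))⟩⟩

instance : One (TGA M) := ⟨⟨Pi.single 0 1⟩⟩

@[simp] theorem add_c (x y : TGA M) : (x + y).c = x.c + y.c := rfl
@[simp] theorem zero_c : (0 : TGA M).c = 0 := rfl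
@[simp] theorem neg_c (x : TGA M) : (-x).c = -x.c := rfl
@[simp] theorem sub_c (x y : TGA M) : (x - y).c = x.c - y.c := rfl
theorem mul_c (x y : TGA M) (w : ι → ZMod 2) :
    (x * y).c w = ∑ u, x.c u * y.c (w + u) * sg (bform M u (w + u)) := rfl
theorem one_c : (1 : TGA M).c = Pi.single 0 1 := rfl

theorem sign_id (a b w : ι → ZMod 2) :
    sg (bform M b a) * sg (bform M (a + b) (w + b + a)) =
      sg (bform M a (w + b + a)) * sg (bform M b (w + b)) := by
  rw [← sg_add, ← sg_add]
  congr 1
  simp only [bform_add_left, bform_add_right]
  have h2 := zmod2_add_self (bform M b a)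
  linear_combination h2

instance : Ring (TGA M) :=
  { (inferInstance : AddCommGroup (TGA M)) with
    mul := (· * ·)
    one := 1
    left_distrib := by
      intro x y z
      apply TGA.ext; funext w
      simp only [mul_c, add_c, Pi.add_apply]
      rw [← Finset.sum_add_distrib]
      apply Finset.sum_congr rfl; intro u _
      ring
    right_distrib := by
      intro x y z
      apply TGA.ext; funext w
      simp only [mul_c, add_c, Pi.add_apply]
      rw [← Finset.sum_add_distrib]
      apply Finset.sum_congr rfl; intro u _
      ring
    zero_mul := by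
      intro x
      apply TGA.ext; funext w
      simp [mul_c]
    mul_zero := by
      intro x
      apply TGA.ext; funext w
      simp [mul_c]
    mul_assoc := by
      intro x y z
      apply TGA.ext; funext w
      simp only [mul_c]
      simp only [Finset.sum_mul, Finset.mul_sum]
      rw [Finset.sum_comm]
      apply Finset.sum_congr rfl; intro b _
      rw [← Equiv.sum_comp (Equiv.addRight b)]
      apply Finset.sum_congr rfl; intro a _
      simp only [Equiv.coe_addRight]
      have e1 : w + (a + b) = w + b + a := by abel
      rw [vadd_cancel, e1]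
      have hs := sign_id (M := M) a b w
      linear_combination (x.c b * y.c a * z.c (w + b + a)) * hs
    one_mul := by
      intro x
      apply TGA.ext; funext w
      rw [mul_c, one_c]
      rw [Finset.sum_eq_single 0]
      · simp [sg_zero]
      · intro u _ hu
        simp [Pi.single_apply, hu]
      · intro h; exact absurd (Finset.mem_univ _) h
    mul_one := by
      intro x
      apply TGA.ext; funext w
      rw [mul_c, one_c]
      rw [Finset.sum_eq_single w]
      · simp [vadd_self, sg_zero]
      · intro u _ hu
        have : w + u ≠ 0 := by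
          intro h
          apply hu
          calc u = w + u + w := by rw [add_comm w u, vadd_cancel]
            _ = w := by rw [h, zero_add]
        simp [Pi.single_apply, this]
      · intro h; exact absurd (Finset.mem_univ _) h }

end TGA

end Cfsg.Agent.Helper59.ESExt
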