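import Mathlib
import Cfsg.Agent.Lib.Helper59.ESExtA

set_option autoImplicit false
set_option linter.unusedSectionVars false

namespace Cfsg.Agent.Helper59.ESExt

open Cfsg.Agent.Helper89

variable {ι : Type} [Fintype ι] [DecidableEq ι] {M : Matrix ι ι (ZMod 2)}

namespace TGA

/-- signed basis element -/
def se (a : ZMod 2) (u : ι → ZMod 2) : TGA M := ⟨Pi.single u (sg a)⟩

theorem se_c (a : ZMod 2) (u w : ι → ZMod 2) :
    (se a u : TGA M).c w = if w = u then sg a else 0 := by
  simp only [se, Pi.single_apply]

theorem se_mul_c (a : ZMod 2) (u : ι → ZMod 2) (x : TGA M) (w : ι → ZMod 2) :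
    (se a u * x).c w = sg a * x.c (w + u) * sg (bform M u (w + u)) := by
  rw [mul_c, Finset.sum_eq_single u]
  · rw [se_c, if_pos rfl]
  · intro b _ hb
    rw [se_c, if_neg hb, zero_mul, zero_mul]
  · intro h; exact absurd (Finset.mem_univ _) h

theorem mul_se_c (a : ZMod 2) (u : ι → ZMod 2) (x : TGA M) (w : ι → ZMod 2) :
    (x * se a u).c w = x.c (w + u) * sg a * sg (bform M (w + u) u) := by
  rw [mul_c, Finset.sum_eq_single (w + u)]
  · have : w + (w + u) = u := by
      rw [← add_assoc, vadd_self, zero_add]
    rw [this, se_c, if_pos rfl]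
  · intro b _ hb
    have : w + b ≠ u := by
      intro h
      apply hb
      rw [← h, ← add_assoc, vadd_self, zero_add]
    rw [se_c, if_neg this, mul_zero, zero_mul]
  · intro h; exact absurd (Finset.mem_univ _) h

theorem se_mul_se (a b : ZMod 2) (u v : ι → ZMod 2) :
    (se a u * se b v : TGA M) = se (a + b + bform M u v) (u + v) := by
  apply TGA.ext; funext w
  rw [se_mul_c, se_c, se_c]
  by_cases h : w = u + v
  · subst h
    have : u + v + u = v := by rw [add_comm u v, vadd_cancel]
    rw [if_pos this, if_pos rfl, this, sg_add, sg_add]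
  · have : w + u ≠ v := by
      intro h'
      apply h
      rw [← h', add_comm u, vadd_cancel]
    rw [if_neg this, if_neg h, mul_zero, zero_mul]

theorem se_zero_zero : (se 0 0 : TGA M) = 1 := by
  apply TGA.ext; funext w
  rw [se_c, one_c, Pi.single_apply, sg_zero]

/-- the Heisenberg group inside the algebra -/
def psi0 : Heis M →* TGA M where
  toFun x := se x.a x.v
  map_one' := se_zero_zero
  map_mul' x y := by
    rw [se_mul_se]
    rfl

/-- the Heisenberg group inside the unit group -/
def Psi : Heis M →* (TGA M)ˣ := psi0.toHomUnits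

theorem Psi_val (x : Heis M) : ((Psi x : (TGA M)ˣ) : TGA M) = se x.a x.v := rfl

theorem Psi_injective : Function.Injective (Psi : Heis M → (TGA M)ˣ) := by
  intro x y h
  have h1 : (se x.a x.v : TGA M) = se y.a y.v := congrArg Units.val h
  have h2 := congrArg (fun t : TGA M => t.c x.v) h1
  simp only [se_c, if_pos rfl] at h2
  by_cases hv : x.v = y.v
  · rw [if_pos hv] at h2
    exact Heis.ext (sg_inj h2) hv
  · rw [if_neg hv] at h2
    exact absurd h2 (sg_ne_zero _)

theorem Psi_cc : (Psi (Heis.cc : Heis M) : (TGA M)ˣ) = -1 := by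
  apply Units.ext
  rw [Psi_val]
  apply TGA.ext; funext w
  simp only [Heis.cc_a, Heis.cc_v, se_c, Units.val_neg, Units.val_one, neg_c, one_c, Pi.neg_apply,
    Pi.single_apply, sg_one]
  split_ifs <;> simp

theorem Psi_cen_central (a : ZMod 2) (g : (TGA M)ˣ) :
    g * Psi (Heis.cen a) = Psi (Heis.cen a) * g := by
  rcases Heis.cen_cases (M := M) a with h | h
  · rw [h, map_one, mul_one, one_mul]
  · rw [h, Psi_cc]
    simp

end TGA

end Cfsg.Agent.Helper59.ESExt
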