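import Mathlib
import Cfsg.Agent.Lib.Helper59.ESExtB

set_option autoImplicit false
set_option linter.unusedSectionVars false

namespace Cfsg.Agent.Helper59.ESExt

open Cfsg.Agent.Helper89 Matrix

variable {ι : Type} [Fintype ι] [DecidableEq ι] {M : Matrix ι ι (ZMod 2)}

namespace TGA

theorem Psi_mk (a : ZMod 2) (v : ι → ZMod 2) :
    (Psi ⟨a, v⟩ : (TGA M)ˣ) = Psi (Heis.cen a) * Psi (Heis.lift v) := by
  rw [← map_mul, Heis.cen_mul]
  congr 1
  apply Heis.ext <;> simp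

theorem cen_mul_cen (a : ZMod 2) : (Heis.cen a : Heis M) * Heis.cen a = 1 := by
  apply Heis.ext
  · simp only [Heis.mul_a, Heis.cen_a, Heis.cen_v, bform_zero_left, Heis.one_a]
    have := zmod2_add_self a
    linear_combination this
  · simp

theorem cen_add (a b : ZMod 2) : (Heis.cen (a + b) : Heis M) = Heis.cen a * Heis.cen b := by
  apply Heis.ext <;> simp

variable {K : Type*} [Group K] (Act : K →* Matrix ι ι (ZMod 2))

/-- `g` induces `k` -/
def Rel (g : (TGA M)ˣ) (k : K) : Prop :=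
  ∀ u : ι → ZMod 2, ∃ a : ZMod 2,
    g * Psi (Heis.lift u) = Psi (⟨a, Act k *ᵥ u⟩ : Heis M) * g

theorem rel_one : Rel (M := M) Act 1 1 := by
  intro u
  refine ⟨0, ?_⟩
  rw [map_one, one_mulVec, one_mul, mul_one]
  rfl

theorem rel_mul {g g' : (TGA M)ˣ} {k k' : K} (h : Rel Act g k) (h' : Rel Act g' k') :
    Rel Act (g * g') (k * k') := by
  intro u
  obtain ⟨a', ha'⟩ := h' u
  obtain ⟨a, ha⟩ := h (Act k' *ᵥ u)
  refine ⟨a' + a, ?_⟩
  rw [map_mul, ← mulVec_mulVec]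
  calc g * g' * Psi (Heis.lift u) = g * (g' * Psi (Heis.lift u)) := by rw [mul_assoc]
    _ = g * (Psi ⟨a', Act k' *ᵥ u⟩ * g') := by rw [ha']
    _ = g * (Psi (Heis.cen a') * Psi (Heis.lift (Act k' *ᵥ u)) * g') := by rw [Psi_mk a']
    _ = Psi (Heis.cen a') * (g * Psi (Heis.lift (Act k' *ᵥ u))) * g' := by
        rw [← mul_assoc, ← mul_assoc, Psi_cen_central a' g]
        simp only [mul_assoc]
    _ = Psi (Heis.cen a') * (Psi ⟨a, Act k *ᵥ (Act k' *ᵥ u)⟩ * g) * g' := by rw [ha]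
    _ = Psi ⟨a' + a, Act k *ᵥ (Act k' *ᵥ u)⟩ * (g * g') := by
        rw [Psi_mk a (Act k *ᵥ (Act k' *ᵥ u)), Psi_mk (a' + a), cen_add, map_mul]
        simp only [mul_assoc]

theorem rel_inv {g : (TGA M)ˣ} {k : K} (h : Rel Act g k) : Rel Act g⁻¹ k⁻¹ := by
  intro u
  obtain ⟨a, ha⟩ := h (Act k⁻¹ *ᵥ u)
  refine ⟨a, ?_⟩
  have hk : Act k *ᵥ (Act k⁻¹ *ᵥ u) = u := by
    rw [mulVec_mulVec, ← map_mul, mul_inv_cancel, map_one, one_mulVec]
  rw [hk, Psi_mk a u] at ha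
  -- ha : g * E u' = cen a * E u * g
  have h1 : Psi (Heis.lift (Act k⁻¹ *ᵥ u)) * g⁻¹ =
      Psi (Heis.cen a) * (g⁻¹ * Psi (Heis.lift u)) := by
    have : g⁻¹ * (g * Psi (Heis.lift (Act k⁻¹ *ᵥ u))) * g⁻¹ =
        g⁻¹ * (Psi (Heis.cen a) * Psi (Heis.lift u) * g) * g⁻¹ := by rw [ha]
    rw [inv_mul_cancel_left] at this
    rw [this, ← mul_assoc g⁻¹, ← mul_assoc g⁻¹, Psi_cen_central a g⁻¹]
    simp only [mul_assoc, mul_inv_cancel, mul_one]
  rw [Psi_mk a (Act k⁻¹ *ᵥ u), mul_assoc, h1, ← mul_assoc, ← map_mul, cen_mul_cen, map_one, one_mul]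

/-- the subgroup of units inducing elements of `K` -/
def Rsub : Subgroup (TGA M)ˣ where
  carrier := {g | ∃ k : K, Rel Act g k}
  mul_mem' := by
    rintro g g' ⟨k, hk⟩ ⟨k', hk'⟩
    exact ⟨k * k', rel_mul Act hk hk'⟩
  one_mem' := ⟨1, rel_one Act⟩
  inv_mem' := by
    rintro g ⟨k, hk⟩
    exact ⟨k⁻¹, rel_inv Act hk⟩

variable (hAinj : ∀ k : K, (∀ v : ι → ZMod 2, Act k *ᵥ v = v) → k = 1)

include hAinj in
theorem rel_unique {g : (TGA M)ˣ} {k k' : K} (h : Rel Act g k) (h' : Rel Act g k') : k = k' := by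
  have key : ∀ u, Act k *ᵥ u = Act k' *ᵥ u := by
    intro u
    obtain ⟨a, ha⟩ := h u
    obtain ⟨a', ha'⟩ := h' u
    have := mul_right_cancel (ha.symm.trans ha')
    exact congrArg Heis.v (Psi_injective this)
  have : k'⁻¹ * k = 1 := by
    apply hAinj
    intro v
    rw [map_mul, ← mulVec_mulVec, key v, mulVec_mulVec, ← map_mul, inv_mul_cancel, map_one,
      one_mulVec]
  calc k = k' * (k'⁻¹ * k) := by group
    _ = k' := by rw [this, mul_one]

/-- the element of `K` induced by an element of `Rsub` -/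
noncomputable def kOf (g : Rsub (M := M) Act) : K := Classical.choose g.2

theorem kOf_spec (g : Rsub (M := M) Act) : Rel Act (g : (TGA M)ˣ) (kOf Act g) :=
  Classical.choose_spec g.2

/-- the homomorphism onto `K` -/
noncomputable def piK : Rsub (M := M) Act →* K :=
  MonoidHom.mk' (kOf Act) (by
    intro g g'
    exact rel_unique Act hAinj (kOf_spec Act (g * g'))
      (rel_mul Act (kOf_spec Act g) (kOf_spec Act g')))

theorem piK_eq {g : Rsub (M := M) Act} {k : K} (h : Rel Act (g : (TGA M)ˣ) k) :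
    piK Act hAinj g = k :=
  rel_unique Act hAinj (kOf_spec Act g) h

end TGA

end Cfsg.Agent.Helper59.ESExt
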