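import Mathlib
import Cfsg.Agent.Lib.Helper59.ESExtC

set_option autoImplicit false
set_option linter.unusedSectionVars false

namespace Cfsg.Agent.Helper59.ESExt

open Cfsg.Agent.Helper89 Matrix

variable {ι : Type} [Fintype ι] [DecidableEq ι] {M : Matrix ι ι (ZMod 2)}

namespace TGA

variable {K : Type*} [Group K] (Act : K →* Matrix ι ι (ZMod 2))

theorem rel_Psi (x : Heis M) : Rel Act (Psi x) 1 := by
  intro u
  refine ⟨bform M x.v u + bform M u x.v, ?_⟩
  rw [map_one, one_mulVec, ← map_mul, ← map_mul]
  congr 1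
  rw [Heis.mul_eq_comm_mul x (Heis.lift u)]
  apply Heis.ext
  · simp; ring
  · simp

theorem Psi_mem_Rsub (x : Heis M) : Psi x ∈ Rsub (M := M) Act := ⟨1, rel_Psi Act x⟩

theorem range_le_Rsub : (Psi : Heis M →* (TGA M)ˣ).range ≤ Rsub Act := by
  rintro _ ⟨x, rfl⟩
  exact Psi_mem_Rsub Act x

theorem zmod3_cases (t : ZMod 3) (ht : t ≠ 0) : ∃ a : ZMod 2, t = sg a := by
  revert t; decide

theorem one_ne_zero' : (1 : TGA M) ≠ 0 := by
  intro h
  have := congrArg (fun t : TGA M => t.c 0) h
  simp [one_c] at this

variable (hnd : ∀ v : ι → ZMod 2, (∀ w, bform M v w + bform M w v = 0) → v = 0)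

include hnd in
theorem mem_range_of_rel_one {g : (TGA M)ˣ} (h : Rel Act g 1) :
    g ∈ (Psi : Heis M →* (TGA M)ˣ).range := by
  set x : TGA M := (g : TGA M) with hx
  -- coefficient identity
  have hco : ∀ u : ι → ZMod 2, ∃ a : ZMod 2, ∀ v : ι → ZMod 2,
      x.c v * sg (bform M v u) = sg a * x.c v * sg (bform M u v) := by
    intro u
    obtain ⟨a, ha⟩ := h u
    refine ⟨a, ?_⟩
    intro v
    rw [map_one, one_mulVec] at ha
    have h1 : x * se 0 u = se a u * x := congrArg Units.val ha
    have h2 := congrArg (fun t : TGA M => t.c (v + u)) h1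
    simp only [mul_se_c, se_mul_c, vadd_cancel, sg_zero, mul_one] at h2
    exact h2
  have hx0 : x ≠ 0 := by
    intro h0
    have h1 : (g : TGA M) * ((g⁻¹ : (TGA M)ˣ) : TGA M) = 1 := by
      rw [← Units.val_mul, mul_inv_cancel, Units.val_one]
    rw [← hx, h0, zero_mul] at h1
    exact one_ne_zero' h1.symm
  obtain ⟨v0, hv0⟩ : ∃ v0, x.c v0 ≠ 0 := by
    by_contra hne
    push Not at hne
    apply hx0
    apply TGA.ext; funext w
    exact hne w
  have huniq : ∀ v, x.c v ≠ 0 → v = v0 := by
    intro v hv
    have : v + v0 = 0 := by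
      apply hnd
      intro u
      obtain ⟨a, ha⟩ := hco u
      have h1 := ha v
      have h2 := ha v0
      -- cancel the nonzero coefficients
      have e1 : sg (bform M v u) = sg a * sg (bform M u v) := by
        apply mul_left_cancel₀ hv
        linear_combination h1
      have e2 : sg (bform M v0 u) = sg a * sg (bform M u v0) := by
        apply mul_left_cancel₀ hv0
        linear_combination h2
      have e3 : sg (bform M v u + bform M u v) = sg (bform M v0 u + bform M u v0) := by
        rw [sg_add, sg_add, e1, e2]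
        have s1 := sg_mul_self (bform M u v)
        have s2 := sg_mul_self (bform M u v0)
        linear_combination (sg a) * s1 - (sg a) * s2
      have e4 := sg_inj e3
      rw [bform_add_left, bform_add_right]
      have t := zmod2_add_self (bform M v0 u + bform M u v0)
      linear_combination e4 + t
    calc v = v + v0 + v0 := by rw [vadd_cancel]
      _ = v0 := by rw [this, zero_add]
  obtain ⟨a, ha⟩ := zmod3_cases (x.c v0) hv0
  refine ⟨⟨a, v0⟩, ?_⟩
  apply Units.ext
  rw [Psi_val]
  apply TGA.ext; funext w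
  rw [se_c]
  by_cases hw : w = v0
  · rw [if_pos hw, hw, ← ha]
  · rw [if_neg hw]
    by_contra hne
    exact hw (huniq w (fun h0 => hne h0.symm))

end TGA

end Cfsg.Agent.Helper59.ESExt
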