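import Mathlib
import Cfsg.Agent.Lib.Helper59.ESExtD

set_option autoImplicit false
set_option linter.unusedSectionVars false

namespace Cfsg.Agent.Helper59.ESExt

open Cfsg.Agent.Helper89 Matrix

variable {ι : Type} [Fintype ι] [DecidableEq ι] {M : Matrix ι ι (ZMod 2)}

namespace TGA

instance : Finite (TGA M) := Finite.of_equiv _ (equivFun (M := M)).symm

instance : Fintype (Heis M) := Fintype.ofEquiv _ Heis.equivProd.symm

/-- coefficient as an additive map -/
def cHom (w : ι → ZMod 2) : TGA M →+ ZMod 3 where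
  toFun x := x.c w
  map_zero' := rfl
  map_add' _ _ := rfl

theorem sum_c {α : Type*} (s : Finset α) (F : α → TGA M) (w : ι → ZMod 2) :
    (∑ x ∈ s, F x).c w = ∑ x ∈ s, (F x).c w :=
  map_sum (cHom w) F s

/-- scalars -/
def sc (t : ZMod 3) : TGA M := ⟨Pi.single 0 t⟩

theorem sc_c (t : ZMod 3) (w : ι → ZMod 2) : (sc t : TGA M).c w = if w = 0 then t else 0 := by
  simp only [sc, Pi.single_apply]

theorem sc_one : (sc 1 : TGA M) = 1 := rfl

theorem mul_sc_c (X : TGA M) (t : ZMod 3) (w : ι → ZMod 2) : (X * sc t).c w = X.c w * t := by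
  rw [mul_c, Finset.sum_eq_single w]
  · rw [vadd_self, sc_c, if_pos rfl, bform_zero_right, sg_zero, mul_one]
  · intro b _ hb
    have : w + b ≠ 0 := by
      intro h
      apply hb
      calc b = w + b + w := by rw [add_comm w b, vadd_cancel]
        _ = w := by rw [h, zero_add]
    rw [sc_c, if_neg this, mul_zero, zero_mul]
  · intro h; exact absurd (Finset.mem_univ _) h

theorem sc_mul_sc (s t : ZMod 3) : (sc s * sc t : TGA M) = sc (s * t) := by
  apply TGA.ext; funext w
  rw [mul_sc_c, sc_c, sc_c]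
  split_ifs <;> simp

/-- conjugation by a Heisenberg element multiplies coefficients by a sign -/
theorem conj_c (z : Heis M) (X : TGA M) (w : ι → ZMod 2) :
    ((Psi z : TGA M) * X * ((Psi z⁻¹ : (TGA M)ˣ) : TGA M)).c w =
      sg (bform M z.v w + bform M w z.v) * X.c w := by
  rw [Psi_val, Psi_val, mul_se_c, se_mul_c]
  simp only [Heis.inv_a, Heis.inv_v, vadd_cancel]
  rw [sg_add, sg_add, bform_add_left, sg_add]
  have h1 := sg_mul_self z.a
  have h2 := sg_mul_self (bform M z.v z.v)
  linear_combination (X.c w * sg (bform M z.v w) * sg (bform M w z.v) * sg (bform M z.v z.v) *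
    sg (bform M z.v z.v)) * h1 + (X.c w * sg (bform M z.v w) * sg (bform M w z.v)) * h2






variable (hnd : ∀ v : ι → ZMod 2, (∀ w, bform M v w + bform M w v = 0) → v = 0)

include hnd in
/-- character sum -/
theorem char_sum (w : ι → ZMod 2) :
    ∑ v : ι → ZMod 2, sg (bform M v w + bform M w v) =
      if w = 0 then (Fintype.card (ι → ZMod 2) : ZMod 3) else 0 := by
  by_cases hw : w = 0
  · subst hw
    rw [if_pos rfl]
    simp [sg_zero]
  · rw [if_neg hw]
    -- find `v0` with `B(w, v0) = 1`
    have : ∃ v0, bform M w v0 + bform M v0 w ≠ 0 := by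
      by_contra hne
      push Not at hne
      exact hw (hnd w hne)
    obtain ⟨v0, hv0⟩ := this
    have hv1 : bform M v0 w + bform M w v0 = 1 := by
      have : ∀ t : ZMod 2, t ≠ 0 → t = 1 := by decide
      rw [add_comm]; exact this _ hv0
    set S := ∑ v : ι → ZMod 2, sg (bform M v w + bform M w v) with hS
    have h1 : S = -S := by
      calc S = ∑ v : ι → ZMod 2, sg (bform M (v + v0) w + bform M w (v + v0)) := by
            rw [hS, ← Equiv.sum_comp (Equiv.addRight v0)]
            rfl
        _ = ∑ v : ι → ZMod 2, -sg (bform M v w + bform M w v) := by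
            apply Finset.sum_congr rfl
            intro v _
            rw [bform_add_left, bform_add_right]
            have : bform M v w + bform M v0 w + (bform M w v + bform M w v0) =
                (bform M v w + bform M w v) + (bform M v0 w + bform M w v0) := by ring
            rw [this, hv1, sg_add, sg_one, mul_neg, mul_one]
        _ = -S := by rw [Finset.sum_neg_distrib]
    have h2 : (2 : ZMod 3) * S = 0 := by linear_combination h1
    have h3 : (2 : ZMod 3) ≠ 0 := by decide
    exact (mul_eq_zero.mp h2).resolve_left h3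

include hnd in
theorem char_sum_heis (w : ι → ZMod 2) :
    ∑ z : Heis M, sg (bform M z.v w + bform M w z.v) =
      if w = 0 then (2 * Fintype.card (ι → ZMod 2) : ZMod 3) else 0 := by
  rw [← Equiv.sum_comp (Heis.equivProd (M := M)).symm, Fintype.sum_prod_type]
  have : ∀ a : ZMod 2, ∑ v : ι → ZMod 2,
      sg (bform M ((Heis.equivProd (M := M)).symm (a, v)).v w +
        bform M w ((Heis.equivProd (M := M)).symm (a, v)).v) =
      if w = 0 then (Fintype.card (ι → ZMod 2) : ZMod 3) else 0 := by
    intro a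
    exact char_sum hnd w
  simp only [this]
  rw [Finset.sum_const, Finset.card_univ, ZMod.card]
  split_ifs <;> simp

theorem card_ne_zero : (2 * Fintype.card (ι → ZMod 2) : ZMod 3) ≠ 0 := by
  have h : (Fintype.card (ι → ZMod 2) : ZMod 3) = 2 ^ Fintype.card ι := by
    rw [Fintype.card_fun, ZMod.card]; push_cast; rfl
  rw [h, ← pow_succ']
  have : ∀ n : ℕ, (2 : ZMod 3) ^ n ≠ 0 := fun n => pow_ne_zero n (by decide)
  exact this _

/-- averaging over the Heisenberg group -/
noncomputable def avg (Φ₁ Φ₂ : Heis M →* (TGA M)ˣ) (Y : TGA M) : TGA M :=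
  ∑ x : Heis M, (Φ₁ x : TGA M) * Y * ((Φ₂ x⁻¹ : (TGA M)ˣ) : TGA M)

theorem avg_intertwine (Φ₁ Φ₂ : Heis M →* (TGA M)ˣ) (Y : TGA M) (z : Heis M) :
    (Φ₁ z : TGA M) * avg Φ₁ Φ₂ Y = avg Φ₁ Φ₂ Y * (Φ₂ z : TGA M) := by
  unfold avg
  rw [Finset.mul_sum, Finset.sum_mul,
    ← Equiv.sum_comp (Equiv.mulLeft z)
      (fun x => (Φ₁ x : TGA M) * Y * ((Φ₂ x⁻¹ : (TGA M)ˣ) : TGA M) * (Φ₂ z : TGA M))]
  apply Finset.sum_congr rfl
  intro x _
  have hz : ((Φ₂ z⁻¹ : (TGA M)ˣ) : TGA M) * (Φ₂ z : TGA M) = 1 := by
    rw [← Units.val_mul, ← map_mul, inv_mul_cancel, map_one, Units.val_one]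
  simp only [Equiv.coe_mulLeft, _root_.mul_inv_rev, map_mul, Units.val_mul, mul_assoc, hz, mul_one]

include hnd in
/-- averaging with `Psi` on both sides projects onto the scalars -/
theorem avg_Psi_Psi (X : TGA M) :
    avg Psi Psi X = sc (X.c 0 * (2 * Fintype.card (ι → ZMod 2) : ZMod 3)) := by
  apply TGA.ext; funext w
  unfold avg
  rw [sum_c]
  simp only [conj_c]
  rw [← Finset.sum_mul, char_sum_heis hnd w, sc_c]
  by_cases hw : w = 0
  · subst hw; simp only [if_true]; ring
  · simp only [if_neg hw, zero_mul]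

end TGA

end Cfsg.Agent.Helper59.ESExt
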