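import Mathlib
import Cfsg.Agent.Lib.Helper59.ESExtE

set_option autoImplicit false
set_option linter.unusedSectionVars false

namespace Cfsg.Agent.Helper59.ESExt

open Cfsg.Agent.Helper89 Matrix

variable {ι : Type} [Fintype ι] [DecidableEq ι] {M : Matrix ι ι (ZMod 2)}

namespace TGA

theorem cen_central (t : ZMod 2) (x : Heis M) : x * Heis.cen t = Heis.cen t * x := by
  rcases Heis.cen_cases (M := M) t with h | h
  · rw [h, mul_one, one_mul]
  · rw [h]; exact Heis.cc_central x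

/-- the basic commutator identity in the Heisenberg group -/
theorem heis_id (r x : Heis M) (y : ι → ZMod 2) :
    r * Heis.lift y * x⁻¹ * (Heis.lift y)⁻¹ =
      Heis.cen (bform M y x.v + bform M x.v y) * (r * x⁻¹) := by
  have h1 : Heis.lift y * x⁻¹ = Heis.cen (bform M y x.v + bform M x.v y) * (x⁻¹ * Heis.lift y) := by
    rw [Heis.mul_eq_comm_mul (Heis.lift y) x⁻¹]
    rfl
  calc r * Heis.lift y * x⁻¹ * (Heis.lift y)⁻¹
      = r * (Heis.lift y * x⁻¹) * (Heis.lift y)⁻¹ := by simp only [mul_assoc]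
    _ = r * (Heis.cen (bform M y x.v + bform M x.v y) * (x⁻¹ * Heis.lift y)) * (Heis.lift y)⁻¹ := by
        rw [h1]
    _ = r * Heis.cen (bform M y x.v + bform M x.v y) * x⁻¹ := by
        simp only [mul_assoc, mul_inv_cancel, mul_one]
    _ = Heis.cen (bform M y x.v + bform M x.v y) * (r * x⁻¹) := by
        rw [cen_central, mul_assoc]

theorem Psi_cen_mul_c (b : ZMod 2) (r : Heis M) :
    ((Psi (Heis.cen b * r) : (TGA M)ˣ) : TGA M).c 0 = sg b * ((Psi r : (TGA M)ˣ) : TGA M).c 0 := by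
  rw [Psi_val, Psi_val, Heis.cen_mul, se_c, se_c]
  simp only
  by_cases h : (0 : ι → ZMod 2) = r.v
  · rw [if_pos h, if_pos h, sg_add]
  · rw [if_neg h, if_neg h, mul_zero]





section surj

/-- twisted embedding -/
def PsiA (α : MulAut (Heis M)) : Heis M →* (TGA M)ˣ := Psi.comp α.toMonoidHom

theorem PsiA_apply (α : MulAut (Heis M)) (x : Heis M) : PsiA α x = Psi (α x) := rfl

theorem key1 (α : MulAut (Heis M)) (y : ι → ZMod 2) :
    (avg (PsiA α) Psi ((Psi (Heis.lift y) : (TGA M)ˣ) : TGA M) *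
        (((Psi (Heis.lift y))⁻¹ : (TGA M)ˣ) : TGA M)).c 0 =
      ∑ x : Heis M, sg (bform M y x.v + bform M x.v y) *
        ((Psi (α x * x⁻¹) : (TGA M)ˣ) : TGA M).c 0 := by
  unfold avg
  rw [Finset.sum_mul, sum_c]
  apply Finset.sum_congr rfl
  intro x _
  have h1 : (PsiA α x : TGA M) * ((Psi (Heis.lift y) : (TGA M)ˣ) : TGA M) *
        ((Psi x⁻¹ : (TGA M)ˣ) : TGA M) * (((Psi (Heis.lift y))⁻¹ : (TGA M)ˣ) : TGA M) =
      ((Psi (α x * Heis.lift y * x⁻¹ * (Heis.lift y)⁻¹) : (TGA M)ˣ) : TGA M) := by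
    rw [map_mul, map_mul, map_mul, map_inv, map_inv Psi (Heis.lift y), PsiA_apply,
      Units.val_mul, Units.val_mul, Units.val_mul]
  rw [h1, heis_id, Psi_cen_mul_c]

variable (hnd : ∀ v : ι → ZMod 2, (∀ w, bform M v w + bform M w v = 0) → v = 0)

include hnd in
theorem key2 (α : MulAut (Heis M)) :
    ∑ y : ι → ZMod 2, (avg (PsiA α) Psi ((Psi (Heis.lift y) : (TGA M)ˣ) : TGA M) *
        (((Psi (Heis.lift y))⁻¹ : (TGA M)ˣ) : TGA M)).c 0 =
      (2 * Fintype.card (ι → ZMod 2) : ZMod 3) := by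
  have hG : Good (Heis M) Heis.cc := Heis.good hnd
  have hF0 : ∀ x : Heis M, x.v = 0 → ((Psi (α x * x⁻¹) : (TGA M)ˣ) : TGA M).c 0 = 1 := by
    intro x hx
    have hxc : x = Heis.cen x.a := Heis.ext rfl hx
    have : α x * x⁻¹ = 1 := by
      rw [hxc, Heis.aut_cen hG α, mul_inv_cancel]
    rw [this, map_one, Units.val_one, one_c, Pi.single_eq_same]
  simp only [key1]
  rw [Finset.sum_comm]
  have h1 : ∀ x : Heis M, ∑ y : ι → ZMod 2, sg (bform M y x.v + bform M x.v y) *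
        ((Psi (α x * x⁻¹) : (TGA M)ˣ) : TGA M).c 0 =
      if x.v = 0 then (Fintype.card (ι → ZMod 2) : ZMod 3) else 0 := by
    intro x
    rw [← Finset.sum_mul, char_sum hnd x.v]
    by_cases hx : x.v = 0
    · rw [if_pos hx, hF0 x hx, mul_one]
    · rw [if_neg hx, zero_mul]
  simp only [h1]
  rw [← Equiv.sum_comp (Heis.equivProd (M := M)).symm, Fintype.sum_prod_type]
  have h2 : ∀ a : ZMod 2, ∑ v : ι → ZMod 2,
      (if ((Heis.equivProd (M := M)).symm (a, v)).v = 0 then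
        (Fintype.card (ι → ZMod 2) : ZMod 3) else 0) = (Fintype.card (ι → ZMod 2) : ZMod 3) := by
    intro a
    have : ∀ v : ι → ZMod 2, ((Heis.equivProd (M := M)).symm (a, v)).v = v := fun _ => rfl
    simp only [this]
    rw [Finset.sum_ite_eq' Finset.univ (0 : ι → ZMod 2)]
    simp
  simp only [h2]
  rw [Finset.sum_const, Finset.card_univ, ZMod.card]
  simp

theorem avg_mul_avg (α : MulAut (Heis M)) (Y Y' : TGA M) :
    avg (PsiA α) Psi Y * avg Psi (PsiA α) Y' = avg Psi Psi (avg (PsiA α) Psi Y * Y') := by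
  have hint := avg_intertwine (PsiA α) Psi Y
  generalize avg (PsiA α) Psi Y = g at hint ⊢
  unfold avg
  rw [Finset.mul_sum, ← Equiv.sum_comp α.toEquiv
    (fun z => (Psi z : TGA M) * (g * Y') * ((Psi z⁻¹ : (TGA M)ˣ) : TGA M))]
  apply Finset.sum_congr rfl
  intro z _
  have h1 := hint z
  rw [PsiA_apply] at h1
  show g * ((Psi z : TGA M) * Y' * ((PsiA α z⁻¹ : (TGA M)ˣ) : TGA M)) =
    (Psi (α z) : TGA M) * (g * Y') * ((Psi (α z)⁻¹ : (TGA M)ˣ) : TGA M)
  rw [PsiA_apply, map_inv α z]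
  calc g * ((Psi z : TGA M) * Y' * ((Psi (α z)⁻¹ : (TGA M)ˣ) : TGA M))
      = (g * (Psi z : TGA M)) * Y' * ((Psi (α z)⁻¹ : (TGA M)ˣ) : TGA M) := by
        simp only [mul_assoc]
    _ = ((Psi (α z) : TGA M) * g) * Y' * ((Psi (α z)⁻¹ : (TGA M)ˣ) : TGA M) := by rw [h1]
    _ = _ := by simp only [mul_assoc]

include hnd in
/-- an invertible intertwiner exists -/
theorem exists_intertwiner (α : MulAut (Heis M)) :
    ∃ G : (TGA M)ˣ, ∀ z : Heis M, G * Psi z = Psi (α z) * G := by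
  obtain ⟨y, -, hy⟩ : ∃ y ∈ (Finset.univ : Finset (ι → ZMod 2)),
      (avg (PsiA α) Psi ((Psi (Heis.lift y) : (TGA M)ˣ) : TGA M) *
        (((Psi (Heis.lift y))⁻¹ : (TGA M)ˣ) : TGA M)).c 0 ≠ 0 := by
    apply Finset.exists_ne_zero_of_sum_ne_zero
    rw [key2 hnd α]
    exact card_ne_zero
  have hint := avg_intertwine (PsiA α) Psi ((Psi (Heis.lift y) : (TGA M)ˣ) : TGA M)
  have hgW := avg_mul_avg α ((Psi (Heis.lift y) : (TGA M)ˣ) : TGA M)
    (((Psi (Heis.lift y))⁻¹ : (TGA M)ˣ) : TGA M)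
  rw [avg_Psi_Psi hnd] at hgW
  generalize avg (PsiA α) Psi ((Psi (Heis.lift y) : (TGA M)ˣ) : TGA M) = g at hint hgW hy
  generalize avg Psi (PsiA α) (((Psi (Heis.lift y))⁻¹ : (TGA M)ˣ) : TGA M) = W at hgW
  generalize (((Psi (Heis.lift y))⁻¹ : (TGA M)ˣ) : TGA M) = Y' at hgW hy
  set c : ZMod 3 := (g * Y').c 0 * (2 * Fintype.card (ι → ZMod 2) : ZMod 3) with hc
  have hc0 : c ≠ 0 := mul_ne_zero hy card_ne_zero
  have hinv1 : g * (W * sc c⁻¹) = 1 := by
    rw [← mul_assoc, hgW, sc_mul_sc, mul_inv_cancel₀ hc0, sc_one]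
  have hinv2 : (W * sc c⁻¹) * g = 1 := mul_eq_one_comm.mp hinv1
  refine ⟨⟨g, W * sc c⁻¹, hinv1, hinv2⟩, ?_⟩
  intro z
  apply Units.ext
  rw [Units.val_mul, Units.val_mul]
  have h1 := hint z
  rw [PsiA_apply] at h1
  exact h1.symm

variable {K : Type*} [Group K] (Act : K →* Matrix ι ι (ZMod 2))
  (hAq : ∀ (k : K) (v : ι → ZMod 2), bform M (Act k *ᵥ v) (Act k *ᵥ v) = bform M v v)

include hAq hnd in
theorem exists_rel (k : K) : ∃ g : (TGA M)ˣ, Rel Act g k := by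
  have hA'A : Act k⁻¹ * Act k = 1 := by rw [← map_mul, inv_mul_cancel, map_one]
  have halt : ∀ v, bform ((Act k)ᵀ * M * Act k + M) v v = 0 := by
    intro v
    rw [bform_add_matrix, ← bform_mulVec, hAq k v]
    exact zmod2_add_self _
  obtain ⟨hd, hs⟩ := alt_matrix _ halt
  obtain ⟨N, hN⟩ := exists_upper _ hd hs
  obtain ⟨G, hGz⟩ := exists_intertwiner hnd
    (MulEquiv.ofBijective (Heis.autHom (Act k) N hN)
      (Heis.autHom_bijective (Act k) (Act k⁻¹) N hN hA'A) : MulAut (Heis M))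
  refine ⟨G, ?_⟩
  intro u
  refine ⟨bform N u u, ?_⟩
  rw [hGz (Heis.lift u)]
  congr 2
  apply Heis.ext
  · show (Heis.lift u : Heis M).a + bform N (Heis.lift u : Heis M).v (Heis.lift u : Heis M).v = _
    simp
  · rfl

end surj

end TGA

end Cfsg.Agent.Helper59.ESExt
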