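import Mathlib
import Cfsg.Agent.Lib.Helper59.ESExtF
import Cfsg.Agent.Lib.Helper63.HeisES

set_option autoImplicit false
set_option linter.unusedSectionVars false

namespace Cfsg.Agent.Helper59.ESExt

open Cfsg.Agent.Helper89 Matrix

variable {ι : Type} [Fintype ι] [DecidableEq ι] {M : Matrix ι ι (ZMod 2)}

namespace TGA

variable {K : Type*} [Group K] (Act : K →* Matrix ι ι (ZMod 2))
  (hAq : ∀ (k : K) (v : ι → ZMod 2), bform M (Act k *ᵥ v) (Act k *ᵥ v) = bform M v v)
  (hAinj : ∀ k : K, (∀ v : ι → ZMod 2, Act k *ᵥ v = v) → k = 1)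
  (hnd : ∀ v : ι → ZMod 2, (∀ w, bform M v w + bform M w v = 0) → v = 0)

include hAq hnd in
theorem piK_surjective : Function.Surjective (piK (M := M) Act hAinj) := by
  intro k
  obtain ⟨g, hg⟩ := exists_rel hnd Act hAq k
  exact ⟨⟨g, ⟨k, hg⟩⟩, piK_eq Act hAinj hg⟩

/-- the extraspecial normal subgroup -/
noncomputable def Qsub : Subgroup (Rsub (M := M) Act) := (piK Act hAinj).ker

/-- the Heisenberg group maps into `Qsub` -/
noncomputable def jHom : Heis M →* Qsub (M := M) Act hAinj where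
  toFun x := ⟨⟨Psi x, Psi_mem_Rsub Act x⟩, by
    rw [Qsub, MonoidHom.mem_ker]
    exact piK_eq Act hAinj (rel_Psi Act x)⟩
  map_one' := by
    apply Subtype.ext; apply Subtype.ext
    exact map_one Psi
  map_mul' x y := by
    apply Subtype.ext; apply Subtype.ext
    exact map_mul Psi x y

theorem jHom_val (x : Heis M) :
    (((jHom Act hAinj x : Qsub (M := M) Act hAinj) : Rsub (M := M) Act) : (TGA M)ˣ) = Psi x := rfl

include hnd in
theorem jHom_bijective : Function.Bijective (jHom (M := M) Act hAinj) := by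
  constructor
  · intro x y h
    apply Psi_injective
    have := congrArg (fun a : Qsub (M := M) Act hAinj => ((a : Rsub (M := M) Act) : (TGA M)ˣ)) h
    exact this
  · intro a
    have h1 : piK Act hAinj (a : Rsub (M := M) Act) = 1 := a.2
    have h2 := kOf_spec Act (a : Rsub (M := M) Act)
    have h3 : kOf Act (a : Rsub (M := M) Act) = 1 := h1
    rw [h3] at h2
    obtain ⟨x, hx⟩ := mem_range_of_rel_one Act hnd h2
    refine ⟨x, ?_⟩
    apply Subtype.ext; apply Subtype.ext
    exact hx

/-- `Qsub` is the Heisenberg group -/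
noncomputable def jEquiv : Heis M ≃* Qsub (M := M) Act hAinj :=
  MulEquiv.ofBijective (jHom Act hAinj) (jHom_bijective Act hAinj hnd)

theorem jEquiv_apply (x : Heis M) : jEquiv Act hAinj hnd x = jHom Act hAinj x := rfl

/-- projection of the Heisenberg group onto the vector space -/
def projV : Heis M →* Multiplicative (ι → ZMod 2) where
  toFun x := Multiplicative.ofAdd x.v
  map_one' := rfl
  map_mul' _ _ := rfl

/-- the map `χ` -/
noncomputable def chi : Qsub (M := M) Act hAinj →* Multiplicative (ι → ZMod 2) :=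
  projV.comp (jEquiv Act hAinj hnd).symm.toMonoidHom

theorem chi_j (x : Heis M) :
    chi Act hAinj hnd (jEquiv Act hAinj hnd x) = Multiplicative.ofAdd x.v := by
  show projV ((jEquiv Act hAinj hnd).symm (jEquiv Act hAinj hnd x)) = _
  rw [MulEquiv.symm_apply_apply]
  rfl





include hnd in
theorem heis_nonabelian [Nonempty ι] : ∃ g k : Heis M, g * k ≠ k * g := by
  obtain ⟨i⟩ := ‹Nonempty ι›
  have hu : (Pi.single i 1 : ι → ZMod 2) ≠ 0 := by
    intro h
    have := congrFun h i
    simp at this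
  have : ∃ w, bform M (Pi.single i 1) w + bform M w (Pi.single i 1) ≠ 0 := by
    by_contra hne
    push Not at hne
    exact hu (hnd _ hne)
  obtain ⟨w, hw⟩ := this
  refine ⟨Heis.lift (Pi.single i 1), Heis.lift w, ?_⟩
  intro h
  have h1 := Heis.mul_eq_comm_mul (Heis.lift (Pi.single i 1) : Heis M) (Heis.lift w)
  rw [h] at h1
  have h2 : (⟨bform M (Pi.single i 1) w + bform M w (Pi.single i 1), 0⟩ : Heis M) = 1 :=
    mul_right_cancel (h1.symm.trans (one_mul _).symm)
  exact hw (congrArg Heis.a h2)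

include hnd in
theorem Qsub_extraspecial [Nonempty ι] : Cfsg.IsExtraspecial 2 (Qsub (M := M) Act hAinj) :=
  Cfsg.Agent.Helper63.isExtraspecial_of_mulEquiv (jEquiv Act hAinj hnd)
    (Good.isExtraspecial (Heis.good hnd) (heis_nonabelian hnd))

include hnd in
theorem Qsub_card : Nat.card (Qsub (M := M) Act hAinj) = 2 * 2 ^ Fintype.card ι := by
  rw [← Nat.card_congr (jEquiv Act hAinj hnd).toEquiv, Heis.card_eq]

theorem chi_surjective : Function.Surjective (chi (M := M) Act hAinj hnd) := by
  intro m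
  refine ⟨jEquiv Act hAinj hnd (Heis.lift (Multiplicative.toAdd m)), ?_⟩
  rw [chi_j]
  rfl

include hnd in
theorem heis_center_iff (x : Heis M) : (∀ y : Heis M, y * x = x * y) ↔ x.v = 0 := by
  constructor
  · intro h
    rcases (Heis.good hnd).cent x (fun y => (h y).symm) with h1 | h1
    · rw [h1]; rfl
    · rw [h1]; rfl
  · intro h y
    have hxc : x = Heis.cen x.a := Heis.ext rfl h
    rw [hxc]
    exact cen_central _ _

theorem chi_ker : (chi (M := M) Act hAinj hnd).ker = Subgroup.center (Qsub (M := M) Act hAinj) := by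
  ext a
  obtain ⟨x, rfl⟩ := (jEquiv Act hAinj hnd).surjective a
  rw [MonoidHom.mem_ker, chi_j, Subgroup.mem_center_iff]
  constructor
  · intro h
    have hv : x.v = 0 := h
    intro b
    obtain ⟨y, rfl⟩ := (jEquiv Act hAinj hnd).surjective b
    rw [← map_mul, ← map_mul, (heis_center_iff hnd x).mpr hv y]
  · intro h
    have : ∀ y : Heis M, y * x = x * y := by
      intro y
      apply (jEquiv Act hAinj hnd).injective
      rw [map_mul, map_mul]
      exact h _
    have hv := (heis_center_iff hnd x).mp this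
    show Multiplicative.ofAdd x.v = 1
    rw [hv]
    rfl

theorem chi_conj (r : Rsub (M := M) Act) (a : Qsub (M := M) Act hAinj)
    (h : r * (a : Rsub (M := M) Act) * r⁻¹ ∈ Qsub (M := M) Act hAinj) :
    chi Act hAinj hnd ⟨r * (a : Rsub (M := M) Act) * r⁻¹, h⟩ =
      Multiplicative.ofAdd (Act (piK Act hAinj r) *ᵥ
        Multiplicative.toAdd (chi Act hAinj hnd a)) := by
  obtain ⟨x, rfl⟩ := (jEquiv Act hAinj hnd).surjective a
  have hrel : Rel Act (r : (TGA M)ˣ) (piK Act hAinj r) := kOf_spec Act r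
  obtain ⟨a', ha'⟩ := hrel x.v
  have key : (⟨r * ((jEquiv Act hAinj hnd x : Qsub (M := M) Act hAinj) : Rsub (M := M) Act) * r⁻¹, h⟩ :
      Qsub (M := M) Act hAinj) =
      jEquiv Act hAinj hnd ⟨x.a + a', Act (piK Act hAinj r) *ᵥ x.v⟩ := by
    apply Subtype.ext; apply Subtype.ext
    show (r : (TGA M)ˣ) * Psi x * (r : (TGA M)ˣ)⁻¹ = Psi _
    rw [Psi_mk x.a x.v, Psi_mk (x.a + a'), cen_add, map_mul]
    rw [Psi_mk a'] at ha'
    calc (r : (TGA M)ˣ) * (Psi (Heis.cen x.a) * Psi (Heis.lift x.v)) * (r : (TGA M)ˣ)⁻¹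
        = Psi (Heis.cen x.a) * ((r : (TGA M)ˣ) * Psi (Heis.lift x.v)) * (r : (TGA M)ˣ)⁻¹ := by
          rw [← mul_assoc, Psi_cen_central x.a (r : (TGA M)ˣ)]
          simp only [mul_assoc]
      _ = _ := by
          rw [ha']
          simp only [mul_assoc, mul_inv_cancel, mul_one]
  rw [key, chi_j, chi_j]
  rfl

theorem Qsub_sq (a : Qsub (M := M) Act hAinj) :
    a * a = 1 ↔ bform M (Multiplicative.toAdd (chi Act hAinj hnd a))
      (Multiplicative.toAdd (chi Act hAinj hnd a)) = 0 := by
  obtain ⟨x, rfl⟩ := (jEquiv Act hAinj hnd).surjective a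
  rw [chi_j, ← map_mul, MulEquiv.map_eq_one_iff, Heis.mul_self_eq]
  show _ ↔ bform M x.v x.v = 0
  constructor
  · intro h
    exact congrArg Heis.a h
  · intro h
    rw [h]; rfl

end TGA

end Cfsg.Agent.Helper59.ESExt
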