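import Mathlib
import Cfsg.Agent.Lib.Helper59.ESExtG

set_option autoImplicit false
set_option linter.unusedSectionVars false

namespace Cfsg.Agent.Helper59.ESExt

open Cfsg.Agent.Helper89 Matrix

variable {ι : Type} [Fintype ι] [DecidableEq ι] {M : Matrix ι ι (ZMod 2)}

namespace TGA

variable {K : Type*} [Group K] (Act : K →* Matrix ι ι (ZMod 2))
  (hAq : ∀ (k : K) (v : ι → ZMod 2), bform M (Act k *ᵥ v) (Act k *ᵥ v) = bform M v v)
  (hAinj : ∀ k : K, (∀ v : ι → ZMod 2, Act k *ᵥ v = v) → k = 1)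
  (hnd : ∀ v : ι → ZMod 2, (∀ w, bform M v w + bform M w v = 0) → v = 0)

include hAq hAinj hnd in
theorem core [Nonempty ι] :
    ∃ (R : Type) (_ : Group R) (_ : Finite R) (Q : Subgroup R) (hN : Q.Normal) (e : R ⧸ Q ≃* K)
      (χ : ↥Q →* Multiplicative (ι → ZMod 2)),
      Cfsg.IsExtraspecial 2 ↥Q ∧ Nat.card ↥Q = 2 * 2 ^ Fintype.card ι ∧ Function.Surjective χ ∧
      χ.ker = Subgroup.center ↥Q ∧
      (∀ (r : R) (a : ↥Q), χ ⟨r * a * r⁻¹, hN.conj_mem (a : R) a.2 r⟩ =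
        Multiplicative.ofAdd (Act (e (r : R ⧸ Q)) *ᵥ (Multiplicative.toAdd (χ a)))) ∧
      ∀ a : ↥Q, a * a = 1 ↔
        bform M (Multiplicative.toAdd (χ a)) (Multiplicative.toAdd (χ a)) = 0 := by
  have hfin : Finite (Rsub (M := M) Act) := inferInstance
  refine ⟨Rsub (M := M) Act, inferInstance, hfin, Qsub Act hAinj, MonoidHom.normal_ker _,
    QuotientGroup.quotientKerEquivOfSurjective (piK Act hAinj) (piK_surjective Act hAq hAinj hnd),
    chi Act hAinj hnd, Qsub_extraspecial Act hAinj hnd, Qsub_card Act hAinj hnd,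
    chi_surjective Act hAinj hnd, chi_ker Act hAinj hnd, ?_, Qsub_sq Act hAinj hnd⟩
  intro r a
  exact chi_conj Act hAinj hnd r a _

end TGA

end Cfsg.Agent.Helper59.ESExt
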