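import Cfsg.Agent.Lib.Helper59.F4SuzMem
import Cfsg.Agent.Lib.Helper36.ReeCore
import Cfsg.Agent.Lib.Helper6.ChevFactsS18
import Cfsg.Agent.Lib.Helper18.ChevLongest
import Cfsg.Agent.Lib.Helper17.ChevTriGen
import Cfsg.Agent.Lib.Helper18.ChevNegTri

/-!
# Kernel checks for the normal core of `B¹` in `²F₄(q)`
-/

set_option autoImplicit false
set_option linter.unusedSectionVars false
set_option linter.unusedVariables false
set_option maxRecDepth 100000

namespace Cfsg.Agent.Helper59.F4Suz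

open Cfsg Cfsg.Lie Cfsg.Agent.Helper18 Cfsg.Agent.Helper17 Cfsg.Agent.Helper15.Ree4 Cfsg.Agent.Helper6
open Cfsg.Agent.Helper6.ChevGraph.F4 Cfsg.Agent.S1043

/-- a reduced word of the longest element of the Weyl group of `F₄`, adapted to `²F₄` -/
def longWordF4 : List ℕ :=
  [0, 3, 1, 2, 1, 2, 0, 3, 1, 2, 1, 2, 0, 3, 1, 2, 1, 2, 0, 3, 1, 2, 1, 2]

theorem coreTableF4 :
    (∀ r < chevF4.nroots, chevF4.neg r < chevF4.nroots ∧ chevF4.neg r ≠ r) ∧
    (∀ i < chevF4.rank, ∀ i' < chevF4.rank, ∀ s < chevF4.nroots,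
      chevF4.cartan i' (chevF4.reflectRoot i s) =
        chevF4.cartan i' s - chevF4.cartan i s * chevF4.cartan i' (chevF4.simple i)) ∧
    (∀ i ∈ longWordF4, i < chevF4.rank) ∧
    (∀ s < chevF4.nroots, chevF4.IsPosRoot s → chevF4.IsNegRoot (permW chevF4 longWordF4 s)) ∧
    (∀ r < chevF4.nroots, chevF4.IsNegRoot r → chevF4.IsPosRoot (permW chevF4 longWordF4 r) ∧
      permW chevF4 longWordF4 (permW chevF4 longWordF4 r) = r) ∧
    (([0, 3] : List ℕ).Pairwise (fun a b => chevF4.cartan a (chevF4.simple b) = 0)) ∧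
    (∀ i ∈ ([0, 3] : List ℕ), i < chevF4.rank ∧ chevF4.cartan i (chevF4.simple i) = 2) ∧
    (chevF4.IsPosRoot 33 ∧ chevF4.IsPosRoot 24 ∧ chevF4.IsPosRoot 28 ∧ chevF4.IsPosRoot 30) ∧
    (chevF4.cartan 2 28 = 1 ∧ chevF4.cartan 2 30 = 0) ∧
    (∀ i < 4, chevF4.cartan i 27 = chevF4.cartan i 30 - 1 * chevF4.cartan i 28) ∧
    (∀ i < 4, chevF4.cartan i 25 = chevF4.cartan i 28 - 1 * chevF4.cartan i 27) := by
  decide +kernel

/-- `n_{p₁} n_{p₄}` as a product of pair words, modulo 2 -/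
theorem chk_n03 : wordEqP chevF4 2
    [(33, kq 1), (14, kq (-1)), (33, kq 1), (24, kq 1), (23, kq (-1)), (24, kq 1)]
    [(33, kq 1), (24, kq 1), (14, kq 1), (23, kq 1), (33, kq 1), (24, kq 1)] = true := by
  decide +kernel

/-- `n_{p₂} n_{p₃} n_{p₂} n_{p₃}` is the Suzuki word at `a = b = 1`, modulo 2 -/
theorem chk_n1212 : wordEqP chevF4 2
    [(27, kq 1), (20, kq (-1)), (27, kq 1), (25, kq 1), (22, kq (-1)), (25, kq 1),
      (27, kq 1), (20, kq (-1)), (27, kq 1), (25, kq 1), (22, kq (-1)), (25, kq 1)]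
    [(27, kq 1), (25, kq 1), (28, kq 1), (19, kq 1), (17, kq 1), (27, kq 1), (25, kq 1), (30, kq 1)] = true := by
  decide +kernel

end Cfsg.Agent.Helper59.F4Suz
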