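import Cfsg.Agent.Lib.Helper6.ChevGraphGen
import Cfsg.Agent.Lib.Helper18.AddSmall
import Cfsg.Prelude.Def_LieTwisted

/-!
# Kernel-checked word identities modulo 2 in the Chevalley group of type `F₄` (for `²F₄`, S1110)

The Suzuki-type Bruhat identity inside the `B₂`-subsystem `⟨p₂, p₃⟩`.
-/

set_option autoImplicit false
set_option maxRecDepth 100000

namespace Cfsg.Agent.Helper59.F4Suz

open Cfsg Cfsg.Lie Cfsg.Agent.Helper18 Cfsg.Agent.Helper6 Cfsg.Agent.Helper6.G2C3

/-- Check that two words in root elements have the same matrix modulo `p`. -/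
def wordEqP (D : ChevalleyDatum) (p : ℕ) (w1 w2 : List (ℕ × LP)) : Bool :=
  (List.range (D.rank + D.nroots)).all fun c =>
    (List.range (D.rank + D.nroots)).all fun r =>
      ChevGraph.divp p (svlp (applyWord D w1 (basisVec c)) r ++ LP.neg (svlp (applyWord D w2 (basisVec c)) r))

theorem wordMat_eq_of_wordEqP {F : Type*} [Field F] (D : ChevalleyDatum) (p : ℕ) [CharP F p] (a b : Fˣ)
    (w1 w2 : List (ℕ × LP)) (h : wordEqP D p w1 w2 = true) :
    D.wordMat F (evalWord a b w1) = D.wordMat F (evalWord a b w2) := by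
  apply mat_eq_of_mulVec_single
  intro col
  rw [← toVec_basisVec D a b col, applyWord_sound, applyWord_sound]
  funext row
  unfold toVec
  rw [coeff_eq_eval, coeff_eq_eval]
  rw [wordEqP, List.all_eq_true] at h
  have h1 := h _ (List.mem_range.mpr (code_lt D col))
  rw [List.all_eq_true] at h1
  have h2 := ChevGraph.eval_of_divp p a b _ (h1 _ (List.mem_range.mpr (code_lt D row)))
  rw [LP.eval_append, LP.eval_neg] at h2
  exact sub_eq_zero.1 (by rw [sub_eq_add_neg]; exact h2)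

/-- a constant parameter -/
def kq (n : ℤ) : LP := [(n, 0, 0)]

/-- the Suzuki word `x₊(t,0) · x₋(0,v) · x₊(t,v⁻¹)` with `v₁ = a`, `v₂ = b` independent -/
def wS (ra rb rab raab nab naab : ℕ) : List (ℕ × LP) :=
  [(ra, [(1, 1, -1)]), (rb, [(1, -2, 1)]), (rab, [(1, -1, 0)]), (nab, [(1, 1, 0)]), (naab, [(1, 0, 1)]),
    (ra, [(1, 1, -1)]), (rb, [(1, -2, 1)]), (raab, [(1, 0, -1)])]

/-- the inverse (modulo 2) of the Suzuki word at `a = b = 1` -/
def wS1inv (ra rb rab raab nab naab : ℕ) : List (ℕ × LP) :=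
  [(raab, kq 1), (rb, kq 1), (ra, kq 1), (naab, kq 1), (nab, kq 1), (rab, kq 1), (rb, kq 1), (ra, kq 1)]

/-- the word `h_r(t)` for a Laurent monomial `t` with inverse `ti` -/
def hWm (r nr : ℕ) (i j : ℤ) : List (ℕ × LP) :=
  [(r, [(1, i, j)]), (nr, [(-1, -i, -j)]), (r, [(1, i, j)]), (r, kq (-1)), (nr, kq 1), (r, kq (-1))]

theorem chk_suz_pos : wordEqP chevF4 2 (wS 27 25 28 30 19 17 ++ wS1inv 27 25 28 30 19 17)
    (hWm 27 20 0 (-1) ++ hWm 25 22 (-2) 0) = true := by
  decide +kernel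

/-- the variable `a` -/
def wa : LP := [(1, 1, 0)]
/-- the variable `b` -/
def wb : LP := [(1, 0, 1)]

/-- `x_b(t) x_a(s) = x_a(s) x_b(t) x_{a+b}(ts) x_{2a+b}(ts²)` modulo 2 (`s = a`, `t = b`) -/
theorem chk_rel_pos : wordEqP chevF4 2 [(25, wb), (27, wa)]
    [(27, wa), (25, wb), (28, [(1, 1, 1)]), (30, [(1, 2, 1)])] = true := by
  decide +kernel

theorem chk_rel_neg : wordEqP chevF4 2 [(22, wb), (20, wa)]
    [(20, wa), (22, wb), (19, [(1, 1, 1)]), (17, [(1, 2, 1)])] = true := by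
  decide +kernel

end Cfsg.Agent.Helper59.F4Suz
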