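import Cfsg.Agent.Lib.Helper59.F4SuzChk
import Cfsg.Agent.Lib.Helper6.ChevGraphF4C
import Cfsg.Agent.Lib.Helper15.Ree4.Perfect

/-!
# `²F₄`: the endomorphism `σ` of `F₄(K)` and the `σ`-fixed generators
-/

set_option autoImplicit false
set_option linter.unusedSectionVars false
set_option linter.unusedVariables false
set_option maxRecDepth 100000

namespace Cfsg.Agent.Helper59.F4Suz

open Cfsg Cfsg.Lie Cfsg.Agent.Helper18 Cfsg.Agent.Helper15.Ree4 Cfsg.Agent.Helper6
open Cfsg.Agent.Helper6.ChevGraph Cfsg.Agent.Helper6.ChevGraph.F4 Cfsg.Agent.S1043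

section

variable {K : Type*} [Field K]

/-- root elements inside the group -/
noncomputable abbrev XG (r : ℕ) (t : K) : ↥(chevF4.group K) := xG goodF4 r t

theorem XG_val (r : ℕ) (t : K) : ((XG r t : ↥(chevF4.group K)) : GL chevF4.Idx K) = xg r t :=
  Units.ext rfl

theorem iota_XG (f : K →+* K) (r : ℕ) (hr : r < 48) (t : K) :
    ChevGraph.iota f (XG r t) = XG r (f t) := by
  apply Subtype.ext
  apply Units.ext
  rw [ChevGraph.iota_val]
  change (chevF4.x K r t).map f = chevF4.x K r (f t)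
  rw [ChevGraph.x_eq_xMat chevF4 ⟨r, hr⟩, ChevGraph.x_eq_xMat chevF4 ⟨r, hr⟩, ChevGraph.xMat_map]

/-- the commutator relation between `x_b` and `x_a` (positive side) in characteristic 2 -/
theorem rel_pos [CharP K 2] (s t : K) :
    xg 25 t * xg 27 s = xg 27 s * xg 25 t * xg 28 (s * t) * xg 30 (s ^ 2 * t) := by
  by_cases hs : s = 0
  · subst hs; simp [xg_zero]
  by_cases ht : t = 0
  · subst ht; simp [xg_zero]
  have h := wordMat_eq_of_wordEqP chevF4 2 (Units.mk0 s hs) (Units.mk0 t ht) _ _ chk_rel_pos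
  apply Units.ext
  have e1 : ((xg 25 t * xg 27 s : GL chevF4.Idx K) : Matrix chevF4.Idx chevF4.Idx K) =
      chevF4.wordMat K (evalWord (Units.mk0 s hs) (Units.mk0 t ht) [(25, wb), (27, wa)]) := by
    simp [evalWord, wa, wb, LP.eval, LP.evalMono, ChevalleyDatum.wordMat]
  have e2 : ((xg 27 s * xg 25 t * xg 28 (s * t) * xg 30 (s ^ 2 * t) : GL chevF4.Idx K) :
      Matrix chevF4.Idx chevF4.Idx K) =
      chevF4.wordMat K (evalWord (Units.mk0 s hs) (Units.mk0 t ht)
        [(27, wa), (25, wb), (28, [(1, 1, 1)]), (30, [(1, 2, 1)])]) := by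
    simp [evalWord, wa, wb, LP.eval, LP.evalMono, ChevalleyDatum.wordMat, mul_assoc]
  rw [e1, e2, h]

/-- the commutator relation between `x_{-b}` and `x_{-a}` (negative side) in characteristic 2 -/
theorem rel_neg [CharP K 2] (s t : K) :
    xg 22 t * xg 20 s = xg 20 s * xg 22 t * xg 19 (s * t) * xg 17 (s ^ 2 * t) := by
  by_cases hs : s = 0
  · subst hs; simp [xg_zero]
  by_cases ht : t = 0
  · subst ht; simp [xg_zero]
  have h := wordMat_eq_of_wordEqP chevF4 2 (Units.mk0 s hs) (Units.mk0 t ht) _ _ chk_rel_neg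
  apply Units.ext
  have e1 : ((xg 22 t * xg 20 s : GL chevF4.Idx K) : Matrix chevF4.Idx chevF4.Idx K) =
      chevF4.wordMat K (evalWord (Units.mk0 s hs) (Units.mk0 t ht) [(22, wb), (20, wa)]) := by
    simp [evalWord, wa, wb, LP.eval, LP.evalMono, ChevalleyDatum.wordMat]
  have e2 : ((xg 20 s * xg 22 t * xg 19 (s * t) * xg 17 (s ^ 2 * t) : GL chevF4.Idx K) :
      Matrix chevF4.Idx chevF4.Idx K) =
      chevF4.wordMat K (evalWord (Units.mk0 s hs) (Units.mk0 t ht)
        [(20, wa), (22, wb), (19, [(1, 1, 1)]), (17, [(1, 2, 1)])]) := by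
    simp [evalWord, wa, wb, LP.eval, LP.evalMono, ChevalleyDatum.wordMat, mul_assoc]
  rw [e1, e2, h]

end

section

variable {K : Type*} [Field K] [CharP K 2] {e : ℕ} (FD : FieldData K e)

/-- the field endomorphism `θ = (·)^e` -/
noncomputable def phi : K →+* K where
  toFun x := x ^ e
  map_one' := one_pow e
  map_mul' x y := mul_pow x y e
  map_zero' := zero_pow FD.epos
  map_add' x y := FD.add x y

theorem phi_apply (x : K) : phi FD x = x ^ e := rfl

variable (α : ↥(chevF4.group K) ≃* ↥(chevF4.group K))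
  (hα : ∀ (r : Fin chevF4.nroots) (t : K),
      α (xG goodF4 r.val t) = xG goodF4 (sig r.val) (if isShort r.val then t ^ 2 else t))

/-- the endomorphism `σ` -/
noncomputable def sigma : ↥(chevF4.group K) →* ↥(chevF4.group K) :=
  α.toMonoidHom.comp (ChevGraph.iota (phi FD))

include hα

theorem sigma_XG (r : ℕ) (hr : r < 48) (t : K) :
    sigma FD α (XG r t) = XG (sig r) (if isShort r then (t ^ e) ^ 2 else t ^ e) := by
  change α (ChevGraph.iota (phi FD) (XG r t)) = _
  rw [iota_XG _ r hr]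
  exact hα ⟨r, hr⟩ _

theorem sigma_short (r r' : ℕ) (hr : r < 48) (hs : isShort r = true) (hr' : sig r = r') (t : K) :
    sigma FD α (XG r t) = XG r' ((t ^ e) ^ 2) := by
  rw [sigma_XG FD α hα r hr, if_pos hs, hr']

theorem sigma_long (r r' : ℕ) (hr : r < 48) (hs : isShort r = false) (hr' : sig r = r') (t : K) :
    sigma FD α (XG r t) = XG r' (t ^ e) := by
  rw [sigma_XG FD α hα r hr, hs, hr']
  rfl

omit hα in
include FD in
theorem key_param (t u : K) : t * (t ^ e) ^ 2 + ((t ^ (e + 1) + u) ^ e) ^ 2 = u ^ (2 * e) := by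
  rw [FD.add, FD.sq_add]
  have h1 : ((t ^ (e + 1)) ^ e) ^ 2 = t * (t ^ e) ^ 2 := by
    have : ((t ^ (e + 1)) ^ e) ^ 2 = ((t ^ e) ^ e) ^ 2 * (t ^ e) ^ 2 := by ring
    rw [this, FD.sq]
  have h2 : (u ^ e) ^ 2 = u ^ (2 * e) := by ring
  rw [h1, h2, ← add_assoc, FD.add_self, zero_add]

/-- a pair word is `σ`-fixed -/
theorem pair_fixed (r r' : ℕ) (hr : r < 48) (hr' : r' < 48) (hs : isShort r = true)
    (hl : isShort r' = false) (h1 : sig r = r') (h2 : sig r' = r)
    (hc : ∀ x y : K, xg r x * xg r' y = xg r' y * xg r x) (t : K) :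
    sigma FD α (XG r (t ^ e) * XG r' t) = XG r (t ^ e) * XG r' t := by
  rw [map_mul, sigma_short FD α hα r r' hr hs h1, sigma_long FD α hα r' r hr' hl h2, FD.sq]
  apply Subtype.ext
  rw [Subgroup.coe_mul, Subgroup.coe_mul, XG_val, XG_val, hc]

/-- a `B₂`-class word is `σ`-fixed -/
theorem class_fixed (ra rb rab raab : ℕ) (h4 : ra < 48 ∧ rb < 48 ∧ rab < 48 ∧ raab < 48)
    (hs : isShort ra = true ∧ isShort rb = false ∧ isShort rab = true ∧ isShort raab = false)
    (hsig : sig ra = rb ∧ sig rb = ra ∧ sig rab = raab ∧ sig raab = rab)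
    (hrel : ∀ s t : K, xg rb t * xg ra s = xg ra s * xg rb t * xg rab (s * t) * xg raab (s ^ 2 * t))
    (hc : ∀ x y : K, xg rab x * xg raab y = xg raab y * xg rab x) (t u : K) :
    sigma FD α (XG ra (t ^ e) * XG rb t * XG rab (t ^ (e + 1) + u) * XG raab (u ^ (2 * e))) =
      XG ra (t ^ e) * XG rb t * XG rab (t ^ (e + 1) + u) * XG raab (u ^ (2 * e)) := by
  rw [map_mul, map_mul, map_mul, sigma_short FD α hα ra rb h4.1 hs.1 hsig.1,
    sigma_long FD α hα rb ra h4.2.1 hs.2.1 hsig.2.1,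
    sigma_short FD α hα rab raab h4.2.2.1 hs.2.2.1 hsig.2.2.1,
    sigma_long FD α hα raab rab h4.2.2.2 hs.2.2.2 hsig.2.2.2, FD.sq]
  apply Subtype.ext
  simp only [Subgroup.coe_mul, XG_val]
  have e1 : (u ^ (2 * e)) ^ e = u := by
    have : (u ^ (2 * e)) ^ e = ((u ^ e) ^ e) ^ 2 := by ring
    rw [this, FD.sq]
  have e2 : t ^ e * t + u = t ^ (e + 1) + u := by ring
  have e3 : (t ^ e) ^ 2 * t + ((t ^ (e + 1) + u) ^ e) ^ 2 = u ^ (2 * e) := by
    rw [mul_comm]; exact key_param FD t u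
  rw [e1, hrel (t ^ e) t]
  simp only [mul_assoc]
  rw [← mul_assoc (xg raab _) (xg raab _), xg_add, ← hc, ← mul_assoc (xg rab _) (xg rab _), xg_add,
    e2, e3]

omit hα in
theorem wordG_pair (r r' : ℕ) (t : K) : wordG (f4PairWord e r r' t) = xg r (t ^ e) * xg r' t := by
  simp [wordG, f4PairWord]

omit hα in
theorem wordG_class (ra rb rab raab : ℕ) (t u : K) : wordG (b2ClassWord e ra rb rab raab t u) =
    xg ra (t ^ e) * xg rb t * xg rab (t ^ (e + 1) + u) * xg raab (u ^ (2 * e)) := by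
  simp [wordG, b2ClassWord, mul_assoc]

/-- the twisted group consists of `σ`-fixed elements -/
theorem twisted_fixed : ∀ g ∈ twistedF4 K e, ∃ hg : g ∈ chevF4.group K,
    sigma FD α ⟨g, hg⟩ = ⟨g, hg⟩ := by
  intro g hg
  unfold twistedF4 ChevalleyDatum.genSubgroup at hg
  induction hg using Subgroup.closure_induction with
  | mem x hx =>
    obtain ⟨w, hw, hxw⟩ := hx
    have hxw' : x = wordG w := Units.ext (by rw [hxw, wordG_val])
    rcases hw with ⟨t, rfl | rfl⟩ | ⟨t, u, rfl | rfl⟩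
    · have h := pair_fixed FD α hα 33 24 (by decide) (by decide) (by decide) (by decide) (by decide)
        (by decide) (comm_pair 33 24 (by simp)) t
      have e1 : x = ((XG 33 (t ^ e) * XG 24 t : ↥(chevF4.group K)) : GL chevF4.Idx K) := by
        rw [hxw', wordG_pair, Subgroup.coe_mul, XG_val, XG_val]; rfl
      rw [e1]
      exact ⟨Subtype.property _, h⟩
    · have h := pair_fixed FD α hα 14 23 (by decide) (by decide) (by decide) (by decide) (by decide)
        (by decide) (comm_pair 14 23 (by simp)) t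
      have e1 : x = ((XG 14 (t ^ e) * XG 23 t : ↥(chevF4.group K)) : GL chevF4.Idx K) := by
        rw [hxw', wordG_pair, Subgroup.coe_mul, XG_val, XG_val]; rfl
      rw [e1]
      exact ⟨Subtype.property _, h⟩
    · have h := class_fixed FD α hα 27 25 28 30 (by decide) (by decide) (by decide)
        (fun s t => rel_pos s t) (comm_pair 28 30 (by simp)) t u
      have e1 : x = ((XG 27 (t ^ e) * XG 25 t * XG 28 (t ^ (e + 1) + u) * XG 30 (u ^ (2 * e)) :
          ↥(chevF4.group K)) : GL chevF4.Idx K) := by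
        rw [hxw', wordG_class]; simp only [Subgroup.coe_mul, XG_val]; rfl
      rw [e1]
      exact ⟨Subtype.property _, h⟩
    · have h := class_fixed FD α hα 20 22 19 17 (by decide) (by decide) (by decide)
        (fun s t => rel_neg s t) (comm_pair 19 17 (by simp)) t u
      have e1 : x = ((XG 20 (t ^ e) * XG 22 t * XG 19 (t ^ (e + 1) + u) * XG 17 (u ^ (2 * e)) :
          ↥(chevF4.group K)) : GL chevF4.Idx K) := by
        rw [hxw', wordG_class]; simp only [Subgroup.coe_mul, XG_val]; rfl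
      rw [e1]
      exact ⟨Subtype.property _, h⟩
  | one => exact ⟨Subgroup.one_mem _, map_one _⟩
  | mul x y _ _ ihx ihy =>
    obtain ⟨hx, ex⟩ := ihx
    obtain ⟨hy, ey⟩ := ihy
    refine ⟨mul_mem hx hy, ?_⟩
    have : (⟨x * y, mul_mem hx hy⟩ : ↥(chevF4.group K)) = ⟨x, hx⟩ * ⟨y, hy⟩ := rfl
    rw [this, map_mul, ex, ey]
  | inv x _ ihx =>
    obtain ⟨hx, ex⟩ := ihx
    refine ⟨inv_mem hx, ?_⟩
    have : (⟨x⁻¹, inv_mem hx⟩ : ↥(chevF4.group K)) = ⟨x, hx⟩⁻¹ := rfl
    rw [this, map_inv, ex]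

end

end Cfsg.Agent.Helper59.F4Suz
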