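import Cfsg.Agent.Lib.Helper59.F4SuzFix

/-!
# `²F₄`: the torus elements `h_{p₂}(s^θ) h_{p₃}(s)` lie in the twisted group
-/

set_option autoImplicit false
set_option linter.unusedSectionVars false
set_option linter.unusedVariables false
set_option maxRecDepth 100000

namespace Cfsg.Agent.Helper59.F4Suz

open Cfsg Cfsg.Lie Cfsg.Agent.Helper18 Cfsg.Agent.Helper15.Ree4 Cfsg.Agent.Helper6
open Cfsg.Agent.Helper6.ChevGraph Cfsg.Agent.Helper6.ChevGraph.F4 Cfsg.Agent.S1043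

section

variable {K : Type*} [Field K] [CharP K 2] {e : ℕ} (FD : FieldData K e)

theorem wordG_eq_of_wordEqP (a b : Kˣ) (w1 w2 : List (ℕ × LP))
    (h : wordEqP chevF4 2 w1 w2 = true) :
    wordG (evalWord a b w1) = wordG (evalWord a b w2) :=
  Units.ext (by rw [wordG_val, wordG_val]; exact wordMat_eq_of_wordEqP chevF4 2 a b w1 w2 h)

theorem eval_wS (a b : Kˣ) : wordG (evalWord a b (wS 27 25 28 30 19 17)) =
    (xg 27 ((a : K) * (b : K)⁻¹) * xg 25 (((a : K) ^ 2)⁻¹ * (b : K)) * xg 28 ((a : K)⁻¹)) *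
    (xg 19 (a : K) * xg 17 (b : K)) *
    (xg 27 ((a : K) * (b : K)⁻¹) * xg 25 (((a : K) ^ 2)⁻¹ * (b : K)) * xg 30 ((b : K)⁻¹)) := by
  simp [evalWord, wS, LP.eval, LP.evalMono, wordG, mul_assoc]

theorem eval_wS1inv (a b : Kˣ) : wordG (evalWord a b (wS1inv 27 25 28 30 19 17)) =
    xg 30 (1 : K) * xg 25 1 * xg 27 1 * (xg 17 1 * xg 19 1) * (xg 28 1 * xg 25 1 * xg 27 1) := by
  simp [evalWord, wS1inv, kq, LP.eval, LP.evalMono, wordG, mul_assoc]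

/-- `h_r(t)` as a word -/
noncomputable def Hr (r nr : ℕ) (t : Kˣ) : GL chevF4.Idx K :=
  wordG [(r, (t : K)), (nr, -((t⁻¹ : Kˣ) : K)), (r, (t : K)), (r, -1), (nr, 1), (r, -1)]

theorem eval_hWm (a b : Kˣ) (r nr : ℕ) (i j : ℤ) :
    wordG (evalWord a b (hWm r nr i j)) = Hr r nr (a ^ i * b ^ j) := by
  unfold Hr
  congr 1
  simp [evalWord, hWm, kq, LP.eval, LP.evalMono, mul_comm]

include FD

theorem class_mem_pos (t u : K) :
    xg 27 (t ^ e) * xg 25 t * xg 28 (t ^ (e + 1) + u) * xg 30 (u ^ (2 * e)) ∈ twistedF4 K e := by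
  refine Subgroup.subset_closure ⟨b2ClassWord e f4a f4b f4ab f4aab t u, Or.inr ⟨t, u, Or.inl rfl⟩, ?_⟩
  rw [← wordG_val, wordG_class]
  rfl

theorem class_mem_neg (t u : K) :
    xg 20 (t ^ e) * xg 22 t * xg 19 (t ^ (e + 1) + u) * xg 17 (u ^ (2 * e)) ∈ twistedF4 K e := by
  refine Subgroup.subset_closure ⟨b2ClassWord e f4ma f4mb f4mab f4maab t u, Or.inr ⟨t, u, Or.inr rfl⟩, ?_⟩
  rw [← wordG_val, wordG_class]
  rfl

/-- the Suzuki word lies in the twisted group on the locus `b = a^(2θ)` -/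
theorem wS_mem (a b : Kˣ) (hab : (b : K) = (a : K) ^ (2 * e)) :
    wordG (evalWord a b (wS 27 25 28 30 19 17)) ∈ twistedF4 K e := by
  rw [eval_wS]
  have ha : (a : K) ≠ 0 := a.ne_zero
  have hb : (b : K) ≠ 0 := b.ne_zero
  have he0 : (0 : K) ^ e = 0 := zero_pow FD.epos
  have he1 : (0 : K) ^ (e + 1) = 0 := zero_pow (by omega)
  have he2 : (0 : K) ^ (2 * e) = 0 := zero_pow (by have := FD.epos; omega)
  -- the parameter `t`
  have hbe : (b : K) ^ e = (a : K) := by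
    rw [hab]
    have : ((a : K) ^ (2 * e)) ^ e = (((a : K) ^ e) ^ e) ^ 2 := by ring
    rw [this, FD.sq]
  have ht : (((a : K) ^ 2)⁻¹ * (b : K)) ^ e = (a : K) * (b : K)⁻¹ := by
    rw [mul_pow, inv_pow, hbe]
    have : ((a : K) ^ 2) ^ e = (b : K) := by rw [hab]; ring
    rw [this, mul_comm]
  have ht1 : (((a : K) ^ 2)⁻¹ * (b : K)) ^ (e + 1) = (a : K)⁻¹ := by
    rw [pow_succ, ht]
    field_simp
  have hu : ((a : K)⁻¹) ^ (2 * e) = (b : K)⁻¹ := by rw [inv_pow, hab]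
  have m1 := class_mem_pos FD (((a : K) ^ 2)⁻¹ * (b : K)) 0
  rw [ht, ht1, add_zero, he2, xg_zero, mul_one] at m1
  have m2 := class_mem_neg FD (0 : K) (a : K)
  rw [he0, he1, zero_add, xg_zero, xg_zero, one_mul, one_mul, ← hab] at m2
  have m3 := class_mem_pos FD (((a : K) ^ 2)⁻¹ * (b : K)) ((a : K)⁻¹)
  rw [ht, ht1, FD.add_self, xg_zero, mul_one, hu] at m3
  exact mul_mem (mul_mem m1 m2) m3

/-- the inverse of the Suzuki word at `a = b = 1` lies in the twisted group -/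
theorem wS1inv_mem (a b : Kˣ) : wordG (evalWord a b (wS1inv 27 25 28 30 19 17)) ∈ twistedF4 K e := by
  have h1 := wS_mem FD (1 : Kˣ) (1 : Kˣ) (by simp)
  rw [eval_wS] at h1
  have h2 := inv_mem h1
  have e1 : wordG (evalWord a b (wS1inv 27 25 28 30 19 17)) =
      ((xg 27 (((1 : Kˣ) : K) * ((1 : Kˣ) : K)⁻¹) * xg 25 ((((1 : Kˣ) : K) ^ 2)⁻¹ * ((1 : Kˣ) : K)) *
        xg 28 (((1 : Kˣ) : K)⁻¹)) * (xg 19 ((1 : Kˣ) : K) * xg 17 ((1 : Kˣ) : K)) *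
      (xg 27 (((1 : Kˣ) : K) * ((1 : Kˣ) : K)⁻¹) * xg 25 ((((1 : Kˣ) : K) ^ 2)⁻¹ * ((1 : Kˣ) : K)) *
        xg 30 (((1 : Kˣ) : K)⁻¹)))⁻¹ := by
    rw [eval_wS1inv]
    simp only [Units.val_one, inv_one, one_pow, mul_one, mul_inv_rev, xg_inv, FD.neg_eq, mul_assoc]
  rw [e1]
  exact h2

/-- the torus element `h_{p₂}(b⁻¹) h_{p₃}(a⁻²)` lies in the twisted group on the locus `b = a^(2θ)` -/
theorem suz_torus_mem (a b : Kˣ) (hab : (b : K) = (a : K) ^ (2 * e)) :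
    Hr 27 20 (a ^ (0 : ℤ) * b ^ (-1 : ℤ)) * Hr 25 22 (a ^ (-2 : ℤ) * b ^ (0 : ℤ)) ∈ twistedF4 K e := by
  have h := wordG_eq_of_wordEqP a b _ _ chk_suz_pos
  rw [evalWord_append, evalWord_append, wordG_append, wordG_append, eval_hWm, eval_hWm] at h
  rw [← h]
  exact mul_mem (wS_mem FD a b hab) (wS1inv_mem FD a b)

end

end Cfsg.Agent.Helper59.F4Suz
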