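import Mathlib
import Cfsg.Agent.Lib.Helper89.OutES.AutHeis2

set_option autoImplicit false
set_option linter.unusedSectionVars false

namespace Cfsg.Agent.Helper59.Griess

open Cfsg.Agent.Helper89 Matrix

variable {ι : Type} [Fintype ι] [DecidableEq ι] {M : Matrix ι ι (ZMod 2)}

/-- polar form of `bform M` -/
def pol (M : Matrix ι ι (ZMod 2)) (v w : ι → ZMod 2) : ZMod 2 := bform M v w + bform M w v

theorem bform_smul_left (t : ZMod 2) (v w : ι → ZMod 2) :
    bform M (t • v) w = t * bform M v w := by
  unfold bform; rw [smul_dotProduct]; rfl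

theorem bform_smul_right (t : ZMod 2) (v w : ι → ZMod 2) :
    bform M v (t • w) = t * bform M v w := by
  unfold bform; rw [Matrix.mulVec_smul, dotProduct_smul]; rfl

theorem pol_add_left (u v w : ι → ZMod 2) : pol M (u + v) w = pol M u w + pol M v w := by
  unfold pol; rw [bform_add_left, bform_add_right]; ring

theorem pol_add_right (u v w : ι → ZMod 2) : pol M u (v + w) = pol M u v + pol M u w := by
  unfold pol; rw [bform_add_left, bform_add_right]; ring

theorem pol_smul_left (t : ZMod 2) (v w : ι → ZMod 2) : pol M (t • v) w = t * pol M v w := by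
  unfold pol; rw [bform_smul_left, bform_smul_right]; ring

theorem pol_self (v : ι → ZMod 2) : pol M v v = 0 := zmod2_add_self _

theorem pol_comm (v w : ι → ZMod 2) : pol M v w = pol M w v := add_comm _ _

/-- the reflection in `s` -/
def refl (M : Matrix ι ι (ZMod 2)) (s v : ι → ZMod 2) : ι → ZMod 2 := v + pol M v s • s

theorem refl_add (s v w : ι → ZMod 2) : refl M s (v + w) = refl M s v + refl M s w := by
  unfold refl; rw [pol_add_left, add_smul]; abel

theorem refl_of_zero {s v : ι → ZMod 2} (h : pol M v s = 0) : refl M s v = v := by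
  unfold refl; rw [h, zero_smul, add_zero]

theorem refl_of_one {s v : ι → ZMod 2} (h : pol M v s = 1) : refl M s v = v + s := by
  unfold refl; rw [h, one_smul]

theorem pol_refl_self (s v : ι → ZMod 2) : pol M (refl M s v) s = pol M v s := by
  unfold refl; rw [pol_add_left, pol_smul_left, pol_self, mul_zero, add_zero]

theorem refl_refl (s v : ι → ZMod 2) : refl M s (refl M s v) = v := by
  show refl M s v + pol M (refl M s v) s • s = v
  rw [pol_refl_self]
  unfold refl
  rw [add_assoc, ← add_smul, zmod2_add_self, zero_smul, add_zero]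

theorem refl_comm {s t : ι → ZMod 2} (h : pol M s t = 0) (v : ι → ZMod 2) :
    refl M s (refl M t v) = refl M t (refl M s v) := by
  have h' : pol M t s = 0 := by rw [pol_comm]; exact h
  unfold refl
  simp only [pol_add_left, pol_smul_left, h, h', mul_zero, add_zero]
  abel

/-- The automorphism of `Heis M` inducing the reflection in a non-singular vector. -/
def reflHom (s : ι → ZMod 2) (hs : bform M s s = 1) : Heis M →* Heis M where
  toFun x := ⟨x.a + pol M x.v s * bform M x.v s, refl M s x.v⟩
  map_one' := by
    apply Heis.ext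
    · simp [pol]
    · simp [refl, pol]
  map_mul' x y := by
    apply Heis.ext
    · simp only [Heis.mul_a, Heis.mul_v, refl, pol_add_left, bform_add_left, bform_add_right,
        bform_smul_left, bform_smul_right, hs]
      unfold pol
      generalize bform M x.v y.v = fxy
      generalize bform M x.v s = fxs
      generalize bform M s x.v = fsx
      generalize bform M y.v s = fys
      generalize bform M s y.v = fsy
      generalize x.a = xa
      generalize y.a = ya
      revert fxy fxs fsx fys fsy xa ya
      decide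
    · simp only [Heis.mul_v]
      exact refl_add _ _ _

theorem reflHom_bijective (s : ι → ZMod 2) (hs : bform M s s = 1) :
    Function.Bijective (reflHom s hs : Heis M → Heis M) := by
  have hinj : Function.Injective (reflHom s hs : Heis M → Heis M) := by
    intro x y hxy
    have hv : refl M s x.v = refl M s y.v := congrArg Heis.v hxy
    have hv' : x.v = y.v := by
      have := congrArg (refl M s) hv
      rwa [refl_refl, refl_refl] at this
    have ha : x.a + pol M x.v s * bform M x.v s = y.a + pol M y.v s * bform M y.v s :=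
      congrArg Heis.a hxy
    rw [hv'] at ha
    exact Heis.ext (add_right_cancel ha) hv'
  exact ⟨hinj, Finite.injective_iff_surjective.mp hinj⟩

/-- The automorphism of `Heis M` inducing the reflection in a non-singular vector. -/
noncomputable def reflAut (s : ι → ZMod 2) (hs : bform M s s = 1) : MulAut (Heis M) :=
  MulEquiv.ofBijective (reflHom s hs) (reflHom_bijective s hs)

theorem reflAut_lift (s : ι → ZMod 2) (hs : bform M s s = 1) (v : ι → ZMod 2) :
    reflAut s hs (Heis.lift v : Heis M) = ⟨pol M v s * bform M v s, refl M s v⟩ := by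
  apply Heis.ext
  · show (0 : ZMod 2) + pol M v s * bform M v s = _
    rw [zero_add]
  · rfl

section main

open Heis

/-- conjugation on `Heis M` in coordinates -/
theorem conj_apply' (g x : Heis M) : MulAut.conj g x = ⟨pol M g.v x.v + x.a, x.v⟩ := by
  rw [MulAut.conj_apply, Heis.conj_eq, Heis.cen_mul]; rfl

/-- the `a`-component of the lift of a reflection, twisted by the inner automorphism of `g` -/
def hh (M : Matrix ι ι (ZMod 2)) (s g v : ι → ZMod 2) : ZMod 2 :=
  pol M v s * bform M v s + pol M g (refl M s v)

variable (hG : Good (Heis M) Heis.cc) (hB : (M + Mᵀ) * (M + Mᵀ) = 1)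
variable (L : Subgroup (MulAut (Heis M))) (hL : (Cfsg.Inn (Heis M)).IsComplement' L)

include hL in
/-- every reflection has a lift in `L` of explicit shape -/
theorem exists_lift (s : ι → ZMod 2) (hs : bform M s s = 1) :
    ∃ l ∈ L, ∃ g : ι → ZMod 2, ∀ v, l (lift v) = ⟨hh M s g v, refl M s v⟩ := by
  obtain ⟨⟨i, l⟩, hil, -⟩ := hL.existsUnique (reflAut s hs)
  obtain ⟨g, hg⟩ := i.2
  refine ⟨l.1, l.2, g.v, ?_⟩
  intro v
  have h1 : l.1 = MulAut.conj g⁻¹ * reflAut s hs := by
    rw [← hil, ← hg, ← mul_assoc, ← map_mul, inv_mul_cancel, map_one, one_mul]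
  rw [h1, MulAut.mul_apply, reflAut_lift, conj_apply']
  apply Heis.ext
  · simp only [Heis.inv_v, hh]; ring
  · rfl

include hG hB hL in
theorem eq_of_bar_eq (l l' : MulAut (Heis M)) (hl : l ∈ L) (hl' : l' ∈ L)
    (h : ∀ v, (l (lift v)).v = (l' (lift v)).v) : l = l' := by
  have h1 : l'⁻¹ * l ∈ (Heis.theta hG).ker := by
    rw [MonoidHom.mem_ker, Heis.theta_eq_one_iff]
    intro v
    rw [MulAut.mul_apply, Heis.v_aut_eq hG l'⁻¹ (l (lift v)), h v,
      ← Heis.v_aut_eq hG l'⁻¹ (l' (lift v)), MulAut.inv_apply_self]
    rfl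
  rw [Heis.ker_eq_inn hG hB] at h1
  have h2 : l'⁻¹ * l ∈ L := L.mul_mem (L.inv_mem hl') hl
  have h3 := Subgroup.disjoint_def.mp hL.disjoint h1 h2
  exact (inv_mul_eq_one.mp h3).symm

include hG in
theorem comp_lift {s t gs gt : ι → ZMod 2} {ls lt : MulAut (Heis M)}
    (hls : ∀ v, ls (lift v) = ⟨hh M s gs v, refl M s v⟩)
    (hlt : ∀ v, lt (lift v) = ⟨hh M t gt v, refl M t v⟩) (v : ι → ZMod 2) :
    (ls * lt) (lift v) = ⟨hh M t gt v + hh M s gs (refl M t v), refl M s (refl M t v)⟩ := by
  rw [MulAut.mul_apply, hlt, Heis.aut_apply hG ls, hls]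

include hG in
theorem key_inv {s gs : ι → ZMod 2} {ls : MulAut (Heis M)}
    (hls : ∀ v, ls (lift v) = ⟨hh M s gs v, refl M s v⟩) (hs : bform M s s = 1)
    (hinv : ls * ls = 1) {v : ι → ZMod 2} (hv : pol M v s = 1) : pol M gs s = 1 := by
  have h1 := comp_lift hG hls hls v
  rw [hinv] at h1
  have h2 : (0 : ZMod 2) = hh M s gs v + hh M s gs (refl M s v) := congrArg Heis.a h1
  unfold hh at h2
  rw [refl_refl, refl_of_one hv, pol_add_left, pol_self, hv, bform_add_left, hs, pol_add_right]
    at h2
  generalize bform M v s = x at h2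
  generalize pol M gs v = y at h2
  generalize pol M gs s = z at h2 ⊢
  revert x y z
  decide

include hG in
theorem key_comm {s t gs gt : ι → ZMod 2} {ls lt : MulAut (Heis M)}
    (hls : ∀ v, ls (lift v) = ⟨hh M s gs v, refl M s v⟩)
    (hlt : ∀ v, lt (lift v) = ⟨hh M t gt v, refl M t v⟩)
    (hcomm : ls * lt = lt * ls) (hst : pol M s t = 0) {v : ι → ZMod 2}
    (hv : pol M v t = 1) (hv' : pol M v s = 0) : pol M gs t = 0 := by
  have h1 := comp_lift hG hls hlt v
  have h2 := comp_lift hG hlt hls v
  rw [hcomm, h2] at h1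
  have h3 : hh M s gs v + hh M t gt (refl M s v) = hh M t gt v + hh M s gs (refl M t v) :=
    congrArg Heis.a h1
  have hts : pol M t s = 0 := by rw [pol_comm]; exact hst
  rw [refl_of_zero hv', refl_of_one hv] at h3
  unfold hh at h3
  have h4 : pol M (v + t) s = 0 := by rw [pol_add_left, hv', hts, add_zero]
  rw [refl_of_zero hv', refl_of_zero h4, h4, hv', pol_add_right] at h3
  generalize pol M gs v = x at h3
  generalize pol M gs t = y at h3 ⊢
  generalize pol M v t * bform M v t + pol M gt (refl M t v) = z at h3
  generalize bform M v s = w at h3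
  generalize bform M (v + t) s = w' at h3
  revert x y z w w'
  decide

include hG hB hL in
/-- Griess: three pairwise orthogonal non-singular vectors obstruct a complement. -/
theorem no_complement_aux (a b c va vb vc vd : ι → ZMod 2)
    (qa : bform M a a = 1) (qb : bform M b b = 1) (qc : bform M c c = 1)
    (hab : pol M a b = 0) (hac : pol M a c = 0) (hbc : pol M b c = 0)
    (hva : pol M va a = 1)
    (hvb : pol M vb b = 1) (hvb' : pol M vb a = 0)
    (hvc : pol M vc c = 1) (hvc' : pol M vc a = 0)
    (hvd : pol M vd (a + b + c) = 1) (hvd' : pol M vd a = 0) : False := by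
  have hba : pol M b a = 0 := by rw [pol_comm]; exact hab
  have hca : pol M c a = 0 := by rw [pol_comm]; exact hac
  have hcb : pol M c b = 0 := by rw [pol_comm]; exact hbc
  have qd : bform M (a + b + c) (a + b + c) = 1 := by
    unfold pol at hab hac hbc
    simp only [bform_add_left, bform_add_right, qa, qb, qc]
    generalize bform M a b = x1 at *
    generalize bform M b a = x2 at *
    generalize bform M a c = x3 at *
    generalize bform M c a = x4 at *
    generalize bform M b c = x5 at *
    generalize bform M c b = x6 at *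
    revert x1 x2 x3 x4 x5 x6
    decide
  have had : pol M a (a + b + c) = 0 := by
    rw [pol_add_right, pol_add_right, pol_self, hab, hac]; rfl
  obtain ⟨la, hla, ga, hga⟩ := exists_lift L hL a qa
  obtain ⟨lb, hlb, gb, hgb⟩ := exists_lift L hL b qb
  obtain ⟨lc, hlc, gc, hgc⟩ := exists_lift L hL c qc
  obtain ⟨ld, hld, gd, hgd⟩ := exists_lift L hL (a + b + c) qd
  have hinv : la * la = 1 := by
    apply eq_of_bar_eq hG hB L hL _ _ (L.mul_mem hla hla) L.one_mem
    intro v
    rw [comp_lift hG hga hga]
    show refl M a (refl M a v) = v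
    exact refl_refl a v
  have hcomm : ∀ {t gt : ι → ZMod 2} {lt : MulAut (Heis M)}, lt ∈ L →
      (∀ v, lt (lift v) = ⟨hh M t gt v, refl M t v⟩) → pol M a t = 0 → la * lt = lt * la := by
    intro t gt lt hlt hgt hat
    apply eq_of_bar_eq hG hB L hL _ _ (L.mul_mem hla hlt) (L.mul_mem hlt hla)
    intro v
    rw [comp_lift hG hga hgt, comp_lift hG hgt hga]
    exact refl_comm hat v
  have e1 : pol M ga a = 1 := key_inv hG hga qa hinv hva
  have e2 : pol M ga b = 0 := key_comm hG hga hgb (hcomm hlb hgb hab) hab hvb hvb'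
  have e3 : pol M ga c = 0 := key_comm hG hga hgc (hcomm hlc hgc hac) hac hvc hvc'
  have e4 : pol M ga (a + b + c) = 0 := key_comm hG hga hgd (hcomm hld hgd had) had hvd hvd'
  rw [pol_add_right, pol_add_right, e1, e2, e3] at e4
  revert e4
  decide

end main

end Cfsg.Agent.Helper59.Griess
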