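import Mathlib

set_option autoImplicit false
set_option linter.unusedSectionVars false
set_option linter.unusedSimpArgs false

namespace Cfsg.Agent.Helper59

open MulAction
open scoped Pointwise

section Hamming

variable {ι A : Type*} [Fintype ι] [DecidableEq ι] [DecidableEq A]

/-- The general element of the wreath product acting on `ι → A`. -/
def wr (τ : ι → Equiv.Perm A) (π : Equiv.Perm ι) : Equiv.Perm (ι → A) where
  toFun x := fun k => τ k (x (π k))
  invFun z := fun j => (τ (π.symm j)).symm (z (π.symm j))
  left_inv x := by funext j; simp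
  right_inv z := by funext k; simp

@[simp] theorem wr_apply (τ : ι → Equiv.Perm A) (π : Equiv.Perm ι) (x : ι → A) (k : ι) :
    wr τ π x k = τ k (x (π k)) := rfl

theorem hammingDist_wr (τ : ι → Equiv.Perm A) (π : Equiv.Perm ι) (x y : ι → A) :
    hammingDist (wr τ π x) (wr τ π y) = hammingDist x y := by
  unfold hammingDist
  apply Finset.card_bijective π π.bijective
  intro k
  simp only [Finset.mem_filter, Finset.mem_univ, true_and, wr_apply, ne_eq,
    EmbeddingLike.apply_eq_iff_eq]

variable (ι A) in
/-- The isometry group of the Hamming metric. -/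
def hamIso : Subgroup (Equiv.Perm (ι → A)) where
  carrier := {σ | ∀ x y, hammingDist (σ x) (σ y) = hammingDist x y}
  mul_mem' := by
    intro a b ha hb x y
    rw [Equiv.Perm.mul_apply, Equiv.Perm.mul_apply, ha, hb]
  one_mem' := by intro x y; rfl
  inv_mem' := by
    intro a ha x y
    have := ha (a⁻¹ x) (a⁻¹ y)
    rw [Equiv.Perm.inv_def, Equiv.apply_symm_apply, Equiv.apply_symm_apply] at this
    exact this.symm

theorem mem_hamIso {σ : Equiv.Perm (ι → A)} :
    σ ∈ hamIso ι A ↔ ∀ x y, hammingDist (σ x) (σ y) = hammingDist x y := Iff.rfl

theorem wr_mem (τ : ι → Equiv.Perm A) (π : Equiv.Perm ι) : wr τ π ∈ hamIso ι A :=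
  fun x y => hammingDist_wr τ π x y

/-- a permutation of `A` with prescribed values at two points -/
theorem exists_perm_two {p q p' q' : A} (h : p ≠ q) (h' : p' ≠ q') :
    ∃ τ : Equiv.Perm A, τ p = p' ∧ τ q = q' := by
  refine ⟨Equiv.swap (Equiv.swap p p' q) q' * Equiv.swap p p', ?_, ?_⟩
  · rw [Equiv.Perm.mul_apply, Equiv.swap_apply_left]
    apply Equiv.swap_apply_of_ne_of_ne
    · intro hh
      have : Equiv.swap p p' p = Equiv.swap p p' q := by rw [Equiv.swap_apply_left]; exact hh
      exact h ((Equiv.swap p p').injective this)
    · exact h'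
  · rw [Equiv.Perm.mul_apply, Equiv.swap_apply_left]

instance : IsPretransitive (hamIso ι A) (ι → A) where
  exists_smul_eq x y := by
    refine ⟨⟨wr (fun k => Equiv.swap (x k) (y k)) 1, wr_mem _ _⟩, ?_⟩
    funext k
    show wr (fun k => Equiv.swap (x k) (y k)) 1 x k = y k
    simp

theorem smul_def' (g : hamIso ι A) (x : ι → A) : g • x = (g : Equiv.Perm (ι → A)) x := rfl

/-- a block that contains two points differing in exactly one coordinate is closed under
single-coordinate changes. -/
theorem block_closed {B : Set (ι → A)} (hB : IsBlock (hamIso ι A) B)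
    {y : ι → A} {i : ι} {w : A} (hy : y ∈ B) (hw : w ≠ y i) (hy' : Function.update y i w ∈ B)
    {z : ι → A} (hz : z ∈ B) (j : ι) (w' : A) : Function.update z j w' ∈ B := by
  by_cases hw' : w' = z j
  · rw [hw', Function.update_eq_self]; exact hz
  · obtain ⟨τj, hτ1, hτ2⟩ := exists_perm_two (Ne.symm hw) (Ne.symm hw')
    let π : Equiv.Perm ι := Equiv.swap i j
    let τ : ι → Equiv.Perm A := fun k => if k = j then τj else Equiv.swap (y (π k)) (z k)
    let h : hamIso ι A := ⟨wr τ π, wr_mem τ π⟩
    have h1 : h • y = z := by
      funext k
      show wr τ π y k = z k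
      rw [wr_apply]
      by_cases hk : k = j
      · simp only [τ, if_pos hk, π, hk, Equiv.swap_apply_right]; exact hτ1
      · simp only [τ, if_neg hk, Equiv.swap_apply_left]
    have h2 : h • Function.update y i w = Function.update z j w' := by
      funext k
      show wr τ π (Function.update y i w) k = Function.update z j w' k
      rw [wr_apply]
      by_cases hk : k = j
      · simp only [τ, if_pos hk, π, hk, Equiv.swap_apply_right, Function.update_self]; exact hτ2
      · have hπk : π k ≠ i := by
          intro hh
          apply hk
          have : π k = π j := by rw [hh]; simp [π]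
          exact π.injective this
        simp only [τ, if_neg hk, Function.update_of_ne hπk, Function.update_of_ne hk,
          Equiv.swap_apply_left]
    have h3 : h • B = B := hB.smul_eq_of_mem hy (by rw [h1]; exact hz)
    rw [← h2, ← h3]
    exact Set.smul_mem_smul_set hy'

theorem isPreprimitive_hamIso [Fintype A] (hA : 3 ≤ Fintype.card A) :
    IsPreprimitive (hamIso ι A) (ι → A) := by
  have hne : Nonempty A := by
    rw [← Fintype.card_pos_iff]; omega
  obtain ⟨a₀⟩ := hne
  let x₀ : ι → A := fun _ => a₀
  apply IsPreprimitive.of_isTrivialBlock_base x₀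
  intro B hx₀ hB
  by_cases hsub : B.Subsingleton
  · exact Or.inl hsub
  · right
    -- a second point
    have : ∃ y ∈ B, y ≠ x₀ := by
      by_contra hcon
      push Not at hcon
      apply hsub
      intro a ha b hb
      rw [hcon a ha, hcon b hb]
    obtain ⟨y, hyB, hyx⟩ := this
    have : ∃ i, y i ≠ x₀ i := by
      by_contra hcon
      push Not at hcon
      exact hyx (funext hcon)
    obtain ⟨i, hi⟩ := this
    -- a third value
    have : ∃ w : A, w ≠ y i ∧ w ≠ a₀ := by
      by_contra hcon
      push Not at hcon
      have hsub : (Finset.univ : Finset A) ⊆ {y i, a₀} := by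
        intro w _
        by_cases h : w = y i
        · simp [h]
        · simp [hcon w h]
      have := Finset.card_le_card hsub
      have h2 : ({y i, a₀} : Finset A).card ≤ 2 := Finset.card_le_two
      rw [Finset.card_univ] at this
      omega
    obtain ⟨w, hw1, hw2⟩ := this
    -- the isometry fixing x₀ and moving y
    let τ : ι → Equiv.Perm A := fun k => if k = i then Equiv.swap (y i) w else 1
    let g : hamIso ι A := ⟨wr τ 1, wr_mem τ 1⟩
    have hg0 : g • x₀ = x₀ := by
      funext k
      show wr τ 1 x₀ k = x₀ k
      rw [wr_apply]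
      by_cases hk : k = i
      · simp only [τ, if_pos hk, x₀]
        exact Equiv.swap_apply_of_ne_of_ne (Ne.symm hi) (Ne.symm hw2)
      · simp only [τ, if_neg hk]; rfl
    have hgy : g • y = Function.update y i w := by
      funext k
      show wr τ 1 y k = Function.update y i w k
      rw [wr_apply]
      by_cases hk : k = i
      · subst hk
        simp only [τ, if_true, Equiv.Perm.coe_one, id_eq, Equiv.swap_apply_left,
          Function.update_self]
      · simp only [τ, if_neg hk, Function.update_of_ne hk]; rfl
    have hgB : g • B = B := hB.smul_eq_of_mem hx₀ (by rw [hg0]; exact hx₀)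
    have hy'B : Function.update y i w ∈ B := by
      rw [← hgy, ← hgB]; exact Set.smul_mem_smul_set hyB
    have hclosed : ∀ z ∈ B, ∀ (j : ι) (w' : A), Function.update z j w' ∈ B :=
      fun z hz j w' => block_closed hB hyB hw1 hy'B hz j w'
    -- induction on the set of coordinates where z differs from x₀
    have hind : ∀ S : Finset ι, ∀ z : ι → A, (∀ k, k ∉ S → z k = x₀ k) → z ∈ B := by
      intro S
      induction S using Finset.induction_on with
      | empty =>
        intro z hz
        have : z = x₀ := funext fun k => hz k (Finset.notMem_empty k)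
        rw [this]; exact hx₀
      | insert j S hj ih =>
        intro z hz
        have h1 : Function.update z j (x₀ j) ∈ B := by
          apply ih
          intro k hk
          by_cases hkj : k = j
          · subst hkj; simp
          · rw [Function.update_of_ne hkj]
            apply hz
            simp [hkj, hk]
        have h2 := hclosed _ h1 j (z j)
        rw [Function.update_idem, Function.update_eq_self] at h2
        exact h2
    rw [Set.eq_univ_iff_forall]
    intro z
    exact hind Finset.univ z (fun k hk => absurd (Finset.mem_univ k) hk)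

theorem not_two_pretransitive_hamIso [Fintype A] (hA : 2 ≤ Fintype.card A)
    (hι : 2 ≤ Fintype.card ι) :
    ¬ IsMultiplyPretransitive (hamIso ι A) (ι → A) 2 := by
  intro h2
  rw [is_two_pretransitive_iff] at h2
  obtain ⟨a, b, hab⟩ := Fintype.exists_pair_of_one_lt_card (show 1 < Fintype.card A by omega)
  obtain ⟨i, j, hij⟩ := Fintype.exists_pair_of_one_lt_card (show 1 < Fintype.card ι by omega)
  let x₀ : ι → A := fun _ => a
  let y₁ : ι → A := Function.update x₀ i b
  let y₂ : ι → A := Function.update y₁ j b
  have h01 : x₀ ≠ y₁ := by
    intro h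
    have := congrFun h i
    simp only [x₀, y₁, Function.update_self] at this
    exact hab this
  have h02 : x₀ ≠ y₂ := by
    intro h
    have := congrFun h j
    simp only [x₀, y₂, Function.update_self] at this
    exact hab this
  obtain ⟨g, hg1, hg2⟩ := h2 h01 h02
  have hiso := g.2 x₀ y₁
  have e1 : (g : Equiv.Perm (ι → A)) x₀ = x₀ := hg1
  have e2 : (g : Equiv.Perm (ι → A)) y₁ = y₂ := hg2
  rw [e1, e2] at hiso
  have d1 : hammingDist x₀ y₁ = 1 := by
    unfold hammingDist
    rw [Finset.card_eq_one]
    refine ⟨i, ?_⟩
    ext k
    simp only [Finset.mem_filter, Finset.mem_univ, true_and, Finset.mem_singleton, y₁, x₀]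
    by_cases hk : k = i
    · subst hk; simp [hab]
    · simp [Function.update_of_ne hk, hk]
  have d2 : hammingDist x₀ y₂ = 2 := by
    unfold hammingDist
    rw [Finset.card_eq_two]
    refine ⟨i, j, hij, ?_⟩
    ext k
    simp only [Finset.mem_filter, Finset.mem_univ, true_and, Finset.mem_insert,
      Finset.mem_singleton, y₂, y₁, x₀]
    by_cases hkj : k = j
    · subst hkj; simp [hab]
    · rw [Function.update_of_ne hkj]
      by_cases hki : k = i
      · subst hki; simp [hab]
      · simp [Function.update_of_ne hki, hki, hkj]
  omega

end Hamming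

end Cfsg.Agent.Helper59
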