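import Mathlib
import Cfsg.Prelude.Def_Classical
import Cfsg.Agent.Lib.Helper14.IsomTransfer
import Cfsg.Agent.Lib.Lead.PerfectIndex
import Cfsg.Agent.Lib.Helper39.Families
import Cfsg.Agent.Lib.Helper5.SL23b
import Cfsg.Agent.Lib.Helper5.SL2Sylow
import Cfsg.Agent.S0288

/-!
# `SL₂(F(ω)) → O⁻₄(F)` via Hermitian `2 × 2` matrices

`L = F(ω)`, `ω² = -b + a ω`, is `QuadraticAlgebra F (-b) a`; its norm form is `z₁² + a z₁ z₂ + b z₂²`.
`SL₂(L)` acts on Hermitian matrices `[[x, w], [w̄, -y]]` by `A ↦ g A gᴴ`, preserving `-det = x y + N(w)`,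
which is `quadFormMinus 1 F a b`.
-/

set_option autoImplicit false
set_option linter.unusedSectionVars false
set_option linter.unusedSimpArgs false
set_option linter.style.haveILetI false

namespace Cfsg.Agent.Helper59.HermO4

open Matrix

variable {F : Type*} [Field F] {a b : F}

/-- the quadratic extension -/
abbrev L (F : Type*) [Field F] (a b : F) := QuadraticAlgebra F (-b) a

/-- the index type of the 4-dimensional space -/
abbrev I := (Fin 1 ⊕ Fin 1) ⊕ Fin 2

/-- the Hermitian matrix with coordinates `v` -/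
def Hm (v : I → F) : Matrix (Fin 2) (Fin 2) (L F a b) :=
  !![algebraMap F (L F a b) (v (.inl (.inl 0))), ⟨v (.inr 0), v (.inr 1)⟩;
     star (⟨v (.inr 0), v (.inr 1)⟩ : L F a b), - algebraMap F (L F a b) (v (.inl (.inr 0)))]

/-- coordinates of a matrix -/
def coords (A : Matrix (Fin 2) (Fin 2) (L F a b)) : I → F :=
  Sum.elim (Sum.elim (fun _ => (A 0 0).re) (fun _ => -(A 1 1).re)) ![(A 0 1).re, (A 0 1).im]

theorem coords_Hm (v : I → F) : coords (Hm (a := a) (b := b) v) = v := by
  funext i
  rcases i with (i | i) | i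
  · fin_cases i; simp [coords, Hm]
  · fin_cases i; simp [coords, Hm]
  · fin_cases i <;> simp [coords, Hm]

theorem star_algebraMap' (r : F) :
    star (algebraMap F (L F a b) r) = algebraMap F (L F a b) r := by
  ext <;> simp [QuadraticAlgebra.algebraMap_eq]

theorem Hm_isHermitian (v : I → F) : (Hm (a := a) (b := b) v).IsHermitian := by
  unfold Matrix.IsHermitian
  apply Matrix.ext
  intro i j
  fin_cases i <;> fin_cases j <;> simp [Hm, Matrix.conjTranspose_apply, star_algebraMap']

/-- the hypothesis that the conjugation is nontrivial on every element outside `F` -/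
def StarFixed (F : Type*) [Field F] (a b : F) : Prop :=
  ∀ z : L F a b, star z = z → z.im = 0

theorem Hm_coords (hs : StarFixed F a b) (A : Matrix (Fin 2) (Fin 2) (L F a b))
    (hA : A.IsHermitian) : Hm (coords A) = A := by
  have h00 : star (A 0 0) = A 0 0 := by
    have := congrFun (congrFun hA 0) 0
    simpa [Matrix.conjTranspose_apply] using this
  have h11 : star (A 1 1) = A 1 1 := by
    have := congrFun (congrFun hA 1) 1
    simpa [Matrix.conjTranspose_apply] using this
  have h10 : star (A 0 1) = A 1 0 := by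
    have := congrFun (congrFun hA 1) 0
    simpa [Matrix.conjTranspose_apply] using this
  apply Matrix.ext
  intro i j
  fin_cases i <;> fin_cases j
  · simp only [Hm, coords]
    ext
    · simp [QuadraticAlgebra.algebraMap_eq]
    · simp [QuadraticAlgebra.algebraMap_eq, hs _ h00]
  · simp [Hm, coords]
  · simp only [Hm, coords]
    simpa using h10
  · simp only [Hm, coords]
    ext
    · simp [QuadraticAlgebra.algebraMap_eq]
    · simp [QuadraticAlgebra.algebraMap_eq, hs _ h11]

/-- the quadratic form is minus the determinant -/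
theorem quad_eq (v : I → F) :
    algebraMap F (L F a b) (Cfsg.quadFormMinus 1 F a b v) = - (Hm (a := a) (b := b) v).det := by
  rw [Matrix.det_fin_two]
  unfold Cfsg.quadFormMinus Hm
  simp only [Fin.sum_univ_one, Matrix.of_apply, Matrix.cons_val', Matrix.cons_val_zero,
    Matrix.cons_val_one, Matrix.empty_val', Matrix.cons_val_fin_one, Matrix.head_cons,
    Matrix.head_fin_const]
  ext <;> simp [QuadraticAlgebra.algebraMap_eq] <;> ring

theorem Hm_add (v w : I → F) : Hm (a := a) (b := b) (v + w) = Hm v + Hm w := by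
  apply Matrix.ext
  intro i j
  fin_cases i <;> fin_cases j <;>
    (apply QuadraticAlgebra.ext <;> simp [Hm, QuadraticAlgebra.algebraMap_eq] <;> ring)

theorem Hm_smul (c : F) (v : I → F) : Hm (a := a) (b := b) (c • v) = c • Hm v := by
  apply Matrix.ext
  intro i j
  fin_cases i <;> fin_cases j <;>
    (apply QuadraticAlgebra.ext <;> simp [Hm, QuadraticAlgebra.algebraMap_eq] <;> ring)

theorem coords_add (A B : Matrix (Fin 2) (Fin 2) (L F a b)) :
    coords (A + B) = coords A + coords B := by
  funext i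
  rcases i with (i | i) | i
  · simp [coords]
  · simp [coords]; ring
  · fin_cases i <;> simp [coords]

theorem coords_smul (c : F) (A : Matrix (Fin 2) (Fin 2) (L F a b)) :
    coords (c • A) = c • coords A := by
  funext i
  rcases i with (i | i) | i
  · simp [coords]
  · simp [coords]
  · fin_cases i <;> simp [coords]

/-- the action of `g` on coordinates, as a linear map -/
def hL (g : Matrix (Fin 2) (Fin 2) (L F a b)) : (I → F) →ₗ[F] (I → F) where
  toFun v := coords (g * Hm v * gᴴ)
  map_add' v w := by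
    rw [Hm_add, Matrix.mul_add, Matrix.add_mul, coords_add]
  map_smul' c v := by
    rw [Hm_smul, Matrix.mul_smul, Matrix.smul_mul, coords_smul, RingHom.id_apply]

theorem hL_apply (g : Matrix (Fin 2) (Fin 2) (L F a b)) (v : I → F) :
    hL g v = coords (g * Hm v * gᴴ) := rfl

theorem hL_one : hL (1 : Matrix (Fin 2) (Fin 2) (L F a b)) = LinearMap.id := by
  apply LinearMap.ext
  intro v
  rw [hL_apply, Matrix.one_mul, Matrix.conjTranspose_one, Matrix.mul_one, coords_Hm]
  rfl

theorem Hm_coords_conj (hs : StarFixed F a b) (g : Matrix (Fin 2) (Fin 2) (L F a b))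
    (v : I → F) : Hm (coords (g * Hm v * gᴴ)) = g * Hm v * gᴴ :=
  Hm_coords hs _ (Matrix.isHermitian_mul_mul_conjTranspose g (Hm_isHermitian v))

theorem hL_mul (hs : StarFixed F a b) (g h : Matrix (Fin 2) (Fin 2) (L F a b)) :
    hL (g * h) = (hL g).comp (hL h) := by
  apply LinearMap.ext
  intro v
  rw [LinearMap.comp_apply, hL_apply, hL_apply, hL_apply, Hm_coords_conj hs,
    Matrix.conjTranspose_mul]
  simp only [Matrix.mul_assoc]

/-- the matrix of the action -/
noncomputable def hmat (g : Matrix (Fin 2) (Fin 2) (L F a b)) : Matrix I I F :=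
  LinearMap.toMatrix' (hL g)

theorem hmat_mulVec (g : Matrix (Fin 2) (Fin 2) (L F a b)) (v : I → F) :
    hmat g *ᵥ v = coords (g * Hm v * gᴴ) := by
  unfold hmat
  rw [LinearMap.toMatrix'_mulVec, hL_apply]

/-- `hmat` as a monoid homomorphism -/
noncomputable def hHom (hs : StarFixed F a b) :
    Matrix (Fin 2) (Fin 2) (L F a b) →* Matrix I I F where
  toFun := hmat
  map_one' := by
    unfold hmat
    rw [hL_one, LinearMap.toMatrix'_id]
  map_mul' g h := by
    unfold hmat
    rw [hL_mul hs, LinearMap.toMatrix'_comp]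

variable [hab : Fact (∀ r : F, r ^ 2 ≠ -b + a * r)]

/-- `SL₂(L) → GL₄(F)` -/
noncomputable def toGL (hs : StarFixed F a b) :
    Matrix.SpecialLinearGroup (Fin 2) (L F a b) →* Matrix.GeneralLinearGroup I F :=
  ((hHom hs).comp (Cfsg.slToMat 2 (L F a b))).toHomUnits

theorem toGL_coe (hs : StarFixed F a b) (g : Matrix.SpecialLinearGroup (Fin 2) (L F a b)) :
    ((toGL hs g : Matrix.GeneralLinearGroup I F) : Matrix I I F) =
      hmat (g : Matrix (Fin 2) (Fin 2) (L F a b)) := rfl

theorem quad_conj (hs : StarFixed F a b) (g : Matrix (Fin 2) (Fin 2) (L F a b))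
    (hg : g.det = 1) (v : I → F) :
    Cfsg.quadFormMinus 1 F a b (coords (g * Hm v * gᴴ)) = Cfsg.quadFormMinus 1 F a b v := by
  apply QuadraticAlgebra.algebraMap_injective (a := -b) (b := a)
  rw [quad_eq, quad_eq, Hm_coords_conj hs, Matrix.det_mul, Matrix.det_mul,
    Matrix.det_conjTranspose, hg, star_one, one_mul, mul_one]

theorem toGL_mem (hs : StarFixed F a b) (g : Matrix.SpecialLinearGroup (Fin 2) (L F a b)) :
    toGL hs g ∈ Cfsg.isometryGroup F (Cfsg.quadFormMinus 1 F a b) := by
  rw [Cfsg.Agent.Helper14.mem_isometryGroup_iff]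
  intro u
  rw [toGL_coe, hmat_mulVec, quad_conj hs _ g.2]

/-- the homomorphism `SL₂(L) → O⁻₄(F)` -/
noncomputable def toO (hs : StarFixed F a b) : Matrix.SpecialLinearGroup (Fin 2) (L F a b) →*
    Cfsg.isometryGroup F (Cfsg.quadFormMinus 1 F a b) :=
  (toGL hs).codRestrict _ (toGL_mem hs)

/-- elements of the kernel fix every Hermitian matrix -/
theorem ker_fix (hs : StarFixed F a b) (g : Matrix.SpecialLinearGroup (Fin 2) (L F a b))
    (hg : g ∈ (toO hs).ker) (v : I → F) :
    (g : Matrix (Fin 2) (Fin 2) (L F a b)) * Hm v * (g : Matrix (Fin 2) (Fin 2) (L F a b))ᴴ =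
      Hm v := by
  have h1 : toO hs g = 1 := MonoidHom.mem_ker.1 hg
  have h2 : toGL hs g = 1 := congrArg Subtype.val h1
  have h3 : hmat (g : Matrix (Fin 2) (Fin 2) (L F a b)) = 1 := by
    rw [← toGL_coe hs, h2]; rfl
  have h4 : hmat (g : Matrix (Fin 2) (Fin 2) (L F a b)) *ᵥ v = v := by
    rw [h3, Matrix.one_mulVec]
  rw [hmat_mulVec] at h4
  rw [← Hm_coords_conj hs, h4]

/-- elements of the kernel are `± 1` -/
theorem ker_entry (hs : StarFixed F a b) (g : Matrix.SpecialLinearGroup (Fin 2) (L F a b))
    (hg : g ∈ (toO hs).ker) :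
    ∃ r : L F a b, (r = 1 ∨ r = -1) ∧
      Matrix.scalar (Fin 2) r = (g : Matrix (Fin 2) (Fin 2) (L F a b)) := by
  have hE1 := ker_fix hs g hg (Pi.single (Sum.inl (Sum.inl 0)) 1)
  have hE2 := ker_fix hs g hg (Pi.single (Sum.inl (Sum.inr 0)) 1)
  have hE3 := ker_fix hs g hg (Pi.single (Sum.inr 0) 1)
  have hdet := g.det_coe
  rw [Matrix.det_fin_two] at hdet
  have z0 : (⟨0, 0⟩ : L F a b) = 0 := rfl
  have z1 : (⟨1, 0⟩ : L F a b) = 1 := rfl
  -- `g 1 0 = 0`
  have h10 : (g : Matrix (Fin 2) (Fin 2) (L F a b)) 1 0 = 0 := by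
    have h := congrFun (congrFun hE1 1) 1
    simp [Matrix.mul_apply, Fin.sum_univ_two, Hm, Matrix.conjTranspose_apply, z0] at h
    exact h
  have h01 : (g : Matrix (Fin 2) (Fin 2) (L F a b)) 0 1 = 0 := by
    have h := congrFun (congrFun hE2 0) 0
    simp [Matrix.mul_apply, Fin.sum_univ_two, Hm, Matrix.conjTranspose_apply, z0] at h
    exact h
  have hα : (g : Matrix (Fin 2) (Fin 2) (L F a b)) 0 0 *
      star ((g : Matrix (Fin 2) (Fin 2) (L F a b)) 0 0) = 1 := by
    have h := congrFun (congrFun hE1 0) 0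
    simp [Matrix.mul_apply, Fin.sum_univ_two, Hm, Matrix.conjTranspose_apply, z0] at h
    exact h
  have hαδ : (g : Matrix (Fin 2) (Fin 2) (L F a b)) 0 0 *
      star ((g : Matrix (Fin 2) (Fin 2) (L F a b)) 1 1) = 1 := by
    have h := congrFun (congrFun hE3 0) 1
    simp [Matrix.mul_apply, Fin.sum_univ_two, Hm, Matrix.conjTranspose_apply, h01, h10, z0, z1] at h
    exact h
  rw [h01, h10, mul_zero, sub_zero] at hdet
  have hα0 : (g : Matrix (Fin 2) (Fin 2) (L F a b)) 0 0 ≠ 0 := left_ne_zero_of_mul_eq_one hdet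
  have heq : (g : Matrix (Fin 2) (Fin 2) (L F a b)) 0 0 =
      (g : Matrix (Fin 2) (Fin 2) (L F a b)) 1 1 := by
    have : star ((g : Matrix (Fin 2) (Fin 2) (L F a b)) 0 0) =
        star ((g : Matrix (Fin 2) (Fin 2) (L F a b)) 1 1) :=
      mul_left_cancel₀ hα0 (hα.trans hαδ.symm)
    exact star_injective this
  refine ⟨(g : Matrix (Fin 2) (Fin 2) (L F a b)) 0 0, ?_, ?_⟩
  · rw [← heq] at hdet
    have : ((g : Matrix (Fin 2) (Fin 2) (L F a b)) 0 0 - 1) *
        ((g : Matrix (Fin 2) (Fin 2) (L F a b)) 0 0 + 1) = 0 := by linear_combination hdet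
    rcases mul_eq_zero.1 this with h | h
    · left; exact sub_eq_zero.1 h
    · right; exact eq_neg_of_add_eq_zero_left h
  · apply Matrix.ext
    intro i j
    fin_cases i <;> fin_cases j <;> simp [h01, h10, heq]

theorem ker_le_center (hs : StarFixed F a b) :
    (toO hs).ker ≤ Subgroup.center (Matrix.SpecialLinearGroup (Fin 2) (L F a b)) := by
  intro g hg
  obtain ⟨r, hr, h⟩ := ker_entry hs g hg
  rw [Matrix.SpecialLinearGroup.mem_center_iff]
  refine ⟨r, ?_, h⟩
  rw [Fintype.card_fin]
  rcases hr with rfl | rfl <;> simp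

theorem card_ker (hs : StarFixed F a b) [Finite F] : Nat.card (toO hs).ker = 1 ∨
    Nat.card (toO hs).ker = 2 := by
  classical
  haveI : Finite (L F a b) := Finite.of_equiv _ (QuadraticAlgebra.equivProd (-b) a).symm
  have hle : Nat.card (toO hs).ker ≤ 2 := by
    let f : (toO hs).ker → (({1, -1} : Finset (L F a b)) : Set (L F a b)) := fun g =>
      ⟨(g.1 : Matrix (Fin 2) (Fin 2) (L F a b)) 0 0, by
        obtain ⟨r, hr, h⟩ := ker_entry hs g.1 g.2
        rw [← h]
        simp only [Matrix.scalar_apply, Matrix.diagonal_apply_eq, Finset.coe_insert,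
          Finset.coe_singleton, Set.mem_insert_iff, Set.mem_singleton_iff]
        exact hr⟩
    have hf : Function.Injective f := by
      intro x y hxy
      have h0 : (x.1 : Matrix (Fin 2) (Fin 2) (L F a b)) 0 0 =
          (y.1 : Matrix (Fin 2) (Fin 2) (L F a b)) 0 0 := congrArg Subtype.val hxy
      obtain ⟨r, -, hr⟩ := ker_entry hs x.1 x.2
      obtain ⟨t, -, ht⟩ := ker_entry hs y.1 y.2
      apply Subtype.ext
      apply Subtype.ext
      rw [← hr, ← ht] at h0 ⊢
      simp only [Matrix.scalar_apply, Matrix.diagonal_apply_eq] at h0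
      rw [h0]
    have h1 := Nat.card_le_card_of_injective f hf
    have h2 : Nat.card (({1, -1} : Finset (L F a b)) : Set (L F a b)) ≤ 2 := by
      rw [Nat.card_eq_fintype_card]
      have : Fintype.card (({1, -1} : Finset (L F a b)) : Set (L F a b)) =
          ({1, -1} : Finset (L F a b)).card := by simp
      rw [this]
      exact Finset.card_le_two
    exact h1.trans h2
  haveI : Finite (Matrix.SpecialLinearGroup (Fin 2) (L F a b)) := by
    classical
    letI : Fintype (L F a b) := Fintype.ofFinite _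
    infer_instance
  have hpos : 0 < Nat.card (toO hs).ker := Nat.card_pos
  omega

/-! ### Finite fields -/

section finite

open Cfsg.Agent.Lead.PerfectIndex

variable [Fintype F]

/-- anisotropy of the binary form -/
def Aniso (a b : F) : Prop :=
  ∀ z₁ z₂ : F, z₁ ^ 2 + a * z₁ * z₂ + b * z₂ ^ 2 = 0 → z₁ = 0 ∧ z₂ = 0

/-- anisotropy gives the field condition -/
theorem fact_of_aniso (a b : F) (hab : Aniso a b) :
    ∀ r : F, r ^ 2 ≠ -b + a * r := by
  intro r hr
  have := (hab r (-1) (by rw [hr]; ring)).2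
  have h1 : (1 : F) = 0 := by linear_combination (-1 : F) * this
  exact one_ne_zero h1

theorem starFixed_of_finite : StarFixed F a b := by
  intro z hz
  have hre := congrArg QuadraticAlgebra.re hz
  have him := congrArg QuadraticAlgebra.im hz
  simp at hre him
  by_contra hne
  have ha : a = 0 := by
    rcases hre with h | h
    · exact h
    · exact absurd h hne
  have h2 : (2 : F) = 0 := by
    have : (2 : F) * z.im = 0 := by linear_combination (-1 : F) * him
    rcases mul_eq_zero.1 this with h | h
    · exact h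
    · exact absurd h hne
  have hchar : ringChar F = 2 := by
    apply CharP.ringChar_of_prime_eq_zero Nat.prime_two
    exact_mod_cast h2
  obtain ⟨r, hr⟩ := FiniteField.isSquare_of_char_two hchar b
  apply hab.out r
  rw [ha, zero_mul, add_zero, pow_two, ← hr]
  have : b + b = 0 := by linear_combination b * h2
  exact eq_neg_of_add_eq_zero_left this

/-- a `Fintype` structure on the quadratic extension -/
@[instance_reducible]
noncomputable def fintypeL : Fintype (L F a b) :=
  Fintype.ofEquiv _ (QuadraticAlgebra.equivProd (-b) a).symm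

theorem card_L {q : ℕ} (hF : Fintype.card F = q) :
    @Fintype.card (L F a b) fintypeL = q ^ 2 := by
  rw [@Fintype.card_congr _ _ fintypeL _ (QuadraticAlgebra.equivProd (-b) a), Fintype.card_prod,
    hF, pow_two]

theorem card_O4_eq (hab' : Aniso a b) :
    Nat.card (Cfsg.isometryGroup F (Cfsg.quadFormMinus 1 F a b)) =
      2 * Nat.card (Matrix.SpecialLinearGroup (Fin 2) (L F a b)) := by
  letI := fintypeL (F := F) (a := a) (b := b)
  have hq : 2 ≤ Fintype.card F := Fintype.one_lt_card
  set q := Fintype.card F with hqdef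
  have h1 := Cfsg.Agent.S0288.result (F := F) (q := q) rfl 2 (by norm_num) a b hab'
  have h2 := Cfsg.Agent.Helper5.card_SL2 (F := L F a b) (q := q ^ 2) (card_L rfl)
  simp only [Finset.prod_range_succ, Finset.prod_range_zero, Nat.add_one_sub_one] at h1
  norm_num at h1
  rw [h1, h2]
  have hq2 : 1 ≤ q ^ 2 := Nat.one_le_pow _ _ (by omega)
  have e : (q ^ 2) ^ 2 - 1 = (q ^ 2 + 1) * (q ^ 2 - 1) := by
    zify [hq2, Nat.one_le_pow 2 (q ^ 2) (by omega)]
    ring
  rw [e]
  ring

theorem perfSL (hF4 : 4 ≤ Fintype.card F ^ 2) :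
    commutator (Matrix.SpecialLinearGroup (Fin 2) (L F a b)) = ⊤ := by
  letI := fintypeL (F := F) (a := a) (b := b)
  apply Cfsg.Agent.Helper39.sl2_perfect
  rw [card_L rfl]
  exact hF4

theorem card_sq_ge : 4 ≤ Fintype.card F ^ 2 := by
  have hq : 2 ≤ Fintype.card F := Fintype.one_lt_card
  nlinarith

/-- the index of the image is `2 |ker|` -/
theorem index_range (hab' : Aniso a b) (hs : StarFixed F a b) :
    (toO hs).range.index = 2 * Nat.card (toO hs).ker := by
  haveI : Finite (Matrix.SpecialLinearGroup (Fin 2) (L F a b)) := by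
    letI := fintypeL (F := F) (a := a) (b := b)
    infer_instance
  have h1 := Subgroup.card_mul_index (toO hs).range
  have h2 : Nat.card (toO hs).range * Nat.card (toO hs).ker =
      Nat.card (Matrix.SpecialLinearGroup (Fin 2) (L F a b)) := by
    rw [← Nat.card_congr (QuotientGroup.quotientKerEquivRange (toO hs)).toEquiv]
    exact (Subgroup.card_eq_card_quotient_mul_card_subgroup _).symm
  rw [card_O4_eq hab', ← h2] at h1
  have hpos : 0 < Nat.card (toO hs).range := Nat.card_pos
  apply Nat.eq_of_mul_eq_mul_left hpos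
  rw [h1]; ring

theorem range_perfect (hs : StarFixed F a b) : commutator (toO hs).range = ⊤ :=
  commutator_range_eq_top _ (perfSL card_sq_ge)

theorem range_normal (hab' : Aniso a b) (hs : StarFixed F a b) : (toO hs).range.Normal := by
  apply normal_of_index_le_four _ (range_perfect hs)
  · rw [index_range hab' hs]
    rcases card_ker hs with h | h <;> rw [h] <;> norm_num
  · rw [index_range hab' hs]
    rcases card_ker hs with h | h <;> rw [h] <;> norm_num

/-- `Ω⁻₄(F)` is the image of `SL₂(L)` -/
theorem omega_eq_range (hab' : Aniso a b) (hs : StarFixed F a b) :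
    Cfsg.Omega F (Cfsg.quadFormMinus 1 F a b) = (toO hs).range := by
  haveI := range_normal hab' hs
  unfold Cfsg.Omega
  apply commutator_eq_of_perfect_normal _ (range_perfect hs)
  apply comm_of_card_two_or_four
  have h : Nat.card (Cfsg.isometryGroup F (Cfsg.quadFormMinus 1 F a b) ⧸ (toO hs).range) =
      (toO hs).range.index := rfl
  rw [h, index_range hab' hs]
  rcases card_ker hs with h | h <;> rw [h] <;> norm_num

/-- the homomorphism onto `Ω⁻₄(F)` -/
noncomputable def toOmega (hab' : Aniso a b) (hs : StarFixed F a b) :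
    Matrix.SpecialLinearGroup (Fin 2) (L F a b) →* Cfsg.Omega F (Cfsg.quadFormMinus 1 F a b) :=
  (toO hs).codRestrict _ (fun g => by rw [omega_eq_range hab' hs]; exact ⟨g, rfl⟩)

theorem toOmega_surjective (hab' : Aniso a b) (hs : StarFixed F a b) :
    Function.Surjective (toOmega hab' hs) := by
  rintro ⟨x, hx⟩
  rw [omega_eq_range hab' hs] at hx
  obtain ⟨g, rfl⟩ := hx
  exact ⟨g, rfl⟩

theorem toOmega_ker (hab' : Aniso a b) (hs : StarFixed F a b) : (toOmega hab' hs).ker = (toO hs).ker := by
  ext g
  rw [MonoidHom.mem_ker, MonoidHom.mem_ker]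
  constructor
  · intro h
    exact congrArg Subtype.val h
  · intro h
    exact Subtype.ext h

/-- `PSL₂(L) ≃* PΩ⁻₄(F)` -/
noncomputable def pslEquivPOmega (hab' : Aniso a b) (hs : StarFixed F a b) :
    Matrix.ProjectiveSpecialLinearGroup (Fin 2) (L F a b) ≃*
      Cfsg.POmega F (Cfsg.quadFormMinus 1 F a b) :=
  centerQuotientEquiv (toOmega hab' hs) (toOmega_surjective hab' hs) (perfSL card_sq_ge)
    (by rw [toOmega_ker]; exact ker_le_center hs)

/-- transfer to any field with `q²` elements -/
theorem nonempty_equiv (hab' : Aniso a b) {K : Type*} [Field K] [Fintype K] {q : ℕ}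
    (hF : Fintype.card F = q) (hK : Fintype.card K = q ^ 2) :
    Nonempty (Cfsg.POmega F (Cfsg.quadFormMinus 1 F a b) ≃*
      Matrix.ProjectiveSpecialLinearGroup (Fin 2) K) := by
  letI := fintypeL (F := F) (a := a) (b := b)
  have hs : StarFixed F a b := starFixed_of_finite
  have hcard : Fintype.card (L F a b) = Fintype.card K := by rw [card_L hF, hK]
  let e : L F a b ≃+* K := FiniteField.ringEquivOfCardEq hcard
  let E := Cfsg.Agent.Helper5.slMapEquiv (n := Fin 2) e
  have hperf := perfSL (F := F) (a := a) (b := b) card_sq_ge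
  have e2 : Matrix.ProjectiveSpecialLinearGroup (Fin 2) (L F a b) ≃*
      Matrix.ProjectiveSpecialLinearGroup (Fin 2) K :=
    centerQuotientEquiv E.toMonoidHom E.surjective hperf (by
      intro g hg
      have : g = 1 := E.injective (by rw [map_one]; exact MonoidHom.mem_ker.1 hg)
      rw [this]; exact one_mem _)
  exact ⟨(pslEquivPOmega hab' hs).symm.trans e2⟩

end finite

end Cfsg.Agent.Helper59.HermO4
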