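import Mathlib

set_option autoImplicit false
set_option linter.unusedSectionVars false

namespace Cfsg.Agent.Helper59

universe u v

/-- Directly indecomposable (in the sense used by the Krull–Remak–Schmidt statement). -/
def Indec (H : Type*) [Group H] : Prop :=
  ∀ H1 H2 : Subgroup H, H1.Normal → H2.Normal → H1 ⊓ H2 = ⊥ → H1 ⊔ H2 = ⊤ → H1 = ⊥ ∨ H2 = ⊥

theorem exists_idem_pow {M : Type*} [Monoid M] [Finite M] (f : M) :
    ∃ k : ℕ, 0 < k ∧ f ^ k * f ^ k = f ^ k := by
  obtain ⟨a, b, hab, h⟩ := Finite.exists_ne_map_eq_of_infinite (fun n : ℕ => f ^ n)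
  wlog hlt : a < b generalizing a b
  · exact this b a hab.symm h.symm (lt_of_le_of_ne (not_lt.mp hlt) hab.symm)
  obtain ⟨d, rfl⟩ : ∃ d, b = a + d := ⟨b - a, by omega⟩
  have hd : 0 < d := by omega
  have h1 : ∀ m, a ≤ m → f ^ (m + d) = f ^ m := by
    intro m hm
    obtain ⟨c, rfl⟩ : ∃ c, m = c + a := ⟨m - a, by omega⟩
    have h' : f ^ (a + d) = f ^ a := h.symm
    rw [add_assoc, pow_add, h', ← pow_add]
  have h2 : ∀ j m, a ≤ m → f ^ (m + j * d) = f ^ m := by
    intro j
    induction j with
    | zero => intro m _; simp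
    | succ j ih =>
      intro m hm
      rw [Nat.succ_mul, ← add_assoc, h1 _ (by omega), ih m hm]
  refine ⟨(a + 1) * d, by positivity, ?_⟩
  rw [← pow_add]
  exact h2 (a + 1) ((a + 1) * d) (by nlinarith)

theorem iter_normal {H : Type*} [Group H] (f : H → H)
    (hf : ∀ h x, f (h * x * h⁻¹) = h * f x * h⁻¹) (k : ℕ) :
    ∀ h x, f^[k] (h * x * h⁻¹) = h * f^[k] x * h⁻¹ := by
  induction k with
  | zero => intro h x; rfl
  | succ k ih =>
    intro h x
    rw [Function.iterate_succ_apply, Function.iterate_succ_apply, hf, ih]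

/-- iterate of an endomorphism, as a hom -/
def iterHom {H : Type*} [Group H] (f : H →* H) : ℕ → (H →* H)
  | 0 => MonoidHom.id H
  | k + 1 => (iterHom f k).comp f

theorem iterHom_apply {H : Type*} [Group H] (f : H →* H) (k : ℕ) (x : H) :
    iterHom f k x = (⇑f)^[k] x := by
  induction k generalizing x with
  | zero => rfl
  | succ k ih =>
    rw [Function.iterate_succ_apply, ← ih]; rfl

theorem exists_idem_iterate {H : Type*} [Group H] [Finite H] (f : H →* H) :
    ∃ k : ℕ, 0 < k ∧ ∀ x, (⇑f)^[k] ((⇑f)^[k] x) = (⇑f)^[k] x := by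
  have : Finite (Monoid.End H) :=
    Finite.of_injective (fun g : Monoid.End H => (g : H → H)) DFunLike.coe_injective
  let F : Monoid.End H := f
  obtain ⟨k, hk, hidem⟩ := exists_idem_pow F
  refine ⟨k, hk, fun x => ?_⟩
  have h1 := congrArg (fun g : Monoid.End H => g x) hidem
  have h2 : ∀ y, (F ^ k) y = (⇑f)^[k] y := by
    intro y
    rw [Monoid.End.coe_pow]; rfl
  have h3 : (F ^ k * F ^ k) x = (F ^ k) ((F ^ k) x) := rfl
  simp only [h3, h2] at h1
  exact h1

theorem fitting {H : Type*} [Group H] [Finite H] (hH : Indec H) (f : H →* H)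
    (hf : ∀ h x, f (h * x * h⁻¹) = h * f x * h⁻¹) :
    Function.Bijective f ∨ ∃ k : ℕ, ∀ x, (⇑f)^[k] x = 1 := by
  obtain ⟨k, hk, hidem⟩ := exists_idem_iterate f
  set e : H →* H := iterHom f k with he
  have hecoe : ∀ x, e x = (⇑f)^[k] x := fun x => iterHom_apply f k x
  have hee : ∀ x, e (e x) = e x := by
    intro x
    rw [hecoe, hecoe, hidem]
  have hen : ∀ h x, e (h * x * h⁻¹) = h * e x * h⁻¹ := by
    intro h x
    rw [hecoe, hecoe]
    exact iter_normal f hf k h x
  have hkn : (MonoidHom.ker e).Normal := MonoidHom.normal_ker e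
  have hrn : (MonoidHom.range e).Normal := by
    constructor
    rintro _ ⟨x, rfl⟩ g
    exact ⟨g * x * g⁻¹, hen g x⟩
  have hinf : MonoidHom.ker e ⊓ MonoidHom.range e = ⊥ := by
    rw [eq_bot_iff]
    rintro _ ⟨hx1, ⟨y, rfl⟩⟩
    have h1 : e (e y) = 1 := hx1
    rw [hee] at h1
    rw [Subgroup.mem_bot]; exact h1
  have hsup : MonoidHom.ker e ⊔ MonoidHom.range e = ⊤ := by
    rw [eq_top_iff]
    intro x _
    have hx : x = (x * (e x)⁻¹) * e x := by group
    rw [hx]
    refine Subgroup.mul_mem_sup ?_ ⟨x, rfl⟩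
    rw [MonoidHom.mem_ker, map_mul, map_inv, hee, mul_inv_cancel]
  rcases hH _ _ hkn hrn hinf hsup with h | h
  · left
    have hinj : Function.Injective e := (MonoidHom.ker_eq_bot_iff e).mp h
    have hfinj : Function.Injective f := by
      have h2 : Function.Injective ((⇑f)^[k]) := by
        have : (⇑e : H → H) = (⇑f)^[k] := funext hecoe
        rw [← this]; exact hinj
      obtain ⟨k', rfl⟩ : ∃ k', k = k' + 1 := ⟨k - 1, by omega⟩
      rw [Function.iterate_succ] at h2
      exact Function.Injective.of_comp h2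
    exact Finite.injective_iff_bijective.mp hfinj
  · right
    refine ⟨k, fun x => ?_⟩
    rw [← hecoe]
    have : e x ∈ MonoidHom.range e := ⟨x, rfl⟩
    rw [h] at this
    exact this

/-- `f + g = id` with commuting ranges: `f` is a normal endomorphism. -/
theorem normal_of_sum {H : Type*} [Group H] (f g : H →* H)
    (hfg : ∀ x, f x * g x = x) (hc : ∀ x y, Commute (f x) (g y)) :
    ∀ h x, f (h * x * h⁻¹) = h * f x * h⁻¹ := by
  intro h x
  have h1 : h * f x * h⁻¹ = f h * g h * f x * (f h * g h)⁻¹ := by rw [hfg]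
  rw [h1, map_mul, map_mul, map_inv, mul_inv_rev]
  have h2 : g h * f x = f x * g h := ((hc x h).eq).symm
  calc f h * f x * (f h)⁻¹ = f h * (f x * g h) * ((g h)⁻¹ * (f h)⁻¹) := by group
    _ = f h * g h * f x * ((g h)⁻¹ * (f h)⁻¹) := by rw [← h2]; group

theorem sum_lemma' {H : Type*} [Group H] [Finite H] (hH : Indec H) (f g : H →* H)
    (hfg : ∀ x, f x * g x = x) (hc : ∀ x y, Commute (f x) (g y)) :
    Function.Bijective f ∨ ∃ k : ℕ, ∀ x, (⇑f)^[k] x = 1 :=
  fitting hH f (normal_of_sum f g hfg hc)

theorem sum_lemma {H : Type*} [Group H] [Finite H] (hH : Indec H) (f g : H →* H)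
    (hfg : ∀ x, f x * g x = x) (hc : ∀ x y, Commute (f x) (g y)) :
    Function.Bijective f ∨ Function.Bijective g := by
  rcases sum_lemma' hH f g hfg hc with h | ⟨k, hk⟩
  · exact Or.inl h
  · right
    have hinj : Function.Injective g := by
      rw [injective_iff_map_eq_one]
      intro x hx
      have h1 : f x = x := by
        have := hfg x
        rw [hx, mul_one] at this
        exact this
      have h2 : (⇑f)^[k] x = x := Function.iterate_fixed h1 k
      rw [← h2]; exact hk x
    exact Finite.injective_iff_bijective.mp hinj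


section exchange

variable {H : Type*} {X : Type*} {J : Type*} [Fintype J] [DecidableEq J] {B : J → Type*}
  [Group H] [Group X] [∀ j, Group (B j)]

/-- projection onto the coordinates in `S` -/
def projS (B : J → Type*) [∀ j, Group (B j)] (S : Finset J) :
    ((j : J) → B j) →* ((j : J) → B j) where
  toFun g j := if j ∈ S then g j else 1
  map_one' := by funext j; simp
  map_mul' g g' := by funext j; by_cases h : j ∈ S <;> simp [h]

theorem projS_apply (S : Finset J) (g : (j : J) → B j) (j : J) :
    projS B S g j = if j ∈ S then g j else 1 := rfl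

/-- the endomorphism of `H` going through the coordinates in `S` -/
def FS (e : H × X ≃* ((j : J) → B j)) (S : Finset J) : H →* H :=
  (MonoidHom.fst H X).comp (e.symm.toMonoidHom.comp ((projS B S).comp
    (e.toMonoidHom.comp (MonoidHom.inl H X))))

theorem FS_apply (e : H × X ≃* ((j : J) → B j)) (S : Finset J) (h : H) :
    FS e S h = (e.symm (projS B S (e (h, 1)))).1 := rfl

theorem projS_union {S T : Finset J} (hST : Disjoint S T) (g : (j : J) → B j) :
    projS B (S ∪ T) g = projS B S g * projS B T g := by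
  funext j
  rw [Pi.mul_apply, projS_apply, projS_apply, projS_apply]
  by_cases hS : j ∈ S
  · have hT : j ∉ T := Finset.disjoint_left.mp hST hS
    simp [hS, hT]
  · by_cases hT : j ∈ T
    · simp [hS, hT]
    · simp [hS, hT]

theorem projS_commute {S T : Finset J} (hST : Disjoint S T) (g g' : (j : J) → B j) :
    Commute (projS B S g) (projS B T g') := by
  show _ * _ = _ * _
  funext j
  rw [Pi.mul_apply, Pi.mul_apply, projS_apply, projS_apply]
  by_cases hS : j ∈ S
  · have hT : j ∉ T := Finset.disjoint_left.mp hST hS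
    simp [hS, hT]
  · simp [hS]

theorem FS_union (e : H × X ≃* ((j : J) → B j)) {S T : Finset J} (hST : Disjoint S T) (h : H) :
    FS e (S ∪ T) h = FS e S h * FS e T h := by
  rw [FS_apply, FS_apply, FS_apply, projS_union hST, map_mul, Prod.fst_mul]

theorem FS_commute (e : H × X ≃* ((j : J) → B j)) {S T : Finset J} (hST : Disjoint S T)
    (h h' : H) : Commute (FS e S h) (FS e T h') := by
  rw [FS_apply, FS_apply]
  have h1 := projS_commute hST (e (h, 1)) (e (h', 1))
  have h2 := h1.map e.symm.toMonoidHom
  have h3 := h2.map (MonoidHom.fst H X)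
  exact h3

theorem FS_univ (e : H × X ≃* ((j : J) → B j)) (h : H) : FS e Finset.univ h = h := by
  rw [FS_apply]
  have : projS B Finset.univ (e (h, 1)) = e (h, 1) := by
    funext j; simp [projS_apply]
  rw [this, MulEquiv.symm_apply_apply]

theorem FS_empty (e : H × X ≃* ((j : J) → B j)) (h : H) : FS e ∅ h = 1 := by
  rw [FS_apply]
  have : projS B ∅ (e (h, 1)) = 1 := by
    funext j; simp [projS_apply]
  rw [this, map_one, Prod.fst_one]

theorem exists_single [Finite H] [Nontrivial H] (hH : Indec H)
    (e : H × X ≃* ((j : J) → B j)) : ∃ j0, Function.Bijective (FS e {j0}) := by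
  have key : ∀ S : Finset J, Function.Bijective (FS e S) →
      ∃ j ∈ S, Function.Bijective (FS e {j}) := by
    intro S
    induction S using Finset.induction_on with
    | empty =>
      intro hb
      exfalso
      obtain ⟨x, y, hxy⟩ := exists_pair_ne H
      apply hxy
      apply hb.1
      rw [FS_empty, FS_empty]
    | insert j S hj ih =>
      intro hb
      have hdisj : Disjoint ({j} : Finset J) S := Finset.disjoint_singleton_left.mpr hj
      have hins : insert j S = {j} ∪ S := by
        ext x; simp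
      let α : H ≃* H := MulEquiv.ofBijective (FS e (insert j S)) hb
      let f : H →* H := α.symm.toMonoidHom.comp (FS e {j})
      let g : H →* H := α.symm.toMonoidHom.comp (FS e S)
      have hfg : ∀ x, f x * g x = x := by
        intro x
        show α.symm (FS e {j} x) * α.symm (FS e S x) = x
        rw [← map_mul, ← FS_union e hdisj, ← hins]
        exact α.symm_apply_apply x
      have hc : ∀ x y, Commute (f x) (g y) := by
        intro x y
        exact (FS_commute e hdisj x y).map α.symm.toMonoidHom
      rcases sum_lemma hH f g hfg hc with hf | hg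
      · refine ⟨j, Finset.mem_insert_self j S, ?_⟩
        have : (⇑(FS e {j}) : H → H) = ⇑α ∘ ⇑f := by
          funext x
          show _ = α (α.symm (FS e {j} x))
          rw [MulEquiv.apply_symm_apply]
        rw [this]
        exact α.bijective.comp hf
      · have : (⇑(FS e S) : H → H) = ⇑α ∘ ⇑g := by
          funext x
          show _ = α (α.symm (FS e S x))
          rw [MulEquiv.apply_symm_apply]
        have hS : Function.Bijective (FS e S) := by
          rw [this]; exact α.bijective.comp hg
        obtain ⟨j', hj', hb'⟩ := ih hS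
        exact ⟨j', Finset.mem_insert_of_mem hj', hb'⟩
  have huniv : Function.Bijective (FS e Finset.univ) := by
    have : (⇑(FS e Finset.univ) : H → H) = id := funext (FS_univ e)
    rw [this]; exact Function.bijective_id
  obtain ⟨j0, _, hj0⟩ := key Finset.univ huniv
  exact ⟨j0, hj0⟩


theorem projS_single (j0 : J) (g : (j : J) → B j) :
    projS B {j0} g = Pi.mulSingle j0 (g j0) := by
  funext j
  rw [projS_apply]
  by_cases h : j = j0
  · subst h; simp
  · simp [h]

theorem exchange [Finite H] [Finite X] [∀ j, Finite (B j)] [Nontrivial H] (hH : Indec H)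
    (hB : ∀ j, Indec (B j)) (e : H × X ≃* ((j : J) → B j)) :
    ∃ j0 : J, Nonempty (H ≃* B j0) ∧ Nonempty (X ≃* ((j : {j // j ≠ j0}) → B j.1)) := by
  obtain ⟨j0, hj0⟩ := exists_single hH e
  refine ⟨j0, ?_⟩
  let u : H →* B j0 := (Pi.evalMonoidHom B j0).comp (e.toMonoidHom.comp (MonoidHom.inl H X))
  let v : B j0 →* H :=
    (MonoidHom.fst H X).comp (e.symm.toMonoidHom.comp (MonoidHom.mulSingle B j0))
  have hu : ∀ h, u h = e (h, 1) j0 := fun h => rfl
  have hv : ∀ b, v b = (e.symm (Pi.mulSingle j0 b)).1 := fun b => rfl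
  have hvu : ∀ h, v (u h) = FS e {j0} h := by
    intro h
    rw [hv, hu, FS_apply, projS_single]
  have hvu' : (⇑v ∘ ⇑u : H → H) = ⇑(FS e {j0}) := funext hvu
  have hu_inj : Function.Injective u := by
    have : Function.Injective (⇑v ∘ ⇑u) := by rw [hvu']; exact hj0.1
    exact Function.Injective.of_comp this
  have hv_surj : Function.Surjective v := by
    have : Function.Surjective (⇑v ∘ ⇑u) := by rw [hvu']; exact hj0.2
    exact Function.Surjective.of_comp this
  let f' : B j0 →* B j0 := u.comp v
  let g' : B j0 →* B j0 := (Pi.evalMonoidHom B j0).comp (e.toMonoidHom.comp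
    ((MonoidHom.inr H X).comp ((MonoidHom.snd H X).comp
      (e.symm.toMonoidHom.comp (MonoidHom.mulSingle B j0)))))
  have hf' : ∀ b, f' b = e ((e.symm (Pi.mulSingle j0 b)).1, 1) j0 := fun b => rfl
  have hg' : ∀ b, g' b = e (1, (e.symm (Pi.mulSingle j0 b)).2) j0 := fun b => rfl
  have hfg' : ∀ b, f' b * g' b = b := by
    intro b
    rw [hf', hg', ← Pi.mul_apply, ← map_mul, Prod.mk_mul_mk, mul_one, one_mul]
    have : ((e.symm (Pi.mulSingle j0 b)).1, (e.symm (Pi.mulSingle j0 b)).2)
        = e.symm (Pi.mulSingle j0 b) := rfl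
    rw [this, MulEquiv.apply_symm_apply, Pi.mulSingle_eq_same]
  have hc' : ∀ b b', Commute (f' b) (g' b') := by
    intro b b'
    rw [hf', hg']
    have h1 : Commute (((e.symm (Pi.mulSingle j0 b)).1, 1) : H × X)
        (1, (e.symm (Pi.mulSingle j0 b')).2) := by
      show _ * _ = _ * _
      simp
    have h2 := h1.map e.toMonoidHom
    exact h2.map (Pi.evalMonoidHom B j0)
  have hf'bij : Function.Bijective f' := by
    rcases sum_lemma' (hB j0) f' g' hfg' hc' with hbij | ⟨k, hk⟩
    · exact hbij
    · exfalso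
      obtain ⟨x, y, hxy⟩ := exists_pair_ne H
      have hsemi : Function.Semiconj (⇑u) (⇑v ∘ ⇑u) (⇑f') := fun h => rfl
      have hit := hsemi.iterate_right k
      have hall : ∀ h : H, h = 1 := by
        intro h
        have h1 : u ((⇑v ∘ ⇑u)^[k] h) = 1 := by
          rw [hit.eq, hk]
        have h2 : (⇑v ∘ ⇑u)^[k] h = 1 := by
          apply hu_inj
          rw [h1, map_one]
        have h3 : (⇑v ∘ ⇑u)^[k] 1 = 1 := by
          apply Function.iterate_fixed
          show v (u 1) = 1
          rw [map_one, map_one]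
        have hinj : Function.Injective ((⇑v ∘ ⇑u)^[k]) := by
          apply Function.Injective.iterate
          rw [hvu']; exact hj0.1
        exact hinj (h2.trans h3.symm)
      exact hxy ((hall x).trans (hall y).symm)
  have hu_surj : Function.Surjective u := by
    have : Function.Surjective (⇑u ∘ ⇑v) := hf'bij.2
    exact Function.Surjective.of_comp this
  have hv_inj : Function.Injective v := by
    have : Function.Injective (⇑u ∘ ⇑v) := hf'bij.1
    exact Function.Injective.of_comp this
  refine ⟨⟨MulEquiv.ofBijective u ⟨hu_inj, hu_surj⟩⟩, ?_⟩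
  let ψ : X →* ((j : {j // j ≠ j0}) → B j.1) :=
    { toFun := fun x j => e (1, x) j.1
      map_one' := by
        funext j
        show e ((1 : H), (1 : X)) j.1 = 1
        have : ((1 : H), (1 : X)) = 1 := rfl
        rw [this, map_one]; rfl
      map_mul' := fun x y => by
        funext j
        show e (1, x * y) j.1 = e (1, x) j.1 * e (1, y) j.1
        rw [← Pi.mul_apply, ← map_mul, Prod.mk_mul_mk, one_mul] }
  have hψ : ∀ x (j : {j // j ≠ j0}), ψ x j = e (1, x) j.1 := fun x j => rfl
  have hψ_inj : Function.Injective ψ := by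
    rw [injective_iff_map_eq_one]
    intro x hx
    have h1 : ∀ j, j ≠ j0 → e (1, x) j = 1 := by
      intro j hj
      have := congrFun hx ⟨j, hj⟩
      rw [hψ] at this
      exact this
    have h2 : e (1, x) = Pi.mulSingle j0 (e (1, x) j0) := by
      funext j
      by_cases hj : j = j0
      · subst hj; rw [Pi.mulSingle_eq_same]
      · rw [Pi.mulSingle_eq_of_ne hj, h1 j hj]
    have h3 : v (e (1, x) j0) = 1 := by
      rw [hv, ← h2, MulEquiv.symm_apply_apply]
    have h4 : e (1, x) j0 = 1 := by
      apply hv_inj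
      rw [h3, map_one]
    have h5 : e (1, x) = 1 := by
      rw [h2, h4, Pi.mulSingle_one]
    have h6 : ((1 : H), x) = 1 := by
      apply e.injective
      rw [h5, map_one]
    exact (Prod.ext_iff.mp h6).2
  have hcard : Nat.card ((j : {j // j ≠ j0}) → B j.1) ≤ Nat.card X := by
    have h1 : Nat.card (H × X) = Nat.card H * Nat.card X := Nat.card_prod H X
    have h2 : Nat.card (H × X) = Nat.card ((j : J) → B j) := Nat.card_congr e.toEquiv
    have h3 : Nat.card ((j : J) → B j)
        = Nat.card (B j0) * Nat.card ((j : {j // j ≠ j0}) → B j.1) := by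
      rw [Nat.card_congr (Equiv.piSplitAt j0 B), Nat.card_prod]
    have h4 : Nat.card H = Nat.card (B j0) :=
      Nat.card_congr (Equiv.ofBijective u ⟨hu_inj, hu_surj⟩)
    have h5 : 0 < Nat.card H := Nat.card_pos
    have h6 : Nat.card H * Nat.card X
        = Nat.card H * Nat.card ((j : {j // j ≠ j0}) → B j.1) := by
      rw [← h1, h2, h3, h4]
    exact le_of_eq (Nat.eq_of_mul_eq_mul_left h5 h6).symm
  have hψ_bij : Function.Bijective ψ := hψ_inj.bijective_of_nat_card_le hcard
  exact ⟨MulEquiv.ofBijective ψ hψ_bij⟩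

end exchange

/-- splitting off one coordinate of a product of groups -/
def piSplitMul {I : Type*} [DecidableEq I] (i0 : I) (A : I → Type*) [∀ i, Group (A i)] :
    ((i : I) → A i) ≃* A i0 × ((i : {i // i ≠ i0}) → A i.1) :=
  { Equiv.piSplitAt i0 A with
    map_mul' := fun _ _ => rfl }

theorem krs_aux : ∀ (N : ℕ) (I J : Type) [Finite I] [Finite J] (A : I → Type u) (B : J → Type v)
    [∀ i, Group (A i)] [∀ j, Group (B j)] [∀ i, Finite (A i)] [∀ j, Finite (B j)],
    Nat.card I = N → (∀ i, Nontrivial (A i) ∧ Indec (A i)) → (∀ j, Nontrivial (B j) ∧ Indec (B j)) →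
    (((i : I) → A i) ≃* ((j : J) → B j)) → ∃ σ : I ≃ J, ∀ i, Nonempty (A i ≃* B (σ i)) := by
  intro N
  induction N with
  | zero =>
    intro I J _ _ A B _ _ _ _ hN hA hB e
    have hI : IsEmpty I := by
      rw [← Finite.card_eq_zero_iff (α := I)]
      exact hN
    have hJ : IsEmpty J := by
      by_contra hne
      rw [not_isEmpty_iff] at hne
      obtain ⟨j⟩ := hne
      obtain ⟨x, y, hxy⟩ := (hB j).1.exists_pair_ne
      classical
      apply hxy
      have h1 : e.symm (Pi.mulSingle j x) = e.symm (Pi.mulSingle j y) := Subsingleton.elim _ _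
      have h2 := e.symm.injective h1
      have h3 := congrFun h2 j
      rwa [Pi.mulSingle_eq_same, Pi.mulSingle_eq_same] at h3
    exact ⟨Equiv.equivOfIsEmpty I J, fun i => isEmptyElim i⟩
  | succ N ih =>
    intro I J _ _ A B _ _ _ _ hN hA hB e
    classical
    haveI : Fintype J := Fintype.ofFinite J
    have hne : Nonempty I := by
      rw [← not_isEmpty_iff, ← Finite.card_eq_zero_iff (α := I)] -- placeholder
      omega
    obtain ⟨i0⟩ := hne
    haveI : Nontrivial (A i0) := (hA i0).1
    let e' : A i0 × ((i : {i // i ≠ i0}) → A i.1) ≃* ((j : J) → B j) :=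
      (piSplitMul i0 A).symm.trans e
    obtain ⟨j0, ⟨u⟩, ⟨w⟩⟩ := exchange (hA i0).2 (fun j => (hB j).2) e'
    have hcard : Nat.card {i // i ≠ i0} = N := by
      have h1 : Nat.card I = Nat.card {i // i ≠ i0} + 1 := by
        rw [← Nat.card_congr (Equiv.optionSubtypeNe i0), Finite.card_option]
      omega
    obtain ⟨σ', hσ'⟩ := ih {i // i ≠ i0} {j // j ≠ j0} (fun i => A i.1) (fun j => B j.1) hcard
      (fun i => hA i.1) (fun j => hB j.1) w
    let σ : I ≃ J :=
      (Equiv.optionSubtypeNe i0).symm.trans ((Equiv.optionCongr σ').trans (Equiv.optionSubtypeNe j0))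
    refine ⟨σ, fun i => ?_⟩
    by_cases hi : i = i0
    · subst hi
      have : σ i = j0 := by
        simp [σ]
      rw [this]
      exact ⟨u⟩
    · have : σ i = (σ' ⟨i, hi⟩).1 := by
        simp [σ, Equiv.optionSubtypeNe_symm_of_ne hi]
      rw [this]
      exact hσ' ⟨i, hi⟩

end Cfsg.Agent.Helper59
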