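import Mathlib
import Cfsg.Agent.Lib.Helper93.MD0

set_option autoImplicit false

namespace Cfsg.Agent.Helper59.MD

open Module Cfsg.Agent.Helper93.McL Cfsg.Agent.Helper93.MD

variable {F V : Type*} [Field F] [Fintype F] [AddCommGroup V] [Module F V] [FiniteDimensional F V]
variable {Ω : Type*} [Fintype Ω] [MulAction ↥(SLV F V) Ω]

/-- the common fixed points of all transvections with centre `u` -/
def Afix (Ω : Type*) [MulAction ↥(SLV F V) Ω] (u : V) : Set Ω :=
  {ω | ∀ φ : Dual F V, φ u = 0 → stv u φ • ω = ω}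

omit [Fintype F] [FiniteDimensional F V] [Fintype Ω] in
theorem g_mem_Afix {u : V} {ω : Ω} :
    ω ∈ Afix (F := F) Ω u ↔ ∀ φ : Dual F V, φ u = 0 → stv u φ • ω = ω := Iff.rfl

omit [Fintype F] in
/-- a nonzero functional vanishing at `u` -/
theorem g_exists_dual (hn : 2 ≤ finrank F V) (u : V) : ∃ φ : Dual F V, φ ≠ 0 ∧ φ u = 0 := by
  have hlt : Submodule.span F {u} < ⊤ := by
    rw [lt_top_iff_ne_top]
    intro h
    have h1 : finrank F (Submodule.span F {u}) ≤ 1 := by
      have := finrank_span_le_card (R := F) ({u} : Set V)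
      simpa using this
    rw [h, finrank_top] at h1
    omega
  obtain ⟨φ, hφ, hmap⟩ := Submodule.exists_dual_map_eq_bot_of_lt_top hlt inferInstance
  refine ⟨φ, hφ, ?_⟩
  have : φ u ∈ (Submodule.span F {u}).map φ :=
    Submodule.mem_map_of_mem (Submodule.mem_span_singleton_self u)
  rw [hmap] at this
  simpa using this

omit [Fintype F] [FiniteDimensional F V] [Fintype Ω] in
/-- under (II) the fixed points of one transvection are the common fixed points -/
theorem g_fixedBy_eq
    (hII : ∀ u : V, u ≠ 0 → ∀ ω : Ω, (∀ φ : Dual F V, φ u = 0 → stv u φ • ω = ω) ∨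
        (∀ φ : Dual F V, φ u = 0 → stv u φ • ω = ω → φ = 0))
    {u : V} (hu : u ≠ 0) {φ : Dual F V} (hφ : φ ≠ 0) (h : φ u = 0) :
    MulAction.fixedBy Ω (stv u φ) = Afix (F := F) Ω u := by
  ext ω
  rw [MulAction.mem_fixedBy]
  constructor
  · intro hω
    rcases hII u hu ω with h1 | h1
    · exact h1
    · exact absurd (h1 φ h hω) hφ
  · intro hω
    exact hω φ h

omit [Fintype F] [FiniteDimensional F V] [Fintype Ω] in
theorem g_stv_mul {u : V} {φ ψ : Dual F V} (h : φ u = 0) (h' : ψ u = 0) :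
    (stv u φ : ↥(SLV F V)) * stv u ψ = stv u (φ + ψ) :=
  Subtype.ext (tv_mul_axis h h')

omit [Fintype F] [FiniteDimensional F V] [Fintype Ω] in
theorem g_stv_inv (u : V) (φ : Dual F V) : (stv u φ : ↥(SLV F V))⁻¹ = stv u (-φ) :=
  Subtype.ext (tv_inv u φ)

omit [Fintype F] [FiniteDimensional F V] [Fintype Ω] in
/-- `Afix u` is stable under the transvections with centre `u` -/
theorem g_smul_mem_Afix {u : V} {ω : Ω} {φ : Dual F V} (h : φ u = 0)
    (hω : stv u φ • ω ∈ Afix (F := F) Ω u) : ω ∈ Afix (F := F) Ω u := by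
  intro ψ hψ
  have h1 := hω ψ hψ
  rw [← mul_smul, g_stv_mul hψ h, add_comm, ← g_stv_mul h hψ, mul_smul] at h1
  exact MulAction.injective _ h1

end Cfsg.Agent.Helper59.MD
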