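import Mathlib
import Cfsg.Agent.Lib.Helper93.MD0
import Cfsg.Agent.Lib.Helper59.MDG1

set_option autoImplicit false

namespace Cfsg.Agent.Helper59.MD

open Module Cfsg.Agent.Helper93.McL Cfsg.Agent.Helper93.MD

variable {F V : Type*} [Field F] [Fintype F] [AddCommGroup V] [Module F V] [FiniteDimensional F V]
variable {Ω : Type*} [Fintype Ω] [MulAction ↥(SLV F V) Ω]

omit [Fintype F] [FiniteDimensional F V] in
/-- regularity of `E_u` off `Afix u` -/
theorem g_regular
    (hII : ∀ u : V, u ≠ 0 → ∀ ω : Ω, (∀ φ : Dual F V, φ u = 0 → stv u φ • ω = ω) ∨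
        (∀ φ : Dual F V, φ u = 0 → stv u φ • ω = ω → φ = 0))
    {u : V} (hu : u ≠ 0) (f Q : ℕ)
    (hcardA : Nat.card (Afix (F := F) Ω u) = f)
    (hm : Fintype.card Ω = f + Q)
    (hcard : Nat.card ↥(PhiA u : AddSubgroup (Dual F V)) = Q)
    {ω ω' : Ω} (hω : ω ∉ Afix (F := F) Ω u) (hω' : ω' ∉ Afix (F := F) Ω u) :
    ∃ φ : Dual F V, φ u = 0 ∧ stv u φ • ω' = ω := by
  classical
  let Φ : ↥(PhiA u : AddSubgroup (Dual F V)) → {x : Ω // x ∉ Afix (F := F) Ω u} :=
    fun φ => ⟨stv u (φ : Dual F V) • ω', fun hmem => hω' (g_smul_mem_Afix φ.2 hmem)⟩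
  have hinj : Function.Injective Φ := by
    intro φ ψ h
    have h1 : stv u (φ : Dual F V) • ω' = stv u (ψ : Dual F V) • ω' := congrArg Subtype.val h
    have h2 : stv u (-(ψ : Dual F V) + (φ : Dual F V)) • ω' = ω' := by
      have hψ' : (-(ψ : Dual F V)) u = 0 := by
        have := ψ.2
        rw [mem_PhiA] at this
        simp [this]
      rw [← g_stv_mul hψ' φ.2, ← g_stv_inv, mul_smul, h1, inv_smul_smul]
    have h3 : (-(ψ : Dual F V) + (φ : Dual F V)) u = 0 := by
      have h4 := ψ.2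
      have h5 := φ.2
      rw [mem_PhiA] at h4 h5
      simp [h4, h5]
    rcases hII u hu ω' with h6 | h6
    · exact absurd h6 hω'
    · have := h6 _ h3 h2
      apply Subtype.ext
      have h7 : (φ : Dual F V) = ψ := by
        have := congrArg (fun x => (ψ : Dual F V) + x) this
        simpa using this
      exact h7
  have hc : Nat.card ↥(PhiA u : AddSubgroup (Dual F V)) =
      Nat.card {x : Ω // x ∉ Afix (F := F) Ω u} := by
    rw [hcard, Nat.card_eq_fintype_card, Fintype.card_subtype_compl, hm]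
    have : Fintype.card {x : Ω // x ∈ Afix (F := F) Ω u} = f := by
      rw [← Nat.card_eq_fintype_card]
      exact hcardA
    rw [this]
    omega
  have hbij := (Nat.bijective_iff_injective_and_card Φ).mpr ⟨hinj, hc⟩
  obtain ⟨φ, hφ⟩ := hbij.2 ⟨ω, hω⟩
  exact ⟨φ, φ.2, congrArg Subtype.val hφ⟩

end Cfsg.Agent.Helper59.MD
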