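import Mathlib
import Cfsg.Agent.Lib.Helper93.MD0
import Cfsg.Agent.Lib.Helper59.MDG2

set_option autoImplicit false

namespace Cfsg.Agent.Helper59.MD

open Module Cfsg.Agent.Helper93.McL Cfsg.Agent.Helper93.MD

variable {F V : Type*} [Field F] [AddCommGroup V] [Module F V]
variable {Ω : Type*} [MulAction ↥(SLV F V) Ω]

/-- stabiliser of `ω` inside the stabiliser of the line `F u` -/
def gK (u : V) (ω : Ω) : Subgroup (V ≃ₗ[F] V) where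
  carrier := {g | ∃ hg : g ∈ SLV F V, (⟨g, hg⟩ : ↥(SLV F V)) • ω = ω ∧
    ∃ α : F, α ≠ 0 ∧ g u = α • u}
  one_mem' := ⟨(SLV F V).one_mem, one_smul _ ω, 1, one_ne_zero, by simp⟩
  mul_mem' := by
    rintro g h ⟨hg, hgω, α, hα, hgu⟩ ⟨hh, hhω, β, hβ, hhu⟩
    refine ⟨(SLV F V).mul_mem hg hh, ?_, β * α, mul_ne_zero hβ hα, ?_⟩
    · have : (⟨g * h, (SLV F V).mul_mem hg hh⟩ : ↥(SLV F V)) = ⟨g, hg⟩ * ⟨h, hh⟩ := rfl
      rw [this, mul_smul, hhω, hgω]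
    · rw [LinearEquiv.mul_apply, hhu, map_smul, hgu, smul_smul]
  inv_mem' := by
    rintro g ⟨hg, hgω, α, hα, hgu⟩
    refine ⟨(SLV F V).inv_mem hg, ?_, α⁻¹, inv_ne_zero hα, ?_⟩
    · have : (⟨g⁻¹, (SLV F V).inv_mem hg⟩ : ↥(SLV F V)) = (⟨g, hg⟩ : ↥(SLV F V))⁻¹ := rfl
      rw [this, inv_smul_eq_iff, hgω]
    · show g.symm u = α⁻¹ • u
      rw [LinearEquiv.symm_apply_eq, map_smul, hgu, smul_smul, inv_mul_cancel₀ hα, one_smul]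

theorem g_mem_gK {u : V} {ω : Ω} {g : V ≃ₗ[F] V} :
    g ∈ gK u ω ↔ ∃ hg : g ∈ SLV F V, (⟨g, hg⟩ : ↥(SLV F V)) • ω = ω ∧
      ∃ α : F, α ≠ 0 ∧ g u = α • u := Iff.rfl

/-- conjugating a transvection with centre `u` by an element stabilising the line `F u` -/
theorem g_conj_stv {u : V} {g : ↥(SLV F V)} {α : F} (hα : α ≠ 0)
    (hgu : (g : V ≃ₗ[F] V) u = α • u) (φ : Dual F V) (h : φ u = 0) :
    (α • (φ ∘ₗ ((g : V ≃ₗ[F] V).symm : V →ₗ[F] V))) u = 0 ∧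
      g * stv u φ * g⁻¹ = stv u (α • (φ ∘ₗ ((g : V ≃ₗ[F] V).symm : V →ₗ[F] V))) := by
  have hsymm : (g : V ≃ₗ[F] V).symm u = α⁻¹ • u := by
    rw [LinearEquiv.symm_apply_eq, map_smul, hgu, smul_smul, inv_mul_cancel₀ hα, one_smul]
  constructor
  · simp [hsymm, h]
  · apply Subtype.ext
    show (g : V ≃ₗ[F] V) * tv u φ * (g : V ≃ₗ[F] V)⁻¹ = tv u _
    rw [conj_tv, hgu, tv_smul_swap]

/-- the complement of `Afix u` is stable under the stabiliser of the line `F u` -/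
theorem g_smul_not_mem {u : V} {ω : Ω} {g : ↥(SLV F V)} {α : F} (hα : α ≠ 0)
    (hgu : (g : V ≃ₗ[F] V) u = α • u) (hω : ω ∉ Afix (F := F) Ω u) :
    g • ω ∉ Afix (F := F) Ω u := by
  intro hmem
  apply hω
  intro φ h
  obtain ⟨h1, h2⟩ := g_conj_stv hα hgu φ h
  have h3 := hmem _ h1
  rw [← h2, mul_smul, mul_smul, inv_smul_smul] at h3
  exact MulAction.injective _ h3

theorem g_tv_fix {u : V} {φ : Dual F V} (h : φ u = 0) (a : F) : tv u φ (a • u) = a • u := by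
  rw [tv_apply h]
  simp [h]

/-- (hcov) -/
theorem g_cov {u : V} (hu : u ≠ 0) {ω : Ω}
    (hreg : ∀ ω' : Ω, ω' ∉ Afix (F := F) Ω u → ∃ φ : Dual F V, φ u = 0 ∧ stv u φ • ω' = ω)
    (hω : ω ∉ Afix (F := F) Ω u) {g : V ≃ₗ[F] V} (hg : g ∈ SLV F V) {α : F}
    (hgu : g u = α • u) : ∃ φ : Dual F V, φ u = 0 ∧ tv u φ * g ∈ gK u ω := by
  have hα : α ≠ 0 := by
    rintro rfl
    rw [zero_smul] at hgu
    exact hu ((LinearEquiv.map_eq_zero_iff g).1 hgu)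
  have h1 : (⟨g, hg⟩ : ↥(SLV F V)) • ω ∉ Afix (F := F) Ω u :=
    g_smul_not_mem (g := ⟨g, hg⟩) hα hgu hω
  obtain ⟨φ, hφ, h2⟩ := hreg _ h1
  refine ⟨φ, hφ, (SLV F V).mul_mem (tv_mem_SLV u φ) hg, ?_, α, hα, ?_⟩
  · have : (⟨tv u φ * g, (SLV F V).mul_mem (tv_mem_SLV u φ) hg⟩ : ↥(SLV F V)) =
        stv u φ * ⟨g, hg⟩ := rfl
    rw [this, mul_smul, h2]
  · rw [LinearEquiv.mul_apply, hgu, g_tv_fix hφ]

/-- conjugation: `ω ∈ Afix z` and `k` fixes `ω` give `ω ∈ Afix (k z)` -/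
theorem g_mem_Afix_conj {z : V} {ω : Ω} {k : ↥(SLV F V)} (hk : k • ω = ω)
    (hω : ω ∈ Afix (F := F) Ω z) : ω ∈ Afix (F := F) Ω ((k : V ≃ₗ[F] V) z) := by
  intro φ h
  have h1 : (φ ∘ₗ ((k : V ≃ₗ[F] V) : V →ₗ[F] V)) z = 0 := by simpa using h
  have h2 : stv ((k : V ≃ₗ[F] V) z) φ =
      k * stv z (φ ∘ₗ ((k : V ≃ₗ[F] V) : V →ₗ[F] V)) * k⁻¹ := by
    apply Subtype.ext
    show tv _ φ = (k : V ≃ₗ[F] V) * tv z _ * (k : V ≃ₗ[F] V)⁻¹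
    rw [conj_tv]
    congr 1
    ext x
    simp
  have h3 : k⁻¹ • ω = ω := by rw [inv_smul_eq_iff, hk]
  rw [h2, mul_smul, mul_smul, h3, hω _ h1, hk]

end Cfsg.Agent.Helper59.MD
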