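import Mathlib
import Cfsg.Agent.Lib.Helper93.MD0
import Cfsg.Agent.Lib.Helper59.MDG3

set_option autoImplicit false

namespace Cfsg.Agent.Helper59.MD

open Module Cfsg.Agent.Helper93.McL Cfsg.Agent.Helper93.MD

variable {F V : Type*} [Field F] [AddCommGroup V] [Module F V]
variable {Ω : Type*} [MulAction ↥(SLV F V) Ω]

/-- every coset `x + F u ≠ F u` contains a `z'` with `ω ∈ Afix z'` -/
theorem g_coset
    (hII : ∀ u : V, u ≠ 0 → ∀ ω : Ω, (∀ φ : Dual F V, φ u = 0 → stv u φ • ω = ω) ∨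
        (∀ φ : Dual F V, φ u = 0 → stv u φ • ω = ω → φ = 0))
    (hF : ∀ {u : V}, u ≠ 0 → ∀ (K : Subgroup (V ≃ₗ[F] V)), K ≤ SLV F V →
      (∀ k ∈ K, ∃ α : F, k u = α • u) →
      (∀ φ : Dual F V, φ u = 0 → tv u φ ∈ K → φ = 0) →
      (∀ g ∈ SLV F V, (∃ α : F, g u = α • u) → ∃ φ : Dual F V, φ u = 0 ∧ tv u φ * g ∈ K) →
      ∃ (z : V) (ψ : Dual F V), z ∉ Submodule.span F {u} ∧ ψ ≠ 0 ∧ ψ z = 0 ∧ tv z ψ ∈ K)
    (hA2 : ∀ {u v v' : V}, u ≠ 0 → v ∉ Submodule.span F {u} → v' ∉ Submodule.span F {u} →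
      ∃ g : ↥(SLV F V), (g : V ≃ₗ[F] V) u = u ∧ (g : V ≃ₗ[F] V) v = v')
    {u : V} (hu : u ≠ 0) {ω : Ω}
    (hreg : ∀ ω' : Ω, ω' ∉ Afix (F := F) Ω u → ∃ φ : Dual F V, φ u = 0 ∧ stv u φ • ω' = ω)
    (hω : ω ∉ Afix (F := F) Ω u) {x : V} (hx : x ∉ Submodule.span F {u}) :
    ∃ c : F, ω ∈ Afix (F := F) Ω (x + c • u) := by
  have hKS : gK (F := F) u ω ≤ SLV F V := by
    rintro g ⟨hg, _⟩
    exact hg
  have hKu : ∀ k ∈ gK (F := F) u ω, ∃ α : F, k u = α • u := by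
    rintro k ⟨_, _, α, _, hk⟩
    exact ⟨α, hk⟩
  have hKE : ∀ φ : Dual F V, φ u = 0 → tv u φ ∈ gK (F := F) u ω → φ = 0 := by
    rintro φ hφ ⟨hg, hfix, _⟩
    have hfix' : stv u φ • ω = ω := hfix
    rcases hII u hu ω with h1 | h1
    · exact absurd h1 hω
    · exact h1 φ hφ hfix'
  have hcov : ∀ g ∈ SLV F V, (∃ α : F, g u = α • u) →
      ∃ φ : Dual F V, φ u = 0 ∧ tv u φ * g ∈ gK (F := F) u ω := by
    rintro g hg ⟨α, hgu⟩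
    exact g_cov hu hreg hω hg hgu
  obtain ⟨z, ψ, hz, hψ, hψz, hmem⟩ := hF hu (gK (F := F) u ω) hKS hKu hKE hcov
  have hz0 : z ≠ 0 := by
    rintro rfl
    exact hz (Submodule.zero_mem _)
  have hωz : ω ∈ Afix (F := F) Ω z := by
    obtain ⟨hg, hfix, _⟩ := hmem
    have hfix' : stv z ψ • ω = ω := hfix
    rcases hII z hz0 ω with h1 | h1
    · exact h1
    · exact absurd (h1 ψ hψz hfix') hψ
  obtain ⟨g, hgu, hgz⟩ := hA2 hu hz hx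
  obtain ⟨φ, hφ, hk⟩ := hcov g g.2 ⟨1, by rw [hgu, one_smul]⟩
  obtain ⟨hkS, hkω, _⟩ := hk
  have h5 := g_mem_Afix_conj (k := ⟨tv u φ * (g : V ≃ₗ[F] V), hkS⟩) hkω hωz
  refine ⟨φ x, ?_⟩
  have h6 : ((⟨tv u φ * (g : V ≃ₗ[F] V), hkS⟩ : ↥(SLV F V)) : V ≃ₗ[F] V) z = x + φ x • u := by
    show (tv u φ * (g : V ≃ₗ[F] V)) z = _
    rw [LinearEquiv.mul_apply, hgz, tv_apply hφ]
  rw [h6] at h5
  exact h5

end Cfsg.Agent.Helper59.MD
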