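import Mathlib
import Cfsg.Agent.Lib.Helper93.MD0
import Cfsg.Agent.Lib.Helper59.MDG4

set_option autoImplicit false

namespace Cfsg.Agent.Helper59.MD

open Module Cfsg.Agent.Helper93.McL Cfsg.Agent.Helper93.MD

variable {F V : Type*} [Field F] [Fintype F] [AddCommGroup V] [Module F V] [FiniteDimensional F V]
variable {Ω : Type*} [Fintype Ω] [MulAction ↥(SLV F V) Ω]

omit [Fintype Ω] in
/-- counting along the cosets of `F u` -/
theorem g_count_ge {u : V} (hu : u ≠ 0) {ω : Ω}
    (h6 : ∀ x : V, x ∉ Submodule.span F {u} → ∃ c : F, ω ∈ Afix (F := F) Ω (x + c • u)) :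
    Fintype.card F ^ (finrank F V - 1) - 1 ≤
      Nat.card {z : V // z ≠ 0 ∧ ω ∈ Afix (F := F) Ω z} := by
  classical
  have : Finite V := Module.finite_of_finite F
  set W : Submodule F V := Submodule.span F {u} with hW
  have huW : u ∈ W := Submodule.mem_span_singleton_self u
  have h : ∀ y : {y : V ⧸ W // y ≠ 0},
      ∃ z : {z : V // z ≠ 0 ∧ ω ∈ Afix (F := F) Ω z}, W.mkQ z.1 = y.1 := by
    rintro ⟨y, hy⟩
    obtain ⟨x, rfl⟩ := W.mkQ_surjective y
    have hx : x ∉ W := by
      intro hxW
      apply hy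
      simpa using (Submodule.Quotient.mk_eq_zero W).2 hxW
    obtain ⟨c, hc⟩ := h6 x hx
    refine ⟨⟨x + c • u, ?_, hc⟩, ?_⟩
    · intro h0
      apply hx
      have : x = -(c • u) := eq_neg_of_add_eq_zero_left h0
      rw [this]
      exact W.neg_mem (W.smul_mem c huW)
    · have : W.mkQ u = 0 := by simpa using (Submodule.Quotient.mk_eq_zero W).2 huW
      simp only [map_add, map_smul, this, smul_zero, add_zero]
  choose Ψ hΨ using h
  have hinj : Function.Injective Ψ := fun y y' hyy' => Subtype.ext (by rw [← hΨ y, ← hΨ y', hyy'])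
  have h1 := Nat.card_le_card_of_injective Ψ hinj
  have h2 : Nat.card {y : V ⧸ W // y ≠ 0} = Fintype.card F ^ (finrank F V - 1) - 1 := by
    have : Finite (V ⧸ W) := Finite.of_surjective W.mkQ W.mkQ_surjective
    haveI : Fintype (V ⧸ W) := Fintype.ofFinite _
    have h3 : Nat.card (V ⧸ W) = Fintype.card F ^ (finrank F V - 1) := by
      rw [Module.natCard_eq_pow_finrank (K := F) (V := V ⧸ W), Nat.card_eq_fintype_card]
      congr 1
      have h4 := W.finrank_quotient_add_finrank
      have h5 : finrank F W = 1 := finrank_span_singleton hu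
      omega
    rw [← h3, Nat.card_eq_fintype_card, Nat.card_eq_fintype_card]
    simp
  rw [← h2]
  exact h1

omit [Fintype Ω] in
theorem g_card_V : Nat.card V = Fintype.card F ^ finrank F V := by
  rw [Module.natCard_eq_pow_finrank (K := F) (V := V), Nat.card_eq_fintype_card]

/-- double counting -/
theorem g_double_count (f : ℕ) (hA : ∀ z : V, z ≠ 0 → Nat.card (Afix (F := F) Ω z) = f) :
    ∑ ω : Ω, Nat.card {z : V // z ≠ 0 ∧ ω ∈ Afix (F := F) Ω z} =
      (Fintype.card F ^ finrank F V - 1) * f := by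
  classical
  have : Finite V := Module.finite_of_finite F
  haveI : Fintype V := Fintype.ofFinite V
  have h1 : ∀ ω : Ω, Nat.card {z : V // z ≠ 0 ∧ ω ∈ Afix (F := F) Ω z} =
      ∑ z : V, if (z ≠ 0 ∧ ω ∈ Afix (F := F) Ω z) then 1 else 0 := by
    intro ω
    rw [Nat.card_eq_fintype_card, Fintype.card_subtype, Finset.card_filter]
  simp_rw [h1]
  rw [Finset.sum_comm]
  have h2 : ∀ z : V, (∑ ω : Ω, if (z ≠ 0 ∧ ω ∈ Afix (F := F) Ω z) then 1 else 0) =
      if z ≠ 0 then f else 0 := by
    intro z
    by_cases hz : z = 0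
    · simp [hz]
    · rw [if_pos hz, ← hA z hz, Nat.card_eq_fintype_card, Fintype.card_subtype, Finset.card_filter]
      apply Finset.sum_congr rfl
      intro ω _
      simp [hz]
  simp_rw [h2]
  rw [Finset.sum_ite, Finset.sum_const_zero, add_zero, Finset.sum_const, smul_eq_mul,
    Finset.filter_ne' Finset.univ (0 : V), Finset.card_erase_of_mem (Finset.mem_univ _),
    Finset.card_univ, ← Nat.card_eq_fintype_card, g_card_V (F := F)]

end Cfsg.Agent.Helper59.MD
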