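import Mathlib
import Cfsg.Agent.Lib.Helper93.MD0
import Cfsg.Agent.Lib.Helper59.MDG5

set_option autoImplicit false

namespace Cfsg.Agent.Helper59.MD

open Module Cfsg.Agent.Helper93.McL Cfsg.Agent.Helper93.MD

variable {F V : Type*} [Field F] [Fintype F] [AddCommGroup V] [Module F V] [FiniteDimensional F V]

theorem g_arith {q Q f m : ℕ} (hq : 2 ≤ q) (hQ : 1 ≤ Q) (hm : m = f + Q)
    (hle : m * (Q - 1) ≤ (q * Q - 1) * f) : Q - 1 ≤ (q - 1) * f := by
  obtain ⟨a, rfl⟩ : ∃ a, Q = a + 1 := ⟨Q - 1, by omega⟩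
  obtain ⟨b, rfl⟩ : ∃ b, q = b + 1 := ⟨q - 1, by omega⟩
  subst hm
  have e : (b + 1) * (a + 1) = b * a + b + a + 1 := by ring
  rw [e] at hle
  simp only [Nat.add_sub_cancel] at hle ⊢
  by_contra hcon
  push Not at hcon
  have h1 : b * f + 1 ≤ a := hcon
  nlinarith [Nat.mul_le_mul_right (a + 1) h1]

/-- (G) with the pieces (F), (A2) and `card_PhiA` as hypotheses -/
theorem caseII_good_aux {Ω : Type*} [Fintype Ω] [MulAction ↥(SLV F V) Ω] (hn : 3 ≤ finrank F V)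
    (f : ℕ)
    (hf : ∀ (u : V) (φ : Dual F V), u ≠ 0 → φ ≠ 0 → φ u = 0 → fp Ω (stv u φ) = f)
    (hm : Fintype.card Ω = f + Fintype.card F ^ (finrank F V - 1))
    (hII : ∀ u : V, u ≠ 0 → ∀ ω : Ω, (∀ φ : Dual F V, φ u = 0 → stv u φ • ω = ω) ∨
        (∀ φ : Dual F V, φ u = 0 → stv u φ • ω = ω → φ = 0))
    (hF : ∀ {u : V}, u ≠ 0 → ∀ (K : Subgroup (V ≃ₗ[F] V)), K ≤ SLV F V →
      (∀ k ∈ K, ∃ α : F, k u = α • u) →
      (∀ φ : Dual F V, φ u = 0 → tv u φ ∈ K → φ = 0) →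
      (∀ g ∈ SLV F V, (∃ α : F, g u = α • u) → ∃ φ : Dual F V, φ u = 0 ∧ tv u φ * g ∈ K) →
      ∃ (z : V) (ψ : Dual F V), z ∉ Submodule.span F {u} ∧ ψ ≠ 0 ∧ ψ z = 0 ∧ tv z ψ ∈ K)
    (hA2 : ∀ {u v v' : V}, u ≠ 0 → v ∉ Submodule.span F {u} → v' ∉ Submodule.span F {u} →
      ∃ g : ↥(SLV F V), (g : V ≃ₗ[F] V) u = u ∧ (g : V ≃ₗ[F] V) v = v')
    (hcard : ∀ {u : V}, u ≠ 0 →
      Nat.card ↥(PhiA u : AddSubgroup (Dual F V)) = Fintype.card F ^ (finrank F V - 1)) :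
    Fintype.card F ^ (finrank F V - 1) - 1 ≤ (Fintype.card F - 1) * f := by
  classical
  have hA : ∀ z : V, z ≠ 0 → Nat.card (Afix (F := F) Ω z) = f := by
    intro z hz
    obtain ⟨φ, hφ, hφz⟩ := g_exists_dual (F := F) (by omega) z
    rw [← g_fixedBy_eq hII hz hφ hφz]
    exact hf z φ hz hφ hφz
  obtain ⟨u0, hu0⟩ : ∃ u0 : V, u0 ≠ 0 := by
    have : 0 < finrank F V := by omega
    exact Module.finrank_pos_iff_exists_ne_zero.1 this
  have hN : ∀ ω : Ω, Fintype.card F ^ (finrank F V - 1) - 1 ≤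
      Nat.card {z : V // z ≠ 0 ∧ ω ∈ Afix (F := F) Ω z} := by
    intro ω
    by_cases hall : ∀ u : V, u ≠ 0 → ω ∈ Afix (F := F) Ω u
    · apply g_count_ge hu0
      intro x hx
      refine ⟨0, ?_⟩
      rw [zero_smul, add_zero]
      apply hall
      rintro rfl
      exact hx (Submodule.zero_mem _)
    · push Not at hall
      obtain ⟨u, hu, hω⟩ := hall
      apply g_count_ge hu
      intro x hx
      have hreg : ∀ ω' : Ω, ω' ∉ Afix (F := F) Ω u →
          ∃ φ : Dual F V, φ u = 0 ∧ stv u φ • ω' = ω :=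
        fun ω' hω' => g_regular hII hu f _ (hA u hu) hm (hcard hu) hω hω'
      exact g_coset hII hF hA2 hu hreg hω hx
  have hsum := g_double_count (F := F) (Ω := Ω) f hA
  have hle : Fintype.card Ω * (Fintype.card F ^ (finrank F V - 1) - 1) ≤
      (Fintype.card F ^ finrank F V - 1) * f := by
    rw [← hsum]
    calc Fintype.card Ω * (Fintype.card F ^ (finrank F V - 1) - 1)
        = ∑ _ω : Ω, (Fintype.card F ^ (finrank F V - 1) - 1) := by
          simp [Finset.card_univ]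
      _ ≤ _ := Finset.sum_le_sum (fun ω _ => hN ω)
  have hq : 2 ≤ Fintype.card F := Fintype.one_lt_card
  have hpow : Fintype.card F ^ finrank F V =
      Fintype.card F * Fintype.card F ^ (finrank F V - 1) := by
    rw [← pow_succ']
    congr 1
    omega
  rw [hpow] at hle
  exact g_arith hq (Nat.one_le_pow _ _ (by omega)) hm hle

end Cfsg.Agent.Helper59.MD
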