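import Mathlib
import Cfsg.Agent.Lib.Helper93.MD0
import Cfsg.Agent.Lib.Helper93.MDF
import Cfsg.Agent.Lib.Helper95.MDA
import Cfsg.Agent.Lib.Helper4.MDC
import Cfsg.Agent.Lib.Helper59.MDGAux

/-!
# MD (G): case (II) gives the bound (helper59, second seat, for helper93's MD server, S2140)

The proof is in `MDG1`–`MDG5` and `MDGAux` (`caseII_good_aux`, with (F), (A2) and `card_PhiA` as
hypotheses); here the real pieces are plugged in.
-/

set_option autoImplicit false

namespace Cfsg.Agent.Helper59.MD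

open Module Cfsg.Agent.Helper93.McL Cfsg.Agent.Helper93.MD

variable {F V : Type*} [Field F] [Fintype F] [AddCommGroup V] [Module F V] [FiniteDimensional F V]

theorem caseII_good {Ω : Type*} [Fintype Ω] [MulAction ↥(SLV F V) Ω] (hn : 3 ≤ finrank F V)
    (hexc : ¬ (finrank F V = 4 ∧ Fintype.card F = 2)) (f : ℕ)
    (hf : ∀ (u : V) (φ : Dual F V), u ≠ 0 → φ ≠ 0 → φ u = 0 → fp Ω (stv u φ) = f)
    (hm : Fintype.card Ω = f + Fintype.card F ^ (finrank F V - 1))
    (hII : ∀ u : V, u ≠ 0 → ∀ ω : Ω, (∀ φ : Dual F V, φ u = 0 → stv u φ • ω = ω) ∨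
        (∀ φ : Dual F V, φ u = 0 → stv u φ • ω = ω → φ = 0)) :
    Fintype.card F ^ (finrank F V - 1) - 1 ≤ (Fintype.card F - 1) * f := by
  exact caseII_good_aux hn f hf hm hII
    (fun {_} hu K hKS hKu hKE hcov =>
      Cfsg.Agent.Helper93.MD.exists_tv_mem_of_complement hn hexc hu K hKS hKu hKE hcov)
    (fun {_ _ _} hu hv hv' => Cfsg.Agent.Helper95.MD.exists_sl_fix_map hn hu hv hv')
    (fun {_} hu => Cfsg.Agent.Helper4.MD.card_PhiA hu)

end Cfsg.Agent.Helper59.MD
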