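import Mathlib
import Cfsg.Agent.Lib.Helper93.MD0

/-!
# MD (I3): `PSL_n(K)` has a subgroup of index `(q^n - 1)/(q - 1)` (helper59, for helper93's MD server)
-/

set_option autoImplicit false

namespace Cfsg.Agent.Helper59.MD

open scoped LinearAlgebra.Projectivization

/-- (I3) -/
theorem psl_exists_index {K : Type*} [Field K] [Fintype K] (n : ℕ) (hn : 3 ≤ n) :
    ∃ H : Subgroup (Matrix.ProjectiveSpecialLinearGroup (Fin n) K),
      H.index = (Fintype.card K ^ n - 1) / (Fintype.card K - 1) := by
  classical
  have hv : (Pi.single (⟨0, by omega⟩ : Fin n) (1 : K) : Fin n → K) ≠ 0 := by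
    intro h
    have := congrFun h ⟨0, by omega⟩
    simp at this
  let p : ℙ K (Fin n → K) := Projectivization.mk K _ hv
  refine ⟨MulAction.stabilizer (Matrix.ProjectiveSpecialLinearGroup (Fin n) K) p, ?_⟩
  have hpre : MulAction.IsPretransitive (Matrix.ProjectiveSpecialLinearGroup (Fin n) K)
      (ℙ K (Fin n → K)) := MulAction.IsPreprimitive.toIsPretransitive
  rw [MulAction.index_stabilizer_of_transitive, Projectivization.card'']
  simp [Nat.card_eq_fintype_card]

end Cfsg.Agent.Helper59.MD
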