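import Mathlib

/-!
# Word identities in central extensions, used for the Schur multiplier of `A_n`.
-/

namespace Cfsg.Agent.Helper59.MultAlt

open Subgroup

variable {E : Type*} [Group E]

theorem cmul {ζ : E} (hζ : ζ ∈ center E) (g : E) : g * ζ = ζ * g := mem_center_iff.mp hζ g

theorem cconj {ζ : E} (hζ : ζ ∈ center E) (g : E) : g * ζ * g⁻¹ = ζ := by
  rw [cmul hζ g, mul_inv_cancel_right]

theorem conj_mul_central {ζ : E} (hζ : ζ ∈ center E) (t w : E) :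
    t * (w * ζ) * t⁻¹ = t * w * t⁻¹ * ζ := by
  rw [← mul_assoc, mul_assoc (t * w) ζ, ← cmul hζ t⁻¹, ← mul_assoc]

/-- W1 -/
theorem inv_rel {x y a b d : E} (ha : a ∈ center E) (hb : b ∈ center E) (hd : d ∈ center E)
    (hx : x ^ 3 = a) (hy : y ^ 2 = b) (hxy : (x * y) ^ 2 = d) :
    y * x * y⁻¹ = x⁻¹ * (d * b⁻¹) ∧ a = a⁻¹ * (d * b⁻¹) ^ 3 := by
  have h1 : y * x * y⁻¹ = x⁻¹ * (d * b⁻¹) := by
    rw [← hxy, ← hy, pow_two, pow_two]; group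
  refine ⟨h1, ?_⟩
  have hu : d * b⁻¹ ∈ center E := mul_mem hd (inv_mem hb)
  have h2 : (y * x * y⁻¹) ^ 3 = y * x ^ 3 * y⁻¹ := conj_pow
  have h3 : Commute x⁻¹ (d * b⁻¹) := cmul hu x⁻¹
  rw [h1, hx, cconj ha, h3.mul_pow, inv_pow, hx] at h2
  exact h2.symm

theorem conj_central_pow {t x τ : E} (hτ : τ ∈ center E) (h : t * x * t⁻¹ = x * τ) (n : ℕ) :
    t ^ n * x * (t ^ n)⁻¹ = x * τ ^ n := by
  induction n with
  | zero => simp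
  | succ n ih =>
    have : t ^ (n + 1) * x * (t ^ (n + 1))⁻¹ = t * (t ^ n * x * (t ^ n)⁻¹) * t⁻¹ := by
      rw [pow_succ']; group
    rw [this, ih, conj_mul_central (pow_mem hτ n), h, pow_succ', mul_assoc]

theorem conj_pow_central {t x τ : E} (hτ : τ ∈ center E) (h : t * x * t⁻¹ = x * τ) (n : ℕ) :
    t * x ^ n * t⁻¹ = x ^ n * τ ^ n := by
  have h1 : t * x ^ n * t⁻¹ = (t * x * t⁻¹) ^ n := conj_pow.symm
  have h2 : Commute x τ := cmul hτ x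
  rw [h1, h, h2.mul_pow]

/-- W2 -/
theorem inv_same {x y y' u u' : E} (hu : u ∈ center E) (hu' : u' ∈ center E)
    (hx : x ^ 3 ∈ center E) (ht : (y' * y) ^ 2 ∈ center E)
    (hy : y * x * y⁻¹ = x⁻¹ * u) (hy' : y' * x * y'⁻¹ = x⁻¹ * u') :
    (u'⁻¹ * u) ^ 2 = 1 ∧ (u'⁻¹ * u) ^ 3 = 1 := by
  have hτ : u'⁻¹ * u ∈ center E := mul_mem (inv_mem hu') hu
  have h1 : (y' * y) * x * (y' * y)⁻¹ = x * (u'⁻¹ * u) := by
    have e1 : (y' * y) * x * (y' * y)⁻¹ = y' * (y * x * y⁻¹) * y'⁻¹ := by group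
    have e2 : y' * x⁻¹ * y'⁻¹ = (y' * x * y'⁻¹)⁻¹ := by group
    rw [e1, hy, conj_mul_central hu, e2, hy', mul_inv_rev, inv_inv, ← cmul (inv_mem hu') x,
      mul_assoc]
  constructor
  · have h2 := conj_central_pow hτ h1 2
    rw [← cmul ht, mul_inv_cancel_right] at h2
    exact (mul_eq_left.mp h2.symm)
  · have h3 := conj_pow_central hτ h1 3
    rw [cmul hx, mul_inv_cancel_right] at h3
    exact (mul_eq_left.mp h3.symm)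


theorem cconj' {ζ : E} (hζ : ζ ∈ center E) (g : E) : ζ * g * ζ⁻¹ = g := by
  rw [← cmul hζ g, mul_inv_cancel_right]

theorem conj_central_mul {ζ : E} (hζ : ζ ∈ center E) (t w : E) :
    t * (ζ * w) * t⁻¹ = ζ * (t * w * t⁻¹) := by
  rw [← mul_assoc, cmul hζ t]; group

/-- W3 -/
theorem braid_rel {x y bx by' c : E} (hbx : bx ∈ center E) (hby : by' ∈ center E)
    (hc : c ∈ center E)
    (hx : x ^ 2 = bx) (hy : y ^ 2 = by') (hxy : (x * y) ^ 3 = c) :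
    x * y * x * (x * y)⁻¹ = (by'⁻¹ * (bx⁻¹ * by'⁻¹ * c)) * y ∧
      bx = (by'⁻¹ * (bx⁻¹ * by'⁻¹ * c)) ^ 2 * by' := by
  have hγ : x * y * x * (x * y)⁻¹ = (by'⁻¹ * (bx⁻¹ * by'⁻¹ * c)) * y := by
    have e1 : x * y * x * (x * y)⁻¹ = (x * y) ^ 3 * y⁻¹ * x⁻¹ * (y ^ 2)⁻¹ * x⁻¹ := by
      rw [pow_succ, pow_two, pow_two]; group
    rw [e1, hxy, hy, cmul (inv_mem hby) (c * y⁻¹ * x⁻¹)]
    have e2 : by'⁻¹ * (c * y⁻¹ * x⁻¹) * x⁻¹ = by'⁻¹ * c * y⁻¹ * (x ^ 2)⁻¹ := by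
      rw [pow_two]; group
    rw [e2, hx, cmul (inv_mem hbx) (by'⁻¹ * c * y⁻¹)]
    have e3 : bx⁻¹ * (by'⁻¹ * c * y⁻¹) = bx⁻¹ * by'⁻¹ * c * (y ^ 2)⁻¹ * y := by
      rw [pow_two]; group
    rw [e3, hy, cmul (inv_mem hby) (bx⁻¹ * by'⁻¹ * c)]
  refine ⟨hγ, ?_⟩
  have hγc : by'⁻¹ * (bx⁻¹ * by'⁻¹ * c) ∈ center E :=
    mul_mem (inv_mem hby) (mul_mem (mul_mem (inv_mem hbx) (inv_mem hby)) hc)
  have h2 : (x * y * x * (x * y)⁻¹) ^ 2 = (x * y) * x ^ 2 * (x * y)⁻¹ := conj_pow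
  have h3 : Commute (by'⁻¹ * (bx⁻¹ * by'⁻¹ * c)) y := (cmul hγc y).symm
  rw [hγ, hx, cconj hbx, h3.mul_pow, hy] at h2
  exact h2.symm

/-- if `t² ` is central and `t x t⁻¹ = x τ` then `τ² = 1` -/
theorem sq_eq_one_of_conj {t x τ : E} (hτ : τ ∈ center E) (ht : t ^ 2 ∈ center E)
    (h : t * x * t⁻¹ = x * τ) : τ ^ 2 = 1 := by
  have h2 := conj_central_pow hτ h 2
  rw [← cmul ht, mul_inv_cancel_right] at h2
  exact (mul_eq_left.mp h2.symm)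

/-- W5 -/
theorem comm_rel {x y bx by' d : E} (hbx : bx ∈ center E) (hby : by' ∈ center E)
    (hd : d ∈ center E)
    (hx : x ^ 2 = bx) (hy : y ^ 2 = by') (hxy : (x * y) ^ 2 = d) :
    x * y * x⁻¹ = y * (bx⁻¹ * d * by'⁻¹) ∧ (bx⁻¹ * d * by'⁻¹) ^ 2 = 1 := by
  have hη : bx⁻¹ * d * by'⁻¹ ∈ center E := mul_mem (mul_mem (inv_mem hbx) hd) (inv_mem hby)
  have h1 : x * y * x⁻¹ = y * (bx⁻¹ * d * by'⁻¹) := by
    have e1 : x * y * x⁻¹ = (x * y) ^ 2 * y⁻¹ * (x ^ 2)⁻¹ := by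
      rw [pow_two, pow_two]; group
    rw [e1, hxy, hx, cmul (inv_mem hbx) (d * y⁻¹)]
    have e2 : bx⁻¹ * (d * y⁻¹) = bx⁻¹ * d * (y ^ 2)⁻¹ * y := by rw [pow_two]; group
    rw [e2, hy, cmul hη y]
  exact ⟨h1, sq_eq_one_of_conj hη (hx ▸ hbx) h1⟩

theorem cz_mul {s t z σ τ : E} (hτ : τ ∈ center E) (hs : s * z * s⁻¹ = z * σ)
    (ht : t * z * t⁻¹ = z * τ) : (s * t) * z * (s * t)⁻¹ = z * (σ * τ) := by
  have e1 : (s * t) * z * (s * t)⁻¹ = s * (t * z * t⁻¹) * s⁻¹ := by group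
  rw [e1, ht, conj_mul_central hτ, hs, mul_assoc]

theorem cz_inv {s z σ : E} (hσ : σ ∈ center E) (hs : s * z * s⁻¹ = z * σ) :
    s⁻¹ * z * s⁻¹⁻¹ = z * σ⁻¹ := by
  have e1 : s⁻¹ * (s * z * s⁻¹) * s⁻¹⁻¹ = z := by group
  rw [hs, conj_mul_central hσ] at e1
  rw [eq_mul_inv_iff_mul_eq]
  exact e1

/-- W6 -/
theorem braid_comm_eq {x y z bx by' c α β : E} (hbx : bx ∈ center E) (hby : by' ∈ center E)
    (hc : c ∈ center E) (hα : α ∈ center E) (hβ : β ∈ center E)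
    (hx : x ^ 2 = bx) (hy : y ^ 2 = by') (hxy : (x * y) ^ 3 = c)
    (hxz : x * z * x⁻¹ = z * α) (hyz : y * z * y⁻¹ = z * β) :
    α * (β * (α * (β⁻¹ * α⁻¹))) = β := by
  obtain ⟨hγ, -⟩ := braid_rel hbx hby hc hx hy hxy
  have hγc : by'⁻¹ * (bx⁻¹ * by'⁻¹ * c) ∈ center E :=
    mul_mem (inv_mem hby) (mul_mem (mul_mem (inv_mem hbx) (inv_mem hby)) hc)
  have hxi := cz_inv hα hxz
  have hyi := cz_inv hβ hyz
  have h1 := cz_mul (inv_mem hα) hyi hxi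
  have h2 := cz_mul (mul_mem (inv_mem hβ) (inv_mem hα)) hxz h1
  have h3 := cz_mul (mul_mem hα (mul_mem (inv_mem hβ) (inv_mem hα))) hyz h2
  have h4 := cz_mul (mul_mem hβ (mul_mem hα (mul_mem (inv_mem hβ) (inv_mem hα)))) hxz h3
  have e1 : x * (y * (x * (y⁻¹ * x⁻¹))) = x * y * x * (x * y)⁻¹ := by group
  rw [e1, hγ] at h4
  have e2 : by'⁻¹ * (bx⁻¹ * by'⁻¹ * c) * y * z * (by'⁻¹ * (bx⁻¹ * by'⁻¹ * c) * y)⁻¹
      = by'⁻¹ * (bx⁻¹ * by'⁻¹ * c) * (y * z * y⁻¹) * (by'⁻¹ * (bx⁻¹ * by'⁻¹ * c))⁻¹ := by group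
  rw [e2, cconj' hγc, hyz] at h4
  exact (mul_left_cancel h4).symm

/-- W4 -/
theorem a4_rel {x y a b c : E} (ha : a ∈ center E) (hb : b ∈ center E) (hc : c ∈ center E)
    (hx : x ^ 3 = a) (hy : y ^ 2 = b) (hxy : (x * y) ^ 3 = c) :
    x * y * x⁻¹ * (x⁻¹ * y * x) = a⁻¹ * c * b⁻¹ * y ∧
    y * (x * y * x⁻¹) * y⁻¹ = x * y * x⁻¹ * (b⁻¹ * (a⁻¹ * c * b⁻¹) * (a⁻¹ * c * b⁻¹)) ∧
    (b⁻¹ * (a⁻¹ * c * b⁻¹) * (a⁻¹ * c * b⁻¹)) ^ 2 = 1 := by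
  have hf : a⁻¹ * c * b⁻¹ ∈ center E := mul_mem (mul_mem (inv_mem ha) hc) (inv_mem hb)
  have hε : b⁻¹ * (a⁻¹ * c * b⁻¹) * (a⁻¹ * c * b⁻¹) ∈ center E :=
    mul_mem (mul_mem (inv_mem hb) hf) hf
  -- (i)
  have h1 : x * y * x⁻¹ * (x⁻¹ * y * x) = a⁻¹ * c * b⁻¹ * y := by
    have e1 : x * y * x⁻¹ * (x⁻¹ * y * x) = x * y * x * (x ^ 3)⁻¹ * y * x := by
      rw [pow_succ, pow_two]; group
    rw [e1, hx, cmul (inv_mem ha) (x * y * x)]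
    have e2 : a⁻¹ * (x * y * x) * y * x = a⁻¹ * (x * y) ^ 3 * (y ^ 2)⁻¹ * y := by
      rw [pow_succ, pow_two, pow_two]; group
    rw [e2, hxy, hy]
  -- conjugation by x
  have c1 : x * (x * y * x⁻¹) * x⁻¹ = x⁻¹ * y * x := by
    have e1 : x * (x * y * x⁻¹) * x⁻¹ = x⁻¹ * (x ^ 3 * y * (x ^ 3)⁻¹) * x := by
      rw [pow_succ, pow_two]; group
    rw [e1, hx, cconj' ha]
  have c2 : x * (x⁻¹ * y * x) * x⁻¹ = y := by group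
  have h2 : x⁻¹ * y * x * y = a⁻¹ * c * b⁻¹ * (x * y * x⁻¹) := by
    have e1 : x * (x * y * x⁻¹ * (x⁻¹ * y * x)) * x⁻¹
        = (x * (x * y * x⁻¹) * x⁻¹) * (x * (x⁻¹ * y * x) * x⁻¹) := by group
    have := congrArg (fun t => x * t * x⁻¹) h1
    rw [e1, c1, c2, conj_central_mul hf] at this
    exact this
  have h3 : y * (x * y * x⁻¹) = a⁻¹ * c * b⁻¹ * (x⁻¹ * y * x) := by
    have e1 : x * (x⁻¹ * y * x * y) * x⁻¹
        = (x * (x⁻¹ * y * x) * x⁻¹) * (x * y * x⁻¹) := by group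
    have := congrArg (fun t => x * t * x⁻¹) h2
    rw [e1, c2, conj_central_mul hf, c1] at this
    exact this
  have h4 : y * (x * y * x⁻¹) * y⁻¹
      = x * y * x⁻¹ * (b⁻¹ * (a⁻¹ * c * b⁻¹) * (a⁻¹ * c * b⁻¹)) := by
    have e1 : y * (x * y * x⁻¹) * y⁻¹ = y * (x * y * x⁻¹) * y * (y ^ 2)⁻¹ := by
      rw [pow_two]; group
    rw [e1, h3, mul_assoc (a⁻¹ * c * b⁻¹) (x⁻¹ * y * x) y, h2, hy, cmul hε,
      cmul (inv_mem hb)]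
    group
  exact ⟨h1, h4, sq_eq_one_of_conj hε (hy ▸ hb) h4⟩

/-- W7 -/
theorem a4_ext {x y w a b c bw u η : E} (ha : a ∈ center E) (hb : b ∈ center E)
    (hc : c ∈ center E) (hbw : bw ∈ center E) (hu : u ∈ center E) (hη : η ∈ center E)
    (hx : x ^ 3 = a) (hy : y ^ 2 = b) (hxy : (x * y) ^ 3 = c) (hw : w ^ 2 = bw)
    (hwx : w * x * w⁻¹ = x⁻¹ * u) (hwy : w * y * w⁻¹ = y * η) :
    η = b⁻¹ * (a⁻¹ * c * b⁻¹) * (a⁻¹ * c * b⁻¹) := by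
  obtain ⟨h1, h4, -⟩ := a4_rel ha hb hc hx hy hxy
  have hf : a⁻¹ * c * b⁻¹ ∈ center E := mul_mem (mul_mem (inv_mem ha) hc) (inv_mem hb)
  have hε : b⁻¹ * (a⁻¹ * c * b⁻¹) * (a⁻¹ * c * b⁻¹) ∈ center E :=
    mul_mem (mul_mem (inv_mem hb) hf) hf
  have s1 : w * (x * y * x⁻¹) * w⁻¹ = (x⁻¹ * y * x) * η := by
    have e : w * (x * y * x⁻¹) * w⁻¹ = (w * x * w⁻¹) * (w * y * w⁻¹) * (w * x * w⁻¹)⁻¹ := by
      group
    have e' : (x⁻¹ * u) * y * (x⁻¹ * u)⁻¹ = x⁻¹ * (u * y * u⁻¹) * x := by group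
    rw [e, hwx, hwy, conj_mul_central hη, e', cconj' hu]
  have hζ : bw * η * (a⁻¹ * c * b⁻¹) ∈ center E := mul_mem (mul_mem hbw hη) hf
  have s2 : (x * y * x⁻¹ * w) ^ 2 = bw * η * (a⁻¹ * c * b⁻¹) * y := by
    have e : (x * y * x⁻¹ * w) ^ 2
        = (x * y * x⁻¹) * (w * (x * y * x⁻¹) * w⁻¹) * w ^ 2 := by
      rw [pow_two, pow_two]; group
    rw [e, s1, ← mul_assoc (x * y * x⁻¹), h1, hw, cmul hη, cmul hbw]
    group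
  have s3 : x * y * x⁻¹ * w * y = y * (x * y * x⁻¹ * w) := by
    have hc : Commute (x * y * x⁻¹ * w) ((x * y * x⁻¹ * w) ^ 2) :=
      (Commute.refl _).pow_right 2
    rw [s2] at hc
    have hc' : x * y * x⁻¹ * w * (bw * η * (a⁻¹ * c * b⁻¹) * y)
        = bw * η * (a⁻¹ * c * b⁻¹) * y * (x * y * x⁻¹ * w) := hc
    rw [← mul_assoc, cmul hζ, mul_assoc, mul_assoc (bw * η * (a⁻¹ * c * b⁻¹))] at hc'
    exact mul_left_cancel hc'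
  have hwy' : w * y = y * η * w := mul_inv_eq_iff_eq_mul.mp hwy
  have hyy' : y * (x * y * x⁻¹)
      = x * y * x⁻¹ * (b⁻¹ * (a⁻¹ * c * b⁻¹) * (a⁻¹ * c * b⁻¹)) * y :=
    mul_inv_eq_iff_eq_mul.mp h4
  rw [mul_assoc (x * y * x⁻¹) w y, hwy', ← mul_assoc y, hyy', mul_assoc (x * y * x⁻¹),
    mul_assoc (x * y * x⁻¹)] at s3
  have s4 := mul_right_cancel (mul_left_cancel s3)
  rw [cmul hη] at s4
  exact mul_right_cancel s4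

end Cfsg.Agent.Helper59.MultAlt
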