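import Mathlib
import Cfsg.Agent.Lib.Helper59.MultAltA

/-!
# Normalising lifts of the Carmichael generators in a central extension of `A_n`
-/

namespace Cfsg.Agent.Helper59.MultAlt

open Subgroup
open scoped IsMulCommutative

variable {E : Type*} [Group E] (K : Subgroup E)

/-- the central subgroup `K`, written additively (as a subgroup of the centre, so that it is
visibly commutative) -/
abbrev CK : Type _ := Additive (K.subgroupOf (center E))

/-- the inclusion of `K`, written additively -/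
def iota (c : CK K) : E := (((Additive.toMul c : K.subgroupOf (center E)) : center E) : E)

theorem iota_zero : iota K 0 = 1 := rfl
theorem iota_add (c d : CK K) : iota K (c + d) = iota K c * iota K d := rfl
theorem iota_neg (c : CK K) : iota K (-c) = (iota K c)⁻¹ := rfl
theorem iota_nsmul (n : ℕ) (c : CK K) : iota K (n • c) = iota K c ^ n := by
  simp [iota]
theorem iota_mem (c : CK K) : iota K c ∈ K := mem_subgroupOf.mp (Additive.toMul c).2
theorem iota_center (c : CK K) : iota K c ∈ center E := (Additive.toMul c).1.2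
theorem iota_inj : Function.Injective (iota K) := by
  intro c d h
  exact Additive.toMul.injective (Subtype.ext (Subtype.ext h))
theorem iota_eq_one_iff {c : CK K} : iota K c = 1 ↔ c = 0 := by
  rw [← iota_zero K]; exact (iota_inj K).eq_iff
theorem exists_iota (hK : K ≤ center E) {z : E} (hz : z ∈ K) : ∃ c, iota K c = z :=
  ⟨Additive.ofMul ⟨⟨z, hK hz⟩, mem_subgroupOf.mpr hz⟩, rfl⟩

variable {K}

theorem mul_iota_pow (X : E) (s : CK K) (n : ℕ) :
    (X * iota K s) ^ n = X ^ n * iota K (n • s) := by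
  have h : Commute X (iota K s) := cmul (iota_center K s) X
  rw [h.mul_pow, iota_nsmul]

theorem mul_iota_mul_pow (X Y : E) (s t : CK K) (n : ℕ) :
    (X * iota K s * (Y * iota K t)) ^ n = (X * Y) ^ n * iota K (n • (s + t)) := by
  have e : X * iota K s * (Y * iota K t) = X * Y * iota K (s + t) := by
    rw [iota_add, mul_assoc X, mul_assoc X, ← mul_assoc (iota K s), ← cmul (iota_center K s) Y,
      mul_assoc Y]
  rw [e, mul_iota_pow]

/-- the correcting sequence -/
def fseq {C : Type*} [AddCommGroup C] (a : C) (b c : ℕ → C) : ℕ → C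
  | 0 => 0
  | 1 => c 0 - a - b 1
  | (i + 2) => c (i + 1) - b (i + 1) - b (i + 2) - fseq a b c (i + 1)

theorem core (k : ℕ) (X : ℕ → E)
    (a u e0 : CK K) (b c : ℕ → CK K) (d : ℕ → ℕ → CK K)
    (ha : X 0 ^ 3 = iota K a) (hb : ∀ i, 1 ≤ i → i < k → X i ^ 2 = iota K (b i))
    (hc : ∀ i, i + 1 < k → (X i * X (i + 1)) ^ 3 = iota K (c i))
    (hd : ∀ i j, i + 2 ≤ j → j < k → (X i * X j) ^ 2 = iota K (d i j))
    (hu3 : 3 • u = 2 • a) (hud : ∀ j, 2 ≤ j → j < k → d 0 j = u + b j)
    (r3 : ∀ i, 1 ≤ i → i + 1 < k → 3 • b i + 3 • b (i + 1) = 2 • c i)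
    (he0 : e0 = 2 • c 0 - 2 • a - 3 • b 1) (h2e : 2 • e0 = 0)
    (r5 : ∀ i j, 1 ≤ i → i + 2 ≤ j → j < k → d i j = e0 + b i + b j) :
    ∃ (ε : E) (z : ℕ → E), ε ∈ K ∧ ε ^ 2 = 1 ∧ (∀ i, z i ∈ K) ∧
      (X 0 * z 0) ^ 3 = 1 ∧ (∀ i, 1 ≤ i → i < k → (X i * z i) ^ 2 ∈ zpowers ε) ∧
      (∀ i, i + 1 < k → (X i * z i * (X (i + 1) * z (i + 1))) ^ 3 ∈ zpowers ε) ∧
      (∀ i j, i + 2 ≤ j → j < k → (X i * z i * (X j * z j)) ^ 2 ∈ zpowers ε) := by
  set f := fseq a b c with hf
  have hbf : ∀ i, 1 ≤ i → i < k → b i = 2 • f i + e0 := by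
    intro i hi
    induction i, hi using Nat.le_induction with
    | base =>
      intro _
      show b 1 = 2 • (c 0 - a - b 1) + e0
      linear_combination (norm := module) he0 - h2e
    | succ m hm ih =>
      intro hk
      have ih' := ih (by omega)
      obtain ⟨m', rfl⟩ : ∃ m', m = m' + 1 := ⟨m - 1, by omega⟩
      have h3 := r3 (m' + 1) (by omega) hk
      show b (m' + 2) = 2 • (c (m' + 1) - b (m' + 1) - b (m' + 2) - f (m' + 1)) + e0
      linear_combination (norm := module) h3 - ih' - h2e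
  let zc : ℕ → CK K := fun i => if i = 0 then u - a else - f i
  have zc0 : zc 0 = u - a := if_pos rfl
  have zcs : ∀ i, 1 ≤ i → zc i = - f i := fun i hi => if_neg (by omega)
  refine ⟨iota K e0, fun i => iota K (zc i), iota_mem K e0, ?_, fun i => iota_mem K _,
    ?_, ?_, ?_, ?_⟩
  · rw [← iota_nsmul, h2e, iota_zero]
  · show (X 0 * iota K (zc 0)) ^ 3 = 1
    rw [zc0, mul_iota_pow, ha, ← iota_add, iota_eq_one_iff]
    linear_combination (norm := module) hu3
  · intro i hi hik
    show (X i * iota K (zc i)) ^ 2 ∈ zpowers (iota K e0)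
    rw [zcs i hi, mul_iota_pow, hb i hi hik, ← iota_add]
    have : b i + 2 • (- f i) = e0 := by
      linear_combination (norm := module) hbf i hi hik
    rw [this]; exact mem_zpowers _
  · intro i hik
    show (X i * iota K (zc i) * (X (i + 1) * iota K (zc (i + 1)))) ^ 3 ∈ zpowers (iota K e0)
    rcases Nat.eq_zero_or_pos i with rfl | hi
    · rw [zc0, zcs (0 + 1) (by omega), mul_iota_mul_pow, hc 0 hik, ← iota_add]
      have : c 0 + 3 • (u - a + - f (0 + 1)) = e0 := by
        show c 0 + 3 • (u - a + - (c 0 - a - b 1)) = e0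
        linear_combination (norm := module) hu3 + he0 - h2e
      rw [this]; exact mem_zpowers _
    · obtain ⟨m, rfl⟩ : ∃ m, i = m + 1 := ⟨i - 1, by omega⟩
      rw [zcs (m + 1) (by omega), zcs (m + 1 + 1) (by omega), mul_iota_mul_pow,
        hc (m + 1) hik, ← iota_add]
      have : c (m + 1) + 3 • (- f (m + 1) + - f (m + 1 + 1)) = 0 := by
        have h3 := r3 (m + 1) (by omega) hik
        show c (m + 1) + 3 • (- f (m + 1)
          + - (c (m + 1) - b (m + 1) - b (m + 2) - f (m + 1))) = 0
        linear_combination (norm := module) h3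
      rw [this, iota_zero]; exact one_mem _
  · intro i j hij hjk
    show (X i * iota K (zc i) * (X j * iota K (zc j))) ^ 2 ∈ zpowers (iota K e0)
    rcases Nat.eq_zero_or_pos i with rfl | hi
    · rw [zc0, zcs j (by omega), mul_iota_mul_pow, hd 0 j hij hjk, ← iota_add]
      have : d 0 j + 2 • (u - a + - f j) = e0 := by
        linear_combination (norm := module) hud j (by omega) hjk + hu3 + hbf j (by omega) hjk
      rw [this]; exact mem_zpowers _
    · rw [zcs i hi, zcs j (by omega), mul_iota_mul_pow, hd i j hij hjk, ← iota_add]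
      have : d i j + 2 • (- f i + - f j) = e0 := by
        linear_combination (norm := module) r5 i j hi hij hjk + hbf i hi (by omega)
          + hbf j (by omega) hjk + h2e
      rw [this]; exact mem_zpowers _

theorem comm_swap {s z σ : E} (hσ : σ ∈ center E) (h : s * z * s⁻¹ = z * σ) :
    z * s * z⁻¹ = s * σ⁻¹ := by
  have e : s * z = z * σ * s := mul_inv_eq_iff_eq_mul.mp h
  rw [mul_inv_eq_iff_eq_mul, cmul (inv_mem hσ) s, mul_assoc, e, cmul hσ z, mul_assoc,
    inv_mul_cancel_left]

theorem normalize (hK : K ≤ center E) (k : ℕ) (hk : k = 3 ∨ 6 ≤ k) (X : ℕ → E)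
    (h1 : X 0 ^ 3 ∈ K) (h2 : ∀ i, 1 ≤ i → i < k → X i ^ 2 ∈ K)
    (h3 : ∀ i, i + 1 < k → (X i * X (i + 1)) ^ 3 ∈ K)
    (h4 : ∀ i j, i + 2 ≤ j → j < k → (X i * X j) ^ 2 ∈ K) :
    ∃ (ε : E) (z : ℕ → E), ε ∈ K ∧ ε ^ 2 = 1 ∧ (∀ i, z i ∈ K) ∧
      (X 0 * z 0) ^ 3 = 1 ∧ (∀ i, 1 ≤ i → i < k → (X i * z i) ^ 2 ∈ zpowers ε) ∧
      (∀ i, i + 1 < k → (X i * z i * (X (i + 1) * z (i + 1))) ^ 3 ∈ zpowers ε) ∧
      (∀ i j, i + 2 ≤ j → j < k → (X i * z i * (X j * z j)) ^ 2 ∈ zpowers ε) := by
  have hk3 : 3 ≤ k := by omega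
  obtain ⟨a, ha0⟩ := exists_iota K hK h1
  have ha : X 0 ^ 3 = iota K a := ha0.symm
  have hb' : ∀ i, ∃ bi : CK K, 1 ≤ i → i < k → X i ^ 2 = iota K bi := by
    intro i
    by_cases h : 1 ≤ i ∧ i < k
    · obtain ⟨c, hc⟩ := exists_iota K hK (h2 i h.1 h.2)
      exact ⟨c, fun _ _ => hc.symm⟩
    · exact ⟨0, fun h1 h2 => absurd ⟨h1, h2⟩ h⟩
  choose b hb using hb'
  have hc' : ∀ i, ∃ ci : CK K, i + 1 < k → (X i * X (i + 1)) ^ 3 = iota K ci := by
    intro i
    by_cases h : i + 1 < k
    · obtain ⟨c, hc⟩ := exists_iota K hK (h3 i h)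
      exact ⟨c, fun _ => hc.symm⟩
    · exact ⟨0, fun h1 => absurd h1 h⟩
  choose c hc using hc'
  have hd' : ∀ i j, ∃ dij : CK K, i + 2 ≤ j → j < k → (X i * X j) ^ 2 = iota K dij := by
    intro i j
    by_cases h : i + 2 ≤ j ∧ j < k
    · obtain ⟨c, hc⟩ := exists_iota K hK (h4 i j h.1 h.2)
      exact ⟨c, fun _ _ => hc.symm⟩
    · exact ⟨0, fun h1 h2 => absurd ⟨h1, h2⟩ h⟩
  choose d hd using hd'
  -- the A₄ relation
  have W4 := a4_rel (iota_center K a) (iota_center K (b 1)) (iota_center K (c 0)) ha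
    (hb 1 le_rfl (by omega)) (hc 0 (by omega))
  set e0 : CK K := -b 1 + (-a + c 0 + -b 1) + (-a + c 0 + -b 1) with he0def
  have h2e : 2 • e0 = 0 := by
    have := W4.2.2
    simp only [← iota_neg, ← iota_add, ← iota_nsmul] at this
    exact (iota_eq_one_iff K).mp this
  have he0 : e0 = 2 • c 0 - 2 • a - 3 • b 1 := by
    rw [he0def]; module
  -- inversion of `X 0`
  have W1 : ∀ j, 2 ≤ j → j < k →
      X j * X 0 * (X j)⁻¹ = (X 0)⁻¹ * iota K (d 0 j + -b j) ∧ 3 • (d 0 j + -b j) = 2 • a := by
    intro j hj hjk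
    obtain ⟨e1, e2⟩ := inv_rel (iota_center K a) (iota_center K (b j)) (iota_center K (d 0 j))
      ha (hb j (by omega) hjk) (hd 0 j (by omega) hjk)
    simp only [← iota_neg, ← iota_add, ← iota_nsmul] at e1 e2
    refine ⟨e1, ?_⟩
    have := iota_inj K e2
    linear_combination (norm := module) (-1 : ℤ) • this
  have W2 : ∀ j j', 2 ≤ j → j + 2 ≤ j' → j' < k → d 0 j' + -b j' = d 0 j + -b j := by
    intro j j' hj hjj hj'k
    have hx3 : X 0 ^ 3 ∈ center E := by rw [ha]; exact iota_center K a
    have ht : (X j * X j') ^ 2 ∈ center E := by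
      rw [hd j j' hjj hj'k]; exact iota_center K _
    obtain ⟨e1, e2⟩ := inv_same (iota_center K (d 0 j' + -b j')) (iota_center K (d 0 j + -b j))
      hx3 ht (W1 j' (by omega) hj'k).1 (W1 j hj (by omega)).1
    simp only [← iota_neg, ← iota_add, ← iota_nsmul] at e1 e2
    rw [iota_eq_one_iff] at e1 e2
    linear_combination (norm := module) e2 - e1
  have hu_all : ∀ j, 2 ≤ j → j < k → d 0 j + -b j = d 0 2 + -b 2 := by
    intro j hj hjk
    rcases hk with rfl | hk6
    · obtain rfl : j = 2 := by omega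
      rfl
    · rcases Nat.lt_or_ge j 4 with h4 | h4
      · rcases (by omega : j = 2 ∨ j = 3) with rfl | rfl
        · rfl
        · rw [← W2 3 5 (by omega) (by omega) (by omega), W2 2 5 (by omega) (by omega) (by omega)]
      · exact W2 2 j le_rfl (by omega) hjk
  -- braid relations
  have W3 : ∀ i, 1 ≤ i → i + 1 < k → 3 • b i + 3 • b (i + 1) = 2 • c i := by
    intro i hi hik
    obtain ⟨-, e2⟩ := braid_rel (iota_center K (b i)) (iota_center K (b (i + 1)))
      (iota_center K (c i)) (hb i hi (by omega)) (hb (i + 1) (by omega) hik) (hc i hik)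
    simp only [← iota_neg, ← iota_add, ← iota_nsmul] at e2
    have := iota_inj K e2
    linear_combination (norm := module) this
  -- commutation relations
  have W5 : ∀ i j, 1 ≤ i → i + 2 ≤ j → j < k →
      X i * X j * (X i)⁻¹ = X j * iota K (-b i + d i j + -b j) ∧
        2 • (-b i + d i j + -b j) = 0 := by
    intro i j hi hij hjk
    obtain ⟨e1, e2⟩ := comm_rel (iota_center K (b i)) (iota_center K (b j))
      (iota_center K (d i j)) (hb i hi (by omega)) (hb j (by omega) hjk) (hd i j hij hjk)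
    simp only [← iota_neg, ← iota_add, ← iota_nsmul] at e1 e2
    exact ⟨e1, (iota_eq_one_iff K).mp e2⟩
  have W5s : ∀ i j, 1 ≤ i → i + 2 ≤ j → j < k →
      X j * X i * (X j)⁻¹ = X i * iota K (-(-b i + d i j + -b j)) := by
    intro i j hi hij hjk
    have := comm_swap (iota_center K _) (W5 i j hi hij hjk).1
    rwa [← iota_neg] at this
  have r5 : ∀ i j, 1 ≤ i → i + 2 ≤ j → j < k → d i j = e0 + b i + b j := by
    rcases hk with rfl | hk6
    · intro i j hi hij hjk
      omega
    · have W6a : ∀ i j, 1 ≤ i → i + 3 ≤ j → j < k →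
          -b i + d i j + -b j = -b (i + 1) + d (i + 1) j + -b j := by
        intro i j hi hij hjk
        have := braid_comm_eq (iota_center K (b i)) (iota_center K (b (i + 1)))
          (iota_center K (c i)) (iota_center K _) (iota_center K _)
          (hb i hi (by omega)) (hb (i + 1) (by omega) (by omega)) (hc i (by omega))
          (W5 i j hi (by omega) hjk).1 (W5 (i + 1) j (by omega) (by omega) hjk).1
        simp only [← iota_neg, ← iota_add] at this
        have := iota_inj K this
        linear_combination (norm := module) this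
      have W6b : ∀ i j, 1 ≤ i → i + 2 ≤ j → j + 1 < k →
          -b i + d i j + -b j = -b i + d i (j + 1) + -b (j + 1) := by
        intro i j hi hij hjk
        have := braid_comm_eq (iota_center K (b j)) (iota_center K (b (j + 1)))
          (iota_center K (c j)) (iota_center K _) (iota_center K _)
          (hb j (by omega) (by omega)) (hb (j + 1) (by omega) hjk) (hc j hjk)
          (W5s i j hi hij (by omega)) (W5s i (j + 1) hi (by omega) hjk)
        simp only [← iota_neg, ← iota_add] at this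
        have := iota_inj K this
        linear_combination (norm := module) (-1 : ℤ) • this
      have W7 := a4_ext (iota_center K a) (iota_center K (b 1)) (iota_center K (c 0))
        (iota_center K (b 3)) (iota_center K _) (iota_center K _) ha
        (hb 1 le_rfl (by omega)) (hc 0 (by omega)) (hb 3 (by omega) (by omega))
        (W1 3 (by omega) (by omega)).1 (W5s 1 3 le_rfl (by omega) (by omega))
      simp only [← iota_neg, ← iota_add] at W7
      have W7' := iota_inj K W7
      have stepA : ∀ j, 3 ≤ j → j < k →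
          -b 1 + d 1 j + -b j = -b 1 + d 1 3 + -b 3 := by
        intro j hj
        induction j, hj using Nat.le_induction with
        | base => intro _; rfl
        | succ m hm ih =>
          intro hmk
          rw [← W6b 1 m le_rfl (by omega) hmk]
          exact ih (by omega)
      have stepB : ∀ i, 1 ≤ i → ∀ j, i + 2 ≤ j → j < k →
          -b i + d i j + -b j = -b 1 + d 1 j + -b j := by
        intro i hi
        induction i, hi using Nat.le_induction with
        | base => intro j _ _; rfl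
        | succ m hm ih =>
          intro j hij hjk
          rw [← W6a m j hm (by omega) hjk]
          exact ih j (by omega) hjk
      intro i j hi hij hjk
      have e1 := stepB i hi j hij hjk
      have e2 := stepA j (by omega) hjk
      linear_combination (norm := module) e1 + e2 - W7' + he0def - h2e
  have hu3 := (W1 2 le_rfl (by omega)).2
  refine core k X a (d 0 2 + -b 2) e0 b c d ha hb hc hd hu3 ?_ W3 he0 h2e r5
  intro j hj hjk
  have := hu_all j hj hjk
  linear_combination (norm := module) this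

theorem normalize2 (hK : K ≤ center E) (X : ℕ → E)
    (h1 : X 0 ^ 3 ∈ K) (h2 : X 1 ^ 2 ∈ K) (h3 : (X 0 * X 1) ^ 3 ∈ K) :
    ∃ (ε : E) (z : ℕ → E), ε ∈ K ∧ ε ^ 2 = 1 ∧ (∀ i, z i ∈ K) ∧
      (X 0 * z 0) ^ 3 ∈ closure {ε, X 0 ^ 3} ∧ (X 1 * z 1) ^ 2 ∈ closure {ε, X 0 ^ 3} ∧
      (X 0 * z 0 * (X 1 * z 1)) ^ 3 ∈ closure {ε, X 0 ^ 3} := by
  obtain ⟨a, ha0⟩ := exists_iota K hK h1
  have ha : X 0 ^ 3 = iota K a := ha0.symm
  obtain ⟨b1, hb0⟩ := exists_iota K hK h2
  have hb : X 1 ^ 2 = iota K b1 := hb0.symm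
  obtain ⟨c0, hc0⟩ := exists_iota K hK h3
  have hc : (X 0 * X 1) ^ 3 = iota K c0 := hc0.symm
  have W4 := a4_rel (iota_center K a) (iota_center K b1) (iota_center K c0) ha hb hc
  set e0 : CK K := -b1 + (-a + c0 + -b1) + (-a + c0 + -b1) with he0def
  have h2e : 2 • e0 = 0 := by
    have := W4.2.2
    simp only [← iota_neg, ← iota_add, ← iota_nsmul] at this
    exact (iota_eq_one_iff K).mp this
  have he0 : e0 = 2 • c0 - 2 • a - 3 • b1 := by
    rw [he0def]; module
  clear_value e0
  let zc : ℕ → CK K := fun i => if i = 0 then 0 else -(c0 - a - b1)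
  have zc0 : zc 0 = 0 := if_pos rfl
  have zc1 : zc 1 = -(c0 - a - b1) := if_neg (by omega)
  refine ⟨iota K e0, fun i => iota K (zc i), iota_mem K e0, ?_, fun i => iota_mem K _,
    ?_, ?_, ?_⟩
  · rw [← iota_nsmul, h2e, iota_zero]
  · show (X 0 * iota K (zc 0)) ^ 3 ∈ closure {iota K e0, X 0 ^ 3}
    rw [zc0, iota_zero, mul_one]
    exact subset_closure (by simp)
  · show (X 1 * iota K (zc 1)) ^ 2 ∈ closure {iota K e0, X 0 ^ 3}
    rw [zc1, mul_iota_pow, hb, ← iota_add]
    have : b1 + 2 • (-(c0 - a - b1)) = e0 := by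
      linear_combination (norm := module) he0 - h2e
    rw [this]
    exact subset_closure (by simp)
  · show (X 0 * iota K (zc 0) * (X 1 * iota K (zc 1))) ^ 3 ∈ closure {iota K e0, X 0 ^ 3}
    rw [zc0, zc1, mul_iota_mul_pow, hc, ← iota_add]
    have : c0 + 3 • (0 + -(c0 - a - b1)) = e0 + a := by
      linear_combination (norm := module) he0 - h2e
    rw [this, iota_add, ← ha]
    exact mul_mem (subset_closure (by simp)) (subset_closure (by simp))

end Cfsg.Agent.Helper59.MultAlt
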