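import Mathlib
import Cfsg.Agent.Lib.Helper59.AltPres
import Cfsg.Agent.Lib.Helper59.MultAltB
import Cfsg.Agent.Lib.Helper65.Cover

/-!
# The Schur multiplier of `A_n` via Carmichael's presentation
-/

namespace Cfsg.Agent.Helper59.MultAlt

open Subgroup Cfsg.Agent.Helper65 Cfsg.Agent.Helper59.AltPres

variable (k : ℕ) {A : Type*} [Group A] (e : CG k ≃* A)

/-- the presentation map -/
noncomputable def pmap : FreeGroup (Fin k) →* A :=
  e.toMonoidHom.comp (PresentedGroup.mk (rels k))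

theorem pmap_of (i : Fin k) : pmap k e (FreeGroup.of i) = e (PresentedGroup.of i) := rfl

theorem pmap_surjective : Function.Surjective (pmap k e) := by
  intro a
  obtain ⟨w, hw⟩ := QuotientGroup.mk_surjective (e.symm a)
  refine ⟨w, ?_⟩
  show e (PresentedGroup.mk (rels k) w) = a
  have : PresentedGroup.mk (rels k) w = e.symm a := hw
  rw [this, MulEquiv.apply_symm_apply]

theorem pmap_rel {r : FreeGroup (Fin k)} (hr : r ∈ rels k) : pmap k e r = 1 := by
  show e (PresentedGroup.mk (rels k) r) = 1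
  rw [PresentedGroup.one_of_mem hr, map_one]

/-- lifts of the generators in `F / [R, F]` -/
noncomputable def Xg (i : ℕ) : CE (pmap k e) :=
  if h : i < k then QuotientGroup.mk (FreeGroup.of ⟨i, h⟩) else 1

theorem Xg_of (i : Fin k) : Xg k e i.val = QuotientGroup.mk (FreeGroup.of i) := by
  simp [Xg, i.2]

theorem mk_rel_mem {r : FreeGroup (Fin k)} (hr : r ∈ rels k) :
    (QuotientGroup.mk r : CE (pmap k e)) ∈ (cProj (pmap k e)).ker := by
  rw [MonoidHom.mem_ker, cProj_mk, pmap_rel k e hr]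

theorem Xg_r1 (hk : 0 < k) : Xg k e 0 ^ 3 ∈ (cProj (pmap k e)).ker := by
  have : FreeGroup.of (⟨0, hk⟩ : Fin k) ^ 3 ∈ rels k :=
    Or.inl (Or.inl (Or.inl ⟨⟨0, hk⟩, rfl, rfl⟩))
  have h := mk_rel_mem k e this
  rw [QuotientGroup.mk_pow] at h
  unfold Xg
  rw [dif_pos hk]
  exact h

theorem Xg_r2 (i : ℕ) (hi : 1 ≤ i) (hik : i < k) : Xg k e i ^ 2 ∈ (cProj (pmap k e)).ker := by
  have : FreeGroup.of (⟨i, hik⟩ : Fin k) ^ 2 ∈ rels k :=
    Or.inl (Or.inl (Or.inr ⟨⟨i, hik⟩, hi, rfl⟩))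
  have h := mk_rel_mem k e this
  rw [QuotientGroup.mk_pow] at h
  unfold Xg
  rw [dif_pos hik]
  exact h

theorem Xg_r3 (i : ℕ) (hik : i + 1 < k) :
    (Xg k e i * Xg k e (i + 1)) ^ 3 ∈ (cProj (pmap k e)).ker := by
  have : (FreeGroup.of (⟨i, by omega⟩ : Fin k) * FreeGroup.of (⟨i + 1, hik⟩ : Fin k)) ^ 3
      ∈ rels k :=
    Or.inl (Or.inr ⟨⟨i, by omega⟩, ⟨i + 1, hik⟩, rfl, rfl⟩)
  have h := mk_rel_mem k e this
  rw [QuotientGroup.mk_pow, QuotientGroup.mk_mul] at h
  have hi : i < k := by omega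
  unfold Xg
  rw [dif_pos hik, dif_pos hi]
  exact h

theorem Xg_r4 (i j : ℕ) (hij : i + 2 ≤ j) (hjk : j < k) :
    (Xg k e i * Xg k e j) ^ 2 ∈ (cProj (pmap k e)).ker := by
  have : (FreeGroup.of (⟨i, by omega⟩ : Fin k) * FreeGroup.of (⟨j, hjk⟩ : Fin k)) ^ 2
      ∈ rels k :=
    Or.inr ⟨⟨i, by omega⟩, ⟨j, hjk⟩, by simp; omega, rfl⟩
  have h := mk_rel_mem k e this
  rw [QuotientGroup.mk_pow, QuotientGroup.mk_mul] at h
  have hi : i < k := by omega
  unfold Xg
  rw [dif_pos hjk, dif_pos hi]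
  exact h

theorem mult_le_of_rels (N : Subgroup (CE (pmap k e))) (hN : N ≤ (cProj (pmap k e)).ker)
    (z : ℕ → CE (pmap k e)) (hz : ∀ i, z i ∈ (cProj (pmap k e)).ker)
    (h1 : 0 < k → (Xg k e 0 * z 0) ^ 3 ∈ N)
    (h2 : ∀ i, 1 ≤ i → i < k → (Xg k e i * z i) ^ 2 ∈ N)
    (h3 : ∀ i, i + 1 < k → (Xg k e i * z i * (Xg k e (i + 1) * z (i + 1))) ^ 3 ∈ N)
    (h4 : ∀ i j, i + 2 ≤ j → j < k → (Xg k e i * z i * (Xg k e j * z j)) ^ 2 ∈ N) :
    mult (pmap k e) ≤ N := by
  have : N.Normal := normal_of_le_ker (pmap k e) N hN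
  let Y : ℕ → CE (pmap k e) ⧸ N := fun i => QuotientGroup.mk' N (Xg k e i * z i)
  have hrel : ∀ r ∈ rels k, FreeGroup.lift (fun i : Fin k => Y i.val) r = 1 := by
    apply rels_lift_eq_one
    · intro hk
      show (QuotientGroup.mk' N (Xg k e 0 * z 0)) ^ 3 = 1
      rw [← map_pow]
      exact (QuotientGroup.eq_one_iff _).mpr (h1 hk)
    · intro i hi hik
      show (QuotientGroup.mk' N (Xg k e i * z i)) ^ 2 = 1
      rw [← map_pow]
      exact (QuotientGroup.eq_one_iff _).mpr (h2 i hi hik)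
    · intro i hik
      show (QuotientGroup.mk' N (Xg k e i * z i)
        * QuotientGroup.mk' N (Xg k e (i + 1) * z (i + 1))) ^ 3 = 1
      rw [← map_mul, ← map_pow]
      exact (QuotientGroup.eq_one_iff _).mpr (h3 i hik)
    · intro i j hij hjk
      show (QuotientGroup.mk' N (Xg k e i * z i)
        * QuotientGroup.mk' N (Xg k e j * z j)) ^ 2 = 1
      rw [← map_mul, ← map_pow]
      exact (QuotientGroup.eq_one_iff _).mpr (h4 i j hij hjk)
  let ψ : CG k →* CE (pmap k e) ⧸ N := PresentedGroup.toGroup hrel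
  have hψ : ∀ i : Fin k, ψ (PresentedGroup.of i) = Y i.val := fun i => PresentedGroup.toGroup.of hrel
  let qbar : CE (pmap k e) ⧸ N →* A := QuotientGroup.lift N (cProj (pmap k e)) hN
  have hq : ∀ t, qbar (QuotientGroup.mk' N t) = cProj (pmap k e) t := fun t => rfl
  have hcomp : ∀ g, qbar (ψ g) = e g := by
    have : qbar.comp ψ = e.toMonoidHom := by
      apply PresentedGroup.ext
      intro i
      show qbar (ψ (PresentedGroup.of i)) = e (PresentedGroup.of i)
      rw [hψ i]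
      show qbar (QuotientGroup.mk' N (Xg k e i.val * z i.val)) = _
      rw [hq, map_mul, MonoidHom.mem_ker.mp (hz i.val), mul_one, Xg_of, cProj_mk, pmap_of]
    intro g
    exact DFunLike.congr_fun this g
  -- the image of the kernel is central
  let Kbar : Subgroup (CE (pmap k e) ⧸ N) := (cProj (pmap k e)).ker.map (QuotientGroup.mk' N)
  have : Kbar.Normal :=
    Subgroup.Normal.map inferInstance _ (QuotientGroup.mk'_surjective N)
  have hKc : Kbar ≤ center (CE (pmap k e) ⧸ N) := by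
    rintro _ ⟨κ, hκ, rfl⟩
    rw [mem_center_iff]
    intro y
    obtain ⟨t, rfl⟩ := QuotientGroup.mk'_surjective N y
    rw [← map_mul, ← map_mul, mem_center_iff.mp (ker_cProj_le_center (pmap k e) hκ) t]
  have hsup : ψ.range ⊔ Kbar = ⊤ := by
    rw [eq_top_iff]
    have hS : (⊤ : Subgroup (FreeGroup (Fin k))) ≤
        (ψ.range ⊔ Kbar).comap ((QuotientGroup.mk' N).comp (QuotientGroup.mk' (relC (pmap k e)))) := by
      rw [← FreeGroup.closure_range_of, closure_le]
      rintro _ ⟨i, rfl⟩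
      show (QuotientGroup.mk' N) (QuotientGroup.mk (FreeGroup.of i)) ∈ ψ.range ⊔ Kbar
      have e1 : (QuotientGroup.mk' N) (QuotientGroup.mk (FreeGroup.of i))
          = ψ (PresentedGroup.of i) * (QuotientGroup.mk' N (z i.val))⁻¹ := by
        rw [hψ i]
        show _ = QuotientGroup.mk' N (Xg k e i.val * z i.val) * _
        rw [← map_inv, ← map_mul, mul_inv_cancel_right, Xg_of]
      rw [e1]
      exact mul_mem (mem_sup_left ⟨_, rfl⟩) (inv_mem (mem_sup_right ⟨z i.val, hz i.val, rfl⟩))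
    intro y _
    obtain ⟨t, rfl⟩ := QuotientGroup.mk'_surjective N y
    obtain ⟨w, rfl⟩ := QuotientGroup.mk'_surjective (relC (pmap k e)) t
    exact hS (mem_top w)
  have hcomm : commutator (CE (pmap k e) ⧸ N) ≤ ψ.range :=
    (commutator_le_of_sup_central ψ.range Kbar hKc hsup).trans (commutator_le_self _)
  intro m hm
  have hm1 : m ∈ (cProj (pmap k e)).ker := mult_le_ker _ hm
  have hm2 : m ∈ commutator (CE (pmap k e)) := mult_le_commutator _ hm
  have hm3 : QuotientGroup.mk' N m ∈ commutator (CE (pmap k e) ⧸ N) := by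
    have : QuotientGroup.mk' N m ∈ (commutator (CE (pmap k e))).map (QuotientGroup.mk' N) :=
      ⟨m, hm2, rfl⟩
    rw [commutator_def, map_commutator] at this
    rw [commutator_def]
    exact commutator_mono le_top le_top this
  obtain ⟨g, hg⟩ := hcomm hm3
  have hg1 : e g = 1 := by
    rw [← hcomp g, hg, hq]
    exact MonoidHom.mem_ker.mp hm1
  have hg2 : g = 1 := by
    rw [← e.map_one] at hg1
    exact e.injective hg1
  rw [hg2, map_one] at hg
  exact (QuotientGroup.eq_one_iff m).mp hg.symm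

theorem of_ne_one (i : Fin k) :
    (Abelianization.of (FreeGroup.of i) : Abelianization (FreeGroup (Fin k))) ≠ 1 := by
  intro h
  let φ : FreeGroup (Fin k) →* Multiplicative ℤ := FreeGroup.lift (fun _ => Multiplicative.ofAdd 1)
  have h1 := congrArg (Abelianization.lift φ) h
  rw [Abelianization.lift_apply_of, map_one, FreeGroup.lift_apply_of] at h1
  exact one_ne_zero (Multiplicative.ofAdd.injective h1)

theorem exists_mult_le_zpowers (hk : k = 2 ∨ k = 3 ∨ 6 ≤ k) :
    ∃ ε : CE (pmap k e), ε ^ 2 = 1 ∧ mult (pmap k e) ≤ zpowers ε := by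
  have hK : (cProj (pmap k e)).ker ≤ center (CE (pmap k e)) := ker_cProj_le_center _
  rcases hk with rfl | hk
  · -- `A₄`
    obtain ⟨ε, z, hε, hε2, hz, r1, r2, r3⟩ := normalize2 hK (Xg 2 e) (Xg_r1 2 e (by omega))
      (Xg_r2 2 e 1 le_rfl (by omega)) (Xg_r3 2 e 0 (by omega))
    refine ⟨ε, hε2, ?_⟩
    set a' := Xg 2 e 0 ^ 3 with ha'
    have ha'K : a' ∈ (cProj (pmap 2 e)).ker := Xg_r1 2 e (by omega)
    have hnorm : (zpowers a').Normal :=
      normal_of_le_ker (pmap 2 e) _ (zpowers_le.mpr ha'K)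
    have hcl : closure {ε, a'} ≤ zpowers ε ⊔ zpowers a' := by
      rw [closure_le]
      rintro x (rfl | rfl)
      · exact mem_sup_left (mem_zpowers _)
      · exact mem_sup_right (mem_zpowers _)
    have hNK : zpowers ε ⊔ zpowers a' ≤ (cProj (pmap 2 e)).ker :=
      sup_le (zpowers_le.mpr hε) (zpowers_le.mpr ha'K)
    have hle := mult_le_of_rels 2 e (zpowers ε ⊔ zpowers a') hNK z hz
      (fun _ => hcl r1)
      (fun i hi hik => by
        obtain rfl : i = 1 := by omega
        exact hcl r2)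
      (fun i hik => by
        obtain rfl : i = 0 := by omega
        exact hcl r3)
      (fun i j hij hjk => by omega)
    intro m hm
    have hm' := hle hm
    rw [← SetLike.mem_coe, mul_normal] at hm'
    obtain ⟨x, hx, y, hy, rfl⟩ := Set.mem_mul.1 hm'
    obtain ⟨s, rfl⟩ := mem_zpowers_iff.mp hx
    obtain ⟨t, rfl⟩ := mem_zpowers_iff.mp hy
    have hab : toAb (pmap 2 e) (ε ^ s * a' ^ t) = 1 :=
      Abelianization.commutator_subset_ker (toAb (pmap 2 e)) (mult_le_commutator _ hm)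
    have hε1 : toAb (pmap 2 e) ε = 1 := by
      apply abelianization_freeGroup_torsionfree _ 2 (by norm_num)
      rw [← map_pow, hε2, map_one]
    rw [map_mul, map_zpow, map_zpow, hε1, one_zpow, one_mul] at hab
    have ht : t = 0 := by
      by_contra ht
      have h3 : toAb (pmap 2 e) a' ^ t.natAbs = 1 := by
        rcases Int.natAbs_eq t with h | h
        · rw [h, zpow_natCast] at hab
          exact hab
        · rw [h, zpow_neg, zpow_natCast, inv_eq_one] at hab
          exact hab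
      have h4 : toAb (pmap 2 e) a' = 1 :=
        abelianization_freeGroup_torsionfree _ t.natAbs (Int.natAbs_pos.mpr ht) h3
      have h5 : toAb (pmap 2 e) a'
          = (Abelianization.of (FreeGroup.of (⟨0, by omega⟩ : Fin 2))) ^ 3 := by
        rw [ha', map_pow]
        congr 1
      rw [h5] at h4
      exact of_ne_one 2 _ (abelianization_freeGroup_torsionfree _ 3 (by norm_num) h4)
    rw [ht, zpow_zero, mul_one]
    exact zpow_mem (mem_zpowers ε) s
  · have hk' : k = 3 ∨ 6 ≤ k := hk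
    obtain ⟨ε, z, hε, hε2, hz, r1, r2, r3, r4⟩ := normalize hK k hk' (Xg k e)
      (Xg_r1 k e (by omega)) (Xg_r2 k e) (Xg_r3 k e) (Xg_r4 k e)
    refine ⟨ε, hε2, ?_⟩
    exact mult_le_of_rels k e (zpowers ε) (zpowers_le.mpr hε) z hz
      (fun _ => by rw [r1]; exact one_mem _) r2 r3 r4

theorem card_mult_le_two (hk : k = 2 ∨ k = 3 ∨ 6 ≤ k) :
    Nat.card (mult (pmap k e)) ≤ 2 := by
  obtain ⟨ε, hε2, hle⟩ := exists_mult_le_zpowers k e hk
  have hfo : IsOfFinOrder ε := isOfFinOrder_iff_pow_eq_one.mpr ⟨2, by norm_num, hε2⟩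
  have hfin : Finite (zpowers ε) := hfo.finite_zpowers.to_subtype
  calc Nat.card (mult (pmap k e)) ≤ Nat.card (zpowers ε) := card_le_of_le hle
    _ = orderOf ε := Nat.card_zpowers ε
    _ ≤ 2 := Nat.le_of_dvd (by norm_num) (orderOf_dvd_of_pow_eq_one hε2)

end Cfsg.Agent.Helper59.MultAlt
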