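import Mathlib
import Cfsg.Agent.Lib.Helper59.MultAltB

/-!
# Normalising lifts for `A_6` and `A_7` (multiplier of order dividing 6)
-/

namespace Cfsg.Agent.Helper59.MultAlt

open Subgroup
open scoped IsMulCommutative

variable {E : Type*} [Group E] {K : Subgroup E}

theorem relations (hK : K ≤ center E) (k : ℕ) (hk3 : 3 ≤ k) (X : ℕ → E)
    (h1 : X 0 ^ 3 ∈ K) (h2 : ∀ i, 1 ≤ i → i < k → X i ^ 2 ∈ K)
    (h3 : ∀ i, i + 1 < k → (X i * X (i + 1)) ^ 3 ∈ K)
    (h4 : ∀ i j, i + 2 ≤ j → j < k → (X i * X j) ^ 2 ∈ K) :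
    ∃ (a e0 : CK K) (b c u : ℕ → CK K) (d : ℕ → ℕ → CK K),
      X 0 ^ 3 = iota K a ∧ (∀ i, 1 ≤ i → i < k → X i ^ 2 = iota K (b i)) ∧
      (∀ i, i + 1 < k → (X i * X (i + 1)) ^ 3 = iota K (c i)) ∧
      (∀ i j, i + 2 ≤ j → j < k → (X i * X j) ^ 2 = iota K (d i j)) ∧
      (∀ j, 2 ≤ j → j < k → 3 • u j = 2 • a) ∧ (∀ j, 2 ≤ j → j < k → d 0 j = u j + b j) ∧
      (∀ j j', 2 ≤ j → j + 2 ≤ j' → j' < k → u j' = u j) ∧
      (∀ i, 1 ≤ i → i + 1 < k → 3 • b i + 3 • b (i + 1) = 2 • c i) ∧
      e0 = 2 • c 0 - 2 • a - 3 • b 1 ∧ 2 • e0 = 0 ∧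
      (∀ i j, 1 ≤ i → i + 2 ≤ j → j < k → d i j = e0 + b i + b j) := by
  obtain ⟨a, ha0⟩ := exists_iota K hK h1
  have ha : X 0 ^ 3 = iota K a := ha0.symm
  have hb' : ∀ i, ∃ bi : CK K, 1 ≤ i → i < k → X i ^ 2 = iota K bi := by
    intro i
    by_cases h : 1 ≤ i ∧ i < k
    · obtain ⟨c, hc⟩ := exists_iota K hK (h2 i h.1 h.2)
      exact ⟨c, fun _ _ => hc.symm⟩
    · exact ⟨0, fun h1 h2 => absurd ⟨h1, h2⟩ h⟩
  choose b hb using hb'
  have hc' : ∀ i, ∃ ci : CK K, i + 1 < k → (X i * X (i + 1)) ^ 3 = iota K ci := by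
    intro i
    by_cases h : i + 1 < k
    · obtain ⟨c, hc⟩ := exists_iota K hK (h3 i h)
      exact ⟨c, fun _ => hc.symm⟩
    · exact ⟨0, fun h1 => absurd h1 h⟩
  choose c hc using hc'
  have hd' : ∀ i j, ∃ dij : CK K, i + 2 ≤ j → j < k → (X i * X j) ^ 2 = iota K dij := by
    intro i j
    by_cases h : i + 2 ≤ j ∧ j < k
    · obtain ⟨c, hc⟩ := exists_iota K hK (h4 i j h.1 h.2)
      exact ⟨c, fun _ _ => hc.symm⟩
    · exact ⟨0, fun h1 h2 => absurd ⟨h1, h2⟩ h⟩
  choose d hd using hd'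
  -- the A₄ relation
  have W4 := a4_rel (iota_center K a) (iota_center K (b 1)) (iota_center K (c 0)) ha
    (hb 1 le_rfl (by omega)) (hc 0 (by omega))
  set e0 : CK K := -b 1 + (-a + c 0 + -b 1) + (-a + c 0 + -b 1) with he0def
  have h2e : 2 • e0 = 0 := by
    have := W4.2.2
    simp only [← iota_neg, ← iota_add, ← iota_nsmul] at this
    exact (iota_eq_one_iff K).mp this
  have he0 : e0 = 2 • c 0 - 2 • a - 3 • b 1 := by
    rw [he0def]; module
  -- inversion of `X 0`
  have W1 : ∀ j, 2 ≤ j → j < k →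
      X j * X 0 * (X j)⁻¹ = (X 0)⁻¹ * iota K (d 0 j + -b j) ∧ 3 • (d 0 j + -b j) = 2 • a := by
    intro j hj hjk
    obtain ⟨e1, e2⟩ := inv_rel (iota_center K a) (iota_center K (b j)) (iota_center K (d 0 j))
      ha (hb j (by omega) hjk) (hd 0 j (by omega) hjk)
    simp only [← iota_neg, ← iota_add, ← iota_nsmul] at e1 e2
    refine ⟨e1, ?_⟩
    have := iota_inj K e2
    linear_combination (norm := module) (-1 : ℤ) • this
  have W2 : ∀ j j', 2 ≤ j → j + 2 ≤ j' → j' < k → d 0 j' + -b j' = d 0 j + -b j := by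
    intro j j' hj hjj hj'k
    have hx3 : X 0 ^ 3 ∈ center E := by rw [ha]; exact iota_center K a
    have ht : (X j * X j') ^ 2 ∈ center E := by
      rw [hd j j' hjj hj'k]; exact iota_center K _
    obtain ⟨e1, e2⟩ := inv_same (iota_center K (d 0 j' + -b j')) (iota_center K (d 0 j + -b j))
      hx3 ht (W1 j' (by omega) hj'k).1 (W1 j hj (by omega)).1
    simp only [← iota_neg, ← iota_add, ← iota_nsmul] at e1 e2
    rw [iota_eq_one_iff] at e1 e2
    linear_combination (norm := module) e2 - e1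
  -- braid relations
  have W3 : ∀ i, 1 ≤ i → i + 1 < k → 3 • b i + 3 • b (i + 1) = 2 • c i := by
    intro i hi hik
    obtain ⟨-, e2⟩ := braid_rel (iota_center K (b i)) (iota_center K (b (i + 1)))
      (iota_center K (c i)) (hb i hi (by omega)) (hb (i + 1) (by omega) hik) (hc i hik)
    simp only [← iota_neg, ← iota_add, ← iota_nsmul] at e2
    have := iota_inj K e2
    linear_combination (norm := module) this
  -- commutation relations
  have W5 : ∀ i j, 1 ≤ i → i + 2 ≤ j → j < k →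
      X i * X j * (X i)⁻¹ = X j * iota K (-b i + d i j + -b j) ∧
        2 • (-b i + d i j + -b j) = 0 := by
    intro i j hi hij hjk
    obtain ⟨e1, e2⟩ := comm_rel (iota_center K (b i)) (iota_center K (b j))
      (iota_center K (d i j)) (hb i hi (by omega)) (hb j (by omega) hjk) (hd i j hij hjk)
    simp only [← iota_neg, ← iota_add, ← iota_nsmul] at e1 e2
    exact ⟨e1, (iota_eq_one_iff K).mp e2⟩
  have W5s : ∀ i j, 1 ≤ i → i + 2 ≤ j → j < k →
      X j * X i * (X j)⁻¹ = X i * iota K (-(-b i + d i j + -b j)) := by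
    intro i j hi hij hjk
    have := comm_swap (iota_center K _) (W5 i j hi hij hjk).1
    rwa [← iota_neg] at this
  have r5 : ∀ i j, 1 ≤ i → i + 2 ≤ j → j < k → d i j = e0 + b i + b j := by
    rcases Nat.lt_or_ge k 4 with hk4 | hk6
    · intro i j hi hij hjk
      omega
    · have W6a : ∀ i j, 1 ≤ i → i + 3 ≤ j → j < k →
          -b i + d i j + -b j = -b (i + 1) + d (i + 1) j + -b j := by
        intro i j hi hij hjk
        have := braid_comm_eq (iota_center K (b i)) (iota_center K (b (i + 1)))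
          (iota_center K (c i)) (iota_center K _) (iota_center K _)
          (hb i hi (by omega)) (hb (i + 1) (by omega) (by omega)) (hc i (by omega))
          (W5 i j hi (by omega) hjk).1 (W5 (i + 1) j (by omega) (by omega) hjk).1
        simp only [← iota_neg, ← iota_add] at this
        have := iota_inj K this
        linear_combination (norm := module) this
      have W6b : ∀ i j, 1 ≤ i → i + 2 ≤ j → j + 1 < k →
          -b i + d i j + -b j = -b i + d i (j + 1) + -b (j + 1) := by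
        intro i j hi hij hjk
        have := braid_comm_eq (iota_center K (b j)) (iota_center K (b (j + 1)))
          (iota_center K (c j)) (iota_center K _) (iota_center K _)
          (hb j (by omega) (by omega)) (hb (j + 1) (by omega) hjk) (hc j hjk)
          (W5s i j hi hij (by omega)) (W5s i (j + 1) hi (by omega) hjk)
        simp only [← iota_neg, ← iota_add] at this
        have := iota_inj K this
        linear_combination (norm := module) (-1 : ℤ) • this
      have W7 := a4_ext (iota_center K a) (iota_center K (b 1)) (iota_center K (c 0))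
        (iota_center K (b 3)) (iota_center K _) (iota_center K _) ha
        (hb 1 le_rfl (by omega)) (hc 0 (by omega)) (hb 3 (by omega) (by omega))
        (W1 3 (by omega) (by omega)).1 (W5s 1 3 le_rfl (by omega) (by omega))
      simp only [← iota_neg, ← iota_add] at W7
      have W7' := iota_inj K W7
      have stepA : ∀ j, 3 ≤ j → j < k →
          -b 1 + d 1 j + -b j = -b 1 + d 1 3 + -b 3 := by
        intro j hj
        induction j, hj using Nat.le_induction with
        | base => intro _; rfl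
        | succ m hm ih =>
          intro hmk
          rw [← W6b 1 m le_rfl (by omega) hmk]
          exact ih (by omega)
      have stepB : ∀ i, 1 ≤ i → ∀ j, i + 2 ≤ j → j < k →
          -b i + d i j + -b j = -b 1 + d 1 j + -b j := by
        intro i hi
        induction i, hi using Nat.le_induction with
        | base => intro j _ _; rfl
        | succ m hm ih =>
          intro j hij hjk
          rw [← W6a m j hm (by omega) hjk]
          exact ih j (by omega) hjk
      intro i j hi hij hjk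
      have e1 := stepB i hi j hij hjk
      have e2 := stepA j (by omega) hjk
      linear_combination (norm := module) e1 + e2 - W7' + he0def - h2e
  refine ⟨a, e0, b, c, fun j => d 0 j + -b j, d, ha, hb, hc, hd, fun j hj hjk => (W1 j hj hjk).2,
    fun j hj hjk => by module, W2, W3, he0, h2e, r5⟩

theorem core6 (k : ℕ) (hk4 : 4 ≤ k) (X : ℕ → E)
    (a e0 : CK K) (b c u : ℕ → CK K) (d : ℕ → ℕ → CK K)
    (ha : X 0 ^ 3 = iota K a) (hb : ∀ i, 1 ≤ i → i < k → X i ^ 2 = iota K (b i))
    (hc : ∀ i, i + 1 < k → (X i * X (i + 1)) ^ 3 = iota K (c i))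
    (hd : ∀ i j, i + 2 ≤ j → j < k → (X i * X j) ^ 2 = iota K (d i j))
    (hu3 : ∀ j, 2 ≤ j → j < k → 3 • u j = 2 • a)
    (hud : ∀ j, 2 ≤ j → j < k → d 0 j = u j + b j)
    (hτ : ∀ j, 2 ≤ j → j < k → u j = u 2 ∨ u j = u 3)
    (r3 : ∀ i, 1 ≤ i → i + 1 < k → 3 • b i + 3 • b (i + 1) = 2 • c i)
    (he0 : e0 = 2 • c 0 - 2 • a - 3 • b 1) (h2e : 2 • e0 = 0)
    (r5 : ∀ i j, 1 ≤ i → i + 2 ≤ j → j < k → d i j = e0 + b i + b j) :
    ∃ (ζ : E) (z : ℕ → E), ζ ∈ K ∧ ζ ^ 6 = 1 ∧ (∀ i, z i ∈ K) ∧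
      (X 0 * z 0) ^ 3 = 1 ∧ (∀ i, 1 ≤ i → i < k → (X i * z i) ^ 2 ∈ zpowers ζ) ∧
      (∀ i, i + 1 < k → (X i * z i * (X (i + 1) * z (i + 1))) ^ 3 ∈ zpowers ζ) ∧
      (∀ i j, i + 2 ≤ j → j < k → (X i * z i * (X j * z j)) ^ 2 ∈ zpowers ζ) := by
  set f := fseq a b c with hf
  have hbf : ∀ i, 1 ≤ i → i < k → b i = 2 • f i + e0 := by
    intro i hi
    induction i, hi using Nat.le_induction with
    | base =>
      intro _
      show b 1 = 2 • (c 0 - a - b 1) + e0
      linear_combination (norm := module) he0 - h2e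
    | succ m hm ih =>
      intro hk
      have ih' := ih (by omega)
      obtain ⟨m', rfl⟩ : ∃ m', m = m' + 1 := ⟨m - 1, by omega⟩
      have h3 := r3 (m' + 1) (by omega) hk
      show b (m' + 2) = 2 • (c (m' + 1) - b (m' + 1) - b (m' + 2) - f (m' + 1)) + e0
      linear_combination (norm := module) h3 - ih' - h2e
  have hu2 := hu3 2 le_rfl (by omega)
  have hu3' := hu3 3 (by omega) (by omega)
  obtain ⟨ζc, hζc⟩ : ∃ ζc : CK K, ζc = e0 + (u 3 - u 2) := ⟨_, rfl⟩
  have h6 : 6 • ζc = 0 := by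
    linear_combination (norm := module) (6 : ℤ) • hζc + (3 : ℤ) • h2e + (2 : ℤ) • hu3'
      - (2 : ℤ) • hu2
  have he3 : e0 = 3 • ζc := by
    linear_combination (norm := module) (-3 : ℤ) • hζc - h2e - hu3' + hu2
  have mem_e0 : iota K e0 ∈ zpowers (iota K ζc) := by
    rw [he3, iota_nsmul]
    exact pow_mem (mem_zpowers _) 3
  let zc : ℕ → CK K := fun i => if i = 0 then u 2 - a else - f i
  have zc0 : zc 0 = u 2 - a := if_pos rfl
  have zcs : ∀ i, 1 ≤ i → zc i = - f i := fun i hi => if_neg (by omega)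
  refine ⟨iota K ζc, fun i => iota K (zc i), iota_mem K ζc, ?_, fun i => iota_mem K _,
    ?_, ?_, ?_, ?_⟩
  · rw [← iota_nsmul, h6, iota_zero]
  · show (X 0 * iota K (zc 0)) ^ 3 = 1
    rw [zc0, mul_iota_pow, ha, ← iota_add, iota_eq_one_iff]
    linear_combination (norm := module) hu2
  · intro i hi hik
    show (X i * iota K (zc i)) ^ 2 ∈ zpowers (iota K ζc)
    rw [zcs i hi, mul_iota_pow, hb i hi hik, ← iota_add]
    have : b i + 2 • (- f i) = e0 := by
      linear_combination (norm := module) hbf i hi hik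
    rw [this]; exact mem_e0
  · intro i hik
    show (X i * iota K (zc i) * (X (i + 1) * iota K (zc (i + 1)))) ^ 3 ∈ zpowers (iota K ζc)
    rcases Nat.eq_zero_or_pos i with rfl | hi
    · rw [zc0, zcs (0 + 1) (by omega), mul_iota_mul_pow, hc 0 hik, ← iota_add]
      have : c 0 + 3 • (u 2 - a + - f (0 + 1)) = e0 := by
        show c 0 + 3 • (u 2 - a + - (c 0 - a - b 1)) = e0
        linear_combination (norm := module) hu2 + he0 - h2e
      rw [this]; exact mem_e0
    · obtain ⟨m, rfl⟩ : ∃ m, i = m + 1 := ⟨i - 1, by omega⟩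
      rw [zcs (m + 1) (by omega), zcs (m + 1 + 1) (by omega), mul_iota_mul_pow,
        hc (m + 1) hik, ← iota_add]
      have : c (m + 1) + 3 • (- f (m + 1) + - f (m + 1 + 1)) = 0 := by
        have h3 := r3 (m + 1) (by omega) hik
        show c (m + 1) + 3 • (- f (m + 1)
          + - (c (m + 1) - b (m + 1) - b (m + 2) - f (m + 1))) = 0
        linear_combination (norm := module) h3
      rw [this, iota_zero]; exact one_mem _
  · intro i j hij hjk
    show (X i * iota K (zc i) * (X j * iota K (zc j))) ^ 2 ∈ zpowers (iota K ζc)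
    rcases Nat.eq_zero_or_pos i with rfl | hi
    · rw [zc0, zcs j (by omega), mul_iota_mul_pow, hd 0 j hij hjk, ← iota_add]
      rcases hτ j (by omega) hjk with hj | hj
      · have : d 0 j + 2 • (u 2 - a + - f j) = e0 := by
          linear_combination (norm := module) hud j (by omega) hjk + hj + hu2
            + hbf j (by omega) hjk
        rw [this]; exact mem_e0
      · have : d 0 j + 2 • (u 2 - a + - f j) = ζc := by
          linear_combination (norm := module) hud j (by omega) hjk + hj + hu2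
            + hbf j (by omega) hjk - hζc
        rw [this]; exact mem_zpowers _
    · rw [zcs i hi, zcs j (by omega), mul_iota_mul_pow, hd i j hij hjk, ← iota_add]
      have : d i j + 2 • (- f i + - f j) = e0 := by
        linear_combination (norm := module) r5 i j hi hij hjk + hbf i hi (by omega)
          + hbf j (by omega) hjk + h2e
      rw [this]; exact mem_e0

theorem normalize6 (hK : K ≤ center E) (k : ℕ) (hk : k = 4 ∨ k = 5) (X : ℕ → E)
    (h1 : X 0 ^ 3 ∈ K) (h2 : ∀ i, 1 ≤ i → i < k → X i ^ 2 ∈ K)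
    (h3 : ∀ i, i + 1 < k → (X i * X (i + 1)) ^ 3 ∈ K)
    (h4 : ∀ i j, i + 2 ≤ j → j < k → (X i * X j) ^ 2 ∈ K) :
    ∃ (ζ : E) (z : ℕ → E), ζ ∈ K ∧ ζ ^ 6 = 1 ∧ (∀ i, z i ∈ K) ∧
      (X 0 * z 0) ^ 3 = 1 ∧ (∀ i, 1 ≤ i → i < k → (X i * z i) ^ 2 ∈ zpowers ζ) ∧
      (∀ i, i + 1 < k → (X i * z i * (X (i + 1) * z (i + 1))) ^ 3 ∈ zpowers ζ) ∧
      (∀ i j, i + 2 ≤ j → j < k → (X i * z i * (X j * z j)) ^ 2 ∈ zpowers ζ) := by
  obtain ⟨a, e0, b, c, u, d, ha, hb, hc, hd, hu3, hud, W2, r3, he0, h2e, r5⟩ :=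
    relations hK k (by omega) X h1 h2 h3 h4
  refine core6 k (by omega) X a e0 b c u d ha hb hc hd hu3 hud ?_ r3 he0 h2e r5
  intro j hj hjk
  rcases (by omega : j = 2 ∨ j = 3 ∨ j = 4) with rfl | rfl | rfl
  · exact Or.inl rfl
  · exact Or.inr rfl
  · exact Or.inl (W2 2 4 le_rfl le_rfl hjk)

end Cfsg.Agent.Helper59.MultAlt
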