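import Mathlib
import Cfsg.Agent.Lib.Helper59.MultAltC
import Cfsg.Agent.Lib.Helper59.MultAltD
import Cfsg.Agent.Lib.Helper65.Pull
import Cfsg.Agent.Lib.Helper65.MultPres

/-!
# The multiplier of `A_6` and `A_7`: bounds from above and below
-/

namespace Cfsg.Agent.Helper59.MultAlt

open Subgroup Cfsg.Agent.Helper65 Cfsg.Agent.Helper59.AltPres
open scoped commutatorElement

variable (k : ℕ) {A : Type*} [Group A] (e : CG k ≃* A)

theorem exists_mult_le_zpowers6 (hk : k = 4 ∨ k = 5) :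
    ∃ ζ : CE (pmap k e), ζ ^ 6 = 1 ∧ mult (pmap k e) ≤ zpowers ζ := by
  have hK := ker_cProj_le_center (pmap k e)
  obtain ⟨ζ, z, hζ, hζ6, hz, r1, r2, r3, r4⟩ := normalize6 hK k hk (Xg k e)
    (Xg_r1 k e (by omega)) (Xg_r2 k e) (Xg_r3 k e) (Xg_r4 k e)
  exact ⟨ζ, hζ6, mult_le_of_rels k e (zpowers ζ) (zpowers_le.mpr hζ) z hz
    (fun _ => by rw [r1]; exact one_mem _) r2 r3 r4⟩

theorem orderOf_dvd_card_mult [Finite A] {X : Type*} [Group X] (ξ : X →* A)
    (hξs : Function.Surjective ξ) (hξc : ξ.ker ≤ center X) (z : X) (hz1 : z ∈ ξ.ker)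
    (hz2 : z ∈ commutator X) : orderOf z ∣ Nat.card (mult (pmap k e)) := by
  obtain ⟨φ, -, hφ⟩ := exists_central_cover_map (pmap k e) (pmap_surjective k e) ξ hξs hξc
  obtain ⟨t, ht, rfl⟩ := hφ z ⟨hz1, hz2⟩
  have h1 : orderOf (φ t) ∣ orderOf t := orderOf_map_dvd φ t
  have h2 : orderOf (⟨t, ht⟩ : mult (pmap k e)) = orderOf t := Subgroup.orderOf_mk t ht
  rw [← h2] at h1
  exact h1.trans (orderOf_dvd_natCard _)

theorem normal_of_le_center {X : Type*} [Group X] (Z : Subgroup X) (hZ : Z ≤ center X) :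
    Z.Normal := by
  constructor
  intro n hn g
  rw [mem_center_iff.mp (hZ hn) g, mul_inv_cancel_right]
  exact hn

theorem orderOf_dvd_of_twisted [Finite A] [IsSimpleGroup A] {P : Type*} [Group P] (hk : 2 ≤ k)
    (Y : ℕ → P) (W : P)
    (hWY : ∀ i, i < k → W * Y i = Y i * W)
    (h1 : Y 0 ^ 3 ∈ zpowers W) (h2 : ∀ i, 1 ≤ i → i < k → Y i ^ 2 ∈ zpowers W)
    (h3 : ∀ i, i + 1 < k → (Y i * Y (i + 1)) ^ 3 ∈ zpowers W)
    (h4 : ∀ i j, i + 2 ≤ j → j < k → (Y i * Y j) ^ 2 ∈ zpowers W)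
    (hnc : Y 0 * Y 1 ≠ Y 1 * Y 0)
    (a b : P) (ha : a ∈ closure (Y '' Set.Iio k)) (hb : b ∈ closure (Y '' Set.Iio k))
    (hab : ⁅a, b⁆ = W) :
    orderOf W ∣ Nat.card (mult (pmap k e)) := by
  set S : Subgroup P := closure (Y '' Set.Iio k) with hS
  have hYS : ∀ i, i < k → Y i ∈ S := fun i hi => subset_closure ⟨i, hi, rfl⟩
  have hWS : W ∈ S := by
    rw [← hab, commutatorElement_def]
    exact mul_mem (mul_mem (mul_mem ha hb) (inv_mem ha)) (inv_mem hb)
  have hcen : ∀ x ∈ S, x * W = W * x := by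
    have : S ≤ centralizer {W} := by
      refine (closure_le _).mpr ?_
      rintro _ ⟨i, hi, rfl⟩
      rw [SetLike.mem_coe, mem_centralizer_iff]
      rintro _ rfl
      exact hWY i hi
    intro x hx
    have := mem_centralizer_iff.mp (this hx) W rfl
    exact this.symm
  let W' : S := ⟨W, hWS⟩
  have hW'c : W' ∈ center S := by
    rw [mem_center_iff]
    intro x
    exact Subtype.ext (hcen x.1 x.2)
  let Zs : Subgroup S := zpowers W'
  have hZc : Zs ≤ center S := zpowers_le.mpr hW'c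
  have hZn : Zs.Normal := normal_of_le_center Zs hZc
  have mem_zs : ∀ x : S, (x : P) ∈ zpowers W → x ∈ Zs := by
    intro x hx
    obtain ⟨n, hn⟩ := mem_zpowers_iff.mp hx
    refine mem_zpowers_iff.mpr ⟨n, Subtype.ext ?_⟩
    rw [SubgroupClass.coe_zpow]
    exact hn
  let Yx : ℕ → S ⧸ Zs := fun i => if h : i < k then QuotientGroup.mk' Zs ⟨Y i, hYS i h⟩ else 1
  have hYx : ∀ i (h : i < k), Yx i = QuotientGroup.mk' Zs ⟨Y i, hYS i h⟩ := fun i h => dif_pos h
  have hrel : ∀ r ∈ rels k, FreeGroup.lift (fun i : Fin k => Yx i.val) r = 1 := by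
    apply rels_lift_eq_one
    · intro hk0
      rw [hYx 0 hk0, ← map_pow]
      exact (QuotientGroup.eq_one_iff _).mpr (mem_zs _ h1)
    · intro i hi hik
      rw [hYx i hik, ← map_pow]
      exact (QuotientGroup.eq_one_iff _).mpr (mem_zs _ (h2 i hi hik))
    · intro i hik
      rw [hYx i (by omega), hYx (i + 1) hik, ← map_mul, ← map_pow]
      exact (QuotientGroup.eq_one_iff _).mpr (mem_zs _ (h3 i hik))
    · intro i j hij hjk
      rw [hYx i (by omega), hYx j hjk, ← map_mul, ← map_pow]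
      exact (QuotientGroup.eq_one_iff _).mpr (mem_zs _ (h4 i j hij hjk))
  let ψ : CG k →* S ⧸ Zs := PresentedGroup.toGroup hrel
  have hψ : ∀ i : Fin k, ψ (PresentedGroup.of i) = Yx i.val :=
    fun i => PresentedGroup.toGroup.of hrel
  have hψs : Function.Surjective ψ := by
    have hT : S ≤ (ψ.range.comap (QuotientGroup.mk' Zs)).map S.subtype := by
      refine (closure_le _).mpr ?_
      rintro _ ⟨i, hi, rfl⟩
      refine ⟨⟨Y i, hYS i hi⟩, ?_, rfl⟩
      rw [SetLike.mem_coe, mem_comap]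
      refine ⟨PresentedGroup.of ⟨i, hi⟩, ?_⟩
      rw [hψ ⟨i, hi⟩, hYx i hi]
    intro y
    obtain ⟨x, rfl⟩ := QuotientGroup.mk'_surjective Zs y
    obtain ⟨x', hx', hxx⟩ := hT x.2
    have : x' = x := Subtype.ext hxx
    rw [this, SetLike.mem_coe, mem_comap] at hx'
    exact hx'
  -- simplicity
  let ψ' : A →* S ⧸ Zs := ψ.comp e.symm.toMonoidHom
  have hψ's : Function.Surjective ψ' := hψs.comp e.symm.surjective
  have hker : ψ'.ker = ⊥ := by
    rcases (MonoidHom.normal_ker ψ').eq_bot_or_eq_top with h | h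
    · exact h
    · exfalso
      have htriv : ∀ y : S ⧸ Zs, y = 1 := by
        intro y
        obtain ⟨a', rfl⟩ := hψ's y
        have : a' ∈ ψ'.ker := by rw [h]; exact mem_top _
        exact this
      have hall : ∀ x : S, x ∈ Zs := fun x =>
        (QuotientGroup.eq_one_iff x).mp (htriv (QuotientGroup.mk' Zs x))
      have h0 := hall ⟨Y 0, hYS 0 (by omega)⟩
      have := mem_center_iff.mp (hZc h0) ⟨Y 1, hYS 1 (by omega)⟩
      apply hnc
      have := congrArg Subtype.val this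
      exact this.symm
  have hψ'i : Function.Injective ψ' := (MonoidHom.ker_eq_bot_iff ψ').mp hker
  let eq : A ≃* S ⧸ Zs := MulEquiv.ofBijective ψ' ⟨hψ'i, hψ's⟩
  let ξ : S →* A := eq.symm.toMonoidHom.comp (QuotientGroup.mk' Zs)
  have hξs : Function.Surjective ξ := eq.symm.surjective.comp (QuotientGroup.mk'_surjective Zs)
  have hξk : ξ.ker = Zs := by
    ext x
    rw [MonoidHom.mem_ker]
    show eq.symm (QuotientGroup.mk' Zs x) = 1 ↔ x ∈ Zs
    rw [← eq.symm.map_one, eq.symm.injective.eq_iff]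
    exact QuotientGroup.eq_one_iff x
  have hW'comm : W' ∈ commutator S := by
    have : W' = ⁅(⟨a, ha⟩ : S), ⟨b, hb⟩⁆ := Subtype.ext hab.symm
    rw [this, _root_.commutator_def]
    exact commutator_mem_commutator (mem_top _) (mem_top _)
  have := orderOf_dvd_card_mult k e ξ hξs (by rw [hξk]; exact hZc) W'
    (by rw [hξk]; exact mem_zpowers _) hW'comm
  rwa [Subgroup.orderOf_mk] at this

theorem mult_equiv_zmod6 [Finite A] (hk : k = 4 ∨ k = 5)
    (h2 : 2 ∣ Nat.card (mult (pmap k e))) (h3 : 3 ∣ Nat.card (mult (pmap k e))) :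
    Nonempty (mult (pmap k e) ≃* Multiplicative (ZMod 6)) := by
  obtain ⟨ζ, hζ6, hle⟩ := exists_mult_le_zpowers6 k e hk
  have hfo : IsOfFinOrder ζ := isOfFinOrder_iff_pow_eq_one.mpr ⟨6, by norm_num, hζ6⟩
  have hfin : Finite (zpowers ζ) := hfo.finite_zpowers.to_subtype
  have hcyc : IsCyclic (mult (pmap k e)) :=
    isCyclic_of_injective (Subgroup.inclusion hle) (Subgroup.inclusion_injective hle)
  have hdvd : Nat.card (mult (pmap k e)) ∣ 6 := by
    have h1 : Nat.card (mult (pmap k e)) ∣ Nat.card (zpowers ζ) := card_dvd_of_le hle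
    rw [Nat.card_zpowers] at h1
    exact h1.trans (orderOf_dvd_of_pow_eq_one hζ6)
  have h6 : 6 ∣ Nat.card (mult (pmap k e)) :=
    Nat.Coprime.mul_dvd_of_dvd_of_dvd (by norm_num : Nat.Coprime 2 3) h2 h3
  have hcard : Nat.card (mult (pmap k e)) = 6 := Nat.dvd_antisymm hdvd h6
  have eq := zmodCyclicMulEquiv hcyc
  rw [hcard] at eq
  exact ⟨eq.symm⟩

end Cfsg.Agent.Helper59.MultAlt
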