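import Mathlib

/-!
# An explicit triple cover `3.A₇` as a permutation group on 63 points

The permutations below were obtained by coset enumeration of the presentation
`⟨y₀,…,y₄,w | w central, w³, y₀³, yᵢ², (yᵢyᵢ₊₁)³, (yᵢyⱼ)² (j ≥ i+2) except (y₀y₃)² = w⟩`
over the subgroup `⟨y₁,…,y₄⟩`.
-/

namespace Cfsg.Agent.Helper59.MultAlt.A7Cover

open scoped commutatorElement

/-- Table-defined self-map of `Fin 63`. -/
def tblFun (tbl : List ℕ) (i : Fin 63) : Fin 63 := Fin.ofNat 63 (tbl.getD i.1 0)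

def t0 : List ℕ := [5, 8, 12, 1, 0, 4, 18, 6, 3, 2, 15, 10, 9, 27, 13, 11, 17, 31, 7, 20, 26, 41, 21, 24, 34, 28, 19, 14, 32, 38, 29, 16, 25, 33, 23, 42, 45, 37, 30, 36, 47, 22, 50, 46, 43, 39, 44, 48, 40, 49, 35, 56, 54, 52, 53, 51, 55, 59, 57, 58, 60, 61, 62]
def t0i : List ℕ := [4, 3, 9, 8, 5, 0, 7, 18, 1, 12, 11, 15, 2, 14, 27, 10, 31, 16, 6, 26, 19, 22, 41, 34, 23, 32, 20, 13, 25, 30, 38, 17, 28, 33, 24, 50, 39, 37, 29, 45, 48, 21, 35, 44, 46, 36, 43, 40, 47, 49, 42, 55, 53, 54, 52, 56, 51, 58, 59, 57, 60, 61, 62]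
def t1 : List ℕ := [0, 1, 2, 10, 6, 7, 4, 5, 11, 13, 3, 8, 14, 9, 12, 15, 17, 16, 18, 20, 19, 23, 29, 21, 30, 28, 37, 27, 25, 22, 24, 33, 49, 31, 46, 36, 35, 26, 44, 40, 39, 43, 48, 41, 38, 54, 34, 52, 42, 32, 53, 51, 47, 50, 45, 55, 56, 57, 58, 59, 60, 61, 62]
def t1i : List ℕ := [0, 1, 2, 10, 6, 7, 4, 5, 11, 13, 3, 8, 14, 9, 12, 15, 17, 16, 18, 20, 19, 23, 29, 21, 30, 28, 37, 27, 25, 22, 24, 33, 49, 31, 46, 36, 35, 26, 44, 40, 39, 43, 48, 41, 38, 54, 34, 52, 42, 32, 53, 51, 47, 50, 45, 55, 56, 57, 58, 59, 60, 61, 62]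
def t2 : List ℕ := [0, 1, 2, 8, 5, 4, 19, 20, 3, 12, 16, 17, 9, 25, 28, 31, 10, 11, 26, 6, 7, 22, 21, 24, 23, 13, 18, 32, 14, 30, 29, 15, 27, 33, 34, 42, 39, 37, 38, 36, 48, 41, 35, 56, 55, 45, 51, 47, 40, 49, 50, 46, 59, 58, 57, 44, 43, 54, 53, 52, 60, 61, 62]
def t2i : List ℕ := [0, 1, 2, 8, 5, 4, 19, 20, 3, 12, 16, 17, 9, 25, 28, 31, 10, 11, 26, 6, 7, 22, 21, 24, 23, 13, 18, 32, 14, 30, 29, 15, 27, 33, 34, 42, 39, 37, 38, 36, 48, 41, 35, 56, 55, 45, 51, 47, 40, 49, 50, 46, 59, 58, 57, 44, 43, 54, 53, 52, 60, 61, 62]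
def t3 : List ℕ := [0, 1, 2, 12, 8, 9, 11, 13, 4, 5, 14, 6, 3, 7, 10, 15, 29, 22, 18, 21, 23, 19, 17, 20, 25, 24, 38, 27, 30, 16, 28, 34, 41, 46, 31, 36, 35, 44, 26, 40, 39, 32, 48, 49, 37, 45, 33, 47, 42, 43, 50, 51, 52, 53, 54, 55, 56, 62, 61, 60, 59, 58, 57]
def t3i : List ℕ := [0, 1, 2, 12, 8, 9, 11, 13, 4, 5, 14, 6, 3, 7, 10, 15, 29, 22, 18, 21, 23, 19, 17, 20, 25, 24, 38, 27, 30, 16, 28, 34, 41, 46, 31, 36, 35, 44, 26, 40, 39, 32, 48, 49, 37, 45, 33, 47, 42, 43, 50, 51, 52, 53, 54, 55, 56, 62, 61, 60, 59, 58, 57]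
def t4 : List ℕ := [0, 1, 2, 8, 5, 4, 7, 6, 3, 12, 11, 10, 9, 14, 13, 15, 17, 16, 18, 20, 19, 39, 36, 40, 48, 28, 26, 27, 25, 35, 42, 31, 32, 33, 47, 29, 22, 37, 50, 21, 23, 45, 30, 54, 53, 41, 52, 34, 24, 49, 38, 59, 46, 44, 43, 58, 57, 56, 55, 51, 60, 61, 62]
def t4i : List ℕ := [0, 1, 2, 8, 5, 4, 7, 6, 3, 12, 11, 10, 9, 14, 13, 15, 17, 16, 18, 20, 19, 39, 36, 40, 48, 28, 26, 27, 25, 35, 42, 31, 32, 33, 47, 29, 22, 37, 50, 21, 23, 45, 30, 54, 53, 41, 52, 34, 24, 49, 38, 59, 46, 44, 43, 58, 57, 56, 55, 51, 60, 61, 62]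
def tw : List ℕ := [2, 0, 1, 4, 9, 12, 13, 14, 5, 3, 6, 7, 8, 10, 11, 18, 19, 20, 27, 25, 28, 24, 23, 30, 29, 16, 32, 15, 17, 21, 22, 26, 31, 37, 38, 39, 40, 49, 41, 48, 42, 34, 36, 46, 43, 47, 44, 50, 35, 33, 45, 55, 53, 54, 52, 56, 51, 59, 57, 58, 61, 62, 60]
def twi : List ℕ := [1, 2, 0, 9, 3, 8, 10, 11, 12, 4, 13, 14, 5, 6, 7, 27, 25, 28, 15, 16, 17, 29, 30, 22, 21, 19, 31, 18, 20, 24, 23, 32, 26, 49, 41, 48, 42, 33, 34, 35, 36, 38, 40, 44, 46, 50, 43, 45, 39, 37, 47, 56, 54, 52, 53, 51, 55, 58, 59, 57, 62, 60, 61]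

def y0 : Equiv.Perm (Fin 63) where
  toFun := tblFun t0
  invFun := tblFun t0i
  left_inv := by decide +kernel
  right_inv := by decide +kernel

def y1 : Equiv.Perm (Fin 63) where
  toFun := tblFun t1
  invFun := tblFun t1i
  left_inv := by decide +kernel
  right_inv := by decide +kernel

def y2 : Equiv.Perm (Fin 63) where
  toFun := tblFun t2
  invFun := tblFun t2i
  left_inv := by decide +kernel
  right_inv := by decide +kernel

def y3 : Equiv.Perm (Fin 63) where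
  toFun := tblFun t3
  invFun := tblFun t3i
  left_inv := by decide +kernel
  right_inv := by decide +kernel

def y4 : Equiv.Perm (Fin 63) where
  toFun := tblFun t4
  invFun := tblFun t4i
  left_inv := by decide +kernel
  right_inv := by decide +kernel

def w : Equiv.Perm (Fin 63) where
  toFun := tblFun tw
  invFun := tblFun twi
  left_inv := by decide +kernel
  right_inv := by decide +kernel

/-- the generators, indexed by `ℕ` -/
def Y : ℕ → Equiv.Perm (Fin 63)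
  | 0 => y0
  | 1 => y1
  | 2 => y2
  | 3 => y3
  | 4 => y4
  | _ => 1

theorem w_pow : w ^ 3 = 1 := by decide +kernel
theorem w_ne : w ≠ 1 := by decide +kernel
theorem wy0 : w * y0 = y0 * w := by decide +kernel
theorem wy1 : w * y1 = y1 * w := by decide +kernel
theorem wy2 : w * y2 = y2 * w := by decide +kernel
theorem wy3 : w * y3 = y3 * w := by decide +kernel
theorem wy4 : w * y4 = y4 * w := by decide +kernel
theorem r0 : y0 ^ 3 = 1 := by decide +kernel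
theorem r1 : y1 ^ 2 = 1 := by decide +kernel
theorem r2 : y2 ^ 2 = 1 := by decide +kernel
theorem r3 : y3 ^ 2 = 1 := by decide +kernel
theorem r4 : y4 ^ 2 = 1 := by decide +kernel
theorem r01 : (y0 * y1) ^ 3 = 1 := by decide +kernel
theorem r12 : (y1 * y2) ^ 3 = 1 := by decide +kernel
theorem r23 : (y2 * y3) ^ 3 = 1 := by decide +kernel
theorem r34 : (y3 * y4) ^ 3 = 1 := by decide +kernel
theorem r02 : (y0 * y2) ^ 2 = 1 := by decide +kernel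
theorem r03 : (y0 * y3) ^ 2 = w := by decide +kernel
theorem r04 : (y0 * y4) ^ 2 = 1 := by decide +kernel
theorem r13 : (y1 * y3) ^ 2 = 1 := by decide +kernel
theorem r14 : (y1 * y4) ^ 2 = 1 := by decide +kernel
theorem r24 : (y2 * y4) ^ 2 = 1 := by decide +kernel
theorem y01_ne : y0 * y1 ≠ y1 * y0 := by decide +kernel
theorem comm_eq : ⁅y2 * y3, y0⁆ = w := by decide +kernel

end Cfsg.Agent.Helper59.MultAlt.A7Cover
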