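import Mathlib
import Cfsg.Agent.Lib.Helper59.MultAltE
import Cfsg.Agent.Lib.Helper59.MultAltF
import Cfsg.Agent.S0891

/-!
# The multiplier of `A_6` and `A_7` is cyclic of order 6
-/

namespace Cfsg.Agent.Helper59.MultAlt

open Subgroup Cfsg.Agent.Helper65 Cfsg.Agent.Helper59.AltPres
open Cfsg.Agent.Helper59.MultAlt.A7Cover

theorem three_dvd (k : ℕ) (hk : k = 4 ∨ k = 5)
    (eA : CG k ≃* alternatingGroup (Fin (k + 1 + 1))) :
    3 ∣ Nat.card (mult (pmap k eA)) := by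
  have hs : IsSimpleGroup (alternatingGroup (Fin (k + 1 + 1))) :=
    alternatingGroup.isSimpleGroup (by rw [Nat.card_fin]; omega)
  have hk5 : k ≤ 5 := by omega
  have one_mem' : (1 : Equiv.Perm (Fin 63)) ∈ zpowers w := one_mem _
  have h := orderOf_dvd_of_twisted k eA (by omega) Y w ?_ ?_ ?_ ?_ ?_ y01_ne (y2 * y3) y0 ?_ ?_
    comm_eq
  · have : orderOf w = 3 := orderOf_eq_prime w_pow w_ne
    rwa [this] at h
  · intro i hi
    have : i < 5 := by omega
    interval_cases i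
    exacts [wy0, wy1, wy2, wy3, wy4]
  · show y0 ^ 3 ∈ zpowers w
    rw [r0]; exact one_mem'
  · intro i hi hik
    have : i < 5 := by omega
    interval_cases i
    · show y1 ^ 2 ∈ zpowers w
      rw [r1]; exact one_mem'
    · show y2 ^ 2 ∈ zpowers w
      rw [r2]; exact one_mem'
    · show y3 ^ 2 ∈ zpowers w
      rw [r3]; exact one_mem'
    · show y4 ^ 2 ∈ zpowers w
      rw [r4]; exact one_mem'
  · intro i hik
    have : i < 4 := by omega
    interval_cases i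
    · show (y0 * y1) ^ 3 ∈ zpowers w
      rw [r01]; exact one_mem'
    · show (y1 * y2) ^ 3 ∈ zpowers w
      rw [r12]; exact one_mem'
    · show (y2 * y3) ^ 3 ∈ zpowers w
      rw [r23]; exact one_mem'
    · show (y3 * y4) ^ 3 ∈ zpowers w
      rw [r34]; exact one_mem'
  · intro i j hij hjk
    rcases (by omega : (i = 0 ∧ j = 2) ∨ (i = 0 ∧ j = 3) ∨ (i = 0 ∧ j = 4) ∨ (i = 1 ∧ j = 3) ∨
      (i = 1 ∧ j = 4) ∨ (i = 2 ∧ j = 4)) with ⟨rfl, rfl⟩ | ⟨rfl, rfl⟩ | ⟨rfl, rfl⟩ | ⟨rfl, rfl⟩ |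
      ⟨rfl, rfl⟩ | ⟨rfl, rfl⟩
    · show (y0 * y2) ^ 2 ∈ zpowers w
      rw [r02]; exact one_mem'
    · show (y0 * y3) ^ 2 ∈ zpowers w
      rw [r03]; exact mem_zpowers w
    · show (y0 * y4) ^ 2 ∈ zpowers w
      rw [r04]; exact one_mem'
    · show (y1 * y3) ^ 2 ∈ zpowers w
      rw [r13]; exact one_mem'
    · show (y1 * y4) ^ 2 ∈ zpowers w
      rw [r14]; exact one_mem'
    · show (y2 * y4) ^ 2 ∈ zpowers w
      rw [r24]; exact one_mem'
  · exact mul_mem (subset_closure ⟨2, Set.mem_Iio.mpr (by omega), rfl⟩)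
      (subset_closure ⟨3, Set.mem_Iio.mpr (by omega), rfl⟩)
  · exact subset_closure ⟨0, Set.mem_Iio.mpr (by omega), rfl⟩

theorem two_dvd (k : ℕ) (hk : 2 ≤ k) (eA : CG k ≃* alternatingGroup (Fin (k + 1 + 1))) :
    2 ∣ Nat.card (mult (pmap k eA)) := by
  obtain ⟨Γ, _, _, z, hz, ho, hzc, hn, ⟨iso⟩⟩ := Cfsg.Agent.S0891.result (k + 1 + 1) (by omega)
  let ξ : Γ →* alternatingGroup (Fin (k + 1 + 1)) :=
    iso.toMonoidHom.comp (QuotientGroup.mk' (zpowers z))
  have hξs : Function.Surjective ξ :=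
    iso.surjective.comp (QuotientGroup.mk'_surjective (zpowers z))
  have hξk : ξ.ker = zpowers z := by
    ext x
    rw [MonoidHom.mem_ker]
    show iso (QuotientGroup.mk' (zpowers z) x) = 1 ↔ x ∈ zpowers z
    rw [← iso.map_one, iso.injective.eq_iff]
    exact QuotientGroup.eq_one_iff x
  have := orderOf_dvd_card_mult k eA ξ hξs (by rw [hξk]; exact zpowers_le.mpr hz) z
    (by rw [hξk]; exact mem_zpowers z) hzc
  rwa [ho] at this

theorem hasSchurMultiplier_six (k : ℕ) (hk : k = 4 ∨ k = 5) :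
    Cfsg.HasCyclicSchurMultiplier (alternatingGroup (Fin (k + 1 + 1))) 6 := by
  obtain ⟨cs, hcs⟩ := Cfsg.Agent.S2530.result (k + 1)
  obtain ⟨eA⟩ := nonempty_equiv k cs hcs
  obtain ⟨eq⟩ := mult_equiv_zmod6 k eA hk (two_dvd k (by omega) eA) (three_dvd k hk eA)
  exact hasSchurMultiplier_of_mult_equiv (pmap k eA) (pmap_surjective k eA) eq

end Cfsg.Agent.Helper59.MultAlt
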