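import Mathlib
import Cfsg.Agent.Lib.Helper75.FixKill
import Cfsg.Agent.Lib.Helper17.SylowLink

/-!
# Order 459648 = 2^7 * 3^3 * 7 * 19 (S1022), case `n_19 = 96` (helper59)

`|N(P19)| = 4788`, `|N : C| = e | 18`, so `7 ∣ |C(P19)|`; an element of order `7` of `C(P19)` has
`f` fixed points on `Syl_19(G)` with `f ≡ 1 (19)`, `f ≡ 96 ≡ 5 (7)`, `f < 96`: impossible.
-/

set_option autoImplicit false

universe u

namespace Cfsg.Agent.Helper59.O459648

open Cfsg.Agent.Helper17 Cfsg.Agent.Helper75.FixKill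

theorem false_of_ninetysix {G : Type u} [Group G] [Finite G] [IsSimpleGroup G]
    (hG : Nat.card G = 459648) (h96 : Nat.card (Sylow 19 G) = 96) : False := by
  have : Fact (Nat.Prime 19) := ⟨by norm_num⟩
  have : Fact (Nat.Prime 7) := ⟨by norm_num⟩
  obtain ⟨P⟩ : Nonempty (Sylow 19 G) := inferInstance
  have hn : Nat.card G = 19 ^ 1 * 24192 := by rw [hG]; norm_num
  have hPc : Nat.card (P : Subgroup G) = 19 := by
    have h0 := sylow_card_eq P hn (by norm_num)
    rwa [pow_one] at h0
  have hNd := card_normalizer_mul_sylow_count P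
  rw [h96, hG] at hNd
  have hN : Nat.card ↥(Subgroup.normalizer ((P : Subgroup G) : Set G)) = 4788 := by omega
  obtain ⟨e, he1, -, he3⟩ := exists_e P hPc (by rw [hG]; norm_num)
  rw [hN] at he3
  have h7C : 7 ∣ Nat.card ↥(Subgroup.centralizer ((P : Subgroup G) : Set G)) := by
    have h7 : 7 ∣ Nat.card ↥(Subgroup.centralizer ((P : Subgroup G) : Set G)) * e := by
      rw [he3]; norm_num
    rcases (Nat.Prime.dvd_mul (by norm_num : Nat.Prime 7)).1 h7 with h | h
    · exact h
    · exfalso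
      have h18 : (7 : ℕ) ∣ 18 := h.trans he1
      omega
  obtain ⟨f, m', -, hf19, hf7, -, hflt, -⟩ := exists_fix (G := G) (p := 19) (r := 7)
    (by rw [hG]; norm_num) (by norm_num) P hPc (by rw [h96]; norm_num) h7C
  rw [h96] at hf7 hflt
  omega

end Cfsg.Agent.Helper59.O459648
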