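import Cfsg.Agent.Lib.Helper59.PoincA

/-!
# Depth certificates for orbits, and list polynomials
-/

set_option autoImplicit false
set_option linter.unusedSectionVars false

namespace Cfsg.Agent.Helper59.Poincare

open Cfsg.Agent.Helper6.Weyl Matrix

variable {n : ℕ} (D : VDatum n)
variable (J' : Fin n → Prop) [DecidablePred J']

/-! ### the depth step -/

theorem form_s_smul (i : Fin n) (μ β : Vec n) :
    D.form (D.s i • μ) β = D.form μ (D.s i • β) := by
  have h := D.form_smul (D.isIsom_s i) μ (D.s i • β)
  rw [← mul_smul, D.s_mul_s, one_smul] at h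
  exact h

theorem depth_s_smul {i : Fin n} (hi : J' i) (μ : Vec n) (h : 0 < pair D.A i μ) :
    depth D J' (D.s i • μ) = depth D J' μ + 1 := by
  have ha := D.single_mem_posJ J' hi
  have hpos : 0 < D.form μ (Pi.single i 1) := by
    have h1 := D.two_form_single μ i
    have h2 := mul_pos h (D.valid.gpos i)
    omega
  have hmap : ∀ β ∈ (D.posJ J').erase (Pi.single i 1),
      D.s i • β ∈ (D.posJ J').erase (Pi.single i 1) := by
    intro β hβ
    rw [Finset.mem_erase] at hβ ⊢
    refine ⟨?_, D.s_smul_mem_posJ J' hi hβ.2 hβ.1⟩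
    intro h
    have h2 : β = -Pi.single i 1 := by
      have := congrArg (fun v => D.s i • v) h
      simp only [← mul_smul, VDatum.s_mul_s, one_smul, VDatum.s_smul_single] at this
      exact this
    have h3 := D.neg_not_mem_posJ J' hβ.2
    rw [h2, neg_neg] at h3
    exact h3 ha
  have hinv : ∀ β : Vec n, D.s i • (D.s i • β) = β := by
    intro β
    rw [← mul_smul, VDatum.s_mul_s, one_smul]
  have herase : (∑ β ∈ (D.posJ J').erase (Pi.single i 1),
      if D.form (D.s i • μ) β < 0 then 1 else 0) =
      ∑ β ∈ (D.posJ J').erase (Pi.single i 1), if D.form μ β < 0 then 1 else 0 := by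
    apply Finset.sum_nbij' (fun β => D.s i • β) (fun β => D.s i • β) hmap hmap
      (fun β _ => hinv β) (fun β _ => hinv β)
    intro β _
    rw [form_s_smul]
  unfold depth
  rw [← Finset.add_sum_erase _ _ ha, ← Finset.add_sum_erase (D.posJ J') _ ha, herase,
    form_s_smul, VDatum.s_smul_single, D.form_neg_right, if_pos (by omega), if_neg (by omega)]
  ring

theorem depth_dominant (lam : Vec n) (hdom : ∀ i, J' i → 0 ≤ pair D.A i lam) :
    depth D J' lam = 0 := by
  unfold depth
  apply Finset.sum_eq_zero
  intro β hβ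
  have := form_nonneg D J' lam hdom hβ
  rw [if_neg (by omega)]

/-! ### the checker -/

/-- depth certificate: `L` lists the codes of the orbit with their depths -/
def depthOK (A : Mat n) (c0 : ℕ) (L : List (ℕ × ℕ)) : Bool :=
  L.all fun p =>
    if p.2 = 0 then decide (p.1 = c0)
    else (List.finRange n).any fun i =>
      decide (J' i) && forceNat (reflCode A i p.1) fun r =>
        L.contains (r, p.2 - 1) && decide (p.1 / 16 ^ (i : ℕ) % 16 < r / 16 ^ (i : ℕ) % 16)

theorem depthOK_sound (c0 : ℕ) (L : List (ℕ × ℕ))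
    (hcl : closedOK J' D.A (L.map Prod.fst) = true)
    (hdom : ∀ i, J' i → 0 ≤ pair D.A i (decode n c0))
    (h : depthOK J' D.A c0 L = true) :
    ∀ (d : ℕ) (p : ℕ × ℕ), p ∈ L → p.2 = d → depth D J' (decode n p.1) = d := by
  unfold depthOK at h
  rw [List.all_eq_true] at h
  intro d
  induction d with
  | zero =>
    intro p hp hd
    have h1 := h p hp
    rw [if_pos hd] at h1
    rw [of_decide_eq_true h1]
    exact depth_dominant D J' _ hdom
  | succ d ih =>
    intro p hp hd
    have h1 := h p hp
    rw [if_neg (by omega), List.any_eq_true] at h1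
    obtain ⟨i, _, h2⟩ := h1
    rw [Bool.and_eq_true, forceNat_eq, Bool.and_eq_true] at h2
    obtain ⟨h3, h4, h5⟩ := h2
    have hi : J' i := of_decide_eq_true h3
    have h5' := of_decide_eq_true h5
    have hmem : (reflCode D.A i p.1, p.2 - 1) ∈ L := by simpa using h4
    have hc : p.1 ∈ L.map Prod.fst := List.mem_map.2 ⟨p, hp, rfl⟩
    obtain ⟨_, hdec⟩ := closedOK_spec J' hcl hi hc
    have hr := ih _ hmem (by simp only; omega)
    simp only at hr
    -- decode p.1 = s_i • decode r
    have hback : decode n p.1 = D.s i • decode n (reflCode D.A i p.1) := by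
      rw [hdec]
      change _ = D.s i • (D.s i • decode n p.1)
      rw [← mul_smul, VDatum.s_mul_s, one_smul]
    have hpair : 0 < pair D.A i (decode n (reflCode D.A i p.1)) := by
      have h6 := congrFun hback i
      rw [VDatum.s_smul, Datum.S, refl_mulVec_self] at h6
      simp only [decode] at h6 ⊢
      have : ((p.1 / 16 ^ (i : ℕ) % 16 : ℕ) : ℤ) < ((reflCode D.A i p.1 / 16 ^ (i : ℕ) % 16 : ℕ) : ℤ) := by
        exact_mod_cast h5'
      linarith
    rw [hback, depth_s_smul D J' hi _ hpair, hr]

/-! ### the orbit sum as a list sum -/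

theorem orbSum_eq (t : ℕ) (c0 : ℕ) (rest : List ℕ) (depths : List ℕ)
    (hlen : depths.length = rest.length + 1)
    (hcl : closedOK J' D.A (c0 :: rest) = true)
    (hr : reachOK J' D.A [c0] rest = true) (hnd : (c0 :: rest).Nodup)
    (hlt : ∀ c ∈ c0 :: rest, c < 16 ^ n)
    (hdom : ∀ i, J' i → 0 ≤ pair D.A i (decode n c0))
    (h : depthOK J' D.A c0 ((c0 :: rest).zip depths) = true) :
    orbSum D J' (decode n c0) t = (depths.map (fun d => t ^ d)).sum := by
  classical
  have hfst : ((c0 :: rest).zip depths).map Prod.fst = c0 :: rest := by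
    apply List.map_fst_zip
    simp [hlen]
  have hsnd : ((c0 :: rest).zip depths).map Prod.snd = depths := by
    apply List.map_snd_zip
    simp [hlen]
  have hsound := depthOK_sound D J' c0 _ (by rw [hfst]; exact hcl) hdom h
  have hnd' : ((c0 :: rest).map (decode n)).Nodup := by
    apply List.Nodup.map_on _ hnd
    intro a ha b hb hab
    exact decode_inj n a b (hlt a ha) (hlt b hb) hab
  unfold orbSum
  rw [finsum_set_coe_eq_finsum_mem (s := MulAction.orbit (D.W J') (decode n c0))
    (f := fun μ => t ^ depth D J' μ), orbit_eq J' D c0 rest hcl hr]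
  have hset : {v | v ∈ (c0 :: rest).map (decode n)} = ↑((c0 :: rest).map (decode n)).toFinset := by
    ext v; simp
  rw [hset, finsum_mem_coe_finset, List.sum_toFinset _ hnd', List.map_map]
  -- compare termwise through the zip
  have : (List.map ((fun μ => t ^ depth D J' μ) ∘ decode n) (c0 :: rest)) =
      (((c0 :: rest).zip depths).map (fun p => t ^ p.2)) := by
    conv_lhs => rw [← hfst]
    rw [List.map_map]
    apply List.map_congr_left
    intro p hp
    simp only [Function.comp]
    rw [hsound p.2 p hp rfl]
  rw [this]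
  conv_rhs => rw [← hsnd, List.map_map]
  rfl

end Cfsg.Agent.Helper59.Poincare
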