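import Cfsg.Agent.Lib.Helper59.PoincC
import Cfsg.Agent.Lib.Helper6.WeylDataF4

/-!
# Poincaré series of the Weyl group of type F4

Generated data; all checks are kernel computations.
-/

set_option autoImplicit false
set_option maxRecDepth 100000

namespace Cfsg.Agent.Helper59.Poincare.F4

open Cfsg.Agent.Helper6.Weyl Cfsg.Agent.Helper6.Weyl.F4

/-- depths of the orbit of step 0 -/
def dep0 : List ℕ := [0, 1]

/-- depths of the orbit of step 1 -/
def dep1 : List ℕ := [0, 1, 2]

/-- depths of the orbit of step 2 -/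
def dep2 : List ℕ := [0, 1, 2, 3, 3, 4, 5, 6]

/-- depths of the orbit of step 3 -/
def dep3 : List ℕ := [0, 1, 2, 3, 4, 4, 5, 5, 6, 6, 7, 7, 8, 8, 9, 9, 10, 10, 11, 11, 12, 13, 14, 15]

theorem dep0_ok : stepDepthOK cartanA 0 cert0 dep0 = true := by decide +kernel

theorem dep1_ok : stepDepthOK cartanA 1 cert1 dep1 = true := by decide +kernel

theorem dep2_ok : stepDepthOK cartanA 2 cert2 dep2 = true := by decide +kernel

theorem dep3_ok : stepDepthOK cartanA 3 cert3 dep3 = true := by decide +kernel

theorem chainDepth_ok : chainDepthOK cartanA 0 [cert0, cert1, cert2, cert3] [dep0, dep1, dep2, dep3] = true :=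
  chainDepthOK_cons dep0_ok (chainDepthOK_cons dep1_ok (chainDepthOK_cons dep2_ok (chainDepthOK_cons dep3_ok (chainDepthOK_nil _ _))))

theorem poly_ok : prodL ([dep0, dep1, dep2, dep3].map depthsPoly) = prodL ([2, 6, 8, 12].map qnL) := by
  decide +kernel

/-- the Poincaré series of the Weyl group of type F4 -/
theorem poinc_eq (t : ℕ) : poinc vd VDatum.allJ t = ([2, 6, 8, 12].map (fun d => qn d t)).prod :=
  poinc_full vd [cert0, cert1, cert2, cert3] [dep0, dep1, dep2, dep3] _ rfl chain_ok chainDepth_ok poly_ok t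

end Cfsg.Agent.Helper59.Poincare.F4
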