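import Mathlib

set_option autoImplicit false

namespace Cfsg.Agent.Helper59

open scoped BigOperators

section QuadCount

variable {G : Type*} [Group G]

/-- the sign character of a group of order two, extended by `-1` -/
def sgn2 [DecidableEq G] (u : G) : ℤ := if u = 1 then 1 else -1

theorem sgn2_sq [DecidableEq G] (u : G) : sgn2 u * sgn2 u = 1 := by
  unfold sgn2; split_ifs <;> norm_num

theorem sgn2_one [DecidableEq G] : sgn2 (1 : G) = 1 := by simp [sgn2]

theorem sgn2_eq_one_iff [DecidableEq G] (u : G) : sgn2 u = 1 ↔ u = 1 := by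
  unfold sgn2; split_ifs with h <;> simp [h]

theorem sgn2_of_ne [DecidableEq G] {u : G} (h : u ≠ 1) : sgn2 u = -1 := by
  unfold sgn2; rw [if_neg h]

/-- in a subgroup of order two, two non-identity elements are equal -/
theorem eq_of_card_two (Φ : Subgroup G) (hΦ : Nat.card Φ = 2) {a b : G} (ha : a ∈ Φ) (hb : b ∈ Φ)
    (ha1 : a ≠ 1) (hb1 : b ≠ 1) : a = b := by
  rw [Nat.card_eq_two_iff] at hΦ
  obtain ⟨x, y, hxy, huniv⟩ := hΦ
  have hmem : ∀ c : Φ, c = x ∨ c = y := by
    intro c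
    have : c ∈ ({x, y} : Set Φ) := by rw [huniv]; trivial
    simpa using this
  have h1 := hmem 1
  have hA := hmem ⟨a, ha⟩
  have hB := hmem ⟨b, hb⟩
  have ha1' : (⟨a, ha⟩ : Φ) ≠ 1 := fun h => ha1 (congrArg Subtype.val h)
  have hb1' : (⟨b, hb⟩ : Φ) ≠ 1 := fun h => hb1 (congrArg Subtype.val h)
  have : (⟨a, ha⟩ : Φ) = ⟨b, hb⟩ := by
    rcases h1 with h1 | h1 <;> rcases hA with hA | hA <;> rcases hB with hB | hB
    all_goals first
      | exact hA.trans hB.symm
      | exact absurd (hA.trans h1.symm) ha1'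
      | exact absurd (hB.trans h1.symm) hb1'
  exact congrArg Subtype.val this

theorem sgn2_mul [DecidableEq G] (Φ : Subgroup G) (hΦ : Nat.card Φ = 2) {u v : G} (hu : u ∈ Φ)
    (hv : v ∈ Φ) : sgn2 (u * v) = sgn2 u * sgn2 v := by
  by_cases hu1 : u = 1
  · rw [hu1, one_mul, sgn2_one, one_mul]
  by_cases hv1 : v = 1
  · rw [hv1, mul_one, sgn2_one, mul_one]
  have huv : u = v := eq_of_card_two Φ hΦ hu hv hu1 hv1
  have h1 : u * v = 1 := by
    by_contra h
    have := eq_of_card_two Φ hΦ (Φ.mul_mem hu hv) hu h hu1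
    rw [mul_eq_left] at this
    exact hv1 this
  rw [h1, sgn2_one, sgn2_of_ne hu1, sgn2_of_ne hv1]; norm_num

/-- a subgroup of order two that is normal is central -/
theorem central_of_card_two (Φ : Subgroup G) [hn : Φ.Normal] (hΦ : Nat.card Φ = 2) {u : G}
    (hu : u ∈ Φ) (g : G) : g * u = u * g := by
  by_cases hu1 : u = 1
  · rw [hu1]; simp
  have h1 : g * u * g⁻¹ ∈ Φ := hn.conj_mem u hu g
  have h2 : g * u * g⁻¹ ≠ 1 := by
    intro h
    apply hu1
    have : u = g⁻¹ * (g * u * g⁻¹) * g := by group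
    rw [this, h]; group
  have := eq_of_card_two Φ hΦ h1 hu h2 hu1
  calc g * u = (g * u * g⁻¹) * g := by group
    _ = u * g := by rw [this]

/-- sum of a `±1`-valued multiplicative function -/
theorem sum_hom_pm {H : Type*} [Group H] [Fintype H] (f : H → ℤ)
    (hmul : ∀ x y, f (x * y) = f x * f y) (hpm : ∀ x, f x = 1 ∨ f x = -1) :
    (∑ x, f x = Fintype.card H ∧ ∀ x, f x = 1) ∨ (∑ x, f x = 0 ∧ ∃ x, f x = -1) := by
  by_cases h : ∀ x, f x = 1
  · left
    refine ⟨?_, h⟩
    simp [h]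
  · right
    simp only [not_forall] at h
    obtain ⟨x₀, hx₀⟩ := h
    have hx₀' : f x₀ = -1 := (hpm x₀).resolve_left hx₀
    refine ⟨?_, x₀, hx₀'⟩
    have h1 : ∑ x, f x = ∑ x, f (x₀ * x) :=
      (Fintype.sum_equiv (Equiv.mulLeft x₀) _ _ (fun x => rfl)).symm
    have h2 : ∑ x, f (x₀ * x) = - ∑ x, f x := by
      simp only [hmul, hx₀']
      rw [← Finset.mul_sum]; ring
    linarith

/-- Character-sum evaluation for groups with a central subgroup `Φ` of order two containing all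
squares and commutators: `S = ∑ χ(x²)` satisfies `S = 0` or `S² = |G||Z(G)|` (and then all central
elements have square `1`). -/
theorem quad_count [Fintype G] [DecidableEq G] (Φ : Subgroup G) [hn : Φ.Normal]
    (hΦ : Nat.card Φ = 2) (hsq : ∀ x : G, x * x ∈ Φ)
    (hcomm : ∀ x y : G, y⁻¹ * x⁻¹ * y * x ∈ Φ) :
    (∑ x : G, sgn2 (x * x) = 0) ∨
    ((∑ x : G, sgn2 (x * x)) * (∑ x : G, sgn2 (x * x)) =
        (Fintype.card G : ℤ) * (Nat.card (Subgroup.center G) : ℤ) ∧
      ∀ w ∈ Subgroup.center G, w * w = 1) := by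
  classical
  set q : G → ℤ := fun x => sgn2 (x * x) with hq
  set β : G → G → ℤ := fun x w => sgn2 (w⁻¹ * x⁻¹ * w * x) with hβ
  have hcen : ∀ u ∈ Φ, ∀ g : G, g * u = u * g := fun u hu g => central_of_card_two Φ hΦ hu g
  have h3 : ∀ x y, q x * q y = q (x * y) * β x y := by
    intro x y
    have hc := hcomm x y
    have hid : (x * y) * (x * y) = (x * x) * (y * y) * (y⁻¹ * x⁻¹ * y * x) := by
      have := hcen _ hc y
      calc (x * y) * (x * y) = x * x * y * ((y⁻¹ * x⁻¹ * y * x) * y) := by group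
        _ = x * x * y * (y * (y⁻¹ * x⁻¹ * y * x)) := by rw [← this]
        _ = (x * x) * (y * y) * (y⁻¹ * x⁻¹ * y * x) := by group
    have e1 : q (x * y) = q x * q y * β x y := by
      simp only [hq, hβ]
      rw [hid, sgn2_mul Φ hΦ (Φ.mul_mem (hsq x) (hsq y)) hc, sgn2_mul Φ hΦ (hsq x) (hsq y)]
    rw [e1, mul_assoc, sgn2_sq, mul_one]
  have h4 : (∑ x, q x) * (∑ y, q y) = ∑ w, q w * ∑ x, β x w := by
    rw [Finset.sum_mul_sum]
    have : ∀ x, ∑ y, q x * q y = ∑ w, q w * β x w := by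
      intro x
      simp only [h3]
      apply Fintype.sum_equiv (Equiv.mulLeft x)
      intro y
      simp only [Equiv.coe_mulLeft, hβ]
      congr 2
      group
    simp only [this]
    rw [Finset.sum_comm]
    simp only [Finset.mul_sum]
  have hβmul : ∀ w x x', β (x * x') w = β x w * β x' w := by
    intro w x x'
    have hc := hcomm x w
    have hc' := hcomm x' w
    have hid : w⁻¹ * (x * x')⁻¹ * w * (x * x') = (w⁻¹ * x'⁻¹ * w * x') * (w⁻¹ * x⁻¹ * w * x) := by
      have := hcen _ hc x'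
      calc w⁻¹ * (x * x')⁻¹ * w * (x * x') = w⁻¹ * x'⁻¹ * w * ((w⁻¹ * x⁻¹ * w * x) * x') := by group
        _ = w⁻¹ * x'⁻¹ * w * (x' * (w⁻¹ * x⁻¹ * w * x)) := by rw [this]
        _ = (w⁻¹ * x'⁻¹ * w * x') * (w⁻¹ * x⁻¹ * w * x) := by group
    simp only [hβ]
    rw [hid, sgn2_mul Φ hΦ hc' hc, mul_comm]
  have hβpm : ∀ w x, β x w = 1 ∨ β x w = -1 := by
    intro w x
    simp only [hβ, sgn2]
    split_ifs <;> simp
  have h5 : ∀ w, ∑ x, β x w = if w ∈ Subgroup.center G then (Fintype.card G : ℤ) else 0 := by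
    intro w
    rcases sum_hom_pm (fun x => β x w) (hβmul w) (hβpm w) with ⟨h1, h2⟩ | ⟨h1, x₀, h2⟩
    · have hw : w ∈ Subgroup.center G := by
        rw [Subgroup.mem_center_iff]
        intro g
        have := (sgn2_eq_one_iff _).mp (h2 g)
        calc g * w = g * w * (w⁻¹ * g⁻¹ * w * g) := by rw [this, mul_one]
          _ = w * g := by group
      rw [if_pos hw]; exact h1
    · have hw : w ∉ Subgroup.center G := by
        intro hw
        rw [Subgroup.mem_center_iff] at hw
        have : w⁻¹ * x₀⁻¹ * w * x₀ = 1 := by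
          have := hw x₀⁻¹
          calc w⁻¹ * x₀⁻¹ * w * x₀ = w⁻¹ * (x₀⁻¹ * w) * x₀ := by group
            _ = w⁻¹ * (w * x₀⁻¹) * x₀ := by rw [this]
            _ = 1 := by group
        have h3 : β x₀ w = 1 := by simp only [hβ]; rw [this, sgn2_one]
        rw [h3] at h2
        norm_num at h2
      rw [if_neg hw]; exact h1
  have h6 : (∑ x, q x) * (∑ y, q y) =
      (Fintype.card G : ℤ) * ∑ w : Subgroup.center G, q w.1 := by
    rw [h4]
    simp only [h5]
    have : ∀ w : G, q w * (if w ∈ Subgroup.center G then (Fintype.card G : ℤ) else 0) =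
        if w ∈ Subgroup.center G then (Fintype.card G : ℤ) * q w else 0 := by
      intro w; split_ifs <;> ring
    simp only [this]
    rw [← Finset.sum_filter, Finset.mul_sum]
    rw [Finset.sum_subtype (Finset.univ.filter (· ∈ Subgroup.center G))
      (p := (· ∈ Subgroup.center G)) (by simp)]
  have hqmul : ∀ w w' : Subgroup.center G, q ((w * w' : Subgroup.center G) : G) = q w.1 * q w'.1 := by
    intro w w'
    have hb : β w.1 w'.1 = 1 := by
      simp only [hβ]
      have := (Subgroup.mem_center_iff.mp w'.2) w.1⁻¹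
      have e : (w'.1)⁻¹ * (w.1)⁻¹ * w'.1 * w.1 = 1 := by
        calc (w'.1)⁻¹ * (w.1)⁻¹ * w'.1 * w.1 = (w'.1)⁻¹ * ((w.1)⁻¹ * w'.1) * w.1 := by group
          _ = (w'.1)⁻¹ * (w'.1 * (w.1)⁻¹) * w.1 := by rw [this]
          _ = 1 := by group
      rw [e, sgn2_one]
    have := h3 w.1 w'.1
    rw [hb, mul_one] at this
    rw [Subgroup.coe_mul]; exact this.symm
  have hqpm : ∀ w : Subgroup.center G, q w.1 = 1 ∨ q w.1 = -1 := by
    intro w
    simp only [hq, sgn2]
    split_ifs <;> simp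
  rcases sum_hom_pm (fun w : Subgroup.center G => q w.1) hqmul hqpm with ⟨h1, h2⟩ | ⟨h1, -⟩
  · right
    refine ⟨?_, ?_⟩
    · rw [h6, h1, Nat.card_eq_fintype_card]
    · intro w hw
      exact (sgn2_eq_one_iff _).mp (h2 ⟨w, hw⟩)
  · left
    rw [h1, mul_zero] at h6
    exact mul_self_eq_zero.mp h6

end QuadCount

end Cfsg.Agent.Helper59
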