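import Mathlib

set_option autoImplicit false

namespace Cfsg.Agent.Helper59

open MulAction
open scoped Pointwise

section InvBlock

variable {S Y : Type*} [Group S] [MulAction S Y]

/-- `{y, φ y}` is a block when `φ` is an equivariant involution. -/
theorem block_of_involution (φ : Y → Y) (hφ : ∀ y, φ (φ y) = y)
    (heq : ∀ (g : S) (y : Y), φ (g • y) = g • φ y) (y : Y) : IsBlock S ({y, φ y} : Set Y) := by
  rw [isBlock_iff_smul_eq_of_mem]
  intro g z hz hgz
  have key : g • ({y, φ y} : Set Y) = {g • y, φ (g • y)} := by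
    rw [Set.smul_set_insert, Set.smul_set_singleton, heq]
  rw [key]
  simp only [Set.mem_insert_iff, Set.mem_singleton_iff] at hz hgz
  rcases hz with hz | hz
  · subst hz
    rcases hgz with h | h
    · rw [h]
    · rw [h, hφ, Set.pair_comm]
  · subst hz
    rw [← heq] at hgz
    rcases hgz with h | h
    · have : g • y = φ y := by rw [← hφ (g • y), h]
      rw [this, hφ, Set.pair_comm]
    · have : g • y = y := by rw [← hφ (g • y), h, hφ]
      rw [this]

/-- In a preprimitive action on a finite set, an equivariant involution is trivial,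
or the set has two elements. -/
theorem involution_trivial_or_card_two [Finite Y] [IsPreprimitive S Y] (φ : Y → Y)
    (hφ : ∀ y, φ (φ y) = y) (heq : ∀ (g : S) (y : Y), φ (g • y) = g • φ y) :
    (∀ y, φ y = y) ∨ Nat.card Y = 2 := by
  by_cases h : ∀ y, φ y = y
  · exact Or.inl h
  · right
    simp only [not_forall] at h
    obtain ⟨y, hy⟩ := h
    have hB := block_of_involution φ hφ heq y
    rcases IsPreprimitive.isTrivialBlock_of_isBlock hB with h1 | h1
    · exact absurd (h1 (by simp) (by simp)) hy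
    · have : Nat.card Y = Nat.card (Set.univ : Set Y) := (Nat.card_congr (Equiv.Set.univ Y)).symm
      rw [this, ← h1, Nat.card_coe_set_eq, Set.ncard_pair (Ne.symm hy)]

end InvBlock

section Reg

variable {G X : Type*} [Group G] [MulAction G X]

theorem reg_unique (N : Subgroup G) (hreg : ∀ x : X, stabilizer N x = ⊥) {n n' : N} {a : X}
    (h : n • a = n' • a) : n = n' := by
  have : n'⁻¹ * n ∈ stabilizer N a := by
    rw [mem_stabilizer_iff, mul_smul, h, inv_smul_smul]
  rw [hreg a, Subgroup.mem_bot] at this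
  exact (inv_mul_eq_one.mp this).symm

theorem reg_card (N : Subgroup G) [htrans : IsPretransitive N X]
    (hreg : ∀ x : X, stabilizer N x = ⊥) (a : X) : Nat.card N = Nat.card X := by
  have h1 : (stabilizer N a).index = Nat.card X := index_stabilizer_of_transitive N a
  rw [hreg a, Subgroup.index_bot] at h1
  exact h1

theorem two_prim_reg [Finite X] (hX : 2 ≤ Nat.card X) (h2 : IsMultiplyPreprimitive G X 2)
    (N : Subgroup G) [hN : N.Normal] (htrans : IsPretransitive N X)
    (hreg : ∀ x : X, stabilizer N x = ⊥) : Nat.card X = 3 ∨ ∀ n ∈ N, n ^ 2 = 1 := by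
  classical
  have hne : Nonempty X := by
    by_contra h
    rw [not_nonempty_iff] at h
    simp [Nat.card_of_isEmpty] at hX
  obtain ⟨a⟩ := hne
  have hGt : IsPretransitive G X := by
    constructor
    intro x y
    obtain ⟨n, hn⟩ := exists_smul_eq N x y
    exact ⟨(n : G), hn⟩
  have hprim : IsPreprimitive (stabilizer G a) (SubMulAction.ofStabilizer G a) := by
    have := isMultiplyPreprimitive_ofStabilizer (M := G) (α := X) (n := 1) (a := a)
    exact (is_one_preprimitive_iff _ _).mp this
  let ν : X → N := fun x => Classical.choose (exists_smul_eq N a x)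
  have hν : ∀ x, ν x • a = x := fun x => Classical.choose_spec (exists_smul_eq N a x)
  have hνu : ∀ (n : N) (x : X), n • a = x → ν x = n := by
    intro n x h
    exact reg_unique N hreg ((hν x).trans h.symm)
  have hmem : ∀ x : SubMulAction.ofStabilizer G a,
      (ν x.1)⁻¹ • a ∈ SubMulAction.ofStabilizer G a := by
    intro x
    rw [SubMulAction.mem_ofStabilizer_iff]
    intro h
    have hx : x.1 ≠ a := x.2
    apply hx
    rw [inv_smul_eq_iff] at h
    rw [← hν x.1]; exact h.symm
  let φ : SubMulAction.ofStabilizer G a → SubMulAction.ofStabilizer G a :=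
    fun x => ⟨(ν x.1)⁻¹ • a, hmem x⟩
  have hφ : ∀ y, φ (φ y) = y := by
    intro y
    apply Subtype.ext
    show (ν ((ν y.1)⁻¹ • a))⁻¹ • a = y.1
    rw [hνu (ν y.1)⁻¹ _ rfl, inv_inv, hν]
  have heq : ∀ (g : stabilizer G a) (y : SubMulAction.ofStabilizer G a),
      φ (g • y) = g • φ y := by
    intro g y
    apply Subtype.ext
    show (ν ((g : G) • y.1))⁻¹ • a = (g : G) • ((ν y.1)⁻¹ • a)
    have hga : (g : G) • a = a := g.2
    have hga' : (g : G)⁻¹ • a = a := by rw [inv_smul_eq_iff, hga]
    let n' : N := ⟨(g : G) * (ν y.1 : G) * (g : G)⁻¹, hN.conj_mem _ (ν y.1).2 _⟩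
    have hn' : n' • a = (g : G) • y.1 := by
      show ((g : G) * (ν y.1 : G) * (g : G)⁻¹) • a = (g : G) • y.1
      rw [mul_smul, mul_smul, hga']
      congr 1
      exact hν y.1
    rw [hνu n' _ hn']
    show ((g : G) * (ν y.1 : G) * (g : G)⁻¹)⁻¹ • a = (g : G) • (((ν y.1 : G))⁻¹ • a)
    rw [mul_inv_rev, mul_inv_rev, inv_inv, mul_smul, mul_smul, hga']
  rcases involution_trivial_or_card_two φ hφ heq with h | h
  · right
    intro n hn
    by_cases hn1 : n = 1
    · rw [hn1]; simp
    · have hna : (⟨n, hn⟩ : N) • a ≠ a := by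
        intro h'
        have : (⟨n, hn⟩ : N) ∈ stabilizer N a := h'
        rw [hreg a, Subgroup.mem_bot] at this
        exact hn1 (congrArg Subtype.val this)
      have := congrArg Subtype.val (h ⟨(⟨n, hn⟩ : N) • a, hna⟩)
      have h3 : (ν ((⟨n, hn⟩ : N) • a))⁻¹ • a = (⟨n, hn⟩ : N) • a := this
      rw [hνu ⟨n, hn⟩ _ rfl] at h3
      have h4 := reg_unique N hreg h3
      have h5 : n⁻¹ = n := congrArg Subtype.val h4
      rw [pow_two]
      nth_rewrite 1 [← h5]
      simp
  · left
    have := SubMulAction.nat_card_ofStabilizer_add_one_eq (G := G) a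
    omega

theorem three_prim_reg [Finite X] (hX : 3 ≤ Nat.card X) (h3 : IsMultiplyPreprimitive G X 3)
    (N : Subgroup G) [hN : N.Normal] (htrans : IsPretransitive N X)
    (hreg : ∀ x : X, stabilizer N x = ⊥) : Nat.card X = 3 ∨ Nat.card X = 4 := by
  classical
  have h2 : IsMultiplyPreprimitive G X 2 := by
    apply isMultiplyPreprimitive_of_le G X h3 (by norm_num)
    rw [ENat.card_eq_coe_natCard]
    exact_mod_cast hX
  rcases two_prim_reg (by omega) h2 N htrans hreg with h | hsq
  · exact Or.inl h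
  right
  have hnt : Nontrivial X := by
    rw [← Finite.one_lt_card_iff_nontrivial]; omega
  obtain ⟨a, b, hab⟩ := exists_pair_ne X
  obtain ⟨n₀, hn₀⟩ := exists_smul_eq N a b
  have hn₀2 : (n₀ : G) * (n₀ : G) = 1 := by
    have := hsq n₀ n₀.2
    rwa [pow_two] at this
  have hn₀b : (n₀ : G) • b = a := by
    rw [← hn₀]
    show (n₀ : G) • ((n₀ : G) • a) = a
    rw [← mul_smul, hn₀2, one_smul]
  have hn₀a : (n₀ : G) • a = b := hn₀
  set s : Set X := {a, b} with hs
  have hsc : s.encard + 1 = ((3 : ℕ) : ℕ∞) := by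
    rw [hs, Set.encard_pair hab]; norm_num
  have hprim := h3.isPreprimitive_ofFixingSubgroup hsc
  have hmem : ∀ x : SubMulAction.ofFixingSubgroup G s,
      (n₀ : G) • x.1 ∈ SubMulAction.ofFixingSubgroup G s := by
    intro x
    rw [SubMulAction.mem_ofFixingSubgroup_iff]
    have hx : x.1 ∉ s := x.2
    intro h
    apply hx
    rcases h with h | h
    · right
      rw [← hn₀b] at h
      exact MulAction.injective _ h
    · left
      have h' : (n₀ : G) • x.1 = b := h
      rw [← hn₀a] at h'
      exact MulAction.injective _ h'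
  let ψ : SubMulAction.ofFixingSubgroup G s → SubMulAction.ofFixingSubgroup G s :=
    fun x => ⟨(n₀ : G) • x.1, hmem x⟩
  have hψ : ∀ y, ψ (ψ y) = y := by
    intro y
    apply Subtype.ext
    show (n₀ : G) • ((n₀ : G) • y.1) = y.1
    rw [← mul_smul, hn₀2, one_smul]
  have heq : ∀ (g : fixingSubgroup G s) (y : SubMulAction.ofFixingSubgroup G s),
      ψ (g • y) = g • ψ y := by
    intro g y
    apply Subtype.ext
    show (n₀ : G) • ((g : G) • y.1) = (g : G) • ((n₀ : G) • y.1)
    have hg := (mem_fixingSubgroup_iff G).mp g.2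
    have hga : (g : G) • a = a := hg a (by simp [hs])
    have hgb : (g : G) • b = b := hg b (by simp [hs])
    have hga' : (g : G)⁻¹ • a = a := by rw [inv_smul_eq_iff, hga]
    let n' : N := ⟨(g : G) * (n₀ : G) * (g : G)⁻¹, hN.conj_mem _ n₀.2 _⟩
    have hn' : n' • a = n₀ • a := by
      show ((g : G) * (n₀ : G) * (g : G)⁻¹) • a = (n₀ : G) • a
      rw [mul_smul, mul_smul, hga', hn₀a, hgb]
    have h1 := reg_unique N hreg hn'
    have h2 : (g : G) * (n₀ : G) * (g : G)⁻¹ = (n₀ : G) := congrArg Subtype.val h1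
    have h3 : (g : G) * (n₀ : G) = (n₀ : G) * (g : G) := by
      calc (g : G) * (n₀ : G) = ((g : G) * (n₀ : G) * (g : G)⁻¹) * (g : G) := by group
        _ = (n₀ : G) * (g : G) := by rw [h2]
    rw [← mul_smul, ← mul_smul, h3]
  have hcard : s.ncard + sᶜ.ncard = Nat.card X := Set.ncard_add_ncard_compl s
  have hs2 : s.ncard = 2 := by rw [hs]; exact Set.ncard_pair hab
  have hYc : Nat.card (SubMulAction.ofFixingSubgroup G s) = sᶜ.ncard := by
    rw [← Nat.card_coe_set_eq]; rfl
  rcases involution_trivial_or_card_two ψ hψ heq with h | h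
  · exfalso
    have hpos : 0 < sᶜ.ncard := by omega
    obtain ⟨x, hx⟩ := (Set.ncard_pos).mp hpos
    have := congrArg Subtype.val (h ⟨x, hx⟩)
    have hfix : (n₀ : G) • x = x := this
    have hmem' : n₀ ∈ stabilizer N x := hfix
    rw [hreg x, Subgroup.mem_bot] at hmem'
    apply hab
    rw [← hn₀, hmem', one_smul]
  · omega

theorem exp_two_comm {K : Type*} [Group K] (h : ∀ x : K, x ^ 2 = 1) (x y : K) : x * y = y * x := by
  have hx := h x
  have hy := h y
  have hxy := h (x * y)
  rw [pow_two] at hx hy hxy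
  have h1 : x⁻¹ = x := inv_eq_of_mul_eq_one_left hx
  have h2 : y⁻¹ = y := inv_eq_of_mul_eq_one_left hy
  have h3 : (x * y)⁻¹ = x * y := inv_eq_of_mul_eq_one_left hxy
  rw [← h3, mul_inv_rev, h1, h2]

end Reg

end Cfsg.Agent.Helper59
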