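import Mathlib
import Cfsg.Agent.Lib.Helper2.SR0

set_option autoImplicit false

namespace Cfsg.Agent.Helper59.SR

open Matrix Cfsg Cfsg.Agent.Helper13 Cfsg.Agent.Helper84.SpRoot Cfsg.Agent.Helper5.SpAut
open Cfsg.Agent.Helper2.SR

section G
variable {F : Type*} [Field F] {n : ℕ}

/-- (G1) two applications of `Cfsg.Agent.Helper13.transvGroup_pairs` (as in `exists_symp_fix_orth`) -/
theorem exists_frame4 {a b c d a' b' c' d' : Fin n ⊕ Fin n → F}
    (hab : Cfsg.sympForm n F a b = 1) (hcd : Cfsg.sympForm n F c d = 1)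
    (hac : Cfsg.sympForm n F a c = 0) (had : Cfsg.sympForm n F a d = 0)
    (hbc : Cfsg.sympForm n F b c = 0) (hbd : Cfsg.sympForm n F b d = 0)
    (hab' : Cfsg.sympForm n F a' b' = 1) (hcd' : Cfsg.sympForm n F c' d' = 1)
    (hac' : Cfsg.sympForm n F a' c' = 0) (had' : Cfsg.sympForm n F a' d' = 0)
    (hbc' : Cfsg.sympForm n F b' c' = 0) (hbd' : Cfsg.sympForm n F b' d' = 0) :
    ∃ h : Matrix.symplecticGroup (Fin n) F,
      h.val *ᵥ a = a' ∧ h.val *ᵥ b = b' ∧ h.val *ᵥ c = c' ∧ h.val *ᵥ d = d' := by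
  obtain ⟨A₁, -, hA₁a, hA₁b⟩ := transvGroup_pairs (⊤ : Submodule F (Fin n ⊕ Fin n → F))
    (Submodule.mem_top) (Submodule.mem_top) (Submodule.mem_top) (Submodule.mem_top) hab hab'
  set c₁ := A₁.val *ᵥ c with hc₁
  set d₁ := A₁.val *ᵥ d with hd₁
  have hc₁W : c₁ ∈ perp2 a' b' := by
    constructor
    · rw [sympForm_swap, ← hA₁a, hc₁, sympForm_mulVec A₁.2, hac, neg_zero]
    · rw [sympForm_swap, ← hA₁b, hc₁, sympForm_mulVec A₁.2, hbc, neg_zero]
  have hd₁W : d₁ ∈ perp2 a' b' := by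
    constructor
    · rw [sympForm_swap, ← hA₁a, hd₁, sympForm_mulVec A₁.2, had, neg_zero]
    · rw [sympForm_swap, ← hA₁b, hd₁, sympForm_mulVec A₁.2, hbd, neg_zero]
  have hc'W : c' ∈ perp2 a' b' := by
    constructor
    · rw [sympForm_swap, hac', neg_zero]
    · rw [sympForm_swap, hbc', neg_zero]
  have hd'W : d' ∈ perp2 a' b' := by
    constructor
    · rw [sympForm_swap, had', neg_zero]
    · rw [sympForm_swap, hbd', neg_zero]
  have hc₁d₁ : Cfsg.sympForm n F c₁ d₁ = 1 := by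
    rw [hc₁, hd₁, sympForm_mulVec A₁.2, hcd]
  obtain ⟨B, hB, hBc, hBd⟩ := transvGroup_pairs (perp2 a' b') hc₁W hd₁W hc'W hd'W hc₁d₁ hcd'
  have hBa : B.val *ᵥ a' = a' := by
    apply transvGroup_fix _ hB
    intro x hx
    rw [sympForm_swap, hx.1, neg_zero]
  have hBb : B.val *ᵥ b' = b' := by
    apply transvGroup_fix _ hB
    intro x hx
    rw [sympForm_swap, hx.2, neg_zero]
  refine ⟨B * A₁, ?_, ?_, ?_, ?_⟩
  · rw [Submonoid.coe_mul, ← Matrix.mulVec_mulVec, hA₁a, hBa]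
  · rw [Submonoid.coe_mul, ← Matrix.mulVec_mulVec, hA₁b, hBb]
  · rw [Submonoid.coe_mul, ← Matrix.mulVec_mulVec, ← hc₁, hBc]
  · rw [Submonoid.coe_mul, ← Matrix.mulVec_mulVec, ← hd₁, hBd]

end G

end Cfsg.Agent.Helper59.SR
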