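import Mathlib
import Cfsg.Agent.Lib.Helper2.SR0
import Cfsg.Agent.Lib.Helper59.SRG1
import Cfsg.Agent.Lib.Helper59.SRC0

set_option autoImplicit false

namespace Cfsg.Agent.Helper59.SR

open Matrix Cfsg Cfsg.Agent.Helper13 Cfsg.Agent.Helper84.SpRoot Cfsg.Agent.Helper5.SpAut
open Cfsg.Agent.Helper2.SR

section C
variable {F : Type*} [Field F] {m : ℕ}

theorem be_inl (i j : Fin (m + 2)) : (be i : Fin (m + 2) ⊕ Fin (m + 2) → F) (Sum.inl j) =
    if j = i then 1 else 0 := by
  unfold be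
  rw [Pi.single_apply]
  simp only [Sum.inl.injEq]

theorem be_inr (i j : Fin (m + 2)) : (be i : Fin (m + 2) ⊕ Fin (m + 2) → F) (Sum.inr j) = 0 := by
  unfold be
  rw [Pi.single_apply]
  simp

theorem bf_inl (i j : Fin (m + 2)) : (bf i : Fin (m + 2) ⊕ Fin (m + 2) → F) (Sum.inl j) = 0 := by
  unfold bf
  rw [Pi.single_apply]
  simp

theorem bf_inr (i j : Fin (m + 2)) : (bf i : Fin (m + 2) ⊕ Fin (m + 2) → F) (Sum.inr j) =
    if j = i then 1 else 0 := by
  unfold bf
  rw [Pi.single_apply]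
  simp only [Sum.inr.injEq]

theorem form_be_be (i j : Fin (m + 2)) :
    Cfsg.sympForm (m + 2) F (be i) (be j) = 0 := by
  rw [(form_basis (be i) j).1, be_inr]

theorem form_bf_bf (i j : Fin (m + 2)) :
    Cfsg.sympForm (m + 2) F (bf i) (bf j) = 0 := by
  rw [(form_basis (bf i) j).2.1, bf_inl, neg_zero]

theorem form_bf_be (i j : Fin (m + 2)) :
    Cfsg.sympForm (m + 2) F (bf i) (be j) = if i = j then 1 else 0 := by
  rw [(form_basis (be j) i).2.2.2, be_inl]

theorem form_be_bf (i j : Fin (m + 2)) :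
    Cfsg.sympForm (m + 2) F (be i) (bf j) = if i = j then -1 else 0 := by
  rw [(form_basis (bf j) i).2.2.1, bf_inr]
  split_ifs <;> simp

theorem jA_ne_jB : (jA : Fin (m + 2)) ≠ jB := by
  simp [jA, jB, Fin.ext_iff]

/-- (C9) uses G1 C0 -/
theorem exists_h : ∃ h : Matrix.symplecticGroup (Fin (m + 2)) F,
    h.val *ᵥ bf jA = be 0 ∧ h.val *ᵥ bf jB = be 0 - be 1 ∧
    h.val *ᵥ be jB = bf 1 ∧ h.val *ᵥ be jA = - bf 0 - bf 1 := by
  have h01 : (0 : Fin (m + 2)) ≠ 1 := Fin.zero_ne_one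
  have h10 : (1 : Fin (m + 2)) ≠ 0 := h01.symm
  have hAB : (jA : Fin (m + 2)) ≠ jB := jA_ne_jB
  have hBA : (jB : Fin (m + 2)) ≠ jA := hAB.symm
  obtain ⟨h, h1, h2, h3, h4⟩ := exists_frame4 (F := F) (n := m + 2)
    (a := bf jA) (b := be jA) (c := bf jB) (d := be jB)
    (a' := be 0) (b' := - bf 0 - bf 1) (c' := be 0 - be 1) (d' := bf 1)
    (by rw [form_bf_be, if_pos rfl])
    (by rw [form_bf_be, if_pos rfl])
    (by rw [form_bf_bf])
    (by rw [form_bf_be, if_neg hAB])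
    (by rw [form_be_bf, if_neg hAB])
    (by rw [form_be_be])
    (by rw [sympForm_sub_right, sympForm_neg_right, form_be_bf, form_be_bf, if_pos rfl,
          if_neg h01]; ring)
    (by rw [sympForm_sub_left, form_be_bf, form_be_bf, if_pos rfl, if_neg h01]; ring)
    (by rw [sympForm_sub_right, form_be_be, form_be_be]; ring)
    (by rw [form_be_bf, if_neg h01])
    (by rw [sympForm_sub_left, sympForm_neg_left, sympForm_sub_right, sympForm_sub_right,
          form_bf_be, form_bf_be, form_bf_be, form_bf_be, if_pos rfl, if_pos rfl,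
          if_neg h01, if_neg h10]; ring)
    (by rw [sympForm_sub_left, sympForm_neg_left, form_bf_bf, form_bf_bf]; ring)
  exact ⟨h, h1, h3, h4, h2⟩

end C

end Cfsg.Agent.Helper59.SR
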