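import Mathlib
import Cfsg.Agent.Lib.Helper59.Derangement

set_option autoImplicit false

namespace Cfsg.Agent.Helper59

open MulAction

section SharpTwo

variable {H X : Type*} [Group H] [MulAction H X]

theorem sharp_trans (h2t : ∀ a b c d : X, a ≠ b → c ≠ d → ∃ g : H, g • a = c ∧ g • b = d)
    [Finite X] (hX : 2 ≤ Nat.card X) : IsPretransitive H X := by
  constructor
  intro a c
  have hnt : Nontrivial X := by
    rw [← Finite.one_lt_card_iff_nontrivial]; omega
  obtain ⟨b, hb⟩ := exists_ne a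
  obtain ⟨d, hd⟩ := exists_ne c
  obtain ⟨g, hg, _⟩ := h2t a b c d hb.symm hd.symm
  exact ⟨g, hg⟩

/-- number of derangements in a sharply 2-transitive group is `n - 1` -/
theorem sharp_card_der (h2t : ∀ a b c d : X, a ≠ b → c ≠ d → ∃ g : H, g • a = c ∧ g • b = d)
    (hsh : ∀ (g : H) (a b : X), a ≠ b → g • a = a → g • b = b → g = 1)
    [Finite H] [Finite X] (hX : 2 ≤ Nat.card X) :
    Nat.card {g : H // ∀ a : X, g • a ≠ a} + 1 = Nat.card X := by
  classical
  have := Fintype.ofFinite H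
  have htrans : IsPretransitive H X := sharp_trans h2t hX
  have hne : Nonempty X := by
    by_contra h
    rw [not_nonempty_iff] at h
    simp [Nat.card_of_isEmpty] at hX
  have hG1 : Nat.card (orbitRel.Quotient H X) = 1 := by
    have : Unique (orbitRel.Quotient H X) :=
      (pretransitive_iff_unique_quotient_of_nonempty H X).mp htrans |>.some
    exact Nat.card_unique
  have hB := burnside_natCard (G := H) (X := X)
  rw [hG1, one_mul] at hB
  have hpt : ∀ g : H, Nat.card (fixedBy X g) + (if (∀ a : X, g • a ≠ a) then 1 else 0)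
      = 1 + (if g = 1 then Nat.card X - 1 else 0) := by
    intro g
    by_cases hg1 : g = 1
    · subst hg1
      have hnd : ¬ (∀ a : X, (1:H) • a ≠ a) := by
        intro h
        obtain ⟨a⟩ := hne
        exact h a (one_smul _ _)
      rw [if_neg hnd, if_pos rfl]
      have : Nat.card (fixedBy X (1:H)) = Nat.card X := by
        rw [fixedBy_one_eq_univ]
        exact Nat.card_congr (Equiv.Set.univ X)
      omega
    · rw [if_neg hg1]
      by_cases hd : ∀ a : X, g • a ≠ a
      · rw [if_pos hd]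
        have : IsEmpty (fixedBy X g) := ⟨fun ⟨a, ha⟩ => hd a ha⟩
        simp [Nat.card_of_isEmpty]
      · rw [if_neg hd]
        have h1 := card_fixedBy_pos_of_not_der hd
        have h2 : Nat.card (fixedBy X g) ≤ 1 := by
          have : Subsingleton (fixedBy X g) := ⟨fun ⟨a, ha⟩ ⟨b, hb⟩ => by
            by_contra hab
            apply hg1
            exact hsh g a b (fun h => hab (Subtype.ext h)) ha hb⟩
          exact Finite.card_le_one_iff_subsingleton.mpr this
        omega
  have hsum := Finset.sum_congr (rfl : (Finset.univ : Finset H) = Finset.univ) (fun g _ => hpt g)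
  rw [Finset.sum_add_distrib, Finset.sum_add_distrib, hB] at hsum
  rw [Finset.sum_boole, Finset.sum_ite_eq' ] at hsum
  simp only [Finset.mem_univ, if_true, Finset.sum_const, Finset.card_univ, smul_eq_mul, mul_one] at hsum
  rw [Nat.card_eq_fintype_card (α := {g : H // ∀ a : X, g • a ≠ a}), Fintype.card_subtype]
  rw [Nat.card_eq_fintype_card (α := H)] at hsum
  push_cast at hsum
  omega

theorem der_conj {g : H} (hg : ∀ a : X, g • a ≠ a) (h : H) : ∀ a : X, (h * g * h⁻¹) • a ≠ a := by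
  intro a ha
  apply hg (h⁻¹ • a)
  rw [mul_smul, mul_smul] at ha
  exact (smul_eq_iff_eq_inv_smul _).mp ha

theorem der_inv {g : H} (hg : ∀ a : X, g • a ≠ a) : ∀ a : X, g⁻¹ • a ≠ a := by
  intro a ha
  apply hg a
  rw [inv_smul_eq_iff] at ha
  exact ha.symm

/-- evaluation of derangements at `c` hits every `d ≠ c` -/
theorem sharp_ev_surj (h2t : ∀ a b c d : X, a ≠ b → c ≠ d → ∃ g : H, g • a = c ∧ g • b = d)
    (hsh : ∀ (g : H) (a b : X), a ≠ b → g • a = a → g • b = b → g = 1)
    [Finite H] [Finite X] (hX : 2 ≤ Nat.card X) (c d : X) (hdc : d ≠ c) :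
    ∃ k : H, (∀ a : X, k • a ≠ a) ∧ k • c = d := by
  have hcard := sharp_card_der h2t hsh hX
  have : Nonempty {g : H // ∀ a : X, g • a ≠ a} := by
    rw [← Finite.card_pos_iff]; omega
  obtain ⟨⟨k₀, hk₀⟩⟩ := this
  obtain ⟨h, hc, he⟩ := h2t c (k₀ • c) c d (hk₀ c).symm hdc.symm
  refine ⟨h * k₀ * h⁻¹, der_conj hk₀ h, ?_⟩
  have hc' : h⁻¹ • c = c := by rw [inv_smul_eq_iff, hc]
  rw [mul_smul, mul_smul, hc', he]

/-- evaluation of derangements at `c` is injective -/
theorem sharp_ev_inj (h2t : ∀ a b c d : X, a ≠ b → c ≠ d → ∃ g : H, g • a = c ∧ g • b = d)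
    (hsh : ∀ (g : H) (a b : X), a ≠ b → g • a = a → g • b = b → g = 1)
    [Finite H] [Finite X] (hX : 2 ≤ Nat.card X) (c : X) {k k' : H}
    (hk : ∀ a : X, k • a ≠ a) (hk' : ∀ a : X, k' • a ≠ a) (h : k • c = k' • c) : k = k' := by
  classical
  have hcard := sharp_card_der h2t hsh hX
  let ev : {g : H // ∀ a : X, g • a ≠ a} → {d : X // d ≠ c} := fun g => ⟨g.1 • c, g.2 c⟩
  have hsurj : Function.Surjective ev := by
    rintro ⟨d, hd⟩
    obtain ⟨k, hk, hkc⟩ := sharp_ev_surj h2t hsh hX c d hd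
    exact ⟨⟨k, hk⟩, Subtype.ext hkc⟩
  have hc2 : Nat.card {d : X // d ≠ c} + 1 = Nat.card X := by
    have := Fintype.ofFinite X
    rw [Nat.card_eq_fintype_card, Nat.card_eq_fintype_card, Fintype.card_subtype_compl,
      Fintype.card_subtype_eq]
    have : 0 < Fintype.card X := Fintype.card_pos_iff.mpr ⟨c⟩
    omega
  have hbij := hsurj.bijective_of_nat_card_le (by omega)
  have := hbij.1 (a₁ := ⟨k, hk⟩) (a₂ := ⟨k', hk'⟩) (Subtype.ext h)
  exact congrArg Subtype.val this

/-- the Frobenius kernel of a sharply 2-transitive group -/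
def sharpKernel (h2t : ∀ a b c d : X, a ≠ b → c ≠ d → ∃ g : H, g • a = c ∧ g • b = d)
    (hsh : ∀ (g : H) (a b : X), a ≠ b → g • a = a → g • b = b → g = 1)
    [Finite H] [Finite X] (hX : 2 ≤ Nat.card X) : Subgroup H where
  carrier := {g | g = 1 ∨ ∀ a : X, g • a ≠ a}
  one_mem' := Or.inl rfl
  inv_mem' := by
    rintro g (rfl | hg)
    · left; simp
    · right; exact der_inv hg
  mul_mem' := by
    rintro k k' (rfl | hk) (rfl | hk')
    · left; simp
    · right; simpa using hk'
    · right; simpa using hk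
    · by_cases h1 : k * k' = 1
      · left; exact h1
      · right
        intro c hc
        apply h1
        rw [mul_smul] at hc
        have : k' • c = k⁻¹ • c := by rw [eq_inv_smul_iff]; exact hc
        have := sharp_ev_inj h2t hsh hX c hk' (der_inv hk) this
        rw [this]; simp

theorem mem_sharpKernel (h2t : ∀ a b c d : X, a ≠ b → c ≠ d → ∃ g : H, g • a = c ∧ g • b = d)
    (hsh : ∀ (g : H) (a b : X), a ≠ b → g • a = a → g • b = b → g = 1)
    [Finite H] [Finite X] (hX : 2 ≤ Nat.card X) (g : H) :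
    g ∈ sharpKernel h2t hsh hX ↔ g = 1 ∨ ∀ a : X, g • a ≠ a := Iff.rfl

instance sharpKernel_normal (h2t : ∀ a b c d : X, a ≠ b → c ≠ d → ∃ g : H, g • a = c ∧ g • b = d)
    (hsh : ∀ (g : H) (a b : X), a ≠ b → g • a = a → g • b = b → g = 1)
    [Finite H] [Finite X] (hX : 2 ≤ Nat.card X) : (sharpKernel h2t hsh hX).Normal := by
  constructor
  rintro g (rfl | hg) h
  · left; simp
  · right; exact der_conj hg h

theorem sharp_conj (h2t : ∀ a b c d : X, a ≠ b → c ≠ d → ∃ g : H, g • a = c ∧ g • b = d)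
    (hsh : ∀ (g : H) (a b : X), a ≠ b → g • a = a → g • b = b → g = 1)
    [Finite H] [Finite X] (hX : 2 ≤ Nat.card X) {k k' : H}
    (hk : ∀ a : X, k • a ≠ a) (hk' : ∀ a : X, k' • a ≠ a) : ∃ h : H, k' = h * k * h⁻¹ := by
  have hne : Nonempty X := by
    by_contra h
    rw [not_nonempty_iff] at h
    simp [Nat.card_of_isEmpty] at hX
  obtain ⟨a⟩ := hne
  obtain ⟨h, ha, hb⟩ := h2t a (k • a) a (k' • a) (hk a).symm (hk' a).symm
  refine ⟨h, ?_⟩
  apply sharp_ev_inj h2t hsh hX a hk' (der_conj hk h)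
  have ha' : h⁻¹ • a = a := by rw [inv_smul_eq_iff, ha]
  rw [mul_smul, mul_smul, ha', hb]

theorem sharp_main (h2t : ∀ a b c d : X, a ≠ b → c ≠ d → ∃ g : H, g • a = c ∧ g • b = d)
    (hsh : ∀ (g : H) (a b : X), a ≠ b → g • a = a → g • b = b → g = 1)
    [Finite H] [Finite X] (hX : 2 ≤ Nat.card X) :
    ∃ p j : ℕ, p.Prime ∧ 1 ≤ j ∧ Nat.card X = p ^ j ∧ ∀ (hp : Fact p.Prime) (P : Sylow p H),
      (P : Subgroup H).Normal ∧ IsMulCommutative (P : Subgroup H) ∧
      (∀ x ∈ (P : Subgroup H), x ^ p = 1) ∧ MulAction.IsPretransitive (P : Subgroup H) X ∧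
      (∀ a : X, MulAction.stabilizer (P : Subgroup H) a = ⊥) ∧
      ∀ g : H, g ∈ (P : Subgroup H) ↔ g = 1 ∨ ∀ a : X, g • a ≠ a := by
  classical
  set K := sharpKernel h2t hsh hX with hK
  have hne : Nonempty X := by
    by_contra h
    rw [not_nonempty_iff] at h
    simp [Nat.card_of_isEmpty] at hX
  have hKtrans : IsPretransitive K X := by
    constructor
    intro a c
    by_cases hac : c = a
    · exact ⟨1, by rw [one_smul, hac]⟩
    · obtain ⟨k, hk, hkc⟩ := sharp_ev_surj h2t hsh hX a c hac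
      exact ⟨⟨k, Or.inr hk⟩, hkc⟩
  have hKstab : ∀ a : X, stabilizer K a = ⊥ := by
    intro a
    rw [Subgroup.eq_bot_iff_forall]
    rintro ⟨g, hg⟩ hga
    rcases hg with rfl | hg
    · rfl
    · exact absurd hga (hg a)
  have hKcard : Nat.card K = Nat.card X := by
    obtain ⟨a⟩ := hne
    have h1 : (stabilizer K a).index = Nat.card X := index_stabilizer_of_transitive K a
    rw [hKstab a, Subgroup.index_bot] at h1
    exact h1
  have hK1 : Nat.card K ≠ 1 := by omega
  obtain ⟨p, hp, hpd⟩ := Nat.exists_prime_and_dvd hK1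
  have hpf : Fact p.Prime := ⟨hp⟩
  obtain ⟨k₀, hk₀⟩ := exists_prime_orderOf_dvd_card' p hpd
  have hk₀1 : (k₀ : H) ≠ 1 := by
    intro h
    have : k₀ = 1 := Subtype.ext h
    rw [this, orderOf_one] at hk₀
    exact hp.one_lt.ne hk₀
  have hk₀d : ∀ a : X, (k₀ : H) • a ≠ a := by
    rcases k₀.2 with h | h
    · exact absurd h hk₀1
    · exact h
  have hk₀p : (k₀ : H) ^ p = 1 := by
    have := pow_orderOf_eq_one k₀
    rw [hk₀] at this
    exact_mod_cast congrArg Subtype.val this
  have hexp : ∀ x ∈ K, x ^ p = 1 := by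
    rintro x (rfl | hx)
    · simp
    · obtain ⟨h, rfl⟩ := sharp_conj h2t hsh hX hk₀d hx
      rw [conj_pow, hk₀p]; simp
  have hKp : IsPGroup p K := fun g => ⟨1, by
    rw [pow_one]; exact Subtype.ext (by simpa using hexp g g.2)⟩
  obtain ⟨j, hj⟩ := IsPGroup.iff_card.mp hKp
  have hj1 : 1 ≤ j := by
    rcases Nat.eq_zero_or_pos j with h | h
    · rw [h, pow_zero] at hj; exact absurd hj hK1
    · exact h
  have hKnt : Nontrivial K := by
    rw [← Finite.one_lt_card_iff_nontrivial]; omega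
  have hcen := hKp.center_nontrivial
  obtain ⟨⟨z, hz⟩, hz1⟩ := exists_ne (1 : Subgroup.center K)
  have hz1' : (z : H) ≠ 1 := by
    intro h
    apply hz1
    exact Subtype.ext (Subtype.ext h)
  have hzd : ∀ a : X, (z : H) • a ≠ a := by
    rcases z.2 with h | h
    · exact absurd h hz1'
    · exact h
  have hzc : ∀ y ∈ K, (z : H) * y = y * z := by
    intro y hy
    have := (Subgroup.mem_center_iff.mp hz) ⟨y, hy⟩
    exact (congrArg Subtype.val this).symm
  have hKcomm : ∀ x ∈ K, ∀ y ∈ K, x * y = y * x := by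
    rintro x (rfl | hx) y hy
    · simp
    · obtain ⟨h, rfl⟩ := sharp_conj h2t hsh hX hzd hx
      have hy' : h⁻¹ * y * h ∈ K := by
        have := (sharpKernel_normal h2t hsh hX).conj_mem y hy h⁻¹
        simpa using this
      have := hzc _ hy'
      calc h * z * h⁻¹ * y = h * (z * (h⁻¹ * y * h)) * h⁻¹ := by group
        _ = h * ((h⁻¹ * y * h) * z) * h⁻¹ := by rw [this]
        _ = y * (h * z * h⁻¹) := by group
  refine ⟨p, j, hp, hj1, by rw [← hKcard, hj], ?_⟩
  intro hp' P
  have hKP : K ≤ P := hKp.le_sylow_of_normal P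
  have hPK : (P : Subgroup H) = K := by
    apply le_antisymm _ hKP
    intro g hg
    by_contra hgK
    have hg1 : g ≠ 1 := fun h => hgK (Or.inl h)
    have hgd : ¬ ∀ a : X, g • a ≠ a := fun h => hgK (Or.inr h)
    simp only [ne_eq, not_forall, not_not] at hgd
    obtain ⟨a, ha⟩ := hgd
    have hS : IsPGroup p (stabilizer (P : Subgroup H) a) := P.isPGroup'.to_subgroup _
    have hpX : p ∣ Nat.card X := by rw [← hKcard, hj]; exact dvd_pow_self p (by omega)
    have hafix : a ∈ fixedPoints (stabilizer (P : Subgroup H) a) X := by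
      intro s
      exact s.2
    obtain ⟨b, hb, hab⟩ := hS.exists_fixed_point_of_prime_dvd_card_of_fixed_point X hpX hafix
    have hgb : g • b = b := hb ⟨⟨g, hg⟩, ha⟩
    exact hg1 (hsh g a b hab ha hgb)
  rw [hPK]
  refine ⟨sharpKernel_normal h2t hsh hX, ⟨⟨fun x y => Subtype.ext (hKcomm x x.2 y y.2)⟩⟩, hexp,
    hKtrans, hKstab, fun g => Iff.rfl⟩

end SharpTwo

end Cfsg.Agent.Helper59
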