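import Cfsg.Agent.Lib.Helper39.StbDefs
import Cfsg.Agent.Lib.Helper59.WeylGlue
import Cfsg.Prelude.Def_ParabolicCharacters

/-!
# STB piece (G3a): the order of a parabolic subgroup (helper39's server, S2327)
-/

set_option autoImplicit false
set_option linter.unusedSectionVars false

namespace Cfsg.Agent.Helper59.Stb

open Cfsg Cfsg.Agent.Helper6 Cfsg.Agent.Helper6.Weyl Cfsg.Agent.Helper59.Poincare Cfsg.Agent.Helper39.Stb Matrix

section Group

variable {G : Type*} [Group G] (P : Cfsg.BNPair G) {l : ℕ} (V : VDatum l)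
  (ψ : P.N →* V.Wf)
  (hker : ∀ n : P.N, ψ n = 1 ↔ (n : G) ∈ P.B)
  (hS : ∀ s (hs : s ∈ P.S), ∃ i, ψ ⟨s, P.subset hs⟩ = V.σ i)
  (hS' : ∀ i, ∃ s, ∃ hs : s ∈ P.S, ψ ⟨s, P.subset hs⟩ = V.σ i)
variable (J : Fin l → Prop) [DecidablePred J] (T : Set G) (hT : T ⊆ P.S)

include hker hS hS' in
/-- (G3a) the order of a parabolic subgroup -/
theorem card_parabolic_aux [Finite G]
    (h1 : ∀ n (hn : n ∈ Subgroup.closure T),
      ((ψ ⟨n, closure_le_N P hT hn⟩ : V.Wf) : (Mat l)ˣ) ∈ V.W J)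
    (h2 : ∀ w ∈ V.W J, ∃ n, ∃ hn : n ∈ Subgroup.closure T,
      ((ψ ⟨n, closure_le_N P hT hn⟩ : V.Wf) : (Mat l)ˣ) = w)
    {q : ℕ} (hq : ∀ s ∈ P.S, Nat.card (C P s) = q * Nat.card P.B) :
    Nat.card ↥(P.parabolic T) =
      Nat.card P.B * ∑ᶠ w : V.W J, q ^ V.nJ VDatum.allJ ((w : V.W J) : (Mat l)ˣ) := by
  classical
  haveI := finite_W V J
  letI : Fintype (V.W J) := Fintype.ofFinite _
  -- lifts of the elements of `W_J`
  choose ν hνT hνψ using fun w : V.W J => h2 w.1 w.2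
  have hνN : ∀ w, ν w ∈ P.N := fun w => closure_le_N P hT (hνT w)
  -- two elements of `N` with the same image under `ψ` are congruent modulo `B`
  have hcongr : ∀ n n' : P.N, ψ n = ψ n' → (n : G)⁻¹ * (n' : G) ∈ P.B := by
    intro n n' h
    have : ψ (n⁻¹ * n') = 1 := by rw [map_mul, map_inv, h, inv_mul_cancel]
    exact (hker _).1 this
  have hbij : Function.Bijective
      (fun p : (Σ w : V.W J, C P (ν w)) => (⟨p.2.1,
        (mem_parabolic_iff P hT _).2 ⟨ν p.1, hνT p.1, p.2.2⟩⟩ : ↥(P.parabolic T))) := by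
    constructor
    · rintro ⟨w, x, hx⟩ ⟨w', x', hx'⟩ h
      have hxx : x = x' := congrArg (fun z : ↥(P.parabolic T) => (z : G)) h
      subst hxx
      have hB := bruhat_unique P (hνN w) (hνN w') (C_eq_of_mem_of_mem P hx hx')
      have h3 : ψ (⟨ν w, hνN w⟩⁻¹ * ⟨ν w', hνN w'⟩) = 1 := (hker _).2 hB
      rw [map_mul, map_inv, inv_mul_eq_one] at h3
      have hww : w = w' := by
        apply Subtype.ext
        rw [← hνψ w, ← hνψ w']
        exact congrArg (fun z : V.Wf => (z : (Mat l)ˣ)) h3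
      subst hww
      rfl
    · rintro ⟨g, hg⟩
      obtain ⟨n, hn, hgn⟩ := (mem_parabolic_iff P hT g).1 hg
      set w : V.W J := ⟨_, h1 n hn⟩ with hw
      have hψ : ψ ⟨ν w, hνN w⟩ = ψ ⟨n, closure_le_N P hT hn⟩ := by
        apply Subtype.ext
        rw [hνψ w]
      have hB := hcongr _ _ hψ
      refine ⟨⟨w, g, ?_⟩, rfl⟩
      rw [C_congr P hB]
      exact hgn
  calc Nat.card ↥(P.parabolic T) = Nat.card (Σ w : V.W J, C P (ν w)) :=
        (Nat.card_congr (Equiv.ofBijective _ hbij)).symm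
    _ = ∑ w : V.W J, Nat.card (C P (ν w)) := Nat.card_sigma
    _ = ∑ w : V.W J, q ^ V.nJ VDatum.allJ ((w : V.W J) : (Mat l)ˣ) * Nat.card P.B := by
        apply Finset.sum_congr rfl
        intro w _
        rw [Cfsg.Agent.Helper59.BNCount.card_C P hq _ _ (hνN w) rfl,
          Cfsg.Agent.Helper59.WeylGlue.len_eq_nJ P V ψ hker hS hS' ⟨ν w, hνN w⟩, hνψ w]
    _ = Nat.card P.B * ∑ᶠ w : V.W J, q ^ V.nJ VDatum.allJ ((w : V.W J) : (Mat l)ˣ) := by
        rw [finsum_eq_sum_of_fintype, Finset.mul_sum]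
        exact Finset.sum_congr rfl (fun w _ => by ring)

end Group

end Cfsg.Agent.Helper59.Stb
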