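import Mathlib
import Cfsg.Prelude.Def_Local
import Cfsg.Agent.Lib.Helper89.TH1Defs
import Cfsg.Agent.Lib.Helper81.TH1BDefs

/-!
# TH1-B piece (IV) `iv` (helper81's sub-server, S3797)
-/

set_option autoImplicit false

namespace Cfsg.Agent.Helper59.TH1B

open Cfsg Subgroup Cfsg.Agent.Helper89.TH1 Cfsg.Agent.Helper81.TH1B
open scoped commutatorElement

universe u

variable {G : Type u} [Group G] [Finite G] {W Y K₁ E Q₀ N : Subgroup G}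

/-- `⁅u⁻¹, v⁆ = ⁅u, v⁆⁻¹` in `Y` -/
theorem h59_comm_inv_left (hC : Core G W Y K₁ E Q₀ N) {u v : G} (hu : u ∈ Y) (hv : v ∈ Y) :
    ⁅u⁻¹, v⁆ = (⁅u, v⁆)⁻¹ := by
  have h := comm_mul_left' hC (Y.inv_mem hu) hu hv
  rw [inv_mul_cancel, commutatorElement_one_left] at h
  exact eq_inv_of_mul_eq_one_left h.symm

/-- the elements `x * x^e` (`e ∈ E`) commute pairwise -/
theorem h59_ucomm (hC : Core G W Y K₁ E Q₀ N) (hQ : Q₀ ≤ kerM W Y) {e : G} (he : e ∈ E)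
    {x z : G} (hx : x ∈ Y) (hz : z ∈ Y) :
    ⁅x * (e * x * e⁻¹), z * (e * z * e⁻¹)⁆ = 1 := by
  have heA := E_le_actG hC he
  have hx' : e * x * e⁻¹ ∈ Y := conj_mem_of_mem_actG heA hx
  have hz' : e * z * e⁻¹ ∈ Y := conj_mem_of_mem_actG heA hz
  rw [comm_mul_left' hC hx hx' (Y.mul_mem hz hz'), comm_mul_right' hC hx hz hz',
    comm_mul_right' hC hx' hz hz', comm_conj hC heA hx hz]
  have h1 : ⁅e * x * e⁻¹, z⁆ = ⁅x, e * z * e⁻¹⁆ := by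
    have h2 := comm_conj hC heA hx' hz
    have h3 : e * (e * x * e⁻¹) * e⁻¹ = ⁅e ^ 2, x⁆ * x := by
      simp only [commutatorElement_def, pow_two]; group
    have h4 : ⁅e ^ 2, x⁆ ∈ W := (hQ (hC.E_sq e he)).2 x hx
    rw [← h2, h3, comm_mul_left' hC (W_le_Y hC h4) hx hz', comm_W_left hC h4 hz', one_mul]
  rw [h1]
  have hA : ⁅x, z⁆ ∈ W := hC.comm_mem x hx z hz
  have hB : ⁅x, e * z * e⁻¹⁆ ∈ W := hC.comm_mem x hx _ hz'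
  have hA2 : ⁅x, z⁆ * ⁅x, z⁆ = 1 := by rw [← pow_two]; exact hC.W_exp _ hA
  have hB2 : ⁅x, e * z * e⁻¹⁆ * ⁅x, e * z * e⁻¹⁆ = 1 := by rw [← pow_two]; exact hC.W_exp _ hB
  calc ⁅x, z⁆ * ⁅x, e * z * e⁻¹⁆ * (⁅x, e * z * e⁻¹⁆ * ⁅x, z⁆)
      = ⁅x, z⁆ * (⁅x, e * z * e⁻¹⁆ * ⁅x, e * z * e⁻¹⁆) * ⁅x, z⁆ := by group
    _ = 1 := by rw [hB2, mul_one, hA2]

/-- (IV) -/
theorem iv (hC : Core G W Y K₁ E Q₀ N) (hQ : Q₀ ≤ kerM W Y)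
    (hstar : ∀ e ∈ E, e ∉ kerM W Y → ∀ C : Subgroup G, (∀ y, y ∈ C ↔ y ∈ Y ∧ ⁅e, y⁆ ∈ W) →
      Nat.card C = Nat.card W ^ 2 ∧ ∀ y ∈ C, ∃ x ∈ Y, y * (x * (e * x * e⁻¹))⁻¹ ∈ W)
    (τ τ' : G) (hτ : τ ∈ E) (hτ' : τ' ∈ E) (hτk : τ ∉ kerM W Y) (hτ'k : τ' ∉ kerM W Y) :
    (∀ y ∈ Y, ⁅τ', y⁆ ∈ W → ⁅τ, y⁆ ∈ W) ∧ (∀ y ∈ Y, ⁅τ', ⁅τ, y⁆⁆ ∈ W) := by
  have hE := E_le_actG hC
  have hτA : τ ∈ actG W Y := hE hτ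
  have hτ'A : τ' ∈ actG W Y := hE hτ'
  have hWc := hC.W_central
  -- (i)
  have hi : ∀ y ∈ Y, ⁅τ', y⁆ ∈ W → ⁅τ, y⁆ ∈ W := by
    intro y hy hyc
    obtain ⟨C', hC'⟩ := exists_cM hC τ'
    obtain ⟨-, hst⟩ := hstar τ' hτ' hτ'k C' hC'
    obtain ⟨x, hx, hxw⟩ := hst y ((hC' y).2 ⟨hy, hyc⟩)
    have hx' : τ' * x * τ'⁻¹ ∈ Y := conj_mem_of_mem_actG hτ'A hx
    have huY : x * (τ' * x * τ'⁻¹) ∈ Y := Y.mul_mem hx hx'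
    -- `⁅τ, u⁆ ∈ W` for `u = x * x^τ'`
    have hτu : ⁅τ, x * (τ' * x * τ'⁻¹)⁆ ∈ W := by
      have haY : τ * (x * (τ' * x * τ'⁻¹)) * τ⁻¹ ∈ Y := conj_mem_of_mem_actG hτA huY
      have hxtY : τ * x * τ⁻¹ ∈ Y := conj_mem_of_mem_actG hτA hx
      have hqk : ⁅τ, τ'⁆ ∈ kerM W Y := hQ (hC.E_comm τ hτ τ' hτ')
      have hxt' : τ' * (τ * x * τ⁻¹) * τ'⁻¹ ∈ Y := conj_mem_of_mem_actG hτ'A hxtY
      have hw₁W : ⁅⁅τ, τ'⁆, τ' * (τ * x * τ⁻¹) * τ'⁻¹⁆ ∈ W := hqk.2 _ hxt'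
      have hvY : τ * x * τ⁻¹ * (τ' * (τ * x * τ⁻¹) * τ'⁻¹) ∈ Y := Y.mul_mem hxtY hxt'
      have hadecomp : τ * (x * (τ' * x * τ'⁻¹)) * τ⁻¹ =
          ⁅⁅τ, τ'⁆, τ' * (τ * x * τ⁻¹) * τ'⁻¹⁆ *
            (τ * x * τ⁻¹ * (τ' * (τ * x * τ⁻¹) * τ'⁻¹)) := by
        have hc := hWc _ hw₁W _ hxtY
        calc τ * (x * (τ' * x * τ'⁻¹)) * τ⁻¹
            = τ * x * τ⁻¹ * (⁅⁅τ, τ'⁆, τ' * (τ * x * τ⁻¹) * τ'⁻¹⁆ *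
                (τ' * (τ * x * τ⁻¹) * τ'⁻¹)) := by
              simp only [commutatorElement_def]; group
          _ = τ * x * τ⁻¹ * ⁅⁅τ, τ'⁆, τ' * (τ * x * τ⁻¹) * τ'⁻¹⁆ *
                (τ' * (τ * x * τ⁻¹) * τ'⁻¹) := (mul_assoc _ _ _).symm
          _ = ⁅⁅τ, τ'⁆, τ' * (τ * x * τ⁻¹) * τ'⁻¹⁆ * (τ * x * τ⁻¹) *
                (τ' * (τ * x * τ⁻¹) * τ'⁻¹) := by rw [hc]
          _ = _ := mul_assoc _ _ _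
      have hcomm1 : ⁅x * (τ' * x * τ'⁻¹), τ * (x * (τ' * x * τ'⁻¹)) * τ⁻¹⁆ = 1 := by
        rw [hadecomp, comm_mul_right' hC huY (W_le_Y hC hw₁W) hvY, comm_W_right hC hw₁W huY,
          one_mul]
        exact h59_ucomm hC hQ hτ' hx hxtY
      have hsq : (τ * (x * (τ' * x * τ'⁻¹)) * τ⁻¹ * (x * (τ' * x * τ'⁻¹))⁻¹) ^ 2 = 1 := by
        rw [mul_sq' hC haY (Y.inv_mem huY), sq_conj hC hτA huY, h59_comm_inv_left hC huY haY,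
          hcomm1, inv_one, mul_one, inv_pow, mul_inv_cancel]
      have hmem := hC.inv_mem _ hsq
      have e : ⁅τ, x * (τ' * x * τ'⁻¹)⁆ =
          τ * (x * (τ' * x * τ'⁻¹)) * τ⁻¹ * (x * (τ' * x * τ'⁻¹))⁻¹ := by
        rw [commutatorElement_def]
      rw [e]
      exact hmem
    -- `y = w * u`
    have hyw : y = (y * (x * (τ' * x * τ'⁻¹))⁻¹) * (x * (τ' * x * τ'⁻¹)) := by group
    have e1 : ⁅τ, y⁆ = (τ * (y * (x * (τ' * x * τ'⁻¹))⁻¹) * τ⁻¹) * ⁅τ, x * (τ' * x * τ'⁻¹)⁆ *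
        (y * (x * (τ' * x * τ'⁻¹))⁻¹)⁻¹ := by
      simp only [commutatorElement_def]; group
    rw [e1, conj_eq_of_mem_actG hτA hxw, hWc _ hxw _ (W_le_Y hC hτu), mul_assoc, mul_inv_cancel,
      mul_one]
    exact hτu
  refine ⟨hi, ?_⟩
  -- (ii)
  obtain ⟨Cτ, hCτ⟩ := exists_cM hC τ
  obtain ⟨Cτ', hCτ'⟩ := exists_cM hC τ'
  have h1 := (hstar τ hτ hτk Cτ hCτ).1
  have h2 := (hstar τ' hτ' hτ'k Cτ' hCτ').1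
  have hle : Cτ' ≤ Cτ := fun y hy =>
    (hCτ y).2 ⟨((hCτ' y).1 hy).1, hi y ((hCτ' y).1 hy).1 ((hCτ' y).1 hy).2⟩
  have heq : Cτ' = Cτ := Subgroup.eq_of_le_of_card_ge hle (by rw [h1, h2])
  intro y hy
  have hcY : ⁅τ, y⁆ ∈ Y := by
    rw [commutatorElement_def]
    exact Y.mul_mem (conj_mem_of_mem_actG hτA hy) (Y.inv_mem hy)
  have hcc : ⁅τ, ⁅τ, y⁆⁆ ∈ W := by
    have e : ⁅τ, ⁅τ, y⁆⁆ = ⁅τ ^ 2, y⁆ * (⁅τ, y⁆ ^ 2)⁻¹ := by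
      simp only [commutatorElement_def, pow_two]; group
    rw [e]
    exact W.mul_mem ((hQ (hC.E_sq τ hτ)).2 y hy) (W.inv_mem (hC.sq_mem _ hcY))
  have hmem : ⁅τ, y⁆ ∈ Cτ' := by
    rw [heq]
    exact (hCτ _).2 ⟨hcY, hcc⟩
  exact ((hCτ' _).1 hmem).2

end Cfsg.Agent.Helper59.TH1B
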