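import Mathlib
import Cfsg.Prelude.Def_Local
import Cfsg.Agent.Lib.Helper89.TH1Defs
import Cfsg.Agent.Lib.Helper81.TH1BDefs

/-!
# TH1-B piece (PAIR) `exists_pair` (helper81's sub-server, S3797)
-/

set_option autoImplicit false

namespace Cfsg.Agent.Helper59.TH1B

open Cfsg Subgroup Cfsg.Agent.Helper89.TH1 Cfsg.Agent.Helper81.TH1B
open scoped commutatorElement

universe u

variable {G : Type u} [Group G] [Finite G] {W Y K₁ E Q₀ N : Subgroup G}

/-- (PAIR) two elements of `E` which, together with their product, act nontrivially on `M`. -/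
theorem exists_pair (hC : Core G W Y K₁ E Q₀ N)
    (hcnt : ∀ P : Subgroup G, IsPGroup 2 P → (∀ g ∈ N, ∀ x ∈ P, g * x * g⁻¹ ∈ P) →
      (Nat.card W - 1) ∣ (Nat.card P - 1))
    (hne : ¬ E ≤ kerM W Y) :
    ∃ τ ∈ E, ∃ τ' ∈ E, τ ∉ kerM W Y ∧ τ' ∉ kerM W Y ∧ τ * τ' ∉ kerM W Y := by
  classical
  set C : Subgroup G := E ⊓ kerM W Y with hCdef
  have hCE : C ≤ E := inf_le_left
  have hC2 : IsPGroup 2 C := hC.E_two.to_le hCE
  have hCN : ∀ g ∈ N, ∀ x ∈ C, g * x * g⁻¹ ∈ C := fun g hg x hx =>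
    ⟨hC.N_E g hg x hx.1, conj_mem_kerM_of_mem_N hC hg hx.2⟩
  have hd3 : 3 ≤ Nat.card W - 1 := by have := hC.W_card; omega
  have h1 := hcnt E hC.E_two hC.N_E
  have h2 := hcnt C hC2 hCN
  obtain ⟨m, hm⟩ := Subgroup.card_dvd_of_le hCE
  have hEpos : 0 < Nat.card E := Nat.card_pos
  have hCpos : 0 < Nat.card C := Nat.card_pos
  have hm0 : m ≠ 0 := by
    rintro rfl
    rw [mul_zero] at hm
    omega
  have hm1 : m ≠ 1 := by
    rintro rfl
    rw [mul_one] at hm
    have : C = E := Subgroup.eq_of_le_of_card_ge hCE hm.le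
    apply hne
    rw [← this]
    exact inf_le_right
  have hm2 : m ≠ 2 := by
    rintro rfl
    rw [hm] at h1
    have e : Nat.card C * 2 - 1 = 2 * (Nat.card C - 1) + 1 := by omega
    rw [e] at h1
    have := (Nat.dvd_add_right (dvd_mul_of_dvd_right h2 2)).1 h1
    have := Nat.le_of_dvd one_pos this
    omega
  have hlt : 2 * Nat.card C < Nat.card E := by
    rw [hm]
    have : 3 ≤ m := by omega
    nlinarith
  -- pick `τ`
  obtain ⟨τ, hτE, hτk⟩ : ∃ τ ∈ E, τ ∉ kerM W Y := by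
    by_contra hcon
    push Not at hcon
    exact hne hcon
  -- the set `C ∪ τ⁻¹ C` is too small to cover `E`
  set S : Set G := (C : Set G) ∪ (fun x => τ⁻¹ * x) '' (C : Set G) with hS
  have hScard : S.ncard ≤ 2 * Nat.card C := by
    have h3 : (C : Set G).ncard = Nat.card C := (Nat.card_coe_set_eq (C : Set G)).symm
    calc S.ncard ≤ (C : Set G).ncard + ((fun x => τ⁻¹ * x) '' (C : Set G)).ncard :=
          Set.ncard_union_le _ _
      _ ≤ (C : Set G).ncard + (C : Set G).ncard :=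
          Nat.add_le_add_left (Set.ncard_image_le (Set.toFinite _)) _
      _ = 2 * Nat.card C := by rw [h3]; ring
  obtain ⟨τ', hτ'E, hτ'S⟩ : ∃ τ' ∈ E, τ' ∉ S := by
    by_contra hcon
    push Not at hcon
    have hsub : (E : Set G) ⊆ S := fun x hx => hcon x hx
    have h4 : (E : Set G).ncard ≤ S.ncard := Set.ncard_le_ncard hsub (Set.toFinite _)
    have h5 : (E : Set G).ncard = Nat.card E := (Nat.card_coe_set_eq (E : Set G)).symm
    omega
  refine ⟨τ, hτE, τ', hτ'E, hτk, ?_, ?_⟩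
  · intro h
    exact hτ'S (Or.inl ⟨hτ'E, h⟩)
  · intro h
    apply hτ'S
    refine Or.inr ⟨τ * τ', ⟨E.mul_mem hτE hτ'E, h⟩, ?_⟩
    simp
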