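import Mathlib

/-!
# TH1-COREA piece (FIB): fibres of the squaring map (helper9's sub-server, S3797)
-/

set_option autoImplicit false

namespace Cfsg.Agent.Helper59.TH1CA

open Subgroup
open scoped commutatorElement

universe u

variable {G : Type u} [Group G] [Finite G]

/-- (FIB) fibres of the squaring map `Y → W`. -/
theorem fiber_card (W Y N : Subgroup G) (hWY : W ≤ Y)
    (hNY : ∀ g ∈ N, ∀ y ∈ Y, g * y * g⁻¹ ∈ Y)
    (htr : ∀ w ∈ W, ∀ w' ∈ W, w ≠ 1 → w' ≠ 1 → ∃ g ∈ N, g * w * g⁻¹ = w')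
    (hsq : ∀ y ∈ Y, y ^ 2 ∈ W) (hinv : ∀ y ∈ Y, y ^ 2 = 1 → y ∈ W) (hexp : ∀ w ∈ W, w ^ 2 = 1) :
    ∃ φ : ℕ, (∀ w ∈ W, w ≠ 1 → Nat.card {y : G // y ∈ Y ∧ y ^ 2 = w} = φ) ∧
      ∀ W₀ : Subgroup G, W₀ ≤ W →
        Nat.card {y : G // y ∈ Y ∧ y ^ 2 ∈ W₀} = Nat.card W + (Nat.card W₀ - 1) * φ := by
  classical
  -- all the fibres over non-identity elements have the same size
  have key : ∀ w ∈ W, ∀ w' ∈ W, w ≠ 1 → w' ≠ 1 →
      Nat.card {y : G // y ∈ Y ∧ y ^ 2 = w} = Nat.card {y : G // y ∈ Y ∧ y ^ 2 = w'} := by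
    intro w hw w' hw' h1 h1'
    obtain ⟨g, hg, rfl⟩ := htr w hw w' hw' h1 h1'
    refine Nat.card_congr
      ⟨fun y => ⟨g * y.1 * g⁻¹, hNY g hg _ y.2.1, by rw [conj_pow, y.2.2]⟩,
        fun y => ⟨g⁻¹ * y.1 * g, ?_, ?_⟩, ?_, ?_⟩
    · have := hNY g⁻¹ (N.inv_mem hg) _ y.2.1
      rwa [inv_inv] at this
    · have h := conj_pow (a := g⁻¹) (b := y.1) (i := 2)
      rw [inv_inv] at h
      rw [h, y.2.2]
      group
    · intro y
      apply Subtype.ext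
      change g⁻¹ * (g * y.1 * g⁻¹) * g = y.1
      group
    · intro y
      apply Subtype.ext
      change g * (g⁻¹ * y.1 * g) * g⁻¹ = y.1
      group
  -- the fibre over `1` is `W`
  have hone : Nat.card {y : G // y ∈ Y ∧ y ^ 2 = 1} = Nat.card W := by
    refine Nat.card_congr (Equiv.subtypeEquivRight fun y => ?_)
    exact ⟨fun h => hinv y h.1 h.2, fun h => ⟨hWY h, hexp y h⟩⟩
  -- the common size
  obtain ⟨φ, hφ⟩ : ∃ φ : ℕ, ∀ w ∈ W, w ≠ 1 → Nat.card {y : G // y ∈ Y ∧ y ^ 2 = w} = φ := by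
    by_cases h : ∃ w ∈ W, w ≠ 1
    · obtain ⟨w₀, hw₀, h₀⟩ := h
      exact ⟨_, fun w hw h1 => key w hw w₀ hw₀ h1 h₀⟩
    · exact ⟨0, fun w hw h1 => absurd ⟨w, hw, h1⟩ h⟩
  refine ⟨φ, hφ, fun W₀ hW₀ => ?_⟩
  letI : Fintype W₀ := Fintype.ofFinite _
  -- decompose over the value of the square
  have e : {y : G // y ∈ Y ∧ y ^ 2 ∈ W₀} ≃ Σ w : W₀, {y : G // y ∈ Y ∧ y ^ 2 = (w : G)} :=
    { toFun := fun y => ⟨⟨y.1 ^ 2, y.2.2⟩, ⟨y.1, y.2.1, rfl⟩⟩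
      invFun := fun p => ⟨p.2.1, p.2.2.1, by rw [p.2.2.2]; exact p.1.2⟩
      left_inv := fun y => rfl
      right_inv := by
        rintro ⟨⟨w, hw⟩, ⟨y, hy, hyw⟩⟩
        change y ^ 2 = w at hyw
        subst hyw
        rfl }
  rw [Nat.card_congr e, Nat.card_sigma,
    ← Finset.add_sum_erase Finset.univ _ (Finset.mem_univ (1 : W₀))]
  have h1 : Nat.card {y : G // y ∈ Y ∧ y ^ 2 = ((1 : W₀) : G)} = Nat.card W := hone
  rw [h1]
  congr 1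
  rw [Finset.sum_congr rfl (g := fun _ => φ), Finset.sum_const, smul_eq_mul,
    Finset.card_erase_of_mem (Finset.mem_univ _), Finset.card_univ, Nat.card_eq_fintype_card]
  intro w hw
  have hne : w ≠ 1 := (Finset.mem_erase.1 hw).1
  exact hφ w (hW₀ w.2) (fun h => hne (Subtype.ext h))

end Cfsg.Agent.Helper59.TH1CA
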