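import Cfsg.Agent.Lib.Helper59.TwCode2

/-!
# The orbit of a regular vector under the centraliser of the diagram symmetry, by counting:
the centraliser embeds in the Weyl group of the folded datum
-/

set_option autoImplicit false
set_option linter.unusedSectionVars false
set_option linter.unusedVariables false

namespace Cfsg.Agent.Helper59.TwPoinc

open Cfsg.Agent.Helper6.Weyl Cfsg.Agent.Helper6.Twist Matrix

section

variable {l : ℕ} (V : VDatum l) (Pm : (Mat l)ˣ) (π : Fin l → Fin l)
  (hPsingle : ∀ i, Pm • (Pi.single i 1 : Vec l) = Pi.single (π i) 1)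
  (hPpos : ∀ β ∈ V.pos, Pm • β ∈ V.pos)
  {l' : ℕ} (orb : Fin l' → List (Fin l))
  (horb_cover : ∀ i : Fin l, ∃ j, i ∈ orb j)
  (horb_trans : ∀ j, ∀ a ∈ orb j, ∀ b ∈ orb j, ∃ k : ℕ, π^[k] a = b)
  (horb_orth : ∀ j, (orb j).Pairwise (Orth V))
  (hg_comm : ∀ j, Pm * V.wpM (orb j) = V.wpM (orb j) * Pm)
  (Q : Matrix (Fin l) (Fin l') ℤ) (Rr : Matrix (Fin l') (Fin l) ℤ) (Z : Mat l)
  (hRQ : Rr * Q = 1) (hPQ : (Pm : Mat l) * Q = Q)
  (hZ : 1 - Q * Rr = Z * (1 - (Pm : Mat l)))
  (V' : VDatum l')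
  (hrg : ∀ j, rMat Q Rr ((V.wpM (orb j) : (Mat l)ˣ) : Mat l) = V'.S j)
  (lam : Vec l) (y0 : Fin l' → ℤ) (hlam : lam = Q.mulVec y0)
  (hreg : ∀ i, 0 < pair V.A i lam)

include hPsingle hPpos horb_cover horb_trans horb_orth hg_comm hRQ hPQ hZ hrg hlam hreg in
/-- the centraliser embeds in the Weyl group of the folded datum -/
theorem card_CW_le [Finite ↥V'.Wf] : Nat.card ↥(CW V Pm) ≤ Nat.card ↥V'.Wf := by
  let g : ↥(CW V Pm) → ↥V'.Wf := fun w =>
    ⟨rHom Pm Q Rr Z hRQ hPQ hZ ⟨(w : (Mat l)ˣ), w.2.2⟩,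
      rHom_mem_Wf V Pm π hPsingle hPpos orb horb_cover horb_trans horb_orth hg_comm Q Rr Z hRQ hPQ hZ
        V' hrg w.2⟩
  have hinj : Function.Injective g := by
    intro w w' e
    have e1 : rHom Pm Q Rr Z hRQ hPQ hZ ⟨(w : (Mat l)ˣ), w.2.2⟩ =
        rHom Pm Q Rr Z hRQ hPQ hZ ⟨(w' : (Mat l)ˣ), w'.2.2⟩ := congrArg Subtype.val e
    have e2 : rHom Pm Q Rr Z hRQ hPQ hZ
        (⟨(w : (Mat l)ˣ), w.2.2⟩⁻¹ * ⟨(w' : (Mat l)ˣ), w'.2.2⟩) = 1 := by
      rw [map_mul, map_inv, e1, inv_mul_cancel]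
    have e3 : rMat Q Rr (((w⁻¹ * w' : ↥(CW V Pm)) : (Mat l)ˣ) : Mat l) = 1 := by
      have := congrArg (fun x : (Mat l')ˣ => (x : Mat l')) e2
      simp only [Units.val_one] at this
      rw [rHom_val] at this
      exact this
    have e4 := eq_one_of_rMat V Pm Q Rr Z hPQ hZ lam y0 hlam hreg (w⁻¹ * w').2 e3
    have e5 : w⁻¹ * w' = 1 := Subtype.ext e4
    exact inv_mul_eq_one.mp e5
  exact Nat.card_le_card_of_injective g hinj

include hreg in
/-- the orbit is the list, by counting -/
theorem orbit_of_card (vs : List (Vec l)) (hnd : vs.Nodup) [Finite ↥(CW V Pm)]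
    (hcard : Nat.card ↥(CW V Pm) ≤ vs.length)
    (hrs : ∀ v ∈ vs, ∃ w ∈ CW V Pm, w • lam = v) (v : Vec l) :
    (∃ w ∈ CW V Pm, w • lam = v) ↔ v ∈ vs := by
  classical
  constructor
  · rintro ⟨w, hw, rfl⟩
    choose f hf using fun u : {u // u ∈ vs} => hrs u.1 u.2
    let F : {u // u ∈ vs} → ↥(CW V Pm) := fun u => ⟨f u, (hf u).1⟩
    have hFinj : Function.Injective F := by
      intro a b e
      have e1 : f a = f b := congrArg Subtype.val e
      apply Subtype.ext
      rw [← (hf a).2, ← (hf b).2, e1]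
    have hcardvs : Nat.card {u // u ∈ vs} = vs.length := by
      rw [Nat.card_eq_fintype_card, Fintype.card_of_subtype vs.toFinset (by simp),
        List.toFinset_card_of_nodup hnd]
    have hbij : Function.Bijective F := by
      apply Function.Injective.bijective_of_nat_card_le hFinj
      rw [hcardvs]
      exact hcard
    obtain ⟨u, hu⟩ := hbij.2 ⟨w, hw⟩
    have e1 : f u = w := congrArg Subtype.val hu
    rw [← e1, (hf u).2]
    exact u.2
  · exact hrs v

end

section Levels

variable {n l' : ℕ}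

/-- reachability certificate by levels: every code of a level is sent by some generator into one
of the two previous levels -/
def reachLv (A : Mat n) (orb : Fin l' → List (Fin n)) : List ℕ → List ℕ → List (List ℕ) → Bool
  | _, _, [] => true
  | p1, p2, lv :: rest =>
    (lv.all fun c => (List.finRange l').any fun j =>
      match applyC A (orb j) c with
      | none => false
      | some r => p1.contains r || p2.contains r) && reachLv A orb lv p1 rest

theorem reachLv_sound (V : VDatum n) (lam : Vec n) (orb : Fin l' → List (Fin n)) :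
    ∀ (rest : List (List ℕ)) (p1 p2 : List ℕ),
      (∀ c ∈ p1, ∃ w ∈ Hgen V orb, w • lam = dec n c) →
      (∀ c ∈ p2, ∃ w ∈ Hgen V orb, w • lam = dec n c) →
      reachLv V.A orb p1 p2 rest = true →
      ∀ lv ∈ rest, ∀ c ∈ lv, ∃ w ∈ Hgen V orb, w • lam = dec n c := by
  intro rest
  induction rest with
  | nil => intro _ _ _ _ _ lv hlv; exact absurd hlv List.not_mem_nil
  | cons lv0 rest ih =>
    intro p1 p2 h1 h2 hr lv hlv c hc
    rw [reachLv, Bool.and_eq_true, List.all_eq_true] at hr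
    obtain ⟨hr1, hr2⟩ := hr
    have hlv0 : ∀ c ∈ lv0, ∃ w ∈ Hgen V orb, w • lam = dec n c := by
      intro c hc
      have h3 := hr1 c hc
      rw [List.any_eq_true] at h3
      obtain ⟨j, _, hj⟩ := h3
      cases h' : applyC V.A (orb j) c with
      | none => rw [h'] at hj; exact absurd hj (by simp)
      | some r =>
        rw [h'] at hj
        simp only [Bool.or_eq_true, List.contains_iff_mem] at hj
        have hr' : ∃ w ∈ Hgen V orb, w • lam = dec n r := by
          rcases hj with hj | hj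
          · exact h1 r hj
          · exact h2 r hj
        obtain ⟨w, hw, e⟩ := hr'
        have e2 := applyC_spec V (orb j) c r h'
        rw [← wpM_smul] at e2
        refine ⟨(V.wpM (orb j))⁻¹ * w, Subgroup.mul_mem _ (Subgroup.inv_mem _
          (Subgroup.subset_closure ⟨j, rfl⟩)) hw, ?_⟩
        rw [mul_smul, e, e2, ← mul_smul, inv_mul_cancel, one_smul]
    rcases List.mem_cons.1 hlv with rfl | hlv'
    · exact hlv0 c hc
    · exact ih lv0 p1 hlv0 h1 hr2 lv hlv' c hc

/-- all the codes of the levels are reachable -/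
theorem reach_levels (V : VDatum n) (lam : Vec n) (orb : Fin l' → List (Fin n)) (c0 : ℕ)
    (rest : List (List ℕ)) (h0 : dec n c0 = lam) (hr : reachLv V.A orb [c0] [] rest = true) :
    ∀ v ∈ (([c0] :: rest).flatten).map (dec n), ∃ w ∈ Hgen V orb, w • lam = v := by
  intro v hv
  obtain ⟨c, hc, rfl⟩ := List.mem_map.1 hv
  obtain ⟨lv, hlv, hclv⟩ := List.mem_flatten.1 hc
  have hbase : ∀ c ∈ [c0], ∃ w ∈ Hgen V orb, w • lam = dec n c := by
    intro c hc
    rw [List.mem_singleton] at hc
    subst hc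
    exact ⟨1, Subgroup.one_mem _, by rw [one_smul, h0]⟩
  rcases List.mem_cons.1 hlv with rfl | hlv'
  · exact hbase c hclv
  · exact reachLv_sound V lam orb rest [c0] [] hbase (fun c hc => absurd hc List.not_mem_nil) hr
      lv hlv' c hclv

end Levels

end Cfsg.Agent.Helper59.TwPoinc
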