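import Cfsg.Agent.Lib.Helper59.TwPoinc

/-!
# Base-128 codes for integer vectors
-/

set_option autoImplicit false

namespace Cfsg.Agent.Helper59.TwPoinc

open Cfsg.Agent.Helper6.Weyl

/-- decode a base-128 code into a vector -/
def dec (n : ℕ) (c : ℕ) : Vec n := fun j => ((c / 128 ^ (j : ℕ) % 128 : ℕ) : ℤ) - 64

theorem dec_inj : ∀ (n : ℕ) (c c' : ℕ), c < 128 ^ n → c' < 128 ^ n →
    dec n c = dec n c' → c = c' := by
  intro n
  induction n with
  | zero =>
    intro c c' hc hc' _
    simp at hc hc'
    omega
  | succ n ih =>
    intro c c' hc hc' h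
    have h0 := congrFun h 0
    simp only [dec, Fin.val_zero, pow_zero, Nat.div_one] at h0
    have h0' : c % 128 = c' % 128 := by omega
    have h1 : dec n (c / 128) = dec n (c' / 128) := by
      funext j
      have := congrFun h j.succ
      simp only [dec, Fin.val_succ, pow_succ] at this
      simp only [dec]
      rw [Nat.div_div_eq_div_mul, Nat.div_div_eq_div_mul, mul_comm 128]
      exact this
    have h2 := ih (c / 128) (c' / 128)
      (by rw [pow_succ] at hc; omega) (by rw [pow_succ] at hc'; omega) h1
    omega

theorem nodup_map_dec (n : ℕ) (codes : List ℕ) (hlt : ∀ c ∈ codes, c < 128 ^ n)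
    (hnd : codes.Nodup) : (codes.map (dec n)).Nodup :=
  List.Nodup.map_on (fun c hc c' hc' e => dec_inj n c c' (hlt c hc) (hlt c' hc') e) hnd

/-- a Boolean check that a list of natural numbers has no repetition -/
def nodupB : List ℕ → Bool
  | [] => true
  | a :: l => !(l.contains a) && nodupB l

theorem nodupB_sound : ∀ l : List ℕ, nodupB l = true → l.Nodup
  | [], _ => List.nodup_nil
  | a :: l, h => by
    rw [nodupB, Bool.and_eq_true, Bool.not_eq_true'] at h
    refine List.nodup_cons.2 ⟨?_, nodupB_sound l h.2⟩
    intro hmem
    have : l.contains a = true := by simpa using hmem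
    rw [h.1] at this
    exact Bool.false_ne_true this

/-- a Boolean check that all the numbers of a list are below a bound -/
def allLtB (b : ℕ) (l : List ℕ) : Bool := l.all fun c => decide (c < b)

theorem allLtB_sound (b : ℕ) (l : List ℕ) (h : allLtB b l = true) : ∀ c ∈ l, c < b := by
  intro c hc
  unfold allLtB at h
  rw [List.all_eq_true] at h
  exact of_decide_eq_true (h c hc)

end Cfsg.Agent.Helper59.TwPoinc
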