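import Cfsg.Agent.Lib.Helper59.TwCode
import Cfsg.Agent.Lib.Helper6.WeylCert

/-!
# Orbit certificates on base-128 codes (kernel-friendly arithmetic)
-/

set_option autoImplicit false
set_option linter.unusedSectionVars false
set_option linter.unusedVariables false

namespace Cfsg.Agent.Helper59.TwPoinc

open Cfsg.Agent.Helper6.Weyl Cfsg.Agent.Helper6.Twist Matrix

variable {n : ℕ}

theorem dig_low128 (Q b i j : ℕ) (hj : j < i) :
    (Q * 128 ^ i + b) / 128 ^ j % 128 = b / 128 ^ j % 128 := by
  obtain ⟨k, rfl⟩ : ∃ k, i = j + 1 + k := ⟨i - (j + 1), by omega⟩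
  have h : Q * 128 ^ (j + 1 + k) = 128 ^ j * (128 * (Q * 128 ^ k)) := by ring
  rw [h, Nat.mul_add_div (by positivity), Nat.mul_add_mod]

theorem dig_high128 (Q b i k : ℕ) (hb : b < 128 ^ i) :
    (Q * 128 ^ i + b) / 128 ^ (i + k) = Q / 128 ^ k := by
  rw [pow_add, ← Nat.div_div_eq_div_mul, mul_comm Q, Nat.mul_add_div (by positivity),
    Nat.div_eq_of_lt hb, add_zero]

/-- adding `t * 128 ^ i` to a code changes only the digit `i`, as long as it stays in range -/
theorem dec_shift (n c : ℕ) (i : Fin n) (t : ℤ)
    (h0 : 0 ≤ ((c / 128 ^ (i : ℕ) % 128 : ℕ) : ℤ) + t)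
    (h1 : ((c / 128 ^ (i : ℕ) % 128 : ℕ) : ℤ) + t ≤ 127) :
    dec n (Int.toNat ((c : ℤ) + t * 128 ^ (i : ℕ))) = dec n c + t • Pi.single i 1 := by
  set q := c / 128 ^ (i : ℕ) with hq
  set b := c % 128 ^ (i : ℕ) with hb
  have hblt : b < 128 ^ (i : ℕ) := Nat.mod_lt _ (by positivity)
  have hc : c = q * 128 ^ (i : ℕ) + b := by
    rw [hq, hb, mul_comm]; exact (Nat.div_add_mod c _).symm
  obtain ⟨d', hd'⟩ : ∃ d' : ℕ, (d' : ℤ) = ((q % 128 : ℕ) : ℤ) + t :=
    ⟨Int.toNat _, Int.toNat_of_nonneg h0⟩
  have hd'15 : d' ≤ 127 := by omega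
  have hq16 : q = 128 * (q / 128) + q % 128 := (Nat.div_add_mod q 128).symm
  set a := q / 128 with ha
  set d := q % 128 with hd
  have hc' : Int.toNat ((c : ℤ) + t * 128 ^ (i : ℕ)) = (128 * a + d') * 128 ^ (i : ℕ) + b := by
    have : (c : ℤ) + t * 128 ^ (i : ℕ) = (((128 * a + d') * 128 ^ (i : ℕ) + b : ℕ) : ℤ) := by
      push_cast
      rw [hd']
      conv_lhs => rw [hc, hq16]
      push_cast
      ring
    rw [this, Int.toNat_natCast]
  rw [hc']
  funext j
  simp only [dec, Pi.add_apply, Pi.smul_apply, Pi.single_apply, smul_eq_mul]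
  rcases lt_trichotomy (j : ℕ) (i : ℕ) with hji | hji | hji
  · have hne : j ≠ i := fun h => by rw [h] at hji; exact lt_irrefl _ hji
    rw [if_neg hne, mul_zero, add_zero, dig_low128 _ _ _ _ hji]
    conv_rhs => rw [hc, dig_low128 _ _ _ _ hji]
  · have he : j = i := Fin.ext hji
    subst he
    rw [if_pos rfl, mul_one]
    have e1 := dig_high128 (128 * a + d') b (j : ℕ) 0 hblt
    have e2 := dig_high128 q b (j : ℕ) 0 hblt
    rw [add_zero, pow_zero, Nat.div_one] at e1 e2
    rw [e1, ← hc] at *
    rw [← hq]
    have : (128 * a + d') % 128 = d' := by omega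
    rw [this, hd']
    ring
  · have hne : j ≠ i := fun h => by rw [h] at hji; exact lt_irrefl _ hji
    obtain ⟨k, hk⟩ : ∃ k, (j : ℕ) = (i : ℕ) + (k + 1) := ⟨(j : ℕ) - (i : ℕ) - 1, by omega⟩
    rw [if_neg hne, mul_zero, add_zero, hk, dig_high128 _ _ _ _ hblt]
    conv_rhs => rw [hc, dig_high128 _ _ _ _ hblt]
    have e1 : (128 * a + d') / 128 ^ (k + 1) = a / 128 ^ k := by
      rw [pow_succ', ← Nat.div_div_eq_div_mul]
      congr 1
      omega
    have e2 : q / 128 ^ (k + 1) = a / 128 ^ k := by
      rw [pow_succ', ← Nat.div_div_eq_div_mul]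
    rw [e1, e2]

/-- the code of the reflected vector -/
def reflC (A : Mat n) (i : Fin n) (c : ℕ) : ℕ :=
  Int.toNat ((c : ℤ) - pair A i (dec n c) * 128 ^ (i : ℕ))

/-- the new digit stays in range -/
def inRangeC (A : Mat n) (i : Fin n) (c : ℕ) : Bool :=
  decide (0 ≤ ((c / 128 ^ (i : ℕ) % 128 : ℕ) : ℤ) - pair A i (dec n c)) &&
    decide (((c / 128 ^ (i : ℕ) % 128 : ℕ) : ℤ) - pair A i (dec n c) ≤ 127)

theorem reflC_spec {A : Mat n} {i : Fin n} {c : ℕ} (h : inRangeC A i c = true) :
    dec n (reflC A i c) = (refl A i).mulVec (dec n c) := by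
  unfold inRangeC at h
  rw [Bool.and_eq_true] at h
  have h0 := of_decide_eq_true h.1
  have h1 := of_decide_eq_true h.2
  have := dec_shift n c i (-pair A i (dec n c)) (by linarith) (by linarith)
  unfold reflC
  rw [show (c : ℤ) - pair A i (dec n c) * 128 ^ (i : ℕ) =
    (c : ℤ) + -pair A i (dec n c) * 128 ^ (i : ℕ) by ring, this]
  funext m
  rw [refl_mulVec_apply]
  simp only [Pi.add_apply, Pi.smul_apply, Pi.single_apply, smul_eq_mul]
  split_ifs <;> ring

/-- apply the reflections of a list to a code, checking the ranges; `none` if out of range -/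
def applyC (A : Mat n) : List (Fin n) → ℕ → Option ℕ
  | [], c => some c
  | i :: L, c =>
    match applyC A L c with
    | none => none
    | some c' => forceNat c' fun r => if inRangeC A i r then some (reflC A i r) else none

theorem applyC_spec (V : VDatum n) : ∀ (L : List (Fin n)) (c r : ℕ),
    applyC V.A L c = some r → dec n r = applyL V L (dec n c) := by
  intro L
  induction L with
  | nil =>
    intro c r h
    simp only [applyC, Option.some.injEq] at h
    rw [← h]; rfl
  | cons i L ih =>
    intro c r h
    rw [applyC] at h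
    cases h' : applyC V.A L c with
    | none => rw [h'] at h; exact absurd h (by simp)
    | some c' =>
      rw [h'] at h
      simp only [forceNat_eq] at h
      by_cases hr : inRangeC V.A i c' = true
      · rw [if_pos hr, Option.some.injEq] at h
        rw [← h, reflC_spec hr, ih c c' h']
        rfl
      · rw [if_neg hr] at h
        exact absurd h (by simp)

variable {l' : ℕ}

/-- closedness certificate on codes -/
def closedC (A : Mat n) (orb : Fin l' → List (Fin n)) (codes : List ℕ) (nxt : List (List ℕ)) : Bool :=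
  (codes.zip nxt).all fun p => (List.finRange l').all fun j =>
    match applyC A (orb j) p.1 with
    | none => false
    | some r => decide (p.2.getD j 0 < codes.length) && (r == codes.getD (p.2.getD j 0) 0)

theorem closedC_sound (V : VDatum n) (orb : Fin l' → List (Fin n)) (codes : List ℕ)
    (nxt : List (List ℕ)) (hlen : nxt.length = codes.length)
    (h : closedC V.A orb codes nxt = true) :
    ∀ v ∈ codes.map (dec n), ∀ j, applyL V (orb j) v ∈ codes.map (dec n) := by
  unfold closedC at h
  rw [List.all_eq_true] at h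
  intro v hv j
  obtain ⟨c, hc, rfl⟩ := List.mem_map.1 hv
  obtain ⟨a, ha, rfl⟩ := List.getElem_of_mem hc
  have ha' : a < nxt.length := by rw [hlen]; exact ha
  have hmem : (codes[a], nxt[a]) ∈ codes.zip nxt := by
    have : (codes.zip nxt)[a]'(by simp [List.length_zip]; exact ⟨ha, ha'⟩) = (codes[a], nxt[a]) := by
      simp
    rw [← this]
    exact List.getElem_mem _
  have h1 := h _ hmem
  rw [List.all_eq_true] at h1
  have h2 := h1 j (List.mem_finRange j)
  simp only at h2
  cases h' : applyC V.A (orb j) codes[a] with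
  | none => rw [h'] at h2; exact absurd h2 (by simp)
  | some r =>
    rw [h'] at h2
    simp only [Bool.and_eq_true, decide_eq_true_eq, beq_iff_eq] at h2
    obtain ⟨h3, h4⟩ := h2
    rw [← applyC_spec V (orb j) _ r h', h4, List.getD_eq_getElem _ _ h3]
    exact List.mem_map.2 ⟨_, List.getElem_mem _, rfl⟩

/-- reachability certificate on codes -/
def reachC (A : Mat n) (orb : Fin l' → List (Fin n)) (codes : List ℕ) (par : List (ℕ × ℕ)) : Bool :=
  (List.range codes.length).all fun a =>
    (a == 0) || (decide ((par.getD a (0, 0)).1 < a) &&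
      match applyC A (orbN orb (par.getD a (0, 0)).2) (codes.getD (par.getD a (0, 0)).1 0) with
      | none => false
      | some r => r == codes.getD a 0)

theorem reachC_sound (V : VDatum n) (lam : Vec n) (orb : Fin l' → List (Fin n)) (codes : List ℕ)
    (par : List (ℕ × ℕ)) (h0 : dec n (codes.getD 0 0) = lam)
    (h : reachC V.A orb codes par = true) :
    ∀ a < codes.length, ∃ w ∈ Hgen V orb, w • lam = dec n (codes.getD a 0) := by
  unfold reachC at h
  rw [List.all_eq_true] at h
  intro a
  induction a using Nat.strong_induction_on with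
  | _ a ih =>
    intro ha
    have h1 := h a (List.mem_range.2 ha)
    by_cases ha0 : a = 0
    · refine ⟨1, Subgroup.one_mem _, ?_⟩
      rw [one_smul, ha0, h0]
    · have hb : (a == 0) = false := by simpa using ha0
      rw [hb, Bool.false_or, Bool.and_eq_true] at h1
      obtain ⟨h2, h3⟩ := h1
      have h2' := of_decide_eq_true h2
      obtain ⟨w, hw, e⟩ := ih _ h2' (lt_trans h2' ha)
      cases h' : applyC V.A (orbN orb (par.getD a (0, 0)).2) (codes.getD (par.getD a (0, 0)).1 0) with
      | none => rw [h'] at h3; exact absurd h3 (by simp)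
      | some r =>
        rw [h'] at h3
        have h4 : r = codes.getD a 0 := by simpa using h3
        refine ⟨V.wpM (orbN orb (par.getD a (0, 0)).2) * w,
          Subgroup.mul_mem _ (wpM_orbN_mem V orb _) hw, ?_⟩
        rw [mul_smul, e, wpM_smul, ← applyC_spec V _ _ r h', h4]

/-- the orbit of `lam` under the group generated by the orbit products is the list, from abstract
closedness and reachability -/
theorem orbit_eq_of (V : VDatum n) (lam : Vec n) (orb : Fin l' → List (Fin n)) (vs : List (Vec n))
    (hcl : ∀ v ∈ vs, ∀ j, applyL V (orb j) v ∈ vs) (hlam : lam ∈ vs)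
    (hrs : ∀ v ∈ vs, ∃ w ∈ Hgen V orb, w • lam = v)
    (v : Vec n) : (∃ w ∈ Hgen V orb, w • lam = v) ↔ v ∈ vs := by
  constructor
  · rintro ⟨w, hw, rfl⟩
    unfold Hgen at hw
    induction hw using Subgroup.closure_induction_left with
    | one => rw [one_smul]; exact hlam
    | mul_left x hx y _ ih =>
      obtain ⟨j, rfl⟩ := hx
      rw [mul_smul, wpM_smul]
      exact hcl _ ih j
    | inv_mul_cancel x hx y _ ih =>
      obtain ⟨j, rfl⟩ := hx
      have hfin : ∀ u ∈ vs, ∃ u' ∈ vs, V.wpM (orb j) • u' = u := by
        have hinj : Function.Injective (fun u : {u // u ∈ vs} =>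
            (⟨V.wpM (orb j) • u.1, by rw [wpM_smul]; exact hcl _ u.2 j⟩ : {u // u ∈ vs})) := by
          intro a b hab
          have := congrArg Subtype.val hab
          simp only at this
          apply Subtype.ext
          have h5 := congrArg (fun z => (V.wpM (orb j))⁻¹ • z) this
          simpa [← mul_smul] using h5
        have hsurj := Finite.surjective_of_injective hinj
        intro u hu
        obtain ⟨u', e⟩ := hsurj ⟨u, hu⟩
        exact ⟨u'.1, u'.2, congrArg Subtype.val e⟩
      obtain ⟨u', hu', e⟩ := hfin _ ih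
      rw [mul_smul, ← e, ← mul_smul, inv_mul_cancel, one_smul]
      exact hu'
  · exact hrs v

/-- the orbit from the certificates on codes -/
theorem orbit_eqC (V : VDatum n) (lam : Vec n) (orb : Fin l' → List (Fin n)) (codes : List ℕ)
    (nxt : List (List ℕ)) (par : List (ℕ × ℕ)) (hlen : nxt.length = codes.length)
    (hpos : 0 < codes.length) (h0 : dec n (codes.getD 0 0) = lam)
    (hc : closedC V.A orb codes nxt = true) (hr : reachC V.A orb codes par = true)
    (v : Vec n) : (∃ w ∈ Hgen V orb, w • lam = v) ↔ v ∈ codes.map (dec n) := by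
  apply orbit_eq_of V lam orb _ (closedC_sound V orb codes nxt hlen hc)
  · rw [← h0, List.getD_eq_getElem _ _ hpos]
    exact List.mem_map.2 ⟨_, List.getElem_mem _, rfl⟩
  · intro v hv
    obtain ⟨c, hc', rfl⟩ := List.mem_map.1 hv
    obtain ⟨a, ha, rfl⟩ := List.getElem_of_mem hc'
    have := reachC_sound V lam orb codes par h0 hr a ha
    rwa [List.getD_eq_getElem _ _ ha] at this

/-! ### depths on codes -/

/-- dot product of two lists -/
def dotL : List ℤ → List ℤ → ℤ
  | a :: as, b :: bs => a * b + dotL as bs
  | _, _ => 0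

theorem dotL_ofFn : ∀ (n : ℕ) (u v : Fin n → ℤ), dotL (List.ofFn u) (List.ofFn v) = u ⬝ᵥ v := by
  intro n
  induction n with
  | zero => intro u v; simp [dotL, dotProduct]
  | succ n ih =>
    intro u v
    rw [List.ofFn_succ, List.ofFn_succ, dotL, ih]
    simp [dotProduct, Fin.sum_univ_succ]

/-- the depth of a code with respect to a table of the vectors `G β` -/
def depthC (n : ℕ) (gt : List (List ℤ)) (c : ℕ) : ℕ :=
  (gt.filter fun g => decide (dotL (List.ofFn (dec n c)) g < 0)).length

theorem depthC_spec (V : VDatum n) (gt : List (List ℤ))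
    (hgt : gt = V.pos.map (fun β => List.ofFn (V.G.mulVec β))) (c : ℕ) :
    depthC n gt c = depthL V (dec n c) := by
  unfold depthC depthL
  rw [hgt, List.filter_map, List.length_map]
  congr 1
  apply List.filter_congr
  intro β _
  simp only [Function.comp_apply]
  rw [dotL_ofFn]
  rfl

/-- summing powers over a list of exponents: collect the coefficients -/
theorem sum_pow_count (q : ℕ) : ∀ (ds : List ℕ) (N : ℕ), (∀ d ∈ ds, d < N) →
    (ds.map (fun d => q ^ d)).sum = ((List.range N).map (fun d => ds.count d * q ^ d)).sum := by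
  intro ds
  induction ds with
  | nil => intro N _; simp
  | cons a ds ih =>
    intro N h
    rw [List.map_cons, List.sum_cons, ih N (fun d hd => h d (List.mem_cons_of_mem _ hd))]
    have ha : a < N := h a List.mem_cons_self
    have e : ∀ d, (a :: ds).count d * q ^ d = ds.count d * q ^ d + (if d = a then q ^ a else 0) := by
      intro d
      rw [List.count_cons]
      by_cases hd : d = a
      · subst hd; simp [add_mul]
      · have : (a == d) = false := by simpa using fun h => hd h.symm
        simp [this, hd]
    simp only [e]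
    rw [List.sum_map_add]
    have key : ∀ M : ℕ, ((List.range M).map (fun d => if d = a then q ^ a else 0)).sum =
        if a < M then q ^ a else 0 := by
      intro M
      induction M with
      | zero => simp
      | succ M ihM =>
        rw [List.range_succ, List.map_append, List.sum_append, ihM]
        simp only [List.map_cons, List.map_nil, List.sum_cons, List.sum_nil, add_zero]
        by_cases h1 : a < M
        · have h2 : M ≠ a := by omega
          have h3 : a < M + 1 := by omega
          rw [if_pos h1, if_neg h2, if_pos h3, add_zero]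
        · by_cases h2 : M = a
          · have h3 : a < M + 1 := by omega
            rw [if_neg h1, if_pos h2, if_pos h3, zero_add]
          · have h3 : ¬ a < M + 1 := by omega
            rw [if_neg h1, if_neg h2, if_neg h3]
    rw [key N, if_pos ha, add_comm]

end Cfsg.Agent.Helper59.TwPoinc
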