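import Cfsg.Agent.Lib.Helper59.TwFixF
import Cfsg.Agent.Lib.Helper6.TwistCoreD4
import Cfsg.Agent.Lib.Helper18.UiData
import Cfsg.Agent.Lib.Helper18.CommSmall

/-!
# The twisted group `³D₄(q)`: instantiating the fixed-point recursion
-/

set_option autoImplicit false
set_option linter.unusedSectionVars false
set_option linter.unusedVariables false
set_option maxRecDepth 100000

namespace Cfsg.Agent.Helper59.TwD4

open Cfsg Cfsg.Lie Cfsg.Agent.S1043 Cfsg.Agent.Helper17 Cfsg.Agent.Helper18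
open Cfsg.Agent.Helper6.Twist Cfsg.Agent.Helper6.Twist.D4 Cfsg.Agent.Helper6.Chev
open Cfsg.Agent.Helper6.ChevS Cfsg.Agent.Helper6.ChevLen
open Cfsg.Agent.Helper59.TwFix

theorem posRangeD4' : ∀ s, chevD4.IsPosRoot s → 12 ≤ s ∧ s < 24 := by
  intro s hs
  have h1 : s < 24 := hs.1
  have : ∀ s < 24, chevD4.IsPosRoot s → 12 ≤ s := by decide +kernel
  exact ⟨this s h1 hs, h1⟩

theorem commAllD4' (i : ℕ) (hi : i < 4) (s : ℕ) (hs : chevD4.IsPosRoot s) :
    Cfsg.Agent.Helper18.commCheck chevD4 (chevD4.simple i) s = true := by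
  obtain ⟨h1, h2⟩ := posRangeD4' s hs
  have h : i = 0 ∨ i = 1 ∨ i = 2 ∨ i = 3 := by omega
  rcases h with rfl | rfl | rfl | rfl
  · change Cfsg.Agent.Helper18.commCheck chevD4 18 s = true
    exact commD4_0_from12 s (by omega) h2
  · change Cfsg.Agent.Helper18.commCheck chevD4 14 s = true
    exact commD4_1_from12 s (by omega) h2
  · change Cfsg.Agent.Helper18.commCheck chevD4 13 s = true
    exact commD4_2_from12 s (by omega) h2
  · change Cfsg.Agent.Helper18.commCheck chevD4 12 s = true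
    exact commD4_3_from12 s (by omega) h2

theorem uiD4 : UiFacts chevD4 :=
  ⟨(uiFacts12_all chevD4 goodD4).1, (uiFacts12_all chevD4 goodD4).2,
    fun i hi s hs => commAllD4' i hi s hs⟩

section

variable {K : Type*} [Field K]

theorem conjS_D4 : ∀ i < chevD4.rank, ConjGoalS' K chevD4 i := by
  intro i hi
  have h := nData_D4 (F := K)
  refine ⟨fun s => if s < chevD4.nroots then etaD4 i s else 1, ?_, ?_, ?_⟩
  · intro s
    by_cases hs : s < chevD4.nroots
    · simp only [hs, if_true]; exact h.eta_pm i hi s hs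
    · simp only [hs, if_false]; left; trivial
  · intro s hs
    simp only [hs, h.neg_lt s hs, if_true]
    rw [h.eta_neg i hi s hs]
    rcases h.eta_pm i hi s hs with e | e <;> rw [e] <;> norm_num
  · intro s hs t
    simp only [hs, if_true]
    rw [h.mono i hi]
    exact h.conj i hi s hs t

theorem hypD4 : ChevHyp K chevD4 expD4 where
  hB := bnFacts_all chevD4 goodD4
  hU := uiD4
  hT := torusD4
  hTri := triOK_D4
  hNeg := negTriOK_D4
  hconj := hconj'
  hS := conjS_D4
  hNH := monomial_le_normalizer (nData_D4 (F := K))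

/-- the permutation of the roots and the signs of the graph automorphism -/
def Rf : ℕ → ℕ := dec8 gRD4a
def etaf : ℕ → ℤ := fun s => etaOf gSD4a (chevD4.rank + s)

theorem tauFactsD4 : TauFacts chevD4 Rf etaf where
  R_lt := by unfold Rf; decide +kernel
  R_pos := by
    intro s hs
    have : ∀ s < 24, chevD4.IsPosRoot s → chevD4.IsPosRoot (Rf s) := by unfold Rf; decide +kernel
    exact this s hs.1 hs
  R_neg := by
    intro s hs
    have : ∀ s < 24, chevD4.IsNegRoot s → chevD4.IsNegRoot (Rf s) := by unfold Rf; decide +kernel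
    exact this s hs.1 hs
  R_negIdx := by unfold Rf; decide +kernel
  eta_pm := by unfold etaf; decide +kernel
  eta_neg := by unfold etaf; decide +kernel

theorem hconjP (s : ℕ) (hs : s < chevD4.nroots) (t : K) :
    ((Pg : GL chevD4.Idx K) : Matrix chevD4.Idx chevD4.Idx K) * chevD4.x K s t =
      chevD4.x K (Rf s) ((etaf s : K) * t) * ((Pg : GL chevD4.Idx K) : Matrix chevD4.Idx chevD4.Idx K) :=
  hconj s hs t

theorem xg_eq_xU (r : ℕ) (t : K) : xg (nData_D4 (F := K)) r t = xU chevD4 goodD4 r t :=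
  Units.ext rfl

/-- the orbits of the triality on the fundamental roots -/
def orbD : Fin 2 → List ℕ := ![[1], [0, 2, 3]]

/-- the permutation of the nodes -/
def pif : ℕ → ℕ := fun i => ([2, 1, 3, 0] : List ℕ).getD i i

theorem orthD4 : ∀ j, OrthList chevD4 (orbD j) := by
  have h : ∀ j : Fin 2, (∀ i ∈ orbD j, i < chevD4.rank) ∧ (orbD j).Nodup ∧
      ∀ i ∈ orbD j, ∀ i' ∈ orbD j, i ≠ i' → chevD4.reflectRoot i' (chevD4.simple i) = chevD4.simple i := by
    decide +kernel
  exact fun j => ⟨(h j).1, (h j).2.1, (h j).2.2⟩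

theorem orbFacts :
    (∀ j, orbD j ≠ []) ∧ (∀ i < chevD4.rank, ∃ j, i ∈ orbD j) ∧
    (∀ i < chevD4.rank, Rf (chevD4.simple i) = chevD4.simple (pif i)) ∧
    (∀ i < chevD4.rank, etaf (chevD4.simple i) = 1) ∧
    (∀ j, ∀ a ∈ orbD j, pif a ∈ orbD j) ∧
    (∀ j, ∀ a ∈ orbD j, ∀ b ∈ orbD j, ∃ k < 3, pif^[k] a = b) := by
  unfold Rf etaf
  decide +kernel

end

end Cfsg.Agent.Helper59.TwD4
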