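import Mathlib

/-!
# Fixed points of a twisting endomorphism on a product of one, two or three commuting
one-parameter subgroups permuted cyclically (abstract part)
-/

set_option autoImplicit false
set_option linter.unusedSectionVars false
set_option linter.unusedVariables false

namespace Cfsg.Agent.Helper59.TwOrb

variable {F G : Type*} [Field F] [Group G]

section Basic

variable (x : F → G) (hx : ∀ a b, x (a + b) = x a * x b)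

include hx in
theorem op_zero : x 0 = 1 := by
  have := hx 0 0
  rw [add_zero] at this
  exact (mul_eq_left.mp this.symm)

include hx in
theorem op_neg (a : F) : x (-a) = (x a)⁻¹ := by
  rw [eq_inv_iff_mul_eq_one, ← hx, neg_add_cancel, op_zero x hx]

end Basic

/-! ### one root -/

section One

variable (x₁ : F → G) (h₁ : ∀ a b, x₁ (a + b) = x₁ a * x₁ b)
  (uniq : ∀ a, x₁ a = 1 → a = 0)

/-- the subgroup generated -/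
def X1 : Subgroup G := Subgroup.closure {g | ∃ t, g = x₁ t}

include h₁ in
theorem mem_X1 (g : G) : g ∈ X1 x₁ ↔ ∃ a, g = x₁ a := by
  constructor
  · intro hg
    unfold X1 at hg
    induction hg using Subgroup.closure_induction with
    | mem y hy => exact hy
    | one => exact ⟨0, (op_zero x₁ h₁).symm⟩
    | mul y z _ _ ihy ihz =>
      obtain ⟨a, rfl⟩ := ihy
      obtain ⟨b, rfl⟩ := ihz
      exact ⟨a + b, (h₁ a b).symm⟩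
    | inv y _ ihy =>
      obtain ⟨a, rfl⟩ := ihy
      exact ⟨-a, (op_neg x₁ h₁ a).symm⟩
  · rintro ⟨a, rfl⟩
    exact Subgroup.subset_closure ⟨a, rfl⟩

include h₁ uniq in
theorem x1_inj {a a' : F} (h : x₁ a = x₁ a') : a = a' := by
  have : x₁ (a - a') = 1 := by
    rw [sub_eq_add_neg, h₁, op_neg x₁ h₁, h, mul_inv_cancel]
  exact sub_eq_zero.mp (uniq _ this)

include h₁ uniq in
theorem card_X1 : Nat.card ↥(X1 x₁) = Nat.card F := by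
  let f : F → ↥(X1 x₁) := fun a => ⟨x₁ a, (mem_X1 x₁ h₁ _).2 ⟨a, rfl⟩⟩
  have hf : Function.Bijective f := by
    constructor
    · intro a a' e
      exact x1_inj x₁ h₁ uniq (congrArg Subtype.val e)
    · rintro ⟨g, hg⟩
      obtain ⟨a, rfl⟩ := (mem_X1 x₁ h₁ g).1 hg
      exact ⟨a, rfl⟩
  exact (Nat.card_congr (Equiv.ofBijective f hf)).symm

variable (τ : G →* G) (φ : F → F) (hτ : ∀ t, τ (x₁ t) = x₁ (φ t))

include h₁ uniq hτ in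
theorem fix_form1 (g : G) (hg : g ∈ X1 x₁) (hfix : τ g = g) : ∃ t, φ t = t ∧ g = x₁ t := by
  obtain ⟨a, rfl⟩ := (mem_X1 x₁ h₁ g).1 hg
  rw [hτ] at hfix
  exact ⟨a, x1_inj x₁ h₁ uniq hfix, rfl⟩

include h₁ uniq hτ in
theorem card_fix1 (Y : Subgroup G) (hY : ∀ g, g ∈ Y ↔ g ∈ X1 x₁ ∧ τ g = g) :
    Nat.card ↥Y = Nat.card {t : F // φ t = t} := by
  let f : {t : F // φ t = t} → ↥Y := fun t => ⟨x₁ t.1, (hY _).2
    ⟨(mem_X1 x₁ h₁ _).2 ⟨t.1, rfl⟩, by rw [hτ, t.2]⟩⟩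
  have hf : Function.Bijective f := by
    constructor
    · intro a a' e
      exact Subtype.ext (x1_inj x₁ h₁ uniq (congrArg Subtype.val e))
    · rintro ⟨g, hg⟩
      obtain ⟨t, ht, rfl⟩ := fix_form1 x₁ h₁ uniq τ φ hτ g ((hY g).1 hg).1 ((hY g).1 hg).2
      exact ⟨⟨t, ht⟩, rfl⟩
  exact (Nat.card_congr (Equiv.ofBijective f hf)).symm

end One

/-! ### two roots -/

section Two

variable (x₁ x₂ : F → G) (h₁ : ∀ a b, x₁ (a + b) = x₁ a * x₁ b)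
  (h₂ : ∀ a b, x₂ (a + b) = x₂ a * x₂ b)
  (c12 : ∀ a b, x₁ a * x₂ b = x₂ b * x₁ a)
  (uniq : ∀ a b, x₁ a * x₂ b = 1 → a = 0 ∧ b = 0)

/-- the subgroup generated -/
def X2 : Subgroup G := Subgroup.closure {g | ∃ t, g = x₁ t ∨ g = x₂ t}

include h₁ h₂ c12 in
theorem P2_mul (a b a' b' : F) :
    (x₁ a * x₂ b) * (x₁ a' * x₂ b') = x₁ (a + a') * x₂ (b + b') := by
  rw [h₁, h₂, mul_assoc, ← mul_assoc (x₂ b), ← c12 a' b]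
  simp only [mul_assoc]

include h₁ h₂ c12 in
theorem P2_inv (a b : F) : (x₁ a * x₂ b)⁻¹ = x₁ (-a) * x₂ (-b) := by
  rw [inv_eq_iff_mul_eq_one, P2_mul x₁ x₂ h₁ h₂ c12, add_neg_cancel, add_neg_cancel,
    op_zero x₁ h₁, op_zero x₂ h₂, one_mul]

include h₁ h₂ c12 in
theorem mem_X2 (g : G) : g ∈ X2 x₁ x₂ ↔ ∃ a b, g = x₁ a * x₂ b := by
  constructor
  · intro hg
    unfold X2 at hg
    induction hg using Subgroup.closure_induction with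
    | mem y hy =>
      obtain ⟨t, rfl | rfl⟩ := hy
      · exact ⟨t, 0, by rw [op_zero x₂ h₂, mul_one]⟩
      · exact ⟨0, t, by rw [op_zero x₁ h₁, one_mul]⟩
    | one => exact ⟨0, 0, by rw [op_zero x₁ h₁, op_zero x₂ h₂, one_mul]⟩
    | mul y z _ _ ihy ihz =>
      obtain ⟨a, b, rfl⟩ := ihy
      obtain ⟨a', b', rfl⟩ := ihz
      exact ⟨_, _, P2_mul x₁ x₂ h₁ h₂ c12 a b a' b'⟩
    | inv y _ ihy =>
      obtain ⟨a, b, rfl⟩ := ihy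
      exact ⟨_, _, P2_inv x₁ x₂ h₁ h₂ c12 a b⟩
  · rintro ⟨a, b, rfl⟩
    exact mul_mem (Subgroup.subset_closure ⟨a, Or.inl rfl⟩) (Subgroup.subset_closure ⟨b, Or.inr rfl⟩)

include h₁ h₂ c12 uniq in
theorem P2_inj {a b a' b' : F} (h : x₁ a * x₂ b = x₁ a' * x₂ b') : a = a' ∧ b = b' := by
  have : x₁ (a + -a') * x₂ (b + -b') = 1 := by
    rw [← P2_mul x₁ x₂ h₁ h₂ c12, ← P2_inv x₁ x₂ h₁ h₂ c12, h, mul_inv_cancel]
  obtain ⟨e1, e2⟩ := uniq _ _ this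
  exact ⟨by linear_combination e1, by linear_combination e2⟩

include h₁ h₂ c12 uniq in
theorem card_X2 : Nat.card ↥(X2 x₁ x₂) = Nat.card F ^ 2 := by
  let f : F × F → ↥(X2 x₁ x₂) := fun p =>
    ⟨x₁ p.1 * x₂ p.2, (mem_X2 x₁ x₂ h₁ h₂ c12 _).2 ⟨_, _, rfl⟩⟩
  have hf : Function.Bijective f := by
    constructor
    · rintro ⟨a, b⟩ ⟨a', b'⟩ e
      obtain ⟨e1, e2⟩ := P2_inj x₁ x₂ h₁ h₂ c12 uniq (congrArg Subtype.val e)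
      exact Prod.ext e1 e2
    · rintro ⟨g, hg⟩
      obtain ⟨a, b, rfl⟩ := (mem_X2 x₁ x₂ h₁ h₂ c12 g).1 hg
      exact ⟨(a, b), rfl⟩
  rw [← Nat.card_congr (Equiv.ofBijective f hf), Nat.card_prod, sq]

variable (τ : G →* G) (φ : F → F) (hτ1 : ∀ t, τ (x₁ t) = x₂ (φ t)) (hτ2 : ∀ t, τ (x₂ t) = x₁ (φ t))

include h₁ h₂ c12 uniq hτ1 hτ2 in
theorem fix_form2 (g : G) (hg : g ∈ X2 x₁ x₂) (hfix : τ g = g) :
    ∃ t, φ (φ t) = t ∧ g = x₁ t * x₂ (φ t) := by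
  obtain ⟨a, b, rfl⟩ := (mem_X2 x₁ x₂ h₁ h₂ c12 g).1 hg
  rw [map_mul, hτ1, hτ2, ← c12] at hfix
  obtain ⟨e1, e2⟩ := P2_inj x₁ x₂ h₁ h₂ c12 uniq hfix
  refine ⟨a, ?_, ?_⟩
  · rw [e2, e1]
  · rw [e2]

include h₁ h₂ c12 uniq hτ1 hτ2 in
theorem card_fix2 (Y : Subgroup G) (hY : ∀ g, g ∈ Y ↔ g ∈ X2 x₁ x₂ ∧ τ g = g) :
    Nat.card ↥Y = Nat.card {t : F // φ (φ t) = t} := by
  let f : {t : F // φ (φ t) = t} → ↥Y := fun t => ⟨x₁ t.1 * x₂ (φ t.1), (hY _).2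
    ⟨(mem_X2 x₁ x₂ h₁ h₂ c12 _).2 ⟨_, _, rfl⟩, by rw [map_mul, hτ1, hτ2, t.2, c12]⟩⟩
  have hf : Function.Bijective f := by
    constructor
    · intro a a' e
      exact Subtype.ext (P2_inj x₁ x₂ h₁ h₂ c12 uniq (congrArg Subtype.val e)).1
    · rintro ⟨g, hg⟩
      obtain ⟨t, ht, rfl⟩ := fix_form2 x₁ x₂ h₁ h₂ c12 uniq τ φ hτ1 hτ2 g
        ((hY g).1 hg).1 ((hY g).1 hg).2
      exact ⟨⟨t, ht⟩, rfl⟩
  exact (Nat.card_congr (Equiv.ofBijective f hf)).symm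

end Two

/-! ### three roots -/

section Three

variable (x₁ x₂ x₃ : F → G) (h₁ : ∀ a b, x₁ (a + b) = x₁ a * x₁ b)
  (h₂ : ∀ a b, x₂ (a + b) = x₂ a * x₂ b) (h₃ : ∀ a b, x₃ (a + b) = x₃ a * x₃ b)
  (c12 : ∀ a b, x₁ a * x₂ b = x₂ b * x₁ a) (c13 : ∀ a b, x₁ a * x₃ b = x₃ b * x₁ a)
  (c23 : ∀ a b, x₂ a * x₃ b = x₃ b * x₂ a)
  (uniq : ∀ a b c, x₁ a * x₂ b * x₃ c = 1 → a = 0 ∧ b = 0 ∧ c = 0)

/-- the subgroup generated -/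
def X3 : Subgroup G := Subgroup.closure {g | ∃ t, g = x₁ t ∨ g = x₂ t ∨ g = x₃ t}

include h₁ h₂ h₃ c12 c13 c23 in
theorem P3_mul (a b c a' b' c' : F) :
    (x₁ a * x₂ b * x₃ c) * (x₁ a' * x₂ b' * x₃ c') = x₁ (a + a') * x₂ (b + b') * x₃ (c + c') := by
  have e1 : x₃ c * (x₁ a' * x₂ b') = (x₁ a' * x₂ b') * x₃ c := by
    rw [← mul_assoc, ← c13, mul_assoc, ← c23, mul_assoc]
  calc (x₁ a * x₂ b * x₃ c) * (x₁ a' * x₂ b' * x₃ c')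
      = (x₁ a * x₂ b) * (x₃ c * (x₁ a' * x₂ b')) * x₃ c' := by simp only [mul_assoc]
    _ = ((x₁ a * x₂ b) * (x₁ a' * x₂ b')) * (x₃ c * x₃ c') := by rw [e1]; simp only [mul_assoc]
    _ = _ := by rw [P2_mul x₁ x₂ h₁ h₂ c12, ← h₃]

include h₁ h₂ h₃ c12 c13 c23 in
theorem P3_inv (a b c : F) : (x₁ a * x₂ b * x₃ c)⁻¹ = x₁ (-a) * x₂ (-b) * x₃ (-c) := by
  rw [inv_eq_iff_mul_eq_one, P3_mul x₁ x₂ x₃ h₁ h₂ h₃ c12 c13 c23, add_neg_cancel, add_neg_cancel,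
    add_neg_cancel, op_zero x₁ h₁, op_zero x₂ h₂, op_zero x₃ h₃, one_mul, one_mul]

include h₁ h₂ h₃ c12 c13 c23 in
theorem mem_X3 (g : G) : g ∈ X3 x₁ x₂ x₃ ↔ ∃ a b c, g = x₁ a * x₂ b * x₃ c := by
  constructor
  · intro hg
    unfold X3 at hg
    induction hg using Subgroup.closure_induction with
    | mem y hy =>
      obtain ⟨t, rfl | rfl | rfl⟩ := hy
      · exact ⟨t, 0, 0, by rw [op_zero x₂ h₂, op_zero x₃ h₃, mul_one, mul_one]⟩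
      · exact ⟨0, t, 0, by rw [op_zero x₁ h₁, op_zero x₃ h₃, one_mul, mul_one]⟩
      · exact ⟨0, 0, t, by rw [op_zero x₁ h₁, op_zero x₂ h₂, one_mul, one_mul]⟩
    | one => exact ⟨0, 0, 0, by rw [op_zero x₁ h₁, op_zero x₂ h₂, op_zero x₃ h₃, one_mul, one_mul]⟩
    | mul y z _ _ ihy ihz =>
      obtain ⟨a, b, c, rfl⟩ := ihy
      obtain ⟨a', b', c', rfl⟩ := ihz
      exact ⟨_, _, _, P3_mul x₁ x₂ x₃ h₁ h₂ h₃ c12 c13 c23 a b c a' b' c'⟩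
    | inv y _ ihy =>
      obtain ⟨a, b, c, rfl⟩ := ihy
      exact ⟨_, _, _, P3_inv x₁ x₂ x₃ h₁ h₂ h₃ c12 c13 c23 a b c⟩
  · rintro ⟨a, b, c, rfl⟩
    exact mul_mem (mul_mem (Subgroup.subset_closure ⟨a, Or.inl rfl⟩)
      (Subgroup.subset_closure ⟨b, Or.inr (Or.inl rfl)⟩))
      (Subgroup.subset_closure ⟨c, Or.inr (Or.inr rfl)⟩)

include h₁ h₂ h₃ c12 c13 c23 uniq in
theorem P3_inj {a b c a' b' c' : F} (h : x₁ a * x₂ b * x₃ c = x₁ a' * x₂ b' * x₃ c') :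
    a = a' ∧ b = b' ∧ c = c' := by
  have : x₁ (a + -a') * x₂ (b + -b') * x₃ (c + -c') = 1 := by
    rw [← P3_mul x₁ x₂ x₃ h₁ h₂ h₃ c12 c13 c23, ← P3_inv x₁ x₂ x₃ h₁ h₂ h₃ c12 c13 c23, h,
      mul_inv_cancel]
  obtain ⟨e1, e2, e3⟩ := uniq _ _ _ this
  exact ⟨by linear_combination e1, by linear_combination e2, by linear_combination e3⟩

include h₁ h₂ h₃ c12 c13 c23 uniq in
theorem card_X3 : Nat.card ↥(X3 x₁ x₂ x₃) = Nat.card F ^ 3 := by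
  let f : F × F × F → ↥(X3 x₁ x₂ x₃) := fun p =>
    ⟨x₁ p.1 * x₂ p.2.1 * x₃ p.2.2, (mem_X3 x₁ x₂ x₃ h₁ h₂ h₃ c12 c13 c23 _).2 ⟨_, _, _, rfl⟩⟩
  have hf : Function.Bijective f := by
    constructor
    · rintro ⟨a, b, c⟩ ⟨a', b', c'⟩ e
      obtain ⟨e1, e2, e3⟩ := P3_inj x₁ x₂ x₃ h₁ h₂ h₃ c12 c13 c23 uniq (congrArg Subtype.val e)
      exact Prod.ext e1 (Prod.ext e2 e3)
    · rintro ⟨g, hg⟩
      obtain ⟨a, b, c, rfl⟩ := (mem_X3 x₁ x₂ x₃ h₁ h₂ h₃ c12 c13 c23 g).1 hg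
      exact ⟨(a, b, c), rfl⟩
  rw [← Nat.card_congr (Equiv.ofBijective f hf), Nat.card_prod, Nat.card_prod]
  ring

variable (τ : G →* G) (φ : F → F) (hτ1 : ∀ t, τ (x₁ t) = x₂ (φ t)) (hτ2 : ∀ t, τ (x₂ t) = x₃ (φ t))
  (hτ3 : ∀ t, τ (x₃ t) = x₁ (φ t))

include h₁ h₂ h₃ c12 c13 c23 hτ1 hτ2 hτ3 in
theorem tau_P3 (a b c : F) :
    τ (x₁ a * x₂ b * x₃ c) = x₁ (φ c) * x₂ (φ a) * x₃ (φ b) := by
  rw [map_mul, map_mul, hτ1, hτ2, hτ3, mul_assoc, ← c13, ← mul_assoc, ← c12]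

include h₁ h₂ h₃ c12 c13 c23 uniq hτ1 hτ2 hτ3 in
theorem fix_form3 (g : G) (hg : g ∈ X3 x₁ x₂ x₃) (hfix : τ g = g) :
    ∃ t, φ (φ (φ t)) = t ∧ g = x₁ t * x₂ (φ t) * x₃ (φ (φ t)) := by
  obtain ⟨a, b, c, rfl⟩ := (mem_X3 x₁ x₂ x₃ h₁ h₂ h₃ c12 c13 c23 g).1 hg
  rw [tau_P3 x₁ x₂ x₃ h₁ h₂ h₃ c12 c13 c23 τ φ hτ1 hτ2 hτ3] at hfix
  obtain ⟨e1, e2, e3⟩ := P3_inj x₁ x₂ x₃ h₁ h₂ h₃ c12 c13 c23 uniq hfix
  refine ⟨a, ?_, ?_⟩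
  · rw [e2, e3, e1]
  · rw [e2, e3]

include h₁ h₂ h₃ c12 c13 c23 uniq hτ1 hτ2 hτ3 in
theorem card_fix3 (Y : Subgroup G) (hY : ∀ g, g ∈ Y ↔ g ∈ X3 x₁ x₂ x₃ ∧ τ g = g) :
    Nat.card ↥Y = Nat.card {t : F // φ (φ (φ t)) = t} := by
  let f : {t : F // φ (φ (φ t)) = t} → ↥Y := fun t =>
    ⟨x₁ t.1 * x₂ (φ t.1) * x₃ (φ (φ t.1)), (hY _).2
      ⟨(mem_X3 x₁ x₂ x₃ h₁ h₂ h₃ c12 c13 c23 _).2 ⟨_, _, _, rfl⟩, by
        rw [tau_P3 x₁ x₂ x₃ h₁ h₂ h₃ c12 c13 c23 τ φ hτ1 hτ2 hτ3, t.2]⟩⟩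
  have hf : Function.Bijective f := by
    constructor
    · intro a a' e
      exact Subtype.ext (P3_inj x₁ x₂ x₃ h₁ h₂ h₃ c12 c13 c23 uniq (congrArg Subtype.val e)).1
    · rintro ⟨g, hg⟩
      obtain ⟨t, ht, rfl⟩ := fix_form3 x₁ x₂ x₃ h₁ h₂ h₃ c12 c13 c23 uniq τ φ hτ1 hτ2 hτ3 g
        ((hY g).1 hg).1 ((hY g).1 hg).2
      exact ⟨⟨t, ht⟩, rfl⟩
  exact (Nat.card_congr (Equiv.ofBijective f hf)).symm

end Three

end Cfsg.Agent.Helper59.TwOrb
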