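import Cfsg.Agent.Lib.Helper59.TwFixF
import Cfsg.Agent.Lib.Helper59.TwOrb

/-!
# Orbits of length one, two and three of fundamental roots: the fixed points of `τ` in `X_J`
-/

set_option autoImplicit false
set_option linter.unusedSectionVars false
set_option linter.unusedVariables false

namespace Cfsg.Agent.Helper59.TwFix

open Cfsg Cfsg.Lie Cfsg.Agent.S1043 Cfsg.Agent.Helper17 Cfsg.Agent.Helper18
open Cfsg.Agent.Helper6.Twist
open scoped Pointwise

section

variable {F : Type*} [Field F] {D : ChevalleyDatum} (hD : Good D) {tbl : List ℕ}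
  (C : ChevHyp F D tbl)

/-- the one-parameter group of the `i`-th fundamental root -/
noncomputable def xs (i : ℕ) : F → GL D.Idx F := fun t => xU D hD (D.simple i) t

theorem xs_add (i : ℕ) (a b : F) : xs hD i (a + b) = xs hD i a * xs hD i b := by
  apply Units.ext
  simp only [xs, Units.val_mul, xU_val]
  rw [x_add D hD]

theorem orthList_single {i : ℕ} (hi : i < D.rank) : OrthList D [i] where
  lt := by intro k hk; rw [List.mem_singleton] at hk; rw [hk]; exact hi
  nodup := List.nodup_singleton i
  orth := by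
    intro k hk k' hk' hne
    rw [List.mem_singleton] at hk hk'
    exact absurd (hk.trans hk'.symm) hne

include C in
/-- a fundamental root element in the group generated by the root subgroups of orthogonal
fundamental roots is trivial -/
theorem simple_not_mem_XJ {i : ℕ} {J : List ℕ} (hJ : OrthList D (i :: J)) (d : F)
    (h : xU D hD (D.simple i) d ∈ XJ hD (F := F) J) : d = 0 := by
  have hi : i < D.rank := hJ.lt i List.mem_cons_self
  have hnd := List.nodup_cons.mp hJ.nodup
  have h1 : nWordGL D hD [i] * xU D hD (D.simple i) d * (nWordGL D hD [i])⁻¹ ∈ D.negUnipotent F := by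
    apply orbit_conj_neg hD C (orthList_single hi)
    exact Subgroup.subset_closure ⟨i, List.mem_singleton_self i, d, rfl⟩
  have h2 : ∀ x ∈ XJ hD (F := F) J,
      nWordGL D hD [i] * x * (nWordGL D hD [i])⁻¹ ∈ D.posUnipotent F := by
    have hle : XJ hD (F := F) J ≤
        (D.posUnipotent F).comap (MulAut.conj (nWordGL D hD [i])).toMonoidHom := by
      unfold XJ
      rw [Subgroup.closure_le]
      rintro g ⟨k, hk, t, rfl⟩
      have hkr : k < D.rank := hJ.lt k (List.mem_cons_of_mem _ hk)
      obtain ⟨c, _, hc⟩ := conj_word_orth hD C k hkr [i]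
        (by intro k' hk'; rw [List.mem_singleton] at hk'; rw [hk']; exact hi)
        (by
          intro i' hi'
          rw [List.mem_singleton] at hi'
          subst hi'
          exact hJ.orth k (List.mem_cons_of_mem _ hk) i' List.mem_cons_self
            (by rintro rfl; exact hnd.1 hk))
      change nWordGL D hD [i] * xU D hD (D.simple k) t * (nWordGL D hD [i])⁻¹ ∈ D.posUnipotent F
      rw [hc t]
      exact Subgroup.subset_closure ⟨_, _, C.hB.hsimpPos k hkr, rfl⟩
    exact fun x hx => hle hx
  have h3 := h2 _ h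
  have hbot := (borel_inf_neg (F := F) D C.hT C.hTri C.hNeg).1
  have h4 : nWordGL D hD [i] * xU D hD (D.simple i) d * (nWordGL D hD [i])⁻¹ = 1 := by
    rw [← Subgroup.mem_bot, ← hbot]
    exact ⟨Subgroup.mem_sup_left h3, h1⟩
  have h5 : xU D hD (D.simple i) d = 1 := by
    have e : xU D hD (D.simple i) d = (nWordGL D hD [i])⁻¹ *
        (nWordGL D hD [i] * xU D hD (D.simple i) d * (nWordGL D hD [i])⁻¹) * nWordGL D hD [i] := by
      group
    rw [e, h4]
    group
  exact xU_eq_one D hD C.hB _ (C.hB.hsimp i hi) d h5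

/-! ### the three shapes of `X_J` -/

theorem XJ_one (i : ℕ) : XJ hD (F := F) [i] = TwOrb.X1 (xs hD i) := by
  unfold XJ TwOrb.X1 xs
  congr 1
  ext g
  simp only [List.mem_cons, List.not_mem_nil, or_false, exists_eq_left, Set.mem_ofPred_eq]

theorem XJ_two (i j : ℕ) : XJ hD (F := F) [i, j] = TwOrb.X2 (xs hD i) (xs hD j) := by
  unfold XJ TwOrb.X2 xs
  congr 1
  ext g
  simp only [List.mem_cons, List.not_mem_nil, or_false, exists_eq_or_imp, exists_eq_left,
    Set.mem_ofPred_eq, exists_or]

theorem XJ_three (i j k : ℕ) :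
    XJ hD (F := F) [i, j, k] = TwOrb.X3 (xs hD i) (xs hD j) (xs hD k) := by
  unfold XJ TwOrb.X3 xs
  congr 1
  ext g
  simp only [List.mem_cons, List.not_mem_nil, or_false, exists_eq_or_imp, exists_eq_left,
    Set.mem_ofPred_eq, exists_or]

include C in
theorem uniq_one {i : ℕ} (hi : i < D.rank) (a : F) (h : xs hD i a = 1) : a = 0 :=
  xU_eq_one D hD C.hB _ (C.hB.hsimp i hi) a h

include C in
theorem uniq_two {i j : ℕ} (hJ : OrthList D [i, j]) (a b : F)
    (h : xs hD i a * xs hD j b = 1) : a = 0 ∧ b = 0 := by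
  have hj : j < D.rank := hJ.lt j (by simp)
  have h1 : xs hD i a = (xs hD j b)⁻¹ := eq_inv_of_mul_eq_one_left h
  have ha : a = 0 := by
    apply simple_not_mem_XJ hD C hJ a
    change xs hD i a ∈ _
    rw [h1]
    exact inv_mem (Subgroup.subset_closure ⟨j, List.mem_singleton_self j, b, rfl⟩)
  refine ⟨ha, ?_⟩
  rw [ha] at h
  have : xs hD i (0 : F) = 1 := xU_zero hD _
  rw [this, one_mul] at h
  exact uniq_one hD C hj b h

include C in
theorem uniq_three {i j k : ℕ} (hJ : OrthList D [i, j, k]) (a b c : F)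
    (h : xs hD i a * xs hD j b * xs hD k c = 1) : a = 0 ∧ b = 0 ∧ c = 0 := by
  have h1 : xs hD i a = (xs hD j b * xs hD k c)⁻¹ := by
    rw [mul_assoc] at h
    exact eq_inv_of_mul_eq_one_left h
  have ha : a = 0 := by
    apply simple_not_mem_XJ hD C hJ a
    change xs hD i a ∈ _
    rw [h1]
    exact inv_mem (mul_mem (Subgroup.subset_closure ⟨j, by simp, b, rfl⟩)
      (Subgroup.subset_closure ⟨k, by simp, c, rfl⟩))
  refine ⟨ha, ?_⟩
  rw [ha] at h
  have : xs hD i (0 : F) = 1 := xU_zero hD _
  rw [this, one_mul] at h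
  exact uniq_two hD C hJ.tail b c h

end

end Cfsg.Agent.Helper59.TwFix
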