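import Mathlib

/-!
# Counting the elements of a finite field fixed by a power of the Frobenius map
-/

set_option autoImplicit false

namespace Cfsg.Agent.Helper59.TwOrb

theorem card_fixed_pow {K : Type*} [Field K] [Fintype K] (q d : ℕ) (hq : 1 < q)
    (hK : Fintype.card K = q ^ d) : Nat.card {t : K // t ^ q = t} = q := by
  classical
  have hker : Nat.card (powMonoidHom (q - 1) : Kˣ →* Kˣ).ker = q - 1 := by
    rw [IsCyclic.card_powMonoidHom_ker, Nat.card_units, Nat.card_eq_fintype_card, hK]
    apply Nat.gcd_eq_right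
    simpa only [one_pow] using Nat.sub_dvd_pow_sub_pow q 1 d
  have hmem : ∀ u : Kˣ, u ∈ (powMonoidHom (q - 1) : Kˣ →* Kˣ).ker ↔ u ^ (q - 1) = 1 := by
    intro u
    rw [MonoidHom.mem_ker, powMonoidHom_apply]
  have hq1 : q - 1 + 1 = q := by omega
  let f : Option ↥(powMonoidHom (q - 1) : Kˣ →* Kˣ).ker → {t : K // t ^ q = t} := fun o =>
    match o with
    | none => ⟨0, zero_pow (by omega)⟩
    | some u => ⟨((u : Kˣ) : K), by
        have h1 : (u : Kˣ) ^ (q - 1) = 1 := (hmem _).1 u.2
        have h2 : ((u : Kˣ) : K) ^ (q - 1) = 1 := by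
          rw [← Units.val_pow_eq_pow_val, h1]; rfl
        calc ((u : Kˣ) : K) ^ q = ((u : Kˣ) : K) ^ (q - 1 + 1) := by rw [hq1]
          _ = ((u : Kˣ) : K) := by rw [pow_succ, h2, one_mul]⟩
  have hf : Function.Bijective f := by
    constructor
    · rintro (_ | u) (_ | u') e
      · rfl
      · exfalso
        have : (0 : K) = ((u' : Kˣ) : K) := congrArg Subtype.val e
        exact (Units.ne_zero _) this.symm
      · exfalso
        have : ((u : Kˣ) : K) = 0 := congrArg Subtype.val e
        exact (Units.ne_zero _) this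
      · have : ((u : Kˣ) : K) = ((u' : Kˣ) : K) := congrArg Subtype.val e
        rw [Option.some_inj]
        exact Subtype.ext (Units.ext this)
    · rintro ⟨t, ht⟩
      by_cases h0 : t = 0
      · exact ⟨none, Subtype.ext h0.symm⟩
      · have h2 : t ^ (q - 1) = 1 := by
          have : t ^ (q - 1) * t = 1 * t := by rw [← pow_succ, hq1, ht, one_mul]
          exact mul_right_cancel₀ h0 this
        refine ⟨some ⟨Units.mk0 t h0, (hmem _).2 ?_⟩, Subtype.ext rfl⟩
        apply Units.ext
        rw [Units.val_pow_eq_pow_val, Units.val_mk0, h2]; rfl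
  rw [← Nat.card_congr (Equiv.ofBijective f hf), Finite.card_option, hker]
  omega

end Cfsg.Agent.Helper59.TwOrb
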