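import Cfsg.Agent.Lib.Helper59.TwFixC
import Cfsg.Agent.Lib.Helper59.ChevOrder
import Cfsg.Agent.Lib.Helper6.ChevBNLen

/-!
# `|U_w⁻| = |F|^{l(w)}` for every element of `N`, with `l` computed in the integral Weyl model
-/

set_option autoImplicit false
set_option linter.unusedSectionVars false
set_option linter.unusedVariables false

namespace Cfsg.Agent.Helper59.TwFix

open Cfsg Cfsg.Lie Cfsg.Agent.S1043 Cfsg.Agent.Helper17 Cfsg.Agent.Helper18
open Cfsg.Agent.Helper6 Cfsg.Agent.Helper6.Weyl Cfsg.Agent.Helper6.Chev Cfsg.Agent.Helper6.ChevLen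
open scoped Pointwise

section

variable {F : Type*} [Field F] [Fintype F] {D : ChevalleyDatum} (hD : Good D) {tbl : List ℕ}
  (CH : ChevHyp F D tbl)
  {η : ℕ → ℕ → ℤ} (h : NData F D η)
  {l : ℕ} {V : VDatum l} {vec : ℕ → Vec l} (B : Bridge D V vec)
  (hsimp : ∀ j < D.rank, ∀ c : F, c ≠ 0 → D.hMat F (D.simple j) c =
    Matrix.diagonal (Sum.elim (fun _ => (1 : F)) (fun s : Fin D.nroots => c ^ (D.cartan j s))))
  (M : CoxeterMatrix (Fin l)) (hM : ∀ i j, M i j = orderOf (V.s i * V.s j))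
  (hrel : ∀ i j : Fin l, i < j → (Ni h i * Ni h j) ^ (M i j) ∈ D.diagonalSubgroup F)

include hD CH h B hsimp hM hrel in
theorem card_Uw (n : GL D.Idx F) (hn : n ∈ D.monomialSubgroup F) :
    Nat.card ↥(Uw D n) = Fintype.card F ^
      V.nJ VDatum.allJ ((thetaHom h B hsimp ⟨n, hn⟩ : V.Wf) : (Mat l)ˣ) := by
  obtain ⟨P, hPB, hPN, hPS⟩ := bnPair_exists (F := F) D hD CH.hB CH.hU CH.hT CH.hTri CH.hNeg CH.hconj
    CH.hS CH.hNH
  have hBG : D.borelSubgroup F ≤ D.group F := borel_le D hD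
  have hNG : D.monomialSubgroup F ≤ D.group F := monomial_le D hD
  have hUB : D.posUnipotent F ≤ D.borelSubgroup F := le_sup_left
  have hHB : D.diagonalSubgroup F ≤ D.borelSubgroup F := le_sup_right
  have hHN : D.diagonalSubgroup F ≤ D.monomialSubgroup F := le_sup_left
  have hBN := (borel_inf_monomial (F := F) D hD CH.hB CH.hT CH.hTri CH.hNeg CH.hconj CH.hS CH.hNH).2
  have hinj : ∀ r < D.nroots, ∀ t : F, D.x F r t = 1 → t = 0 := by
    intro r hr t ht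
    exact xU_eq_one D hD CH.hB r hr t (Units.ext ht)
  have hmemB : ∀ g : ↥(D.group F), g ∈ P.B ↔ (g : GL D.Idx F) ∈ D.borelSubgroup F := by
    intro g; rw [hPB, Subgroup.mem_subgroupOf]
  have hmemN : ∀ g : ↥(D.group F), g ∈ P.N ↔ (g : GL D.Idx F) ∈ D.monomialSubgroup F := by
    intro g; rw [hPN, Subgroup.mem_subgroupOf]
  have hqC : ∀ s ∈ P.S, Nat.card (C P s) = Fintype.card F * Nat.card P.B := by
    intro s hs
    have hs' := hs
    rw [hPS] at hs'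
    obtain ⟨i, hi, hmat⟩ := hs'
    have : s = ⟨nGL D hD i, nGL_mem_group D hD i⟩ :=
      Subtype.ext (Units.ext (hmat.trans (nGL_val D hD i).symm))
    rw [this]
    exact ChevOrder.card_C_simple D hD P hPB CH.hB CH.hU CH.hT CH.hTri CH.hNeg CH.hconj CH.hNH hinj i hi
  set n' : ↥(D.group F) := ⟨n, hNG hn⟩ with hn'
  have hn'N : n' ∈ P.N := (hmemN n').2 hn
  have hlen : len P n' = V.nJ VDatum.allJ ((thetaHom h B hsimp ⟨n, hn⟩ : V.Wf) : (Mat l)ˣ) :=
    len_eq_nJ h B hsimp P hPB hPN hPS hBN M hM hrel hNG n' hn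
  have hcardC := BNCount.card_C P hqC _ n' hn'N rfl
  rw [hlen] at hcardC
  -- the double coset as `B × U_w⁻`
  let f : ↥P.B × ↥(Uw D n) → C P n' := fun p =>
    ⟨p.1.1 * n' * ⟨p.2.1, hBG (hUB (Uw_le_pos D n p.2.2))⟩,
      (mem_C P).2 ⟨p.1.1, p.1.2, _, (hmemB _).2 (hUB (Uw_le_pos D n p.2.2)), rfl⟩⟩
  have hf : Function.Bijective f := by
    constructor
    · rintro ⟨⟨b, hb⟩, ⟨u, hu⟩⟩ ⟨⟨b', hb'⟩, ⟨u', hu'⟩⟩ e
      have e1 : (b : GL D.Idx F) * n * u = (b' : GL D.Idx F) * n * u' := by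
        have := congrArg (fun x : C P n' => ((x : ↥(D.group F)) : GL D.Idx F)) e
        exact this
      have := (bruhat_nf_unique D hD CH.hB CH.hU CH.hT CH.hTri CH.hNeg CH.hconj CH.hS CH.hNH
        b b' n n u u' ((hmemB b).1 hb) ((hmemB b').1 hb') hn hn hu hu' e1).2 rfl
      have hbb : b = b' := Subtype.ext this.1
      subst hbb
      have huu : u = u' := this.2
      subst huu
      rfl
    · rintro ⟨g, hg⟩
      obtain ⟨b₁, hb₁, b₂, hb₂, rfl⟩ := (mem_C P).1 hg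
      -- decompose `b₂⁻¹ = u₀ k`
      have hBs : ((D.borelSubgroup F : Subgroup (GL D.Idx F)) : Set (GL D.Idx F)) =
          (D.posUnipotent F : Set (GL D.Idx F)) * (D.diagonalSubgroup F : Set (GL D.Idx F)) :=
        Subgroup.coe_mul_of_right_le_normalizer_left _ _ (diag_le_normalizer D CH.hT)
      have hb₂' : ((b₂ : GL D.Idx F))⁻¹ ∈
          ((D.borelSubgroup F : Subgroup (GL D.Idx F)) : Set (GL D.Idx F)) :=
        inv_mem ((hmemB b₂).1 hb₂)
      rw [hBs] at hb₂'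
      obtain ⟨u₀, hu₀, k, hk, ek⟩ := hb₂'
      have hnk : n * k⁻¹ ∈ D.monomialSubgroup F := mul_mem hn (inv_mem (hHN hk))
      obtain ⟨h', hh', l', hl', enl⟩ := mem_monomial_decomp D hD CH.hB CH.hS CH.hNH _ hnk
      obtain ⟨u₁, hu₁, u₂, hu₂, eu, hnu₁⟩ :=
        Uw_decomp D hD CH.hB CH.hU CH.hT CH.hTri CH.hNeg CH.hconj CH.hS CH.hNH l'.length l' le_rfl hl' h' hh'
          u₀⁻¹ (inv_mem hu₀)
      rw [← enl] at hu₂ hnu₁
      have hUwEq : Uw D (n * k⁻¹) = Uw D n :=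
        (chevAmb hD CH).Uw_mul_H hn (inv_mem hk)
      rw [hUwEq] at hu₂
      have hkn : n * k⁻¹ * n⁻¹ ∈ D.diagonalSubgroup F :=
        (chevAmb hD CH).H_normal n hn k⁻¹ (inv_mem hk)
      have hbnew : (b₁ : GL D.Idx F) * ((n * k⁻¹) * u₁ * (n * k⁻¹)⁻¹) * (n * k⁻¹ * n⁻¹) ∈
          D.borelSubgroup F :=
        mul_mem (mul_mem ((hmemB b₁).1 hb₁) (hUB hnu₁)) (hHB hkn)
      refine ⟨(⟨⟨_, hBG hbnew⟩, (hmemB _).2 hbnew⟩, ⟨u₂, hu₂⟩), ?_⟩
      apply Subtype.ext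
      apply Subtype.ext
      have eb : (b₂ : GL D.Idx F) = k⁻¹ * u₀⁻¹ := by
        have : (b₂ : GL D.Idx F) = (((b₂ : GL D.Idx F))⁻¹)⁻¹ := (inv_inv _).symm
        rw [this, ← ek, mul_inv_rev]
      show (b₁ : GL D.Idx F) * ((n * k⁻¹) * u₁ * (n * k⁻¹)⁻¹) * (n * k⁻¹ * n⁻¹) * n * u₂ =
        (b₁ : GL D.Idx F) * n * (b₂ : GL D.Idx F)
      rw [eb, eu]
      group
  have hcard := Nat.card_congr (Equiv.ofBijective f hf)
  rw [Nat.card_prod, hcardC] at hcard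
  have hBpos : 0 < Nat.card P.B := Nat.card_pos
  have : Nat.card ↥(Uw D n) * Nat.card P.B =
      Fintype.card F ^ V.nJ VDatum.allJ ((thetaHom h B hsimp ⟨n, hn⟩ : V.Wf) : (Mat l)ˣ) *
        Nat.card P.B := by
    rw [← hcard]; ring
  exact Nat.eq_of_mul_eq_mul_right hBpos this

end

end Cfsg.Agent.Helper59.TwFix
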