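import Cfsg.Agent.Lib.Helper59.PoincC
import Cfsg.Agent.Lib.Helper6.TwistWeyl

/-!
# The length generating function of the centraliser of a diagram symmetry in a Weyl group,
by enumeration of the orbit of a regular fixed vector
-/

set_option autoImplicit false
set_option linter.unusedSectionVars false
set_option linter.unusedVariables false

namespace Cfsg.Agent.Helper59.TwPoinc

open Cfsg.Agent.Helper6.Weyl Cfsg.Agent.Helper6.Twist Cfsg.Agent.Helper59.Poincare Matrix

section

variable {l : ℕ} (V : VDatum l)

/-- apply the reflections of a list to a vector -/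
def applyL (L : List (Fin l)) (v : Vec l) : Vec l := L.foldr (fun i acc => (V.S i).mulVec acc) v

theorem wpM_smul (L : List (Fin l)) (v : Vec l) : V.wpM L • v = applyL V L v := by
  induction L with
  | nil => simp [applyL]
  | cons i L ih =>
    rw [VDatum.wpM_cons, mul_smul, ih, VDatum.s_smul]
    rfl

/-- list version of the depth -/
def depthL (μ : Vec l) : ℕ := (V.pos.filter (fun β => decide (V.form μ β < 0))).length

theorem posJ_allJ (hnd : V.pos.Nodup) : V.posJ VDatum.allJ = V.pos.toFinset := by
  ext β
  rw [VDatum.mem_posJ, List.mem_toFinset]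
  constructor
  · exact fun h => h.1
  · exact fun h => ⟨h, fun j hj => absurd trivial hj⟩

theorem depth_eq_depthL (hnd : V.pos.Nodup) (μ : Vec l) :
    depth V VDatum.allJ μ = depthL V μ := by
  unfold depth depthL
  rw [posJ_allJ V hnd, List.sum_toFinset _ hnd, ← List.countP_eq_length_filter]
  induction V.pos with
  | nil => simp
  | cons β L ih =>
    rw [List.map_cons, List.sum_cons, List.countP_cons, ih]
    by_cases h : V.form μ β < 0 <;> simp [h, add_comm]

theorem posJ_false : V.posJ (fun _ => False) = ∅ := by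
  ext β
  rw [VDatum.mem_posJ]
  simp only [Finset.notMem_empty, iff_false, not_and]
  intro hβ h0
  have := (V.valid.nonneg β hβ).2
  apply this
  funext j
  exact h0 j (fun h => h)

variable (lam : Vec l) (hreg : ∀ i, 0 < pair V.A i lam)

include hreg in
theorem nJ_eq_depth {w : (Mat l)ˣ} (hw : w ∈ V.Wf) :
    V.nJ VDatum.allJ w = depth V VDatum.allJ (w • lam) := by
  have h := nJ_eq V VDatum.allJ (fun _ => False) lam (fun i _ => (hreg i).le)
    (fun i => ⟨False.elim, fun h => absurd h.2 (hreg i).ne'⟩) hw
  rw [h]
  unfold mJ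
  rw [posJ_false, Finset.sum_empty, zero_add]

include hreg in
theorem smul_lam_inj {w w' : (Mat l)ˣ} (hw : w ∈ V.Wf) (hw' : w' ∈ V.Wf)
    (h : w • lam = w' • lam) : w = w' := by
  have hfix : (w'⁻¹ * w) • lam = lam := by
    rw [mul_smul, h, ← mul_smul, inv_mul_cancel, one_smul]
  have hmem := V.mem_W_of_fix VDatum.allJ (fun _ => False) lam (fun i _ => (hreg i).le)
    (fun i => ⟨False.elim, fun h => absurd h.2 (hreg i).ne'⟩) _ (w'⁻¹ * w) rfl
    (V.Wf.mul_mem (V.Wf.inv_mem hw') hw) hfix
  have hbot : V.W (fun _ => False) = ⊥ := by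
    rw [VDatum.W, eq_bot_iff, Subgroup.closure_le]
    rintro g ⟨i, hi, _⟩
    exact hi.elim
  rw [hbot, Subgroup.mem_bot] at hmem
  have : w = w' * (w'⁻¹ * w) := by group
  rw [this, hmem, mul_one]

variable {l' : ℕ} (orb : Fin l' → List (Fin l))

/-- certificate: the list is closed under the generators -/
def closedChk (vs : List (Vec l)) (nxt : List (List ℕ)) : Bool :=
  (vs.zip nxt).all fun p => (List.finRange l').all fun j =>
    decide (p.2.getD j 0 < vs.length) &&
      decide (applyL V (orb j) p.1 = vs.getD (p.2.getD j 0) 0)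

/-- the orbit lists indexed by natural numbers -/
def orbN (j : ℕ) : List (Fin l) := if h : j < l' then orb ⟨j, h⟩ else []

/-- certificate: every element of the list is reached from the first one -/
def reachChk (vs : List (Vec l)) (par : List (ℕ × ℕ)) : Bool :=
  (List.range vs.length).all fun a =>
    if a = 0 then decide (vs.getD 0 0 = lam)
    else decide ((par.getD a (0, 0)).1 < a) &&
      decide (vs.getD a 0 = applyL V (orbN orb (par.getD a (0, 0)).2) (vs.getD (par.getD a (0, 0)).1 0))

/-- the subgroup generated by the orbit products -/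
def Hgen : Subgroup (Mat l)ˣ := Subgroup.closure (Set.range fun j => V.wpM (orb j))

theorem wpM_orbN_mem (j : ℕ) : V.wpM (orbN orb j) ∈ Hgen V orb := by
  unfold orbN
  split_ifs with h
  · exact Subgroup.subset_closure ⟨⟨j, h⟩, rfl⟩
  · rw [VDatum.wpM_nil]; exact Subgroup.one_mem _

theorem reach_sound (vs : List (Vec l)) (par : List (ℕ × ℕ))
    (h : reachChk V lam orb vs par = true) :
    ∀ a < vs.length, ∃ w ∈ Hgen V orb, w • lam = vs.getD a 0 := by
  unfold reachChk at h
  rw [List.all_eq_true] at h
  intro a
  induction a using Nat.strong_induction_on with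
  | _ a ih =>
    intro ha
    have h1 := h a (List.mem_range.2 ha)
    by_cases h0 : a = 0
    · rw [if_pos h0] at h1
      refine ⟨1, Subgroup.one_mem _, ?_⟩
      rw [one_smul, h0]
      exact (of_decide_eq_true h1).symm
    · rw [if_neg h0, Bool.and_eq_true] at h1
      obtain ⟨h2, h3⟩ := h1
      have h2' := of_decide_eq_true h2
      have h3' := of_decide_eq_true h3
      obtain ⟨w, hw, e⟩ := ih _ h2' (lt_trans h2' ha)
      refine ⟨V.wpM (orbN orb (par.getD a (0, 0)).2) * w,
        Subgroup.mul_mem _ (wpM_orbN_mem V orb _) hw, ?_⟩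
      rw [mul_smul, e, wpM_smul, ← h3']

theorem closed_sound (vs : List (Vec l)) (nxt : List (List ℕ)) (hlen : nxt.length = vs.length)
    (h : closedChk V orb vs nxt = true) :
    ∀ v ∈ vs, ∀ j, applyL V (orb j) v ∈ vs := by
  unfold closedChk at h
  rw [List.all_eq_true] at h
  intro v hv j
  obtain ⟨a, ha, rfl⟩ := List.getElem_of_mem hv
  have ha' : a < nxt.length := by rw [hlen]; exact ha
  have hmem : (vs[a], nxt[a]) ∈ vs.zip nxt := by
    have : (vs.zip nxt)[a]'(by simp [List.length_zip]; exact ⟨ha, ha'⟩) = (vs[a], nxt[a]) := by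
      simp
    rw [← this]
    exact List.getElem_mem _
  have h1 := h _ hmem
  rw [List.all_eq_true] at h1
  have h2 := h1 j (List.mem_finRange j)
  rw [Bool.and_eq_true] at h2
  have h3 := of_decide_eq_true h2.1
  have h4 := of_decide_eq_true h2.2
  simp only at h3 h4
  rw [h4, List.getD_eq_getElem _ _ h3]
  exact List.getElem_mem _

/-- the orbit of `lam` under the group generated by the orbit products is the list -/
theorem orbit_eq (vs : List (Vec l)) (nxt : List (List ℕ)) (par : List (ℕ × ℕ))
    (hlen : nxt.length = vs.length) (hne : vs ≠ [])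
    (hc : closedChk V orb vs nxt = true) (hr : reachChk V lam orb vs par = true)
    (v : Vec l) : (∃ w ∈ Hgen V orb, w • lam = v) ↔ v ∈ vs := by
  have hcl := closed_sound V orb vs nxt hlen hc
  have hrs := reach_sound V lam orb vs par hr
  have hpos : 0 < vs.length := List.length_pos_iff.2 hne
  have hlam : lam ∈ vs := by
    obtain ⟨w, _, e⟩ := hrs 0 hpos
    unfold reachChk at hr
    rw [List.all_eq_true] at hr
    have h1 := hr 0 (List.mem_range.2 hpos)
    rw [if_pos rfl] at h1
    have h2 := of_decide_eq_true h1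
    rw [← h2, List.getD_eq_getElem _ _ hpos]
    exact List.getElem_mem _
  constructor
  · rintro ⟨w, hw, rfl⟩
    unfold Hgen at hw
    induction hw using Subgroup.closure_induction_left with
    | one => rw [one_smul]; exact hlam
    | mul_left x hx y _ ih =>
      obtain ⟨j, rfl⟩ := hx
      rw [mul_smul, wpM_smul]
      exact hcl _ ih j
    | inv_mul_cancel x hx y _ ih =>
      obtain ⟨j, rfl⟩ := hx
      -- the inverse of an orbit product acts as a power of it: use finiteness-free argument
      -- `x⁻¹ • y` lies in the list since the list is finite and closed under `x`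
      have hfin : ∀ u ∈ vs, ∃ u' ∈ vs, V.wpM (orb j) • u' = u := by
        -- `x` acts injectively on the finite list, hence surjectively
        have hinj : Function.Injective (fun u : {u // u ∈ vs} =>
            (⟨V.wpM (orb j) • u.1, by rw [wpM_smul]; exact hcl _ u.2 j⟩ : {u // u ∈ vs})) := by
          intro a b hab
          have := congrArg Subtype.val hab
          simp only at this
          apply Subtype.ext
          have h5 := congrArg (fun z => (V.wpM (orb j))⁻¹ • z) this
          simpa [← mul_smul] using h5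
        have hsurj := Finite.surjective_of_injective hinj
        intro u hu
        obtain ⟨u', e⟩ := hsurj ⟨u, hu⟩
        exact ⟨u'.1, u'.2, congrArg Subtype.val e⟩
      obtain ⟨u', hu', e⟩ := hfin _ ih
      rw [mul_smul, ← e, ← mul_smul, inv_mul_cancel, one_smul]
      exact hu'
  · intro hv
    obtain ⟨a, ha, rfl⟩ := List.getElem_of_mem hv
    obtain ⟨w, hw, e⟩ := hrs a ha
    exact ⟨w, hw, by rw [e, List.getD_eq_getElem _ _ ha]⟩

variable (Pm : (Mat l)ˣ) (π : Fin l → Fin l)
  (hPsingle : ∀ i, Pm • (Pi.single i 1 : Vec l) = Pi.single (π i) 1)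
  (hPpos : ∀ β ∈ V.pos, Pm • β ∈ V.pos)
  (horb_cover : ∀ i : Fin l, ∃ j, i ∈ orb j)
  (horb_trans : ∀ j, ∀ a ∈ orb j, ∀ b ∈ orb j, ∃ k : ℕ, π^[k] a = b)
  (horb_orth : ∀ j, (orb j).Pairwise (Orth V))
  (hg_comm : ∀ j, Pm * V.wpM (orb j) = V.wpM (orb j) * Pm)

include hPsingle hPpos horb_cover horb_trans horb_orth hg_comm in
theorem CW_eq_Hgen : CW V Pm = Hgen V orb := by
  apply le_antisymm
  · exact CW_le_closure V Pm π hPsingle hPpos orb horb_cover horb_trans horb_orth hg_comm
  · unfold CW
    apply le_inf
    · unfold Hgen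
      rw [Subgroup.closure_le]
      rintro _ ⟨j, rfl⟩
      exact V.wpM_mem_W VDatum.allJ (fun _ _ => trivial)
    · exact closure_le_centralizer V Pm orb hg_comm

include hPsingle hPpos horb_cover horb_trans horb_orth hg_comm in
/-- the centraliser acts simply transitively on the list -/
theorem CW_orbit (vs : List (Vec l)) (nxt : List (List ℕ)) (par : List (ℕ × ℕ))
    (hlen : nxt.length = vs.length) (hne : vs ≠ [])
    (hc : closedChk V orb vs nxt = true) (hr : reachChk V lam orb vs par = true)
    (v : Vec l) : (∃ w ∈ CW V Pm, w • lam = v) ↔ v ∈ vs := by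
  rw [CW_eq_Hgen V orb Pm π hPsingle hPpos horb_cover horb_trans horb_orth hg_comm]
  exact orbit_eq V lam orb vs nxt par hlen hne hc hr v

theorem sum_subtype_list {M : Type*} [AddCommMonoid M] (vs : List (Vec l)) (hnd : vs.Nodup)
    (f : Vec l → M) : ∑ v : {v // v ∈ vs}, f v.1 = (vs.map f).sum := by
  rw [← List.sum_toFinset f hnd]
  refine Finset.sum_bij (fun v _ => v.1) ?_ ?_ ?_ ?_
  · intro v _; exact List.mem_toFinset.2 v.2
  · intro a _ b _ h; exact Subtype.ext h
  · intro b hb; exact ⟨⟨b, List.mem_toFinset.1 hb⟩, Finset.mem_univ _, rfl⟩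
  · intro a _; rfl

end

end Cfsg.Agent.Helper59.TwPoinc
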