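import Cfsg.Agent.Lib.Helper59.TwFixF
import Cfsg.Agent.Lib.Helper59.TwLen
import Cfsg.Agent.Lib.Helper59.TwPoinc
import Cfsg.Agent.Lib.Helper6.TwistMain

/-!
# The order of a twisted group from the fixed points of the Bruhat normal form
-/

set_option autoImplicit false
set_option linter.unusedSectionVars false
set_option linter.unusedVariables false

namespace Cfsg.Agent.Helper59.TwFix

open Cfsg Cfsg.Lie Cfsg.Agent.S1043 Cfsg.Agent.Helper17 Cfsg.Agent.Helper18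
open Cfsg.Agent.Helper6 Cfsg.Agent.Helper6.Weyl Cfsg.Agent.Helper6.Chev Cfsg.Agent.Helper6.ChevLen
open Cfsg.Agent.Helper6.Twist Cfsg.Agent.Helper59.TwPoinc
open scoped Pointwise

section

variable {F : Type*} [Field F] [Fintype F] {D : ChevalleyDatum} (hD : Good D) {tbl : List ℕ}
  (CH : ChevHyp F D tbl)
  (φ : F →+* F) (hφ : Function.Surjective φ) (Pg : GL D.Idx F) (R : ℕ → ℕ) (ηs : ℕ → ℤ)
  (hconjP : ∀ s < D.nroots, ∀ t : F, (Pg : Matrix D.Idx D.Idx F) * D.x F s t =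
      D.x F (R s) ((ηs s : F) * t) * (Pg : Matrix D.Idx D.Idx F))
  (TF : TauFacts D R ηs)
  (G1 : Subgroup (GL D.Idx F)) (hG1 : G1 ≤ D.group F) (hfix : G1 ≤ fixTau φ Pg)
  {ι : Type*} (orb : ι → List ℕ)
  (horb : ∀ j, OrthList D (orb j))
  (hne : ∀ j, orb j ≠ [])
  (hcover : ∀ i < D.rank, ∃ j, i ∈ orb j)
  (π : ℕ → ℕ)
  (hπR : ∀ i < D.rank, R (D.simple i) = D.simple (π i))
  (hπη : ∀ i < D.rank, ηs (D.simple i) = 1)
  (hπorb : ∀ j, ∀ a ∈ orb j, π a ∈ orb j)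
  (hπtrans : ∀ j, ∀ a ∈ orb j, ∀ b ∈ orb j, ∃ k : ℕ, π^[k] a = b)
  (hnJ : ∀ j, nWordGL D hD (orb j) ∈ G1)
  (hfixX : ∀ j, ∀ x ∈ XJ hD (F := F) (orb j), tau φ Pg x = x → x ∈ G1)
  (q d : ℕ) (hd0 : d ≠ 0) (hFq : Fintype.card F = q ^ d)
  (hd : ∀ j, ∀ Y : Subgroup (GL D.Idx F),
    (∀ g, g ∈ Y ↔ g ∈ XJ hD (F := F) (orb j) ∧ tau φ Pg g = g) →
      Nat.card ↥Y ^ d = Nat.card ↥(XJ hD (F := F) (orb j)))
  {η : ℕ → ℕ → ℤ} (h : NData F D η)
  {l : ℕ} {V : VDatum l} {vec : ℕ → Vec l} (B : Bridge D V vec)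
  (hsimp : ∀ j < D.rank, ∀ c : F, c ≠ 0 → D.hMat F (D.simple j) c =
    Matrix.diagonal (Sum.elim (fun _ => (1 : F)) (fun s : Fin D.nroots => c ^ (D.cartan j s))))
  (M : CoxeterMatrix (Fin l)) (hM : ∀ i j, M i j = orderOf (V.s i * V.s j))
  (hrel : ∀ i j : Fin l, i < j → (Ni h i * Ni h j) ^ (M i j) ∈ D.diagonalSubgroup F)

instance finiteGL : Finite (GL D.Idx F) :=
  Finite.of_injective (fun g : GL D.Idx F => (g : Matrix D.Idx D.Idx F)) (fun _ _ e => Units.ext e)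

include hD CH φ hφ Pg R ηs hconjP TF G1 hG1 hfix orb horb hne hcover π hπR hπη hπorb hπtrans hnJ hfixX
  hd0 hFq hd h B hsimp hM hrel in
/-- the fixed points of `U_w⁻` -/
theorem card_FixUw (n : GL D.Idx F) (hn : n ∈ D.monomialSubgroup F) (hnG : n ∈ G1) :
    (∀ u ∈ Uw D n, tau φ Pg u = u → u ∈ G1) ∧
    Nat.card ↥((chevTwist hD CH φ hφ Pg R ηs hconjP TF G1 hG1 hfix).FixUw n) =
      q ^ V.nJ VDatum.allJ ((thetaHom h B hsimp ⟨n, hn⟩ : V.Wf) : (Mat l)ˣ) := by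
  obtain ⟨h1, h2⟩ := (chevRec hD CH φ hφ Pg R ηs hconjP TF G1 hG1 hfix orb horb hne hcover π hπR hπη
    hπorb hπtrans hnJ hfixX).fixUw_and_card d (fun j => hd j _ (fun g => Iff.rfl)) n hn hnG
  refine ⟨h1, ?_⟩
  have h3 : Nat.card ↥(Uw D n) = Fintype.card F ^
      V.nJ VDatum.allJ ((thetaHom h B hsimp ⟨n, hn⟩ : V.Wf) : (Mat l)ˣ) :=
    card_Uw hD CH h B hsimp M hM hrel n hn
  have h4 : Nat.card ↥((chevTwist hD CH φ hφ Pg R ηs hconjP TF G1 hG1 hfix).FixUw n) ^ d =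
      (q ^ V.nJ VDatum.allJ ((thetaHom h B hsimp ⟨n, hn⟩ : V.Wf) : (Mat l)ˣ)) ^ d := by
    rw [h2]
    change Nat.card ↥(Uw D n) = _
    rw [h3, hFq, ← pow_mul, ← pow_mul, mul_comm]
  exact Nat.pow_left_injective hd0 h4

variable (Pm : (Mat l)ˣ) (hPact : Act vec (Pg : Matrix D.Idx D.Idx F) Pm)
  (πW : Fin l → Fin l)
  (hPsingle : ∀ i, Pm • (Pi.single i 1 : Vec l) = Pi.single (πW i) 1)
  (hPpos : ∀ β ∈ V.pos, Pm • β ∈ V.pos)
  {l' : ℕ} (orbW : Fin l' → List (Fin l))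
  (horb_cover : ∀ i : Fin l, ∃ j, i ∈ orbW j)
  (horb_trans : ∀ j, ∀ a ∈ orbW j, ∀ b ∈ orbW j, ∃ k : ℕ, πW^[k] a = b)
  (horb_orth : ∀ j, (orbW j).Pairwise (Orth V))
  (hg_comm : ∀ j, Pm * V.wpM (orbW j) = V.wpM (orbW j) * Pm)
  (lam : Vec l) (hreg : ∀ i, 0 < pair V.A i lam)
  (hgenW : ∀ j : Fin l', (((orbW j).map (NiN h B hsimp)).prod : GL D.Idx F) ∈ G1)
  (vs : List (Vec l)) (nxt : List (List ℕ)) (par : List (ℕ × ℕ))
  (hlen : nxt.length = vs.length) (hvne : vs ≠ [])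
  (hc : closedChk V orbW vs nxt = true) (hr : reachChk V lam orbW vs par = true)
  (hnd : vs.Nodup) (hposnd : V.pos.Nodup)

/-- the map to the Weyl group on `N ⊓ G1` -/
noncomputable def theta1 : ↥(D.monomialSubgroup F ⊓ G1) →* (Mat l)ˣ :=
  (Subgroup.subtype V.Wf).comp ((thetaHom h B hsimp).comp (Subgroup.inclusion inf_le_left))

theorem theta1_apply (n : ↥(D.monomialSubgroup F ⊓ G1)) :
    theta1 G1 h B hsimp n =
      ((thetaHom h B hsimp ⟨(n : GL D.Idx F), n.2.1⟩ : V.Wf) : (Mat l)ˣ) := rfl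

theorem theta1_mem_Wf (n : ↥(D.monomialSubgroup F ⊓ G1)) : theta1 G1 h B hsimp n ∈ V.Wf :=
  (thetaHom h B hsimp ⟨(n : GL D.Idx F), n.2.1⟩ : V.Wf).2

include hfix hPact in
theorem theta1_mem_CW (n : ↥(D.monomialSubgroup F ⊓ G1)) : theta1 G1 h B hsimp n ∈ CW V Pm := by
  rw [mem_CW]
  refine ⟨theta1_mem_Wf G1 h B hsimp n, ?_⟩
  rw [theta1_apply]
  exact (theta_comm_of_fixed h B hsimp φ Pg Pm hPact ⟨(n : GL D.Idx F), n.2.1⟩ (hfix n.2.2)).symm

include hM hrel in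
theorem theta1_eq_iff (n n' : ↥(D.monomialSubgroup F ⊓ G1)) :
    theta1 G1 h B hsimp n = theta1 G1 h B hsimp n' ↔
      (n : GL D.Idx F)⁻¹ * (n' : GL D.Idx F) ∈ D.diagonalSubgroup F := by
  have key : theta1 G1 h B hsimp (n⁻¹ * n') = 1 ↔
      (n : GL D.Idx F)⁻¹ * (n' : GL D.Idx F) ∈ D.diagonalSubgroup F := by
    have := thetaHom_eq_one_iff h B hsimp M hM hrel
      ⟨((n⁻¹ * n' : ↥(D.monomialSubgroup F ⊓ G1)) : GL D.Idx F), (n⁻¹ * n').2.1⟩
    constructor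
    · intro e
      exact this.1 (Subtype.ext e)
    · intro e
      have e2 := this.2 e
      rw [theta1_apply, e2]
      rfl
  rw [← key, map_mul, map_inv, inv_mul_eq_one]

include hPsingle hPpos horb_cover horb_trans horb_orth hg_comm hgenW in
/-- every element of the centraliser is the image of an element of `N ⊓ G1` -/
theorem theta1_surj {w : (Mat l)ˣ} (hw : w ∈ CW V Pm) :
    ∃ n : ↥(D.monomialSubgroup F ⊓ G1), theta1 G1 h B hsimp n = w := by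
  have hcl := CW_le_closure V Pm πW hPsingle hPpos orbW horb_cover horb_trans horb_orth hg_comm hw
  have hle : Subgroup.closure (Set.range fun j => V.wpM (orbW j)) ≤ (theta1 G1 h B hsimp).range := by
    rw [Subgroup.closure_le]
    rintro _ ⟨j, rfl⟩
    have hN : (((orbW j).map (NiN h B hsimp)).prod : GL D.Idx F) ∈ D.monomialSubgroup F :=
      (((orbW j).map (NiN h B hsimp)).prod : ↥(D.monomialSubgroup F)).2
    refine ⟨⟨_, Subgroup.mem_inf.2 ⟨hN, hgenW j⟩⟩, ?_⟩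
    rw [theta1_apply]
    have e1 : (⟨(((orbW j).map (NiN h B hsimp)).prod : GL D.Idx F), hN⟩ : ↥(D.monomialSubgroup F)) =
        ((orbW j).map (NiN h B hsimp)).prod := rfl
    rw [e1, thetaHom_wordProd]
  exact hle hcl

include hD CH φ hφ Pg R ηs hconjP TF G1 hG1 hfix orb horb hne hcover π hπR hπη hπorb hπtrans hnJ hfixX
  hd0 hFq hd h B hsimp hM hrel hPact hPsingle hPpos horb_cover horb_trans horb_orth
  hg_comm hreg hgenW hlen hvne hc hr hnd hposnd in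
/-- **the order of the twisted group** in terms of `B ⊓ G1` and the orbit list -/
theorem card_twisted :
    Nat.card ↥G1 = Nat.card ↥(D.borelSubgroup F ⊓ G1) *
      (vs.map (fun v => q ^ depthL V v)).sum := by
  classical
  set T := chevTwist hD CH φ hφ Pg R ηs hconjP TF G1 hG1 hfix with hT
  set Rc := chevRec hD CH φ hφ Pg R ηs hconjP TF G1 hG1 hfix orb horb hne hcover π hπR hπη
    hπorb hπtrans hnJ hfixX with hRc
  have hlift := Rc.lift
  have hfu : ∀ n ∈ D.monomialSubgroup F, n ∈ G1 → ∀ u ∈ Uw D n, tau φ Pg u = u → u ∈ G1 :=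
    fun n hn hnG => (card_FixUw hD CH φ hφ Pg R ηs hconjP TF G1 hG1 hfix orb horb hne hcover π hπR hπη
      hπorb hπtrans hnJ hfixX q d hd0 hFq hd h B hsimp M hM hrel n hn hnG).1
  have horbit := CW_orbit V lam orbW Pm πW hPsingle hPpos horb_cover horb_trans horb_orth hg_comm
    vs nxt par hlen hvne hc hr
  let ψ : ↥(D.monomialSubgroup F ⊓ G1) → {v : Vec l // v ∈ vs} := fun n =>
    ⟨theta1 G1 h B hsimp n • lam,
      (horbit _).1 ⟨_, theta1_mem_CW φ Pg G1 hfix h B hsimp Pm hPact n, rfl⟩⟩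
  have hψs : Function.Surjective ψ := by
    rintro ⟨v, hv⟩
    obtain ⟨w, hw, rfl⟩ := (horbit v).2 hv
    obtain ⟨n, rfl⟩ := theta1_surj G1 h B hsimp Pm πW hPsingle hPpos orbW horb_cover horb_trans
      horb_orth hg_comm hgenW hw
    exact ⟨n, rfl⟩
  have hψ : ∀ n n' : ↥(D.monomialSubgroup F ⊓ G1), ψ n = ψ n' ↔
      (n : GL D.Idx F)⁻¹ * (n' : GL D.Idx F) ∈ D.diagonalSubgroup F := by
    intro n n'
    rw [← theta1_eq_iff G1 h B hsimp M hM hrel]
    constructor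
    · intro e
      have e1 : theta1 G1 h B hsimp n • lam = theta1 G1 h B hsimp n' • lam :=
        congrArg Subtype.val e
      exact smul_lam_inj V lam hreg (theta1_mem_Wf G1 h B hsimp n) (theta1_mem_Wf G1 h B hsimp n') e1
    · intro e
      apply Subtype.ext
      change theta1 G1 h B hsimp n • lam = theta1 G1 h B hsimp n' • lam
      rw [e]
  have hF : ∀ n : ↥(D.monomialSubgroup F ⊓ G1),
      Nat.card ↥(T.FixUw (n : GL D.Idx F)) = (fun v : {v : Vec l // v ∈ vs} => q ^ depthL V v.1) (ψ n) := by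
    intro n
    have := (card_FixUw hD CH φ hφ Pg R ηs hconjP TF G1 hG1 hfix orb horb hne hcover π hπR hπη
      hπorb hπtrans hnJ hfixX q d hd0 hFq hd h B hsimp M hM hrel n n.2.1 n.2.2).2
    rw [this]
    change q ^ _ = q ^ depthL V (theta1 G1 h B hsimp n • lam)
    rw [← depth_eq_depthL V hposnd, ← nJ_eq_depth V lam hreg (theta1_mem_Wf G1 h B hsimp n)]
    rfl
  have key := T.card_G1 hlift hfu ψ hψs hψ (fun v : {v : Vec l // v ∈ vs} => q ^ depthL V v.1) hF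
  rw [sum_subtype_list vs hnd (fun v => q ^ depthL V v)] at key
  exact key

include hD CH φ hφ Pg R ηs hconjP TF G1 hG1 hfix orb horb hne hcover π hπR hπη hπorb hπtrans hnJ hfixX
  hd0 hFq hd h B hsimp hM hrel in
/-- the fixed points of `U`, given a representative of the longest element in `G1` -/
theorem fixU_mem (n0 : GL D.Idx F) (hn0N : n0 ∈ D.monomialSubgroup F) (hn0G : n0 ∈ G1)
    (hn0 : (D.posUnipotent F).map (MulAut.conj n0).toMonoidHom = D.negUnipotent F) :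
    Uw D n0 = D.posUnipotent F ∧ ∀ u ∈ D.posUnipotent F, tau φ Pg u = u → u ∈ G1 := by
  have hUw : Uw D n0 = D.posUnipotent F := by
    apply le_antisymm (Uw_le_pos D n0)
    conv_lhs => rw [ChevalleyDatum.posUnipotent]
    rw [Subgroup.closure_le]
    rintro g ⟨r, t, hr, hg⟩
    apply Subgroup.subset_closure
    refine ⟨r, t, hr, ?_, hg⟩
    rw [← hn0]
    apply Subgroup.map_mono
    unfold ChevalleyDatum.rootSubgroup ChevalleyDatum.posUnipotent
    apply Subgroup.closure_mono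
    rintro g' ⟨t', hg'⟩
    exact ⟨r, t', hr, hg'⟩
  refine ⟨hUw, ?_⟩
  intro u hu
  rw [← hUw] at hu
  exact (card_FixUw hD CH φ hφ Pg R ηs hconjP TF G1 hG1 hfix orb horb hne hcover π hπR hπη
    hπorb hπtrans hnJ hfixX q d hd0 hFq hd h B hsimp M hM hrel n0 hn0N hn0G).1 u hu

include hD CH φ hφ Pg R ηs hconjP TF G1 hG1 hfix orb horb hne hcover π hπR hπη hπorb hπtrans hnJ hfixX
  hd0 hFq hd h B hsimp hM hrel in
theorem card_borel1 (n0 : GL D.Idx F) (hn0N : n0 ∈ D.monomialSubgroup F) (hn0G : n0 ∈ G1)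
    (hn0 : (D.posUnipotent F).map (MulAut.conj n0).toMonoidHom = D.negUnipotent F) :
    Nat.card ↥(D.borelSubgroup F ⊓ G1) =
      Nat.card ↥(D.posUnipotent F ⊓ G1) * Nat.card ↥(D.diagonalSubgroup F ⊓ G1) :=
  (chevTwist hD CH φ hφ Pg R ηs hconjP TF G1 hG1 hfix).card_B1
    (fixU_mem hD CH φ hφ Pg R ηs hconjP TF G1 hG1 hfix orb horb hne hcover π hπR hπη
      hπorb hπtrans hnJ hfixX q d hd0 hFq hd h B hsimp M hM hrel n0 hn0N hn0G hn0).2

include hD CH φ hφ Pg R ηs hconjP TF G1 hG1 hfix orb horb hne hcover π hπR hπη hπorb hπtrans hnJ hfixX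
  hd0 hFq hd h B hsimp hM hrel in
theorem card_unip1 (n0 : GL D.Idx F) (hn0N : n0 ∈ D.monomialSubgroup F) (hn0G : n0 ∈ G1)
    (hn0 : (D.posUnipotent F).map (MulAut.conj n0).toMonoidHom = D.negUnipotent F)
    (N : ℕ) (hU : Nat.card ↥(D.posUnipotent F) = Fintype.card F ^ N) :
    Nat.card ↥(D.posUnipotent F ⊓ G1) = q ^ N := by
  obtain ⟨hUw, hfixU⟩ := fixU_mem hD CH φ hφ Pg R ηs hconjP TF G1 hG1 hfix orb horb hne hcover π hπR hπη
    hπorb hπtrans hnJ hfixX q d hd0 hFq hd h B hsimp M hM hrel n0 hn0N hn0G hn0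
  obtain ⟨-, h2⟩ := (chevRec hD CH φ hφ Pg R ηs hconjP TF G1 hG1 hfix orb horb hne hcover π hπR hπη
    hπorb hπtrans hnJ hfixX).fixUw_and_card d (fun j => hd j _ (fun g => Iff.rfl)) n0 hn0N hn0G
  have e : (D.posUnipotent F ⊓ G1 : Subgroup (GL D.Idx F)) =
      (chevTwist hD CH φ hφ Pg R ηs hconjP TF G1 hG1 hfix).FixUw n0 := by
    ext u
    rw [Twist.mem_FixUw, Subgroup.mem_inf]
    change _ ↔ u ∈ Uw D n0 ∧ tau φ Pg u = u
    rw [hUw]
    constructor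
    · rintro ⟨hu, huG⟩
      exact ⟨hu, hfix huG⟩
    · rintro ⟨hu, hτ⟩
      exact ⟨hu, hfixU u hu hτ⟩
  rw [e]
  have h4 : Nat.card ↥((chevTwist hD CH φ hφ Pg R ηs hconjP TF G1 hG1 hfix).FixUw n0) ^ d =
      (q ^ N) ^ d := by
    rw [h2]
    change Nat.card ↥(Uw D n0) = _
    rw [hUw, hU, hFq, ← pow_mul, ← pow_mul, mul_comm]
  exact Nat.pow_left_injective hd0 h4

end

end Cfsg.Agent.Helper59.TwFix
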