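import Cfsg.Agent.Lib.Helper59.TwPoinc
import Cfsg.Agent.Lib.Helper6.TwistModelD4

/-! Generated: the orbit of a regular fixed vector under the centraliser of the diagram symmetry, type D4. -/

set_option autoImplicit false
set_option maxRecDepth 1000000

namespace Cfsg.Agent.Helper59.TwPoinc.D4

open Cfsg.Agent.Helper6.Weyl Cfsg.Agent.Helper6.Twist Cfsg.Agent.Helper6.Twist.D4

/-- the orbit -/
def vs : List (Vec 4) := [![3, 5, 3, 3],
  ![3, 4, 3, 3],
  ![2, 5, 2, 2],
  ![1, 4, 1, 1],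
  ![2, 1, 2, 2],
  ![1, -1, 1, 1],
  ![-1, 1, -1, -1],
  ![-2, -1, -2, -2],
  ![-1, -4, -1, -1],
  ![-2, -5, -2, -2],
  ![-3, -4, -3, -3],
  ![-3, -5, -3, -3]]

/-- images under the generators -/
def nxt : List (List ℕ) := [[1, 2], [0, 3], [4, 0], [5, 1], [2, 6], [3, 7], [8, 4], [9, 5], [6, 10], [7, 11], [11, 8], [10, 9]]

/-- parents -/
def par : List (ℕ × ℕ) := [(0, 0), (0, 0), (0, 1), (1, 1), (2, 0), (3, 0), (4, 1), (5, 1), (6, 0), (7, 0), (8, 1), (9, 1)]

/-- depths -/
def ds : List ℕ := [0, 1, 3, 4, 4, 5, 7, 8, 8, 9, 11, 12]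

theorem hlen : nxt.length = vs.length := by decide +kernel

theorem hne : vs ≠ [] := by simp [vs]

theorem hclosed : closedChk (Cfsg.Agent.Helper6.Weyl.D4.vd) orb vs nxt = true := by decide +kernel

theorem hreach : reachChk (Cfsg.Agent.Helper6.Weyl.D4.vd) lam orb vs par = true := by decide +kernel

theorem hnodup : vs.Nodup := by decide +kernel

theorem hds : vs.map (depthL (Cfsg.Agent.Helper6.Weyl.D4.vd)) = ds := by decide +kernel

theorem hposnd : (Cfsg.Agent.Helper6.Weyl.D4.vd).pos.Nodup := by decide +kernel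

end Cfsg.Agent.Helper59.TwPoinc.D4
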