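import Cfsg.Agent.Lib.Helper59.TwD4A
import Cfsg.Agent.Lib.Helper59.TwFixG
import Cfsg.Agent.Lib.Helper59.TwFld
import Cfsg.Agent.Lib.Helper59.TwMain
import Cfsg.Agent.Lib.Helper59.TwPoincD4
-- import Cfsg.Agent.Lib.Helper18.UCardData

/-!
# The twisted group `³D₄(q)`: the order, and the order of `U¹`
-/

set_option autoImplicit false
set_option linter.unusedSectionVars false
set_option linter.unusedVariables false
set_option maxRecDepth 100000

namespace Cfsg.Agent.Helper59.TwD4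

open Cfsg Cfsg.Lie Cfsg.Agent.S1043 Cfsg.Agent.Helper17 Cfsg.Agent.Helper18
open Cfsg.Agent.Helper6.Twist Cfsg.Agent.Helper6.Twist.D4 Cfsg.Agent.Helper6.Chev
open Cfsg.Agent.Helper6.ChevS Cfsg.Agent.Helper6.ChevLen Cfsg.Agent.Helper6.Weyl
open Cfsg.Agent.Helper59.TwFix Cfsg.Agent.Helper59.TwPoinc

section

variable {K : Type*} [Field K] [Fintype K] (p k : ℕ) [ExpChar K p]

theorem frob_surj : Function.Surjective (frob (K := K) p k) :=
  Finite.surjective_of_injective (frob (K := K) p k).injective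

theorem twisted_le_group : twistedD4 K (p ^ k) ≤ chevD4.group K := by
  apply gen_le (nData_D4 (F := K))
  intro w _
  apply Subgroup.list_prod_mem
  intro x hx
  obtain ⟨pr, _, rfl⟩ := List.mem_map.1 hx
  rw [xg_eq_xU]
  exact xU_mem_group chevD4 goodD4 _ _

theorem simpleVals : chevD4.simple 0 = 18 ∧ chevD4.simple 1 = 14 ∧ chevD4.simple 2 = 13 ∧
    chevD4.simple 3 = 12 ∧ chevD4.rank = 4 := by decide +kernel

theorem hnJ (j : Fin 2) : nWordGL chevD4 goodD4 (orbD j) ∈ twistedD4 K (p ^ k) := by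
  fin_cases j
  · have := hgen (K := K) p k 0
    change ((([1] : List (Fin 4)).map (NiN (nData_D4 (F := K)) bridge_D4 hsimpD4)).prod :
      GL chevD4.Idx K) ∈ _ at this
    simp only [List.map_cons, List.map_nil, List.prod_cons, List.prod_nil, mul_one, NiN_coe] at this
    change nWordGL chevD4 goodD4 [1] ∈ _
    simp only [nWordGL, List.map_cons, List.map_nil, List.prod_cons, List.prod_nil, mul_one,
      nGL_eq_Ni]
    exact this
  · have := hgen (K := K) p k 1
    change ((([0, 2, 3] : List (Fin 4)).map (NiN (nData_D4 (F := K)) bridge_D4 hsimpD4)).prod :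
      GL chevD4.Idx K) ∈ _ at this
    simp only [List.map_cons, List.map_nil, List.prod_cons, List.prod_nil, mul_one, Subgroup.coe_mul,
      NiN_coe] at this
    change nWordGL chevD4 goodD4 [0, 2, 3] ∈ _
    simp only [nWordGL, List.map_cons, List.map_nil, List.prod_cons, List.prod_nil, mul_one,
      nGL_eq_Ni]
    exact this

theorem tau_xs (i : ℕ) (hi : i < chevD4.rank) (t : K) :
    tau (frob (K := K) p k) Pg (xs goodD4 i t) = xs goodD4 (pif i) (frob p k t) := by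
  unfold xs
  rw [tau_xU goodD4 _ Pg Rf etaf hconjP _ ((hypD4 (K := K)).hB.hsimp i hi), orbFacts.2.2.1 i hi,
    orbFacts.2.2.2.1 i hi]
  simp

theorem xs_comm (i j r s : ℕ) (hi : chevD4.simple i = r) (hj : chevD4.simple j = s)
    (hrs : (r, s) ∈ commPairs) (a b : K) :
    xs goodD4 i a * xs goodD4 j b = xs goodD4 j b * xs goodD4 i a := by
  unfold xs
  rw [hi, hj, ← xg_eq_xU, ← xg_eq_xU]
  exact xcomm r s hrs a b

theorem hfixX (j : Fin 2) (x : GL chevD4.Idx K) (hx : x ∈ XJ goodD4 (F := K) (orbD j))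
    (hτ : tau (frob (K := K) p k) Pg x = x) : x ∈ twistedD4 K (p ^ k) := by
  obtain ⟨hs0, hs1, hs2, hs3, hrk⟩ := simpleVals
  fin_cases j
  · change x ∈ XJ goodD4 (F := K) [1] at hx
    rw [XJ_one] at hx
    obtain ⟨t, ht, rfl⟩ := TwOrb.fix_form1 (xs goodD4 1) (xs_add goodD4 1)
      (uniq_one goodD4 (hypD4 (K := K)) (by rw [hrk]; norm_num)) (tau (frob (K := K) p k) Pg)
      (frob (K := K) p k) (fun t => tau_xs p k 1 (by rw [hrk]; norm_num) t) x hx hτ
    change xU chevD4 goodD4 (chevD4.simple 1) t ∈ _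
    rw [hs1, ← xg_eq_xU]
    exact mem_gen_one nData_D4 _ 14 t
      (Or.inl ⟨t, by rw [← frob_apply (K := K) p k]; exact ht, 14, by simp [d4p2], rfl⟩)
  · change x ∈ XJ goodD4 (F := K) [0, 2, 3] at hx
    rw [XJ_three] at hx
    obtain ⟨t, ht, rfl⟩ := TwOrb.fix_form3 (xs goodD4 0) (xs goodD4 2) (xs goodD4 3)
      (xs_add goodD4 0) (xs_add goodD4 2) (xs_add goodD4 3)
      (xs_comm 0 2 18 13 hs0 hs2 (by simp [commPairs]))
      (xs_comm 0 3 18 12 hs0 hs3 (by simp [commPairs]))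
      (xs_comm 2 3 13 12 hs2 hs3 (by simp [commPairs]))
      (uniq_three goodD4 (hypD4 (K := K)) (orthD4 1)) (tau (frob (K := K) p k) Pg)
      (frob (K := K) p k) (fun t => tau_xs p k 0 (by rw [hrk]; norm_num) t)
      (fun t => tau_xs p k 2 (by rw [hrk]; norm_num) t)
      (fun t => tau_xs p k 3 (by rw [hrk]; norm_num) t) x hx hτ
    change xU chevD4 goodD4 (chevD4.simple 0) t * xU chevD4 goodD4 (chevD4.simple 2) _ *
      xU chevD4 goodD4 (chevD4.simple 3) _ ∈ _
    rw [hs0, hs2, hs3, ← xg_eq_xU, ← xg_eq_xU, ← xg_eq_xU, frob2, frob_apply]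
    exact mem_gen_three (nData_D4 (F := K)) (d4Words K (p ^ k)) 18 13 12 t (t ^ (p ^ k))
      (t ^ ((p ^ k) ^ 2)) (Or.inr ⟨t, (18, 13, 12), by simp [d4p1, d4p3, d4p4], rfl⟩)

variable (hK : Fintype.card K = (p ^ k) ^ 3) (hq : 1 < p ^ k)

include hK in
theorem frob3 (t : K) : frob (K := K) p k (frob p k (frob p k t)) = t := by
  rw [frob2, frob_apply, ← pow_mul, ← pow_succ', ← hK, FiniteField.pow_card]

include hK hq in
theorem hdD4 (j : Fin 2) (Y : Subgroup (GL chevD4.Idx K))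
    (hY : ∀ g, g ∈ Y ↔ g ∈ XJ goodD4 (F := K) (orbD j) ∧ tau (frob (K := K) p k) Pg g = g) :
    Nat.card ↥Y ^ 3 = Nat.card ↥(XJ goodD4 (F := K) (orbD j)) := by
  obtain ⟨hs0, hs1, hs2, hs3, hrk⟩ := simpleVals
  fin_cases j
  · change ∀ g, g ∈ Y ↔ g ∈ XJ goodD4 (F := K) [1] ∧ _ at hY
    change _ = Nat.card ↥(XJ goodD4 (F := K) [1])
    rw [XJ_one] at hY ⊢
    rw [TwOrb.card_fix1 (xs goodD4 1) (xs_add goodD4 1)
      (uniq_one goodD4 (hypD4 (K := K)) (by rw [hrk]; norm_num)) (tau (frob (K := K) p k) Pg)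
      (frob (K := K) p k) (fun t => tau_xs p k 1 (by rw [hrk]; norm_num) t) Y hY,
      TwOrb.card_X1 (xs goodD4 1) (xs_add goodD4 1)
      (uniq_one goodD4 (hypD4 (K := K)) (by rw [hrk]; norm_num)), Nat.card_eq_fintype_card (α := K), hK]
    congr 1
    rw [← TwOrb.card_fixed_pow (K := K) (p ^ k) 3 hq hK]
    exact Nat.card_congr (Equiv.subtypeEquivRight (fun t => by rw [frob_apply]))
  · change ∀ g, g ∈ Y ↔ g ∈ XJ goodD4 (F := K) [0, 2, 3] ∧ _ at hY
    change _ = Nat.card ↥(XJ goodD4 (F := K) [0, 2, 3])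
    rw [XJ_three] at hY ⊢
    rw [TwOrb.card_fix3 (xs goodD4 0) (xs goodD4 2) (xs goodD4 3)
      (xs_add goodD4 0) (xs_add goodD4 2) (xs_add goodD4 3)
      (xs_comm 0 2 18 13 hs0 hs2 (by simp [commPairs]))
      (xs_comm 0 3 18 12 hs0 hs3 (by simp [commPairs]))
      (xs_comm 2 3 13 12 hs2 hs3 (by simp [commPairs]))
      (uniq_three goodD4 (hypD4 (K := K)) (orthD4 1)) (tau (frob (K := K) p k) Pg)
      (frob (K := K) p k) (fun t => tau_xs p k 0 (by rw [hrk]; norm_num) t)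
      (fun t => tau_xs p k 2 (by rw [hrk]; norm_num) t)
      (fun t => tau_xs p k 3 (by rw [hrk]; norm_num) t) Y hY,
      TwOrb.card_X3 (xs goodD4 0) (xs goodD4 2) (xs goodD4 3)
      (xs_add goodD4 0) (xs_add goodD4 2) (xs_add goodD4 3)
      (xs_comm 0 2 18 13 hs0 hs2 (by simp [commPairs]))
      (xs_comm 0 3 18 12 hs0 hs3 (by simp [commPairs]))
      (xs_comm 2 3 13 12 hs2 hs3 (by simp [commPairs]))
      (uniq_three goodD4 (hypD4 (K := K)) (orthD4 1))]
    congr 1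
    exact Nat.card_congr (Equiv.subtypeUnivEquiv (fun t => frob3 p k hK t))

end

end Cfsg.Agent.Helper59.TwD4
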