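import Cfsg.Agent.Lib.Helper59.TwFixF
import Cfsg.Agent.Lib.Helper6.TwistCoreE6
import Cfsg.Agent.Lib.Helper18.UiData
import Cfsg.Agent.Lib.Helper18.CommE6_0
import Cfsg.Agent.Lib.Helper18.CommE6_1

/-!
# The twisted group `²E₆(q)`: instantiating the fixed-point recursion
-/

set_option autoImplicit false
set_option linter.unusedSectionVars false
set_option linter.unusedVariables false
set_option maxRecDepth 100000

namespace Cfsg.Agent.Helper59.TwE6

open Cfsg Cfsg.Lie Cfsg.Agent.S1043 Cfsg.Agent.Helper17 Cfsg.Agent.Helper18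
open Cfsg.Agent.Helper6.Twist Cfsg.Agent.Helper6.Twist.E6 Cfsg.Agent.Helper6.Chev
open Cfsg.Agent.Helper6.ChevS Cfsg.Agent.Helper6.ChevLen
open Cfsg.Agent.Helper59.TwFix

theorem posRangeE6' : ∀ s, chevE6.IsPosRoot s → 36 ≤ s ∧ s < 72 := by
  intro s hs
  have h1 : s < 72 := hs.1
  have : ∀ s < 72, chevE6.IsPosRoot s → 36 ≤ s := by decide +kernel
  exact ⟨this s h1 hs, h1⟩

theorem commAllE6' (i : ℕ) (hi : i < 6) (s : ℕ) (hs : chevE6.IsPosRoot s) :
    Cfsg.Agent.Helper18.commCheck chevE6 (chevE6.simple i) s = true := by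
  obtain ⟨h1, h2⟩ := posRangeE6' s hs
  have h : i = 0 ∨ i = 1 ∨ i = 2 ∨ i = 3 ∨ i = 4 ∨ i = 5 := by omega
  rcases h with rfl | rfl | rfl | rfl | rfl | rfl
  · change Cfsg.Agent.Helper18.commCheck chevE6 56 s = true
    exact commE6_0_from36 s (by omega) h2
  · change Cfsg.Agent.Helper18.commCheck chevE6 46 s = true
    exact commE6_1_from36 s (by omega) h2
  · change Cfsg.Agent.Helper18.commCheck chevE6 42 s = true
    exact commE6_2_from36 s (by omega) h2
  · change Cfsg.Agent.Helper18.commCheck chevE6 39 s = true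
    exact commE6_3_from36 s (by omega) h2
  · change Cfsg.Agent.Helper18.commCheck chevE6 37 s = true
    exact commE6_4_from36 s (by omega) h2
  · change Cfsg.Agent.Helper18.commCheck chevE6 36 s = true
    exact commE6_5_from36 s (by omega) h2

theorem uiE6 : UiFacts chevE6 :=
  ⟨(uiFacts12_all chevE6 goodE6).1, (uiFacts12_all chevE6 goodE6).2,
    fun i hi s hs => commAllE6' i hi s hs⟩

section

variable {K : Type*} [Field K]

theorem conjS_E6 : ∀ i < chevE6.rank, ConjGoalS' K chevE6 i := by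
  intro i hi
  have h := nData_E6 (F := K)
  refine ⟨fun s => if s < chevE6.nroots then etaE6 i s else 1, ?_, ?_, ?_⟩
  · intro s
    by_cases hs : s < chevE6.nroots
    · simp only [hs, if_true]; exact h.eta_pm i hi s hs
    · simp only [hs, if_false]; left; trivial
  · intro s hs
    simp only [hs, h.neg_lt s hs, if_true]
    rw [h.eta_neg i hi s hs]
    rcases h.eta_pm i hi s hs with e | e <;> rw [e] <;> norm_num
  · intro s hs t
    simp only [hs, if_true]
    rw [h.mono i hi]
    exact h.conj i hi s hs t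

theorem hypE6 : ChevHyp K chevE6 expE6 where
  hB := bnFacts_all chevE6 goodE6
  hU := uiE6
  hT := torusE6
  hTri := triOK_E6
  hNeg := negTriOK_E6
  hconj := hconj'
  hS := conjS_E6
  hNH := monomial_le_normalizer (nData_E6 (F := K))

/-- the permutation of the roots and the signs of the graph automorphism -/
def Rf : ℕ → ℕ := dec8 gRE6a
def etaf : ℕ → ℤ := fun s => etaOf gSE6a (chevE6.rank + s)

theorem tauFactsE6 : TauFacts chevE6 Rf etaf where
  R_lt := by unfold Rf; decide +kernel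
  R_pos := by
    intro s hs
    have : ∀ s < 72, chevE6.IsPosRoot s → chevE6.IsPosRoot (Rf s) := by unfold Rf; decide +kernel
    exact this s hs.1 hs
  R_neg := by
    intro s hs
    have : ∀ s < 72, chevE6.IsNegRoot s → chevE6.IsNegRoot (Rf s) := by unfold Rf; decide +kernel
    exact this s hs.1 hs
  R_negIdx := by unfold Rf; decide +kernel
  eta_pm := by unfold etaf; decide +kernel
  eta_neg := by unfold etaf; decide +kernel

theorem hconjP (s : ℕ) (hs : s < chevE6.nroots) (t : K) :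
    ((Pg : GL chevE6.Idx K) : Matrix chevE6.Idx chevE6.Idx K) * chevE6.x K s t =
      chevE6.x K (Rf s) ((etaf s : K) * t) * ((Pg : GL chevE6.Idx K) : Matrix chevE6.Idx chevE6.Idx K) :=
  hconj s hs t

theorem xg_eq_xU (r : ℕ) (t : K) : xg (nData_E6 (F := K)) r t = xU chevE6 goodE6 r t :=
  Units.ext rfl

/-- the orbits of the graph automorphism on the fundamental roots -/
def orbE : Fin 4 → List ℕ := ![[0, 5], [2, 4], [3], [1]]

/-- the permutation of the nodes -/
def pif : ℕ → ℕ := fun i => ([5, 1, 4, 3, 2, 0] : List ℕ).getD i i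

theorem orthE6 : ∀ j, OrthList chevE6 (orbE j) := by
  have h : ∀ j : Fin 4, (∀ i ∈ orbE j, i < chevE6.rank) ∧ (orbE j).Nodup ∧
      ∀ i ∈ orbE j, ∀ i' ∈ orbE j, i ≠ i' → chevE6.reflectRoot i' (chevE6.simple i) = chevE6.simple i := by
    decide +kernel
  exact fun j => ⟨(h j).1, (h j).2.1, (h j).2.2⟩

theorem orbFacts :
    (∀ j, orbE j ≠ []) ∧ (∀ i < chevE6.rank, ∃ j, i ∈ orbE j) ∧
    (∀ i < chevE6.rank, Rf (chevE6.simple i) = chevE6.simple (pif i)) ∧
    (∀ i < chevE6.rank, etaf (chevE6.simple i) = 1) ∧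
    (∀ j, ∀ a ∈ orbE j, pif a ∈ orbE j) ∧
    (∀ j, ∀ a ∈ orbE j, ∀ b ∈ orbE j, ∃ k < 3, pif^[k] a = b) := by
  unfold Rf etaf
  decide +kernel

end

end Cfsg.Agent.Helper59.TwE6
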