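import Cfsg.Agent.Lib.Helper59.TwE6A
import Cfsg.Agent.Lib.Helper59.TwFixG
import Cfsg.Agent.Lib.Helper59.TwFld
import Cfsg.Agent.Lib.Helper59.TwMain
import Cfsg.Agent.Lib.Helper18.UCardData

/-!
# The twisted group `²E₆(q)`: the fixed points of the orbit root subgroups
-/

set_option autoImplicit false
set_option linter.unusedSectionVars false
set_option linter.unusedVariables false
set_option maxRecDepth 100000

namespace Cfsg.Agent.Helper59.TwE6

open Cfsg Cfsg.Lie Cfsg.Agent.S1043 Cfsg.Agent.Helper17 Cfsg.Agent.Helper18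
open Cfsg.Agent.Helper6.Twist Cfsg.Agent.Helper6.Twist.E6 Cfsg.Agent.Helper6.Chev
open Cfsg.Agent.Helper6.ChevS Cfsg.Agent.Helper6.ChevLen Cfsg.Agent.Helper6.Weyl
open Cfsg.Agent.Helper59.TwFix

section

variable {K : Type*} [Field K] [Fintype K] (p k : ℕ) [ExpChar K p]

theorem frob_surj : Function.Surjective (frob (K := K) p k) :=
  Finite.surjective_of_injective (frob (K := K) p k).injective

theorem twisted_le_group : twistedE6 K (p ^ k) ≤ chevE6.group K := by
  apply gen_le (nData_E6 (F := K))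
  intro w _
  apply Subgroup.list_prod_mem
  intro x hx
  obtain ⟨pr, _, rfl⟩ := List.mem_map.1 hx
  rw [xg_eq_xU]
  exact xU_mem_group chevE6 goodE6 _ _

theorem simpleVals : chevE6.simple 0 = 56 ∧ chevE6.simple 1 = 46 ∧ chevE6.simple 2 = 42 ∧
    chevE6.simple 3 = 39 ∧ chevE6.simple 4 = 37 ∧ chevE6.simple 5 = 36 ∧ chevE6.rank = 6 := by
  decide +kernel

theorem hnJ (j : Fin 4) : nWordGL chevE6 goodE6 (orbE j) ∈ twistedE6 K (p ^ k) := by
  fin_cases j
  · have := hgen (K := K) p k 0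
    change ((([0, 5] : List (Fin 6)).map (NiN (nData_E6 (F := K)) bridge_E6 hsimpE6)).prod :
      GL chevE6.Idx K) ∈ _ at this
    simp only [List.map_cons, List.map_nil, List.prod_cons, List.prod_nil, mul_one, Subgroup.coe_mul,
      NiN_coe] at this
    change nWordGL chevE6 goodE6 [0, 5] ∈ _
    simp only [nWordGL, List.map_cons, List.map_nil, List.prod_cons, List.prod_nil, mul_one,
      nGL_eq_Ni]
    exact this
  · have := hgen (K := K) p k 1
    change ((([2, 4] : List (Fin 6)).map (NiN (nData_E6 (F := K)) bridge_E6 hsimpE6)).prod :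
      GL chevE6.Idx K) ∈ _ at this
    simp only [List.map_cons, List.map_nil, List.prod_cons, List.prod_nil, mul_one, Subgroup.coe_mul,
      NiN_coe] at this
    change nWordGL chevE6 goodE6 [2, 4] ∈ _
    simp only [nWordGL, List.map_cons, List.map_nil, List.prod_cons, List.prod_nil, mul_one,
      nGL_eq_Ni]
    exact this
  · have := hgen (K := K) p k 2
    change ((([3] : List (Fin 6)).map (NiN (nData_E6 (F := K)) bridge_E6 hsimpE6)).prod :
      GL chevE6.Idx K) ∈ _ at this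
    simp only [List.map_cons, List.map_nil, List.prod_cons, List.prod_nil, mul_one, NiN_coe] at this
    change nWordGL chevE6 goodE6 [3] ∈ _
    simp only [nWordGL, List.map_cons, List.map_nil, List.prod_cons, List.prod_nil, mul_one,
      nGL_eq_Ni]
    exact this
  · have := hgen (K := K) p k 3
    change ((([1] : List (Fin 6)).map (NiN (nData_E6 (F := K)) bridge_E6 hsimpE6)).prod :
      GL chevE6.Idx K) ∈ _ at this
    simp only [List.map_cons, List.map_nil, List.prod_cons, List.prod_nil, mul_one, NiN_coe] at this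
    change nWordGL chevE6 goodE6 [1] ∈ _
    simp only [nWordGL, List.map_cons, List.map_nil, List.prod_cons, List.prod_nil, mul_one,
      nGL_eq_Ni]
    exact this

theorem tau_xs (i : ℕ) (hi : i < chevE6.rank) (t : K) :
    tau (frob (K := K) p k) Pg (xs goodE6 i t) = xs goodE6 (pif i) (frob p k t) := by
  unfold xs
  rw [tau_xU goodE6 _ Pg Rf etaf hconjP _ ((hypE6 (K := K)).hB.hsimp i hi), orbFacts.2.2.1 i hi,
    orbFacts.2.2.2.1 i hi]
  simp

theorem xs_comm (i j r s : ℕ) (hi : chevE6.simple i = r) (hj : chevE6.simple j = s)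
    (hrs : (r, s) ∈ commPairs) (a b : K) :
    xs goodE6 i a * xs goodE6 j b = xs goodE6 j b * xs goodE6 i a := by
  unfold xs
  rw [hi, hj, ← xg_eq_xU, ← xg_eq_xU]
  exact xcomm r s hrs a b

/-- fixed elements of a stable fundamental root subgroup -/
theorem fix_single (i r : ℕ) (hi : i < chevE6.rank) (hπ : pif i = i) (hr : chevE6.simple i = r)
    (hmem : r ∈ [e6p2, e6m2, e6p4, e6m4])
    (x : GL chevE6.Idx K) (hx : x ∈ XJ goodE6 (F := K) [i])
    (hτ : tau (frob (K := K) p k) Pg x = x) : x ∈ twistedE6 K (p ^ k) := by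
  rw [XJ_one] at hx
  obtain ⟨t, ht, rfl⟩ := TwOrb.fix_form1 (xs goodE6 i) (xs_add goodE6 i)
    (uniq_one goodE6 (hypE6 (K := K)) hi) (tau (frob (K := K) p k) Pg)
    (frob (K := K) p k) (fun t => by rw [tau_xs p k i hi t, hπ]) x hx hτ
  change xU chevE6 goodE6 (chevE6.simple i) t ∈ _
  rw [hr, ← xg_eq_xU]
  exact mem_gen_one nData_E6 _ r t
    (Or.inl ⟨t, by rw [← frob_apply (K := K) p k]; exact ht, r, hmem, rfl⟩)

/-- fixed elements of the product of two swapped fundamental root subgroups -/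
theorem fix_pair (i j r s : ℕ) (hi : i < chevE6.rank) (hj : j < chevE6.rank)
    (hπi : pif i = j) (hπj : pif j = i) (hr : chevE6.simple i = r) (hs : chevE6.simple j = s)
    (hrs : (r, s) ∈ commPairs) (hJ : OrthList chevE6 [i, j])
    (hmem : (r, s) ∈ [(e6p1, e6p6), (e6m1, e6m6), (e6p3, e6p5), (e6m3, e6m5)])
    (x : GL chevE6.Idx K) (hx : x ∈ XJ goodE6 (F := K) [i, j])
    (hτ : tau (frob (K := K) p k) Pg x = x) : x ∈ twistedE6 K (p ^ k) := by
  rw [XJ_two] at hx
  obtain ⟨t, ht, rfl⟩ := TwOrb.fix_form2 (xs goodE6 i) (xs goodE6 j)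
    (xs_add goodE6 i) (xs_add goodE6 j) (xs_comm i j r s hr hs hrs)
    (uniq_two goodE6 (hypE6 (K := K)) hJ) (tau (frob (K := K) p k) Pg)
    (frob (K := K) p k) (fun t => by rw [tau_xs p k i hi t, hπi])
    (fun t => by rw [tau_xs p k j hj t, hπj]) x hx hτ
  change xU chevE6 goodE6 (chevE6.simple i) t * xU chevE6 goodE6 (chevE6.simple j) _ ∈ _
  rw [hr, hs, ← xg_eq_xU, ← xg_eq_xU, frob_apply]
  exact mem_gen_two (nData_E6 (F := K)) (e6Words K (p ^ k)) r s t (t ^ (p ^ k))
    (Or.inr ⟨t, (r, s), hmem, rfl⟩)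

theorem hfixX (j : Fin 4) (x : GL chevE6.Idx K) (hx : x ∈ XJ goodE6 (F := K) (orbE j))
    (hτ : tau (frob (K := K) p k) Pg x = x) : x ∈ twistedE6 K (p ^ k) := by
  obtain ⟨hs0, hs1, hs2, hs3, hs4, hs5, hrk⟩ := simpleVals
  fin_cases j
  · exact fix_pair p k 0 5 56 36 (by rw [hrk]; norm_num) (by rw [hrk]; norm_num) rfl rfl hs0 hs5
      (by simp [commPairs]) (orthE6 0) (by simp [e6p1, e6p6]) x hx hτ
  · exact fix_pair p k 2 4 42 37 (by rw [hrk]; norm_num) (by rw [hrk]; norm_num) rfl rfl hs2 hs4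
      (by simp [commPairs]) (orthE6 1) (by simp [e6p3, e6p5]) x hx hτ
  · exact fix_single p k 3 39 (by rw [hrk]; norm_num) rfl hs3 (by simp [e6p4]) x hx hτ
  · exact fix_single p k 1 46 (by rw [hrk]; norm_num) rfl hs1 (by simp [e6p2]) x hx hτ

variable (hK : Fintype.card K = (p ^ k) ^ 2) (hq : 1 < p ^ k)

include hK in
theorem frob2' (t : K) : frob (K := K) p k (frob p k t) = t := by
  rw [frob_apply, frob_apply, ← pow_mul, ← sq, ← hK, FiniteField.pow_card]

include hK hq in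
theorem hd_single (i : ℕ) (hi : i < chevE6.rank) (hπ : pif i = i)
    (Y : Subgroup (GL chevE6.Idx K))
    (hY : ∀ g, g ∈ Y ↔ g ∈ XJ goodE6 (F := K) [i] ∧ tau (frob (K := K) p k) Pg g = g) :
    Nat.card ↥Y ^ 2 = Nat.card ↥(XJ goodE6 (F := K) [i]) := by
  rw [XJ_one] at hY ⊢
  rw [TwOrb.card_fix1 (xs goodE6 i) (xs_add goodE6 i)
    (uniq_one goodE6 (hypE6 (K := K)) hi) (tau (frob (K := K) p k) Pg)
    (frob (K := K) p k) (fun t => by rw [tau_xs p k i hi t, hπ]) Y hY,
    TwOrb.card_X1 (xs goodE6 i) (xs_add goodE6 i)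
    (uniq_one goodE6 (hypE6 (K := K)) hi), Nat.card_eq_fintype_card (α := K), hK]
  congr 1
  rw [← TwOrb.card_fixed_pow (K := K) (p ^ k) 2 hq hK]
  exact Nat.card_congr (Equiv.subtypeEquivRight (fun t => by rw [frob_apply]))

include hK hq in
theorem hd_pair (i j r s : ℕ) (hi : i < chevE6.rank) (hj : j < chevE6.rank)
    (hπi : pif i = j) (hπj : pif j = i) (hr : chevE6.simple i = r) (hs : chevE6.simple j = s)
    (hrs : (r, s) ∈ commPairs) (hJ : OrthList chevE6 [i, j])
    (Y : Subgroup (GL chevE6.Idx K))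
    (hY : ∀ g, g ∈ Y ↔ g ∈ XJ goodE6 (F := K) [i, j] ∧ tau (frob (K := K) p k) Pg g = g) :
    Nat.card ↥Y ^ 2 = Nat.card ↥(XJ goodE6 (F := K) [i, j]) := by
  rw [XJ_two] at hY ⊢
  rw [TwOrb.card_fix2 (xs goodE6 i) (xs goodE6 j)
    (xs_add goodE6 i) (xs_add goodE6 j) (xs_comm i j r s hr hs hrs)
    (uniq_two goodE6 (hypE6 (K := K)) hJ) (tau (frob (K := K) p k) Pg)
    (frob (K := K) p k) (fun t => by rw [tau_xs p k i hi t, hπi])
    (fun t => by rw [tau_xs p k j hj t, hπj]) Y hY,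
    TwOrb.card_X2 (xs goodE6 i) (xs goodE6 j)
    (xs_add goodE6 i) (xs_add goodE6 j) (xs_comm i j r s hr hs hrs)
    (uniq_two goodE6 (hypE6 (K := K)) hJ)]
  congr 1
  exact Nat.card_congr (Equiv.subtypeUnivEquiv (fun t => frob2' p k hK t))

include hK hq in
theorem hdE6 (j : Fin 4) (Y : Subgroup (GL chevE6.Idx K))
    (hY : ∀ g, g ∈ Y ↔ g ∈ XJ goodE6 (F := K) (orbE j) ∧ tau (frob (K := K) p k) Pg g = g) :
    Nat.card ↥Y ^ 2 = Nat.card ↥(XJ goodE6 (F := K) (orbE j)) := by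
  obtain ⟨hs0, hs1, hs2, hs3, hs4, hs5, hrk⟩ := simpleVals
  fin_cases j
  · exact hd_pair p k hK hq 0 5 56 36 (by rw [hrk]; norm_num) (by rw [hrk]; norm_num) rfl rfl hs0 hs5
      (by simp [commPairs]) (orthE6 0) Y hY
  · exact hd_pair p k hK hq 2 4 42 37 (by rw [hrk]; norm_num) (by rw [hrk]; norm_num) rfl rfl hs2 hs4
      (by simp [commPairs]) (orthE6 1) Y hY
  · exact hd_single p k hK hq 3 (by rw [hrk]; norm_num) rfl Y hY
  · exact hd_single p k hK hq 1 (by rw [hrk]; norm_num) rfl Y hY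

end

end Cfsg.Agent.Helper59.TwE6
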