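import Cfsg.Agent.Lib.Helper59.TwMain

/-!
# The order of a twisted group: variant of `card_twisted` with the orbit of the regular vector
given abstractly
-/

set_option autoImplicit false
set_option linter.unusedSectionVars false
set_option linter.unusedVariables false

namespace Cfsg.Agent.Helper59.TwFix

open Cfsg Cfsg.Lie Cfsg.Agent.S1043 Cfsg.Agent.Helper17 Cfsg.Agent.Helper18
open Cfsg.Agent.Helper6 Cfsg.Agent.Helper6.Weyl Cfsg.Agent.Helper6.Chev Cfsg.Agent.Helper6.ChevLen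
open Cfsg.Agent.Helper6.Twist Cfsg.Agent.Helper59.TwPoinc
open scoped Pointwise

section

variable {F : Type*} [Field F] [Fintype F] {D : ChevalleyDatum} (hD : Good D) {tbl : List ℕ}
  (CH : ChevHyp F D tbl)
  (φ : F →+* F) (hφ : Function.Surjective φ) (Pg : GL D.Idx F) (R : ℕ → ℕ) (ηs : ℕ → ℤ)
  (hconjP : ∀ s < D.nroots, ∀ t : F, (Pg : Matrix D.Idx D.Idx F) * D.x F s t =
      D.x F (R s) ((ηs s : F) * t) * (Pg : Matrix D.Idx D.Idx F))
  (TF : TauFacts D R ηs)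
  (G1 : Subgroup (GL D.Idx F)) (hG1 : G1 ≤ D.group F) (hfix : G1 ≤ fixTau φ Pg)
  {ι : Type*} (orb : ι → List ℕ)
  (horb : ∀ j, OrthList D (orb j))
  (hne : ∀ j, orb j ≠ [])
  (hcover : ∀ i < D.rank, ∃ j, i ∈ orb j)
  (π : ℕ → ℕ)
  (hπR : ∀ i < D.rank, R (D.simple i) = D.simple (π i))
  (hπη : ∀ i < D.rank, ηs (D.simple i) = 1)
  (hπorb : ∀ j, ∀ a ∈ orb j, π a ∈ orb j)
  (hπtrans : ∀ j, ∀ a ∈ orb j, ∀ b ∈ orb j, ∃ k : ℕ, π^[k] a = b)
  (hnJ : ∀ j, nWordGL D hD (orb j) ∈ G1)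
  (hfixX : ∀ j, ∀ x ∈ XJ hD (F := F) (orb j), tau φ Pg x = x → x ∈ G1)
  (q d : ℕ) (hd0 : d ≠ 0) (hFq : Fintype.card F = q ^ d)
  (hd : ∀ j, ∀ Y : Subgroup (GL D.Idx F),
    (∀ g, g ∈ Y ↔ g ∈ XJ hD (F := F) (orb j) ∧ tau φ Pg g = g) →
      Nat.card ↥Y ^ d = Nat.card ↥(XJ hD (F := F) (orb j)))
  {η : ℕ → ℕ → ℤ} (h : NData F D η)
  {l : ℕ} {V : VDatum l} {vec : ℕ → Vec l} (B : Bridge D V vec)
  (hsimp : ∀ j < D.rank, ∀ c : F, c ≠ 0 → D.hMat F (D.simple j) c =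
    Matrix.diagonal (Sum.elim (fun _ => (1 : F)) (fun s : Fin D.nroots => c ^ (D.cartan j s))))
  (M : CoxeterMatrix (Fin l)) (hM : ∀ i j, M i j = orderOf (V.s i * V.s j))
  (hrel : ∀ i j : Fin l, i < j → (Ni h i * Ni h j) ^ (M i j) ∈ D.diagonalSubgroup F)

variable (Pm : (Mat l)ˣ) (hPact : Act vec (Pg : Matrix D.Idx D.Idx F) Pm)
  (πW : Fin l → Fin l)
  (hPsingle : ∀ i, Pm • (Pi.single i 1 : Vec l) = Pi.single (πW i) 1)
  (hPpos : ∀ β ∈ V.pos, Pm • β ∈ V.pos)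
  {l' : ℕ} (orbW : Fin l' → List (Fin l))
  (horb_cover : ∀ i : Fin l, ∃ j, i ∈ orbW j)
  (horb_trans : ∀ j, ∀ a ∈ orbW j, ∀ b ∈ orbW j, ∃ k : ℕ, πW^[k] a = b)
  (horb_orth : ∀ j, (orbW j).Pairwise (Orth V))
  (hg_comm : ∀ j, Pm * V.wpM (orbW j) = V.wpM (orbW j) * Pm)
  (lam : Vec l) (hreg : ∀ i, 0 < pair V.A i lam)
  (hgenW : ∀ j : Fin l', (((orbW j).map (NiN h B hsimp)).prod : GL D.Idx F) ∈ G1)
  (vs : List (Vec l))
  (horbit : ∀ v : Vec l, (∃ w ∈ CW V Pm, w • lam = v) ↔ v ∈ vs)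
  (hnd : vs.Nodup) (hposnd : V.pos.Nodup)

include hD CH φ hφ Pg R ηs hconjP TF G1 hG1 hfix orb horb hne hcover π hπR hπη hπorb hπtrans hnJ hfixX
  hd0 hFq hd h B hsimp hM hrel hPact hPsingle hPpos horb_cover horb_trans horb_orth
  hg_comm hreg hgenW horbit hnd hposnd in
/-- **the order of the twisted group** in terms of `B ⊓ G1` and the orbit list -/
theorem card_twisted' :
    Nat.card ↥G1 = Nat.card ↥(D.borelSubgroup F ⊓ G1) *
      (vs.map (fun v => q ^ depthL V v)).sum := by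
  classical
  set T := chevTwist hD CH φ hφ Pg R ηs hconjP TF G1 hG1 hfix with hT
  set Rc := chevRec hD CH φ hφ Pg R ηs hconjP TF G1 hG1 hfix orb horb hne hcover π hπR hπη
    hπorb hπtrans hnJ hfixX with hRc
  have hlift := Rc.lift
  have hfu : ∀ n ∈ D.monomialSubgroup F, n ∈ G1 → ∀ u ∈ Uw D n, tau φ Pg u = u → u ∈ G1 :=
    fun n hn hnG => (card_FixUw hD CH φ hφ Pg R ηs hconjP TF G1 hG1 hfix orb horb hne hcover π hπR hπη
      hπorb hπtrans hnJ hfixX q d hd0 hFq hd h B hsimp M hM hrel n hn hnG).1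
  let ψ : ↥(D.monomialSubgroup F ⊓ G1) → {v : Vec l // v ∈ vs} := fun n =>
    ⟨theta1 G1 h B hsimp n • lam,
      (horbit _).1 ⟨_, theta1_mem_CW φ Pg G1 hfix h B hsimp Pm hPact n, rfl⟩⟩
  have hψs : Function.Surjective ψ := by
    rintro ⟨v, hv⟩
    obtain ⟨w, hw, rfl⟩ := (horbit v).2 hv
    obtain ⟨n, rfl⟩ := theta1_surj G1 h B hsimp Pm πW hPsingle hPpos orbW horb_cover horb_trans
      horb_orth hg_comm hgenW hw
    exact ⟨n, rfl⟩
  have hψ : ∀ n n' : ↥(D.monomialSubgroup F ⊓ G1), ψ n = ψ n' ↔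
      (n : GL D.Idx F)⁻¹ * (n' : GL D.Idx F) ∈ D.diagonalSubgroup F := by
    intro n n'
    rw [← theta1_eq_iff G1 h B hsimp M hM hrel]
    constructor
    · intro e
      have e1 : theta1 G1 h B hsimp n • lam = theta1 G1 h B hsimp n' • lam :=
        congrArg Subtype.val e
      exact smul_lam_inj V lam hreg (theta1_mem_Wf G1 h B hsimp n) (theta1_mem_Wf G1 h B hsimp n') e1
    · intro e
      apply Subtype.ext
      change theta1 G1 h B hsimp n • lam = theta1 G1 h B hsimp n' • lam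
      rw [e]
  have hF : ∀ n : ↥(D.monomialSubgroup F ⊓ G1),
      Nat.card ↥(T.FixUw (n : GL D.Idx F)) = (fun v : {v : Vec l // v ∈ vs} => q ^ depthL V v.1) (ψ n) := by
    intro n
    have := (card_FixUw hD CH φ hφ Pg R ηs hconjP TF G1 hG1 hfix orb horb hne hcover π hπR hπη
      hπorb hπtrans hnJ hfixX q d hd0 hFq hd h B hsimp M hM hrel n n.2.1 n.2.2).2
    rw [this]
    change q ^ _ = q ^ depthL V (theta1 G1 h B hsimp n • lam)
    rw [← depth_eq_depthL V hposnd, ← nJ_eq_depth V lam hreg (theta1_mem_Wf G1 h B hsimp n)]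
    rfl
  have key := T.card_G1 hlift hfu ψ hψs hψ (fun v : {v : Vec l // v ∈ vs} => q ^ depthL V v.1) hF
  rw [sum_subtype_list vs hnd (fun v => q ^ depthL V v)] at key
  exact key

end

end Cfsg.Agent.Helper59.TwFix
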