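import Cfsg.Agent.Lib.Helper59.TwPoincE6

/-! Generated: certificate check for the orbit data, type E6. -/

set_option autoImplicit false
set_option maxRecDepth 1000000

namespace Cfsg.Agent.Helper59.TwPoinc.E6

open Cfsg.Agent.Helper6.Weyl Cfsg.Agent.Helper6.Twist Cfsg.Agent.Helper6.Twist.E6

theorem hcodes_lt : ∀ c ∈ codes, c < 128 ^ 6 :=
  allLtB_sound _ codes (by decide +kernel)

theorem hcodes_nodup : codes.Nodup :=
  nodupB_sound codes (by decide +kernel)

theorem hnodup : vs.Nodup := nodup_map_dec 6 codes hcodes_lt hcodes_nodup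

end Cfsg.Agent.Helper59.TwPoinc.E6
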