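import Cfsg.Agent.Lib.Helper59.TwPoincE6

/-! Generated: certificate check for the orbit data, type E6. -/

set_option autoImplicit false
set_option maxRecDepth 1000000

namespace Cfsg.Agent.Helper59.TwPoinc.E6

open Cfsg.Agent.Helper6.Weyl Cfsg.Agent.Helper6.Twist Cfsg.Agent.Helper6.Twist.E6

theorem hgt : gt = (Cfsg.Agent.Helper6.Weyl.E6.vd).pos.map (fun β => List.ofFn ((Cfsg.Agent.Helper6.Weyl.E6.vd).G.mulVec β)) := by decide +kernel

theorem hdsF : codes.map (depthF 6 gt) = ds := by decide +kernel

theorem hposnd : (Cfsg.Agent.Helper6.Weyl.E6.vd).pos.Nodup := by decide +kernel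

theorem hdlt : ∀ d ∈ ds, d < 37 := by decide +kernel

theorem hcounts : (List.range 37).map (fun d => ds.count d) = counts := by decide +kernel

end Cfsg.Agent.Helper59.TwPoinc.E6
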