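import Cfsg.Agent.Lib.Helper59.TwPoincE6b
import Cfsg.Agent.Lib.Helper59.TwPoincE6c
import Cfsg.Agent.Lib.Helper59.TwPoincE6d

/-!
# The orbit of the regular vector under the centraliser of the diagram symmetry in `W(E₆)`,
and its depth generating function
-/

set_option autoImplicit false
set_option maxRecDepth 1000000

namespace Cfsg.Agent.Helper59.TwPoinc

theorem sum_pow_count' (q : ℕ) (ds : List ℕ) (N : ℕ) (h : ∀ d ∈ ds, d < N) (cs : List ℕ)
    (hcs : (List.range N).map (fun d => ds.count d) = cs) :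
    (ds.map (fun d => q ^ d)).sum = (List.zipWith (fun c d => c * q ^ d) cs (List.range N)).sum := by
  rw [sum_pow_count q ds N h, ← hcs, List.zipWith_map_left, List.zipWith_self]

end Cfsg.Agent.Helper59.TwPoinc

namespace Cfsg.Agent.Helper59.TwPoinc.E6

open Cfsg.Agent.Helper6.Weyl Cfsg.Agent.Helper6.Twist Cfsg.Agent.Helper6.Twist.E6

theorem card_Wf_E6 : Nat.card ↥(Cfsg.Agent.Helper6.Weyl.E6.vd).Wf = 51840 := by
  rw [card_Wf Cfsg.Agent.Helper6.Weyl.E6.vd _ rfl Cfsg.Agent.Helper6.Weyl.E6.chain_ok]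
  decide +kernel

theorem card_Wf_F4 : Nat.card ↥(Cfsg.Agent.Helper6.Weyl.F4.vd).Wf = 1152 := by
  rw [card_Wf Cfsg.Agent.Helper6.Weyl.F4.vd _ rfl Cfsg.Agent.Helper6.Weyl.F4.chain_ok]
  decide +kernel

instance finite_Wf_E6 : Finite ↥(Cfsg.Agent.Helper6.Weyl.E6.vd).Wf :=
  Nat.finite_of_card_ne_zero (by rw [card_Wf_E6]; norm_num)

instance finite_Wf_F4 : Finite ↥(Cfsg.Agent.Helper6.Weyl.F4.vd).Wf :=
  Nat.finite_of_card_ne_zero (by rw [card_Wf_F4]; norm_num)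

instance finite_CW : Finite ↥(CW Cfsg.Agent.Helper6.Weyl.E6.vd Pm) :=
  Finite.of_injective (Subgroup.inclusion (inf_le_left : CW Cfsg.Agent.Helper6.Weyl.E6.vd Pm ≤ _))
    (Subgroup.inclusion_injective _)

theorem card_CW : Nat.card ↥(CW Cfsg.Agent.Helper6.Weyl.E6.vd Pm) ≤ vs.length := by
  rw [hlength, ← card_Wf_F4]
  exact card_CW_le Cfsg.Agent.Helper6.Weyl.E6.vd Pm piFun hPsingle hPpos orb horb_cover horb_trans
    horb_orth hg_comm Q Rr Z hRQ hPQ hZ Cfsg.Agent.Helper6.Weyl.F4.vd hrg lam y0 hlam hreg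

/-- the orbit of the regular vector under the centraliser is the list -/
theorem horbit (v : Vec 6) :
    (∃ w ∈ CW Cfsg.Agent.Helper6.Weyl.E6.vd Pm, w • lam = v) ↔ v ∈ vs := by
  apply orbit_of_card Cfsg.Agent.Helper6.Weyl.E6.vd Pm lam hreg vs hnodup card_CW
  intro v hv
  rw [CW_eq_Hgen Cfsg.Agent.Helper6.Weyl.E6.vd orb Pm piFun hPsingle hPpos horb_cover horb_trans
    horb_orth hg_comm]
  exact reachF_levels Cfsg.Agent.Helper6.Weyl.E6.vd lam orb At hAt orbL horbL c0 rest h0 hreach v hv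

theorem hds : vs.map (depthL Cfsg.Agent.Helper6.Weyl.E6.vd) = ds := by
  rw [vs, List.map_map, ← hdsF]
  apply List.map_congr_left
  intro c _
  exact (depthF_spec Cfsg.Agent.Helper6.Weyl.E6.vd gt hgt c).symm

/-- the depth generating function -/
theorem sumE6 (q : ℕ) :
    (vs.map (fun v => q ^ depthL Cfsg.Agent.Helper6.Weyl.E6.vd v)).sum =
      1 * q ^ 0 + (2 * q ^ 1 + (4 * q ^ 2 + (6 * q ^ 3 + (9 * q ^ 4 + (13 * q ^ 5 + (17 * q ^ 6 + (22 * q ^ 7 + (26 * q ^ 8 + (32 * q ^ 9 + (37 * q ^ 10 + (43 * q ^ 11 + (47 * q ^ 12 + (51 * q ^ 13 + (55 * q ^ 14 + (58 * q ^ 15 + (61 * q ^ 16 + (61 * q ^ 17 + (62 * q ^ 18 + (61 * q ^ 19 + (61 * q ^ 20 + (58 * q ^ 21 + (55 * q ^ 22 + (51 * q ^ 23 + (47 * q ^ 24 + (43 * q ^ 25 + (37 * q ^ 26 + (32 * q ^ 27 + (26 * q ^ 28 + (22 * q ^ 29 + (17 * q ^ 30 + (13 * q ^ 31 + (9 * q ^ 32 + (6 * q ^ 33 + (4 * q ^ 34 + (2 * q ^ 35 + (1 * q ^ 36 + 0))))))))))))))))))))))))))))))))))))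 := by
  have e : vs.map (fun v => q ^ depthL Cfsg.Agent.Helper6.Weyl.E6.vd v) =
      (vs.map (depthL Cfsg.Agent.Helper6.Weyl.E6.vd)).map (fun d => q ^ d) := by
    rw [List.map_map]; rfl
  rw [e, hds, sum_pow_count' q ds 37 hdlt counts hcounts]
  rfl

end Cfsg.Agent.Helper59.TwPoinc.E6
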