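import Cfsg.Agent.Lib.Helper59.TwE6B
import Cfsg.Agent.Lib.Helper59.TwMain2
import Cfsg.Agent.Lib.Helper59.TwPoincE6e
import Cfsg.Agent.Lib.Helper18.UCardData
import Cfsg.Agent.Lib.Helper6.TwistCoreE6

/-!
# The twisted group `²E₆(q)`: assembling the order
-/

set_option autoImplicit false
set_option linter.unusedSectionVars false
set_option linter.unusedVariables false
set_option maxRecDepth 100000

namespace Cfsg.Agent.Helper59.TwE6

open Cfsg Cfsg.Lie Cfsg.Agent.S1043 Cfsg.Agent.Helper17 Cfsg.Agent.Helper18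
open Cfsg.Agent.Helper6.Twist Cfsg.Agent.Helper6.Twist.E6 Cfsg.Agent.Helper6.Chev
open Cfsg.Agent.Helper6.ChevS Cfsg.Agent.Helper6.ChevLen Cfsg.Agent.Helper6.Weyl
open Cfsg.Agent.Helper59.TwFix Cfsg.Agent.Helper59.TwPoinc

section

variable {K : Type*} [Field K] [Fintype K] (p k : ℕ) [ExpChar K p]
  (hK : Fintype.card K = (p ^ k) ^ 2) (hq : 1 < p ^ k)

theorem hπtransE6 : ∀ j, ∀ a ∈ orbE j, ∀ b ∈ orbE j, ∃ k : ℕ, pif^[k] a = b := by
  intro j a ha b hb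
  obtain ⟨k, _, hk⟩ := orbFacts.2.2.2.2.2 j a ha b hb
  exact ⟨k, hk⟩

include hK hq in
theorem card_twistedE6 :
    Nat.card ↥(twistedE6 K (p ^ k)) =
      Nat.card ↥(chevE6.borelSubgroup K ⊓ twistedE6 K (p ^ k)) *
        (TwPoinc.E6.vs.map (fun v => (p ^ k) ^ depthL Cfsg.Agent.Helper6.Weyl.E6.vd v)).sum :=
  card_twisted' goodE6 (hypE6 (K := K)) (frob (K := K) p k) (frob_surj p k) Pg Rf etaf hconjP tauFactsE6
    (twistedE6 K (p ^ k)) (twisted_le_group p k) (twisted_le_fix p k hK)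
    orbE orthE6 orbFacts.1 orbFacts.2.1 pif orbFacts.2.2.1 orbFacts.2.2.2.1 orbFacts.2.2.2.2.1
    hπtransE6 (hnJ p k) (hfixX p k) (p ^ k) 2 (by norm_num) hK (hdE6 p k hK hq)
    (nData_E6 (F := K)) bridge_E6 hsimpE6 CoxeterMatrix.E₆
    (ordersOK_spec Cfsg.Agent.Helper6.Weyl.E6.vd CoxeterMatrix.E₆ Cfsg.Agent.Helper6.Weyl.E6.orders_ok)
    (fun i j hij => by rw [mf_E6]; exact hrel_E6 nData_E6 i j hij j.2)
    Pm hPact piFun hPsingle hPpos orb horb_cover horb_trans horb_orth hg_comm lam hreg (hgen p k)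
    TwPoinc.E6.vs TwPoinc.E6.horbit TwPoinc.E6.hnodup TwPoinc.E6.hposnd

theorem card_U_E6 : Nat.card ↥(chevE6.posUnipotent K) = Fintype.card K ^ 36 := by
  obtain ⟨tbls, l, hperm, hred, hw0, hlen⟩ := w0Data_all chevE6 goodE6
  have hl : l.length = 36 := by
    rw [hlen]
    decide +kernel
  have C := hypE6 (K := K)
  rw [← hl, ← Nat.card_eq_fintype_card]
  exact posUnipotent_card chevE6 goodE6 C.hB C.hU C.hT C.hTri C.hNeg C.hconj C.hS C.hNH tbls hperm l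
    hred hw0

include hK hq in
theorem card_unipE6 :
    Nat.card ↥(chevE6.posUnipotent K ⊓ twistedE6 K (p ^ k)) = (p ^ k) ^ 36 :=
  card_unip1 goodE6 (hypE6 (K := K)) (frob (K := K) p k) (frob_surj p k) Pg Rf etaf hconjP tauFactsE6
    (twistedE6 K (p ^ k)) (twisted_le_group p k) (twisted_le_fix p k hK)
    orbE orthE6 orbFacts.1 orbFacts.2.1 pif orbFacts.2.2.1 orbFacts.2.2.2.1 orbFacts.2.2.2.2.1
    hπtransE6 (hnJ p k) (hfixX p k) (p ^ k) 2 (by norm_num) hK (hdE6 p k hK hq)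
    (nData_E6 (F := K)) bridge_E6 hsimpE6 CoxeterMatrix.E₆
    (ordersOK_spec Cfsg.Agent.Helper6.Weyl.E6.vd CoxeterMatrix.E₆ Cfsg.Agent.Helper6.Weyl.E6.orders_ok)
    (fun i j hij => by rw [mf_E6]; exact hrel_E6 nData_E6 i j hij j.2)
    n0 n0_mem_N (n0_mem_G p k) n0_conj 36 card_U_E6

include hK hq in
theorem card_borelE6 :
    Nat.card ↥(chevE6.borelSubgroup K ⊓ twistedE6 K (p ^ k)) =
      Nat.card ↥(chevE6.posUnipotent K ⊓ twistedE6 K (p ^ k)) *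
        Nat.card ↥(chevE6.diagonalSubgroup K ⊓ twistedE6 K (p ^ k)) :=
  card_borel1 goodE6 (hypE6 (K := K)) (frob (K := K) p k) (frob_surj p k) Pg Rf etaf hconjP tauFactsE6
    (twistedE6 K (p ^ k)) (twisted_le_group p k) (twisted_le_fix p k hK)
    orbE orthE6 orbFacts.1 orbFacts.2.1 pif orbFacts.2.2.1 orbFacts.2.2.2.1 orbFacts.2.2.2.2.1
    hπtransE6 (hnJ p k) (hfixX p k) (p ^ k) 2 (by norm_num) hK (hdE6 p k hK hq)
    (nData_E6 (F := K)) bridge_E6 hsimpE6 CoxeterMatrix.E₆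
    (ordersOK_spec Cfsg.Agent.Helper6.Weyl.E6.vd CoxeterMatrix.E₆ Cfsg.Agent.Helper6.Weyl.E6.orders_ok)
    (fun i j hij => by rw [mf_E6]; exact hrel_E6 nData_E6 i j hij j.2)
    n0 n0_mem_N (n0_mem_G p k) n0_conj

/-- the depth generating function of the centraliser orbit -/
def polyE6 (q : ℕ) : ℕ :=
  1 * q ^ 0 + (2 * q ^ 1 + (4 * q ^ 2 + (6 * q ^ 3 + (9 * q ^ 4 + (13 * q ^ 5 + (17 * q ^ 6 + (22 * q ^ 7 + (26 * q ^ 8 + (32 * q ^ 9 + (37 * q ^ 10 + (43 * q ^ 11 + (47 * q ^ 12 + (51 * q ^ 13 + (55 * q ^ 14 + (58 * q ^ 15 + (61 * q ^ 16 + (61 * q ^ 17 + (62 * q ^ 18 + (61 * q ^ 19 + (61 * q ^ 20 + (58 * q ^ 21 + (55 * q ^ 22 + (51 * q ^ 23 + (47 * q ^ 24 + (43 * q ^ 25 + (37 * q ^ 26 + (32 * q ^ 27 + (26 * q ^ 28 + (22 * q ^ 29 + (17 * q ^ 30 + (13 * q ^ 31 + (9 * q ^ 32 + (6 * q ^ 33 + (4 * q ^ 34 + (2 * q ^ 35 + (1 * q ^ 36 + 0))))))))))))))))))))))))))))))))))))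

include hK hq in
/-- `|²E₆(q)| = q³⁶ |H¹| P(q)` -/
theorem card_twistedE6' :
    Nat.card ↥(twistedE6 K (p ^ k)) =
      (p ^ k) ^ 36 * Nat.card ↥(chevE6.diagonalSubgroup K ⊓ twistedE6 K (p ^ k)) *
        polyE6 (p ^ k) := by
  rw [card_twistedE6 p k hK hq, card_borelE6 p k hK hq, card_unipE6 p k hK hq, TwPoinc.E6.sumE6]
  rfl

/-- reduction of the hypotheses of the statements to `q = p ^ k` with `p` the characteristic -/
theorem exists_char {q : ℕ} (hq : IsPrimePow q) (hK : Fintype.card K = q ^ 2) :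
    ∃ (p k : ℕ) (_ : ExpChar K p), q = p ^ k ∧ 1 < p ^ k ∧ 0 < k ∧ p.Prime := by
  obtain ⟨p, k, hp, hk, rfl⟩ := (isPrimePow_nat_iff q).1 hq
  obtain ⟨p', hchar⟩ := CharP.exists K
  have := hchar
  obtain ⟨n, hp', hn⟩ := FiniteField.card K p'
  have hpp : p' = p := by
    have h1 : p' ∣ (p ^ k) ^ 2 := by
      rw [← hK, hn]
      exact dvd_pow_self p' n.ne_zero
    exact (Nat.prime_dvd_prime_iff_eq hp' hp).1 (hp'.dvd_of_dvd_pow (hp'.dvd_of_dvd_pow h1))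
  subst hpp
  refine ⟨p', k, ExpChar.prime hp', rfl, ?_, hk, hp'⟩
  exact Nat.one_lt_pow hk.ne' hp'.one_lt

end

end Cfsg.Agent.Helper59.TwE6
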