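import Cfsg.Agent.Lib.Helper59.TwCard

/-!
# Faster orbit certificates on codes: list arithmetic only
-/

set_option autoImplicit false
set_option linter.unusedSectionVars false
set_option linter.unusedVariables false

namespace Cfsg.Agent.Helper59.TwPoinc

open Cfsg.Agent.Helper6.Weyl Cfsg.Agent.Helper6.Twist Matrix

/-- the digits of a code, as integers -/
def digsL : ℕ → ℕ → List ℤ
  | 0, _ => []
  | k + 1, c => (((c % 128 : ℕ) : ℤ) - 64) :: digsL k (c / 128)

theorem digsL_eq : ∀ (n c : ℕ), digsL n c = List.ofFn (dec n c) := by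
  intro n
  induction n with
  | zero => intro c; simp [digsL]
  | succ n ih =>
    intro c
    rw [digsL, List.ofFn_succ, ih]
    congr 1
    · simp [dec]
    · congr 1
      funext j
      simp only [dec, Fin.val_succ, pow_succ]
      rw [Nat.div_div_eq_div_mul, mul_comm 128]

variable {n : ℕ}

theorem dotL_pair (A : Mat n) (i : Fin n) (col : List ℤ) (hcol : col = List.ofFn (fun l => A l i))
    (c : ℕ) : dotL col (digsL n c) = pair A i (dec n c) := by
  rw [hcol, digsL_eq, dotL_ofFn]
  rfl

/-- fast reflection on codes: `col` is the `i`-th column of the Cartan matrix -/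
def reflF (n : ℕ) (col : List ℤ) (i : ℕ) (c : ℕ) : Option ℕ :=
  if 0 ≤ ((c / 128 ^ i % 128 : ℕ) : ℤ) - dotL col (digsL n c) ∧
      ((c / 128 ^ i % 128 : ℕ) : ℤ) - dotL col (digsL n c) ≤ 127 then
    some (Int.toNat ((c : ℤ) - dotL col (digsL n c) * 128 ^ i))
  else none

theorem reflF_spec (A : Mat n) (i : Fin n) (col : List ℤ)
    (hcol : col = List.ofFn (fun l => A l i)) (c r : ℕ) (h : reflF n col (i : ℕ) c = some r) :
    dec n r = (refl A i).mulVec (dec n c) := by
  unfold reflF at h
  rw [dotL_pair A i col hcol] at h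
  split_ifs at h with hr
  rw [Option.some.injEq] at h
  have hin : inRangeC A i c = true := by
    unfold inRangeC
    rw [Bool.and_eq_true]
    exact ⟨decide_eq_true hr.1, decide_eq_true hr.2⟩
  rw [← h]
  exact reflC_spec hin

/-- apply the reflections of a list (given by indices) to a code -/
def applyF (n : ℕ) (At : List (List ℤ)) : List ℕ → ℕ → Option ℕ
  | [], c => some c
  | i :: L, c =>
    match applyF n At L c with
    | none => none
    | some c' => reflF n (At.getD i []) i c'

theorem applyF_spec (V : VDatum n) (At : List (List ℤ))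
    (hAt : ∀ i : Fin n, At.getD (i : ℕ) [] = List.ofFn (fun l => V.A l i)) :
    ∀ (L : List (Fin n)) (c r : ℕ), applyF n At (L.map Fin.val) c = some r →
      dec n r = applyL V L (dec n c) := by
  intro L
  induction L with
  | nil =>
    intro c r h
    simp only [List.map_nil, applyF, Option.some.injEq] at h
    rw [← h]; rfl
  | cons i L ih =>
    intro c r h
    rw [List.map_cons, applyF] at h
    cases h' : applyF n At (L.map Fin.val) c with
    | none => rw [h'] at h; exact absurd h (by simp)
    | some c' =>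
      rw [h'] at h
      simp only at h
      rw [reflF_spec V.A i _ (hAt i) c' r h, ih c c' h']
      rfl

variable {l' : ℕ}

/-- reachability certificate by levels, with the generator given for each code -/
def reachF (n : ℕ) (At : List (List ℤ)) (orbL : List (List ℕ)) :
    List ℕ → List ℕ → List (List (ℕ × ℕ)) → Bool
  | _, _, [] => true
  | p1, p2, lv :: rest =>
    (lv.all fun cj =>
      match applyF n At (orbL.getD cj.2 []) cj.1 with
      | none => false
      | some r => p1.contains r || p2.contains r) && reachF n At orbL (lv.map Prod.fst) p1 rest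

theorem reachF_sound (V : VDatum n) (lam : Vec n) (orb : Fin l' → List (Fin n))
    (At : List (List ℤ)) (hAt : ∀ i : Fin n, At.getD (i : ℕ) [] = List.ofFn (fun l => V.A l i))
    (orbL : List (List ℕ)) (horbL : ∀ j : ℕ, orbL.getD j [] = (orbN orb j).map Fin.val) :
    ∀ (rest : List (List (ℕ × ℕ))) (p1 p2 : List ℕ),
      (∀ c ∈ p1, ∃ w ∈ Hgen V orb, w • lam = dec n c) →
      (∀ c ∈ p2, ∃ w ∈ Hgen V orb, w • lam = dec n c) →
      reachF n At orbL p1 p2 rest = true →
      ∀ lv ∈ rest, ∀ cj ∈ lv, ∃ w ∈ Hgen V orb, w • lam = dec n cj.1 := by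
  intro rest
  induction rest with
  | nil => intro _ _ _ _ _ lv hlv; exact absurd hlv List.not_mem_nil
  | cons lv0 rest ih =>
    intro p1 p2 h1 h2 hr lv hlv cj hc
    rw [reachF, Bool.and_eq_true, List.all_eq_true] at hr
    obtain ⟨hr1, hr2⟩ := hr
    have hlv0 : ∀ cj ∈ lv0, ∃ w ∈ Hgen V orb, w • lam = dec n cj.1 := by
      intro cj hc
      have hj := hr1 cj hc
      rw [horbL] at hj
      cases h' : applyF n At ((orbN orb cj.2).map Fin.val) cj.1 with
      | none => rw [h'] at hj; exact absurd hj (by simp)
      | some r =>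
        rw [h'] at hj
        simp only [Bool.or_eq_true, List.contains_iff_mem] at hj
        have hr' : ∃ w ∈ Hgen V orb, w • lam = dec n r := by
          rcases hj with hj | hj
          · exact h1 r hj
          · exact h2 r hj
        obtain ⟨w, hw, e⟩ := hr'
        have e2 := applyF_spec V At hAt (orbN orb cj.2) cj.1 r h'
        rw [← wpM_smul] at e2
        refine ⟨(V.wpM (orbN orb cj.2))⁻¹ * w, Subgroup.mul_mem _ (Subgroup.inv_mem _
          (wpM_orbN_mem V orb _)) hw, ?_⟩
        rw [mul_smul, e, e2, ← mul_smul, inv_mul_cancel, one_smul]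
    rcases List.mem_cons.1 hlv with rfl | hlv'
    · exact hlv0 cj hc
    · apply ih (lv0.map Prod.fst) p1 ?_ h1 hr2 lv hlv' cj hc
      intro c hc'
      obtain ⟨cj', hcj', rfl⟩ := List.mem_map.1 hc'
      exact hlv0 cj' hcj'

/-- all the codes of the levels are reachable -/
theorem reachF_levels (V : VDatum n) (lam : Vec n) (orb : Fin l' → List (Fin n))
    (At : List (List ℤ)) (hAt : ∀ i : Fin n, At.getD (i : ℕ) [] = List.ofFn (fun l => V.A l i))
    (orbL : List (List ℕ)) (horbL : ∀ j : ℕ, orbL.getD j [] = (orbN orb j).map Fin.val)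
    (c0 : ℕ) (rest : List (List (ℕ × ℕ))) (h0 : dec n c0 = lam)
    (hr : reachF n At orbL [c0] [] rest = true) :
    ∀ v ∈ (c0 :: (rest.flatten.map Prod.fst)).map (dec n), ∃ w ∈ Hgen V orb, w • lam = v := by
  intro v hv
  obtain ⟨c, hc, rfl⟩ := List.mem_map.1 hv
  have hbase : ∀ c ∈ [c0], ∃ w ∈ Hgen V orb, w • lam = dec n c := by
    intro c hc
    rw [List.mem_singleton] at hc
    subst hc
    exact ⟨1, Subgroup.one_mem _, by rw [one_smul, h0]⟩
  rcases List.mem_cons.1 hc with rfl | hc'
  · exact hbase c List.mem_cons_self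
  · obtain ⟨cj, hcj, rfl⟩ := List.mem_map.1 hc'
    obtain ⟨lv, hlv, hclv⟩ := List.mem_flatten.1 hcj
    exact reachF_sound V lam orb At hAt orbL horbL rest [c0] [] hbase
      (fun c hc => absurd hc List.not_mem_nil) hr lv hlv cj hclv

/-- the depth of a code with respect to a table of the vectors `G β`, on digit lists -/
def depthF (n : ℕ) (gt : List (List ℤ)) (c : ℕ) : ℕ :=
  (gt.filter fun g => decide (dotL (digsL n c) g < 0)).length

theorem depthF_spec (V : VDatum n) (gt : List (List ℤ))
    (hgt : gt = V.pos.map (fun β => List.ofFn (V.G.mulVec β))) (c : ℕ) :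
    depthF n gt c = depthL V (dec n c) := by
  rw [← depthC_spec V gt hgt c]
  unfold depthF depthC
  rw [digsL_eq]

end Cfsg.Agent.Helper59.TwPoinc
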