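import Mathlib

/-!
# Fixed points of a twisting endomorphism in a group with a Bruhat normal form (abstract part)

`Amb` packages an ambient group with subgroups `U, H, N, B = UH` and subgroups `Uw n` such that
every element is uniquely `b * n * u` (`b ∈ B`, `n ∈ N` up to `H`, `u ∈ Uw n`).  `Twist` adds an
endomorphism `τ` stabilising everything and a subgroup `G1` of fixed points.  We derive the normal
form of `G1`, the order of `G1`, and the recursion computing the fixed points of `Uw n`.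
-/

set_option autoImplicit false
set_option linter.unusedSectionVars false
set_option linter.unusedVariables false

namespace Cfsg.Agent.Helper59.TwFix

variable {G : Type*} [Group G]

/-- ambient group with a Bruhat normal form -/
structure Amb (G : Type*) [Group G] where
  Γ : Subgroup G
  U : Subgroup G
  H : Subgroup G
  N : Subgroup G
  B : Subgroup G
  Uw : G → Subgroup G
  U_le_B : U ≤ B
  H_le_B : H ≤ B
  B_decomp : ∀ b ∈ B, ∃ u ∈ U, ∃ h ∈ H, b = u * h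
  UH_bot : ∀ x, x ∈ U → x ∈ H → x = 1
  H_le_N : H ≤ N
  H_normal : ∀ n ∈ N, ∀ h ∈ H, n * h * n⁻¹ ∈ H
  BN : ∀ x, x ∈ B → x ∈ N → x ∈ H
  Uw_le : ∀ n, Uw n ≤ U
  Uw_H : ∀ n, ∀ h ∈ H, Uw (h * n) = Uw n
  Uw_one : Uw 1 = ⊥
  nf_exists : ∀ g ∈ Γ, ∃ b ∈ B, ∃ n ∈ N, ∃ u ∈ Uw n, g = b * n * u
  nf_unique : ∀ b b' n n' u u', b ∈ B → b' ∈ B → n ∈ N → n' ∈ N → u ∈ Uw n → u' ∈ Uw n' →
      b * n * u = b' * n' * u' → n⁻¹ * n' ∈ H ∧ (n = n' → b = b' ∧ u = u')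

/-- a twisting endomorphism and a subgroup of its fixed points -/
structure Twist (A : Amb G) where
  τ : G →* G
  G1 : Subgroup G
  G1_le : G1 ≤ A.Γ
  fix : ∀ g ∈ G1, τ g = g
  τU : ∀ u ∈ A.U, τ u ∈ A.U
  τH : ∀ h ∈ A.H, τ h ∈ A.H
  τN : ∀ n ∈ A.N, τ n ∈ A.N
  τUw : ∀ n, ∀ u ∈ A.Uw n, τ u ∈ A.Uw (τ n)

namespace Amb

variable (A : Amb G)

theorem H_normal' {n h : G} (hn : n ∈ A.N) (hh : h ∈ A.H) : n⁻¹ * h * n ∈ A.H := by
  have := A.H_normal n⁻¹ (A.N.inv_mem hn) h hh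
  rwa [inv_inv] at this

theorem Uw_mul_H {n h : G} (hn : n ∈ A.N) (hh : h ∈ A.H) : A.Uw (n * h) = A.Uw n := by
  have e : n * h = (n * h * n⁻¹) * n := by group
  rw [e, A.Uw_H n _ (A.H_normal n hn h hh)]

theorem Uw_of_mem_H {h : G} (hh : h ∈ A.H) : A.Uw h = ⊥ := by
  have := A.Uw_H 1 h hh
  rw [mul_one] at this
  rw [this, A.Uw_one]

theorem τB (T : Twist A) : ∀ b ∈ A.B, T.τ b ∈ A.B := by
  intro b hb
  obtain ⟨u, hu, h, hh, rfl⟩ := A.B_decomp b hb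
  rw [map_mul]
  exact A.B.mul_mem (A.U_le_B (T.τU u hu)) (A.H_le_B (T.τH h hh))

end Amb

namespace Twist

variable {A : Amb G} (T : Twist A)

/-- the fixed points of `τ` in `Uw n` -/
def FixUw (n : G) : Subgroup G where
  carrier := {u | u ∈ A.Uw n ∧ T.τ u = u}
  mul_mem' := by
    rintro a b ⟨ha, ha'⟩ ⟨hb, hb'⟩
    exact ⟨(A.Uw n).mul_mem ha hb, by rw [map_mul, ha', hb']⟩
  one_mem' := ⟨(A.Uw n).one_mem, map_one _⟩
  inv_mem' := by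
    rintro a ⟨ha, ha'⟩
    exact ⟨(A.Uw n).inv_mem ha, by rw [map_inv, ha']⟩

theorem mem_FixUw {n u : G} : u ∈ T.FixUw n ↔ u ∈ A.Uw n ∧ T.τ u = u := Iff.rfl

/-- the normal form of the elements of `G1` -/
theorem nf1
    (lift : ∀ n ∈ A.N, n⁻¹ * T.τ n ∈ A.H → ∃ n₁ ∈ A.N, n₁ ∈ T.G1 ∧ n₁⁻¹ * n ∈ A.H)
    (fixUw : ∀ n ∈ A.N, n ∈ T.G1 → ∀ u ∈ A.Uw n, T.τ u = u → u ∈ T.G1)
    (g : G) (hg : g ∈ T.G1) :
    ∃ n ∈ A.N, n ∈ T.G1 ∧ ∃ b ∈ A.B, b ∈ T.G1 ∧ ∃ u ∈ T.FixUw n, g = b * n * u := by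
  obtain ⟨b, hb, n', hn', u', hu', e⟩ := A.nf_exists g (T.G1_le hg)
  have hτg := T.fix g hg
  have e2 : b * n' * u' = T.τ b * T.τ n' * T.τ u' := by
    rw [← map_mul, ← map_mul, ← e, hτg]
  have h1 := (A.nf_unique b (T.τ b) n' (T.τ n') u' (T.τ u') hb (A.τB T b hb) hn' (T.τN n' hn') hu'
    (T.τUw n' u' hu') e2).1
  obtain ⟨n₁, hn₁, hn₁G, hh⟩ := lift n' hn' h1
  set h : G := n₁⁻¹ * n' with hdef
  have hn'eq : n' = (n₁ * h * n₁⁻¹) * n₁ := by rw [hdef]; group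
  have hh' : n₁ * h * n₁⁻¹ ∈ A.H := A.H_normal n₁ hn₁ h hh
  have hUw : A.Uw n' = A.Uw n₁ := by
    rw [hn'eq]; exact A.Uw_H n₁ _ hh'
  have hu₁ : u' ∈ A.Uw n₁ := hUw ▸ hu'
  set b'' : G := b * (n₁ * h * n₁⁻¹) with hb''
  have hb''B : b'' ∈ A.B := A.B.mul_mem hb (A.H_le_B hh')
  have e3 : g = b'' * n₁ * u' := by
    rw [e, hb'']
    conv_lhs => rw [hn'eq]
    group
  have hτn₁ := T.fix n₁ hn₁G
  have e4 : b'' * n₁ * u' = T.τ b'' * n₁ * T.τ u' := by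
    have : T.τ g = T.τ b'' * T.τ n₁ * T.τ u' := by rw [e3, map_mul, map_mul]
    rw [hτn₁, hτg] at this
    rw [← e3]; exact this
  have hτu : T.τ u' ∈ A.Uw n₁ := by
    have := T.τUw n₁ u' hu₁
    rwa [hτn₁] at this
  have h2 := (A.nf_unique b'' (T.τ b'') n₁ n₁ u' (T.τ u') hb''B (A.τB T b'' hb''B) hn₁ hn₁ hu₁ hτu
    e4).2 rfl
  have hu'G : u' ∈ T.G1 := fixUw n₁ hn₁ hn₁G u' hu₁ h2.2.symm
  have hb''G : b'' ∈ T.G1 := by
    have : b'' = g * u'⁻¹ * n₁⁻¹ := by rw [e3]; group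
    rw [this]
    exact T.G1.mul_mem (T.G1.mul_mem hg (T.G1.inv_mem hu'G)) (T.G1.inv_mem hn₁G)
  exact ⟨n₁, hn₁, hn₁G, b'', hb''B, hb''G, u', ⟨hu₁, h2.2.symm⟩, e3⟩

/-- the fixed points of `U` lie in `G1` as soon as those of some `Uw n₀ = U` do; then
`B ⊓ G1 = (U ⊓ G1) ⋊ (H ⊓ G1)` -/
theorem card_B1 (hfixU : ∀ u ∈ A.U, T.τ u = u → u ∈ T.G1) :
    Nat.card ↥(A.B ⊓ T.G1) = Nat.card ↥(A.U ⊓ T.G1) * Nat.card ↥(A.H ⊓ T.G1) := by
  let f : ↥(A.U ⊓ T.G1) × ↥(A.H ⊓ T.G1) → ↥(A.B ⊓ T.G1) := fun p =>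
    ⟨p.1.1 * p.2.1, ⟨A.B.mul_mem (A.U_le_B p.1.2.1) (A.H_le_B p.2.2.1),
      T.G1.mul_mem p.1.2.2 p.2.2.2⟩⟩
  have hf : Function.Bijective f := by
    constructor
    · rintro ⟨⟨u, hu⟩, ⟨h, hh⟩⟩ ⟨⟨u', hu'⟩, ⟨h', hh'⟩⟩ e
      have e1 : u * h = u' * h' := congrArg Subtype.val e
      have e2 : u'⁻¹ * u = h' * h⁻¹ := by
        have : u'⁻¹ * u = u'⁻¹ * (u * h) * h⁻¹ := by group
        rw [this, e1]; group
      have h3 : u'⁻¹ * u = 1 := A.UH_bot _ (A.U.mul_mem (A.U.inv_mem hu'.1) hu.1)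
        (by rw [e2]; exact A.H.mul_mem hh'.1 (A.H.inv_mem hh.1))
      have h4 : u = u' := by
        have : u = u' * (u'⁻¹ * u) := by group
        rw [this, h3, mul_one]
      have h5 : h = h' := by
        rw [h4] at e1
        exact mul_left_cancel e1
      subst h4; subst h5; rfl
    · rintro ⟨b, hb, hbG⟩
      obtain ⟨u, hu, h, hh, rfl⟩ := A.B_decomp b hb
      have hτ := T.fix _ hbG
      rw [map_mul] at hτ
      have e2 : u⁻¹ * T.τ u = h * (T.τ h)⁻¹ := by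
        have : T.τ u = u * h * (T.τ h)⁻¹ := by rw [← hτ]; group
        rw [this]; group
      have h3 : u⁻¹ * T.τ u = 1 := A.UH_bot _ (A.U.mul_mem (A.U.inv_mem hu) (T.τU u hu))
        (by rw [e2]; exact A.H.mul_mem hh (A.H.inv_mem (T.τH h hh)))
      have h4 : T.τ u = u := by
        have : T.τ u = u * (u⁻¹ * T.τ u) := by group
        rw [this, h3, mul_one]
      have huG : u ∈ T.G1 := hfixU u hu h4
      have hhG : h ∈ T.G1 := by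
        have : h = u⁻¹ * (u * h) := by group
        rw [this]
        exact T.G1.mul_mem (T.G1.inv_mem huG) hbG
      exact ⟨(⟨u, hu, huG⟩, ⟨h, hh, hhG⟩), rfl⟩
  rw [← Nat.card_prod]
  exact (Nat.card_congr (Equiv.ofBijective f hf)).symm

/-- the order of `G1` -/
theorem card_G1 [Finite G]
    (lift : ∀ n ∈ A.N, n⁻¹ * T.τ n ∈ A.H → ∃ n₁ ∈ A.N, n₁ ∈ T.G1 ∧ n₁⁻¹ * n ∈ A.H)
    (fixUw : ∀ n ∈ A.N, n ∈ T.G1 → ∀ u ∈ A.Uw n, T.τ u = u → u ∈ T.G1)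
    {W' : Type*} [Fintype W'] (ψ : ↥(A.N ⊓ T.G1) → W') (hψs : Function.Surjective ψ)
    (hψ : ∀ n n' : ↥(A.N ⊓ T.G1), ψ n = ψ n' ↔ (n : G)⁻¹ * (n' : G) ∈ A.H)
    (F : W' → ℕ) (hF : ∀ n : ↥(A.N ⊓ T.G1), Nat.card ↥(T.FixUw (n : G)) = F (ψ n)) :
    Nat.card ↥T.G1 = Nat.card ↥(A.B ⊓ T.G1) * ∑ w, F w := by
  choose ν hν using hψs
  let Φ : (Σ w : W', ↥(A.B ⊓ T.G1) × ↥(T.FixUw (ν w : G))) → ↥T.G1 := fun p =>
    ⟨(p.2.1 : G) * (ν p.1 : G) * (p.2.2 : G), by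
      refine T.G1.mul_mem (T.G1.mul_mem p.2.1.2.2 (ν p.1).2.2) ?_
      exact fixUw _ (ν p.1).2.1 (ν p.1).2.2 _ p.2.2.2.1 p.2.2.2.2⟩
  have hΦ : Function.Bijective Φ := by
    constructor
    · rintro ⟨w, b, u⟩ ⟨w', b', u'⟩ e
      have e1 : (b : G) * (ν w : G) * (u : G) = (b' : G) * (ν w' : G) * (u' : G) :=
        congrArg Subtype.val e
      have h1 := A.nf_unique b b' (ν w) (ν w') u u' b.2.1 b'.2.1 (ν w).2.1 (ν w').2.1 u.2.1 u'.2.1 e1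
      have hw : w = w' := by
        have := (hψ (ν w) (ν w')).2 h1.1
        rwa [hν, hν] at this
      subst hw
      have h2 := h1.2 rfl
      have hb : b = b' := Subtype.ext h2.1
      have hu : u = u' := Subtype.ext h2.2
      rw [hb, hu]
    · rintro ⟨g, hg⟩
      obtain ⟨n, hn, hnG, b, hb, hbG, u, hu, e⟩ := T.nf1 lift fixUw g hg
      set n' : ↥(A.N ⊓ T.G1) := ⟨n, hn, hnG⟩ with hn'
      set w := ψ n' with hw
      have h1 : ((ν w : ↥(A.N ⊓ T.G1)) : G)⁻¹ * n ∈ A.H := (hψ (ν w) n').1 (by rw [hν])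
      set m : G := ((ν w : ↥(A.N ⊓ T.G1)) : G) with hm
      set h : G := m⁻¹ * n with hh
      have hmN : m ∈ A.N := (ν w).2.1
      have hmG : m ∈ T.G1 := (ν w).2.2
      have hhG : h ∈ T.G1 := T.G1.mul_mem (T.G1.inv_mem hmG) hnG
      have hneq : n = (m * h * m⁻¹) * m := by rw [hh]; group
      have hh' : m * h * m⁻¹ ∈ A.H := A.H_normal m hmN h h1
      have hh'G : m * h * m⁻¹ ∈ T.G1 := T.G1.mul_mem (T.G1.mul_mem hmG hhG) (T.G1.inv_mem hmG)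
      have hUw : A.Uw n = A.Uw m := by
        rw [hneq]; exact A.Uw_H m _ hh'
      have hu' : u ∈ T.FixUw m := ⟨hUw ▸ hu.1, hu.2⟩
      refine ⟨⟨w, ⟨b * (m * h * m⁻¹), A.B.mul_mem hb (A.H_le_B hh'), T.G1.mul_mem hbG hh'G⟩,
        ⟨u, hu'⟩⟩, ?_⟩
      apply Subtype.ext
      show b * (m * h * m⁻¹) * m * u = g
      rw [e]
      conv_rhs => rw [hneq]
      group
  have hcard := Nat.card_congr (Equiv.ofBijective Φ hΦ)
  rw [← hcard, Nat.card_sigma, Finset.mul_sum]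
  apply Finset.sum_congr rfl
  intro w _
  rw [Nat.card_prod]
  have := hF (ν w)
  rw [hν] at this
  rw [this]

end Twist

end Cfsg.Agent.Helper59.TwFix
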