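import Cfsg.Agent.Lib.Helper59.TwFixC

/-!
# The orbit step of the recursion: several pairwise orthogonal fundamental reflections at once
-/

set_option autoImplicit false
set_option linter.unusedSectionVars false
set_option linter.unusedVariables false

namespace Cfsg.Agent.Helper59.TwFix

open Cfsg Cfsg.Lie Cfsg.Agent.S1043 Cfsg.Agent.Helper17 Cfsg.Agent.Helper18
open scoped Pointwise

section

variable {F : Type*} [Field F] {D : ChevalleyDatum} (hD : Good D) {tbl : List ℕ}
  (C : ChevHyp F D tbl)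

/-- the subgroup generated by the root subgroups of the fundamental roots in `J` -/
def XJ (J : List ℕ) : Subgroup (GL D.Idx F) :=
  Subgroup.closure {g | ∃ i ∈ J, ∃ t : F, g = xU D hD (D.simple i) t}

/-- `n` sends the `i`-th fundamental root to a negative root -/
def Neg (n : GL D.Idx F) (i : ℕ) : Prop :=
  ∀ t : F, n * xU D hD (D.simple i) t * n⁻¹ ∈ D.negUnipotent F

/-- pairwise orthogonal fundamental roots -/
structure OrthList (D : ChevalleyDatum) (J : List ℕ) : Prop where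
  lt : ∀ i ∈ J, i < D.rank
  nodup : J.Nodup
  orth : ∀ i ∈ J, ∀ i' ∈ J, i ≠ i' → D.reflectRoot i' (D.simple i) = D.simple i

theorem OrthList.tail {i : ℕ} {J : List ℕ} (h : OrthList D (i :: J)) : OrthList D J where
  lt := fun k hk => h.lt k (List.mem_cons_of_mem _ hk)
  nodup := (List.nodup_cons.mp h.nodup).2
  orth := fun k hk k' hk' hne => h.orth k (List.mem_cons_of_mem _ hk) k' (List.mem_cons_of_mem _ hk') hne

theorem permW_simple_of_orth (i : ℕ) (J₁ : List ℕ)
    (h : ∀ i' ∈ J₁, D.reflectRoot i' (D.simple i) = D.simple i) :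
    permW D J₁ (D.simple i) = D.simple i := by
  induction J₁ with
  | nil => rfl
  | cons k l ih =>
    change D.reflectRoot k (permW D l (D.simple i)) = D.simple i
    rw [ih (fun i' hi' => h i' (List.mem_cons_of_mem _ hi')), h k List.mem_cons_self]

include C in
theorem permW_orbit {J : List ℕ} (hJ : OrthList D J) {i : ℕ} (hi : i ∈ J) :
    permW D J (D.simple i) = D.neg (D.simple i) := by
  obtain ⟨J₁, J₂, rfl⟩ := List.append_of_mem hi
  have hnd := hJ.nodup
  rw [List.nodup_append] at hnd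
  obtain ⟨_, hnd2, hdisj⟩ := hnd
  have hi1 : i ∉ J₁ := fun h => hdisj i h i List.mem_cons_self rfl
  have hi2 : i ∉ J₂ := (List.nodup_cons.mp hnd2).1
  have h2 : permW D J₂ (D.simple i) = D.simple i := by
    apply permW_simple_of_orth
    intro i' hi'
    apply hJ.orth i hi i' (List.mem_append_right _ (List.mem_cons_of_mem _ hi'))
    rintro rfl; exact hi2 hi'
  have h1 : permW D J₁ (D.simple i) = D.simple i := by
    apply permW_simple_of_orth
    intro i' hi'
    apply hJ.orth i hi i' (List.mem_append_left _ hi')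
    rintro rfl; exact hi1 hi'
  have hl₁ : ∀ k ∈ J₁, k < D.rank := fun k hk => hJ.lt k (List.mem_append_left _ hk)
  rw [permW_append]
  change permW D J₁ (D.reflectRoot i (permW D J₂ (D.simple i))) = _
  rw [h2, reflect_simple, permW_neg C.hB J₁ hl₁ _ (C.hB.hsimp i (hJ.lt i hi)), h1]

include C in
/-- conjugation by a word of reflections orthogonal to `p_i` -/
theorem conj_word_orth (i : ℕ) (hi : i < D.rank) (J₁ : List ℕ) (hl : ∀ k ∈ J₁, k < D.rank)
    (h : ∀ i' ∈ J₁, D.reflectRoot i' (D.simple i) = D.simple i) :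
    ∃ c : F, c ≠ 0 ∧ ∀ t : F, nWordGL D hD J₁ * xU D hD (D.simple i) t * (nWordGL D hD J₁)⁻¹ =
      xU D hD (D.simple i) (c * t) := by
  obtain ⟨c, hc0, hc⟩ := conj_N_xU D hD C.hB C.hT C.hconj 1 (one_mem _) J₁ hl (D.simple i)
    (C.hB.hsimp i hi)
  refine ⟨c, hc0, fun t => ?_⟩
  have := hc t
  rw [one_mul, permW_simple_of_orth i J₁ h] at this
  exact this

include C in
theorem conj_word_orth_inv (i : ℕ) (hi : i < D.rank) (J₁ : List ℕ) (hl : ∀ k ∈ J₁, k < D.rank)
    (h : ∀ i' ∈ J₁, D.reflectRoot i' (D.simple i) = D.simple i) :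
    ∃ c : F, c ≠ 0 ∧ ∀ t : F, (nWordGL D hD J₁)⁻¹ * xU D hD (D.simple i) t * nWordGL D hD J₁ =
      xU D hD (D.simple i) (c * t) := by
  obtain ⟨c, hc0, hc⟩ := conj_word_orth hD C i hi J₁ hl h
  refine ⟨c⁻¹, inv_ne_zero hc0, fun t => ?_⟩
  have := hc (c⁻¹ * t)
  rw [← mul_assoc, mul_inv_cancel₀ hc0, one_mul] at this
  rw [← this]
  group

include C in
theorem pos_mul_word {n : GL D.Idx F} {i : ℕ} (hi : i < D.rank) (hpos : Pos hD n i) (J₁ : List ℕ)
    (hl : ∀ k ∈ J₁, k < D.rank)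
    (h : ∀ i' ∈ J₁, D.reflectRoot i' (D.simple i) = D.simple i) :
    Pos hD (n * nWordGL D hD J₁) i := by
  obtain ⟨c, _, hc⟩ := conj_word_orth hD C i hi J₁ hl h
  intro t
  have e : n * nWordGL D hD J₁ * xU D hD (D.simple i) t * (n * nWordGL D hD J₁)⁻¹ =
      n * (nWordGL D hD J₁ * xU D hD (D.simple i) t * (nWordGL D hD J₁)⁻¹) * n⁻¹ := by group
  rw [e, hc t]
  exact hpos _

omit C in
theorem xU_zero (r : ℕ) : xU D hD r (0 : F) = 1 := by
  apply Units.ext
  rw [xU_val, x_zero]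
  rfl

include C in
/-- `n_J⁻¹ U_w⁻ n_J ≤ U_{w w_J}⁻` -/
theorem orbit_conj : ∀ (J : List ℕ), OrthList D J → ∀ n ∈ D.monomialSubgroup F,
    (∀ i ∈ J, Pos hD n i) → ∀ y ∈ Uw D n,
      (nWordGL D hD J)⁻¹ * y * nWordGL D hD J ∈ Uw D (n * nWordGL D hD J) := by
  intro J
  induction J with
  | nil =>
    intro _ n _ _ y hy
    rw [nWordGL_nil, mul_one, inv_one, one_mul, mul_one]
    exact hy
  | cons i J ih =>
    intro hJ n hn hpos y hy
    have hi : i < D.rank := hJ.lt i List.mem_cons_self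
    have hiN : nGL D hD i ∈ D.monomialSubgroup F := nGL_mem D hD i (C.hB.hsimp i hi)
    have h1 := step_mem hD C hn hi (hpos i List.mem_cons_self) y hy 0
    rw [xU_zero, mul_one] at h1
    have hpos' : ∀ k ∈ J, Pos hD (n * nGL D hD i) k := by
      intro k hk
      have hne : k ≠ i := by
        rintro rfl
        exact (List.nodup_cons.mp hJ.nodup).1 hk
      have := pos_mul_word hD C (hJ.lt k (List.mem_cons_of_mem _ hk))
        (hpos k (List.mem_cons_of_mem _ hk)) [i] (by simpa using hi)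
        (by
          intro i' hi'
          rw [List.mem_singleton] at hi'
          subst hi'
          exact hJ.orth k (List.mem_cons_of_mem _ hk) i' List.mem_cons_self hne)
      rwa [nWordGL_cons, nWordGL_nil, mul_one] at this
    have h2 := ih hJ.tail (n * nGL D hD i) (mul_mem hn hiN) hpos' _ h1
    rw [nWordGL_cons]
    have e1 : n * (nGL D hD i * nWordGL D hD J) = n * nGL D hD i * nWordGL D hD J := by group
    have e2 : (nGL D hD i * nWordGL D hD J)⁻¹ * y * (nGL D hD i * nWordGL D hD J) =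
        (nWordGL D hD J)⁻¹ * ((nGL D hD i)⁻¹ * y * nGL D hD i) * nWordGL D hD J := by group
    rw [e1, e2]
    exact h2

include C in
/-- the root subgroups of the orbit lie in `U_{w w_J}⁻` -/
theorem orbit_gen_mem : ∀ (J : List ℕ), OrthList D J → ∀ n ∈ D.monomialSubgroup F,
    (∀ i ∈ J, Pos hD n i) → ∀ i ∈ J, ∀ t : F,
      xU D hD (D.simple i) t ∈ Uw D (n * nWordGL D hD J) := by
  intro J
  induction J with
  | nil => intro _ _ _ _ i hi; exact absurd hi List.not_mem_nil
  | cons i₀ J ih =>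
    intro hJ n hn hpos i hi t
    have hi₀ : i₀ < D.rank := hJ.lt i₀ List.mem_cons_self
    have hiN : nGL D hD i₀ ∈ D.monomialSubgroup F := nGL_mem D hD i₀ (C.hB.hsimp i₀ hi₀)
    have hpos' : ∀ k ∈ J, Pos hD (n * nGL D hD i₀) k := by
      intro k hk
      have hne : k ≠ i₀ := by
        rintro rfl
        exact (List.nodup_cons.mp hJ.nodup).1 hk
      have := pos_mul_word hD C (hJ.lt k (List.mem_cons_of_mem _ hk))
        (hpos k (List.mem_cons_of_mem _ hk)) [i₀] (by simpa using hi₀)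
        (by
          intro i' hi'
          rw [List.mem_singleton] at hi'
          subst hi'
          exact hJ.orth k (List.mem_cons_of_mem _ hk) i' List.mem_cons_self hne)
      rwa [nWordGL_cons, nWordGL_nil, mul_one] at this
    rw [nWordGL_cons]
    have e1 : n * (nGL D hD i₀ * nWordGL D hD J) = n * nGL D hD i₀ * nWordGL D hD J := by group
    rw [e1]
    rcases List.mem_cons.mp hi with rfl | hi'
    · -- the first root of the orbit
      have hJl : ∀ k ∈ J, k < D.rank := fun k hk => hJ.lt k (List.mem_cons_of_mem _ hk)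
      have horth : ∀ i' ∈ J, D.reflectRoot i' (D.simple i) = D.simple i := by
        intro i' hi'
        apply hJ.orth i List.mem_cons_self i' (List.mem_cons_of_mem _ hi')
        rintro rfl
        exact (List.nodup_cons.mp hJ.nodup).1 hi'
      obtain ⟨c, hc0, hc⟩ := conj_word_orth_inv hD C i hi₀ J hJl horth
      have h1 := step_mem hD C hn hi₀ (hpos i List.mem_cons_self) 1 (one_mem _) (c⁻¹ * t)
      rw [mul_one, inv_mul_cancel, one_mul] at h1
      have h2 := orbit_conj hD C J hJ.tail (n * nGL D hD i) (mul_mem hn hiN) hpos' _ h1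
      rw [hc, ← mul_assoc, mul_inv_cancel₀ hc0, one_mul] at h2
      exact h2
    · exact ih hJ.tail (n * nGL D hD i₀) (mul_mem hn hiN) hpos' i hi' t

include C in
theorem orbit_mem {J : List ℕ} (hJ : OrthList D J) {n : GL D.Idx F} (hn : n ∈ D.monomialSubgroup F)
    (hpos : ∀ i ∈ J, Pos hD n i) (y : GL D.Idx F) (hy : y ∈ Uw D n) (x : GL D.Idx F)
    (hx : x ∈ XJ hD (F := F) J) :
    (nWordGL D hD J)⁻¹ * y * nWordGL D hD J * x ∈ Uw D (n * nWordGL D hD J) := by
  apply mul_mem (orbit_conj hD C J hJ n hn hpos y hy)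
  have hle : XJ hD (F := F) J ≤ Uw D (n * nWordGL D hD J) := by
    unfold XJ
    rw [Subgroup.closure_le]
    rintro g ⟨i, hi, t, rfl⟩
    exact orbit_gen_mem hD C J hJ n hn hpos i hi t
  exact hle hx

omit C in
theorem XJ_mono {J J' : List ℕ} (h : ∀ i ∈ J, i ∈ J') : XJ hD (F := F) J ≤ XJ hD J' := by
  unfold XJ
  apply Subgroup.closure_mono
  rintro g ⟨i, hi, t, rfl⟩
  exact ⟨i, h i hi, t, rfl⟩

include C in
theorem orbit_surj : ∀ (J : List ℕ), OrthList D J → ∀ n ∈ D.monomialSubgroup F,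
    (∀ i ∈ J, Pos hD n i) → ∀ u ∈ Uw D (n * nWordGL D hD J),
      ∃ y ∈ Uw D n, ∃ x ∈ XJ hD (F := F) J,
        u = (nWordGL D hD J)⁻¹ * y * nWordGL D hD J * x := by
  intro J
  induction J with
  | nil =>
    intro _ n _ _ u hu
    rw [nWordGL_nil, mul_one] at hu
    refine ⟨u, hu, 1, one_mem _, ?_⟩
    rw [nWordGL_nil]; group
  | cons i₀ J ih =>
    intro hJ n hn hpos u hu
    have hi₀ : i₀ < D.rank := hJ.lt i₀ List.mem_cons_self
    have hiN : nGL D hD i₀ ∈ D.monomialSubgroup F := nGL_mem D hD i₀ (C.hB.hsimp i₀ hi₀)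
    have hpos' : ∀ k ∈ J, Pos hD (n * nGL D hD i₀) k := by
      intro k hk
      have hne : k ≠ i₀ := by
        rintro rfl
        exact (List.nodup_cons.mp hJ.nodup).1 hk
      have := pos_mul_word hD C (hJ.lt k (List.mem_cons_of_mem _ hk))
        (hpos k (List.mem_cons_of_mem _ hk)) [i₀] (by simpa using hi₀)
        (by
          intro i' hi'
          rw [List.mem_singleton] at hi'
          subst hi'
          exact hJ.orth k (List.mem_cons_of_mem _ hk) i' List.mem_cons_self hne)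
      rwa [nWordGL_cons, nWordGL_nil, mul_one] at this
    rw [nWordGL_cons] at hu ⊢
    have e1 : n * (nGL D hD i₀ * nWordGL D hD J) = n * nGL D hD i₀ * nWordGL D hD J := by group
    rw [e1] at hu
    obtain ⟨y₂, hy₂, x', hx', e⟩ := ih hJ.tail (n * nGL D hD i₀) (mul_mem hn hiN) hpos' u hu
    obtain ⟨y, hy, t, e'⟩ := step_surj hD C hn hi₀ (hpos i₀ List.mem_cons_self) y₂ hy₂
    have hJl : ∀ k ∈ J, k < D.rank := fun k hk => hJ.lt k (List.mem_cons_of_mem _ hk)
    have horth : ∀ i' ∈ J, D.reflectRoot i' (D.simple i₀) = D.simple i₀ := by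
      intro i' hi'
      apply hJ.orth i₀ List.mem_cons_self i' (List.mem_cons_of_mem _ hi')
      rintro rfl
      exact (List.nodup_cons.mp hJ.nodup).1 hi'
    obtain ⟨c, hc0, hc⟩ := conj_word_orth_inv hD C i₀ hi₀ J hJl horth
    refine ⟨y, hy, xU D hD (D.simple i₀) (c * t) * x', ?_, ?_⟩
    · apply mul_mem
      · exact Subgroup.subset_closure ⟨i₀, List.mem_cons_self, _, rfl⟩
      · exact XJ_mono hD (fun k hk => List.mem_cons_of_mem _ hk) hx'
    · rw [e, e', ← hc]
      group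

include C in
/-- `n_J` conjugates the root subgroups of the orbit into `V` -/
theorem orbit_conj_neg {J : List ℕ} (hJ : OrthList D J) (x : GL D.Idx F)
    (hx : x ∈ XJ hD (F := F) J) :
    nWordGL D hD J * x * (nWordGL D hD J)⁻¹ ∈ D.negUnipotent F := by
  have hle : XJ hD (F := F) J ≤
      (D.negUnipotent F).comap (MulAut.conj (nWordGL D hD J)).toMonoidHom := by
    unfold XJ
    rw [Subgroup.closure_le]
    rintro g ⟨i, hi, t, rfl⟩
    obtain ⟨c, hc0, hc⟩ := conj_N_xU D hD C.hB C.hT C.hconj 1 (one_mem _) J hJ.lt (D.simple i)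
      (C.hB.hsimp i (hJ.lt i hi))
    have := hc t
    rw [one_mul, permW_orbit C hJ hi] at this
    change nWordGL D hD J * xU D hD (D.simple i) t * (nWordGL D hD J)⁻¹ ∈ D.negUnipotent F
    rw [this]
    have hsi := C.hB.hsimp i (hJ.lt i hi)
    have hneg : D.IsNegRoot (D.neg (D.simple i)) :=
      (C.hB.hpn _ (C.hB.hnv _ hsi)).resolve_left (C.hB.hnegpos _ (C.hB.hsimpPos i (hJ.lt i hi)))
    exact Subgroup.subset_closure ⟨_, _, hneg, rfl⟩
  exact hle hx

include C in
theorem orbit_inj {J : List ℕ} (hJ : OrthList D J) {n : GL D.Idx F}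
    (y y' : GL D.Idx F) (hy : y ∈ Uw D n) (hy' : y' ∈ Uw D n) (x x' : GL D.Idx F)
    (hx : x ∈ XJ hD (F := F) J) (hx' : x' ∈ XJ hD (F := F) J)
    (e : (nWordGL D hD J)⁻¹ * y * nWordGL D hD J * x = (nWordGL D hD J)⁻¹ * y' * nWordGL D hD J * x') :
    y = y' ∧ x = x' := by
  have e2 : y'⁻¹ * y = nWordGL D hD J * (x' * x⁻¹) * (nWordGL D hD J)⁻¹ := by
    have : y = nWordGL D hD J * ((nWordGL D hD J)⁻¹ * y * nWordGL D hD J * x) * x⁻¹ *
        (nWordGL D hD J)⁻¹ := by group
    rw [this, e]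
    group
  have h1 : y'⁻¹ * y ∈ D.negUnipotent F := by
    rw [e2]
    exact orbit_conj_neg hD C hJ _ (mul_mem hx' (inv_mem hx))
  have h2 : y'⁻¹ * y ∈ D.borelSubgroup F :=
    Subgroup.mem_sup_left (Uw_le_pos D n (mul_mem (inv_mem hy') hy))
  have hbot := (borel_inf_neg (F := F) D C.hT C.hTri C.hNeg).1
  have h3 : y'⁻¹ * y = 1 := by
    rw [← Subgroup.mem_bot, ← hbot]
    exact ⟨h2, h1⟩
  have hyy : y = y' := (inv_mul_eq_one.mp h3).symm
  subst hyy
  exact ⟨rfl, mul_left_cancel e⟩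

include C in
/-- if `n` sends `p_i` to a negative root, it sends `-p_i` to a positive root -/
theorem neg_simple_pos {n : GL D.Idx F} (hn : n ∈ D.monomialSubgroup F) {i : ℕ} (hi : i < D.rank)
    (hneg : Neg hD n i) (t : F) :
    n * xU D hD (D.neg (D.simple i)) t * n⁻¹ ∈ D.posUnipotent F := by
  obtain ⟨h, hh, l, hl, rfl⟩ := mem_monomial_decomp D hD C.hB C.hS C.hNH n hn
  have hsi := C.hB.hsimp i hi
  have hnp : ¬ D.IsPosRoot (permW D l (D.simple i)) := by
    rw [← map_rootSubgroup_le_neg_iff D hD C.hB C.hT C.hTri C.hNeg C.hconj h hh l hl _ hsi]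
    rw [Subgroup.map_le_iff_le_comap]
    intro g hg
    obtain ⟨t', rfl⟩ := mem_rootSubgroup D hD _ g hg
    exact hneg t'
  have hlt := permW_lt C.hB l hl _ hsi
  have hng : D.IsNegRoot (permW D l (D.simple i)) := (C.hB.hpn _ hlt).resolve_left hnp
  obtain ⟨c, _, hc⟩ := conj_N_xU D hD C.hB C.hT C.hconj h hh l hl (D.neg (D.simple i))
    (C.hB.hnv _ hsi)
  rw [hc t, permW_neg C.hB l hl _ hsi]
  exact Subgroup.subset_closure ⟨_, _, (neg_facts D hD _ hlt hng).1, rfl⟩

include C in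
/-- if `n` sends all the roots of the orbit to negative roots then `n n_J⁻¹` keeps them positive -/
theorem pos_of_neg_orbit {J : List ℕ} (hJ : OrthList D J) {n : GL D.Idx F}
    (hn : n ∈ D.monomialSubgroup F) (hneg : ∀ i ∈ J, Neg hD n i) :
    ∀ i ∈ J, Pos hD (n * (nWordGL D hD J)⁻¹) i := by
  intro i hi t
  have hsi := C.hB.hsimp i (hJ.lt i hi)
  obtain ⟨c, hc0, hc⟩ := conj_N_xU D hD C.hB C.hT C.hconj 1 (one_mem _) J hJ.lt (D.neg (D.simple i))
    (C.hB.hnv _ hsi)
  have hnn : D.neg (D.neg (D.simple i)) = D.simple i := by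
    have h1 := C.hB.hnr i (hJ.lt i hi) (D.simple i) hsi
    rw [reflect_simple, reflect_neg_simple D i (C.hB.hne _ hsi)] at h1
    exact h1.symm
  have e1 := hc (c⁻¹ * t)
  rw [one_mul, permW_neg C.hB J hJ.lt _ hsi, permW_orbit C hJ hi, hnn, ← mul_assoc,
    mul_inv_cancel₀ hc0, one_mul] at e1
  have e2 : n * (nWordGL D hD J)⁻¹ * xU D hD (D.simple i) t * (n * (nWordGL D hD J)⁻¹)⁻¹ =
      n * ((nWordGL D hD J)⁻¹ * xU D hD (D.simple i) t * nWordGL D hD J) * n⁻¹ := by group
  rw [e2, ← e1]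
  have e3 : (nWordGL D hD J)⁻¹ * (nWordGL D hD J * xU D hD (D.neg (D.simple i)) (c⁻¹ * t) *
      (nWordGL D hD J)⁻¹) * nWordGL D hD J = xU D hD (D.neg (D.simple i)) (c⁻¹ * t) := by group
  rw [e3]
  exact neg_simple_pos hD C hn (hJ.lt i hi) (hneg i hi) _

end

end Cfsg.Agent.Helper59.TwFix
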