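import Cfsg.Agent.Lib.Helper59.TwFixD
import Cfsg.Agent.Lib.Helper6.TwistFix

/-!
# The twisting endomorphism `τ = (conjugation by Pg) ∘ (field endomorphism)` on a Chevalley group
-/

set_option autoImplicit false
set_option linter.unusedSectionVars false
set_option linter.unusedVariables false

namespace Cfsg.Agent.Helper59.TwFix

open Cfsg Cfsg.Lie Cfsg.Agent.S1043 Cfsg.Agent.Helper17 Cfsg.Agent.Helper18
open Cfsg.Agent.Helper6.Twist
open scoped Pointwise

/-- table facts on the permutation of the roots induced by the graph automorphism -/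
structure TauFacts (D : ChevalleyDatum) (R : ℕ → ℕ) (ηs : ℕ → ℤ) : Prop where
  R_lt : ∀ s < D.nroots, R s < D.nroots
  R_pos : ∀ s, D.IsPosRoot s → D.IsPosRoot (R s)
  R_neg : ∀ s, D.IsNegRoot s → D.IsNegRoot (R s)
  R_negIdx : ∀ s < D.nroots, R (D.neg s) = D.neg (R s)
  eta_pm : ∀ s < D.nroots, ηs s = 1 ∨ ηs s = -1
  eta_neg : ∀ s < D.nroots, ηs (D.neg s) = ηs s

section

variable {F : Type*} [Field F] {D : ChevalleyDatum} (hD : Good D) {tbl : List ℕ}
  (C : ChevHyp F D tbl)
  (φ : F →+* F) (hφ : Function.Surjective φ) (Pg : GL D.Idx F) (R : ℕ → ℕ) (ηs : ℕ → ℤ)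
  (hconjP : ∀ s < D.nroots, ∀ t : F, (Pg : Matrix D.Idx D.Idx F) * D.x F s t =
      D.x F (R s) ((ηs s : F) * t) * (Pg : Matrix D.Idx D.Idx F))
  (TF : TauFacts D R ηs)

include hD

include hconjP in
theorem tau_xU (s : ℕ) (hs : s < D.nroots) (t : F) :
    tau φ Pg (xU D hD s t) = xU D hD (R s) ((ηs s : F) * φ t) := by
  rw [tau_apply, mul_inv_eq_iff_eq_mul]
  apply Units.ext
  rw [Units.val_mul, Units.val_mul, xU_val]
  have : ((Matrix.GeneralLinearGroup.map φ (xU D hD s t) : GL D.Idx F) : Matrix D.Idx D.Idx F) =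
      D.x F s (φ t) := by
    change ((xU D hD s t : GL D.Idx F) : Matrix D.Idx D.Idx F).map φ = _
    rw [xU_val, x_map]
  rw [this]
  exact hconjP s hs (φ t)

/-- the element `n_r(t)` -/
noncomputable def nt (r : ℕ) (t : F) : GL D.Idx F :=
  xU D hD r t * xU D hD (D.neg r) (-t⁻¹) * xU D hD r t

theorem hGL_eq_nt (r : ℕ) (t : F) : hGL D hD r t = nt hD r t * nt hD r (-1) := rfl

theorem nt_one (r : ℕ) : nt (F := F) hD r 1 = nrGL D hD r := by
  unfold nt nrGL
  rw [inv_one]

theorem nt_neg_one (r : ℕ) : nt (F := F) hD r (-1) = (nrGL D hD r)⁻¹ := by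
  rw [nrGL_inv]
  unfold nt
  have : (-(-1 : F)⁻¹) = 1 := by simp
  rw [this]

include C hconjP TF in
theorem tau_nt (r : ℕ) (hr : r < D.nroots) (t : F) :
    tau φ Pg (nt hD r t) = nt hD (R r) ((ηs r : F) * φ t) := by
  unfold nt
  rw [map_mul, map_mul, tau_xU hD φ Pg R ηs hconjP r hr,
    tau_xU hD φ Pg R ηs hconjP _ (C.hB.hnv r hr), TF.R_negIdx r hr, TF.eta_neg r hr]
  congr 2
  rcases TF.eta_pm r hr with h | h <;> rw [h] <;> simp [map_neg, map_inv₀]

include hconjP TF in
theorem tau_U (u : GL D.Idx F) (hu : u ∈ D.posUnipotent F) : tau φ Pg u ∈ D.posUnipotent F := by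
  have hle : D.posUnipotent F ≤ (D.posUnipotent F).comap (tau φ Pg) := by
    conv_lhs => rw [ChevalleyDatum.posUnipotent]
    rw [Subgroup.closure_le]
    rintro g ⟨r, t, hr, hg⟩
    have : g = xU D hD r t := Units.ext hg
    change tau φ Pg g ∈ D.posUnipotent F
    rw [this, tau_xU hD φ Pg R ηs hconjP r hr.1]
    exact Subgroup.subset_closure ⟨_, _, TF.R_pos r hr, rfl⟩
  exact hle hu

include hconjP TF in
theorem tau_V (u : GL D.Idx F) (hu : u ∈ D.negUnipotent F) : tau φ Pg u ∈ D.negUnipotent F := by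
  have hle : D.negUnipotent F ≤ (D.negUnipotent F).comap (tau φ Pg) := by
    conv_lhs => rw [ChevalleyDatum.negUnipotent]
    rw [Subgroup.closure_le]
    rintro g ⟨r, t, hr, hg⟩
    have : g = xU D hD r t := Units.ext hg
    change tau φ Pg g ∈ D.negUnipotent F
    rw [this, tau_xU hD φ Pg R ηs hconjP r hr.1]
    exact Subgroup.subset_closure ⟨_, _, TF.R_neg r hr, rfl⟩
  exact hle hu

include C hconjP TF in
theorem tau_H (h : GL D.Idx F) (hh : h ∈ D.diagonalSubgroup F) :
    tau φ Pg h ∈ D.diagonalSubgroup F := by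
  have hle : D.diagonalSubgroup F ≤ (D.diagonalSubgroup F).comap (tau φ Pg) := by
    conv_lhs => rw [ChevalleyDatum.diagonalSubgroup]
    rw [Subgroup.closure_le]
    rintro g ⟨r, t, hr, ht, hg⟩
    have : g = hGL D hD r t := Units.ext (hg.trans (hGL_val D hD r t).symm)
    change tau φ Pg g ∈ D.diagonalSubgroup F
    rw [this, hGL_eq_nt, map_mul, tau_nt hD C φ Pg R ηs hconjP TF r hr,
      tau_nt hD C φ Pg R ηs hconjP TF r hr]
    have hφt : φ t ≠ 0 := (map_ne_zero φ).mpr ht
    have hr' := TF.R_lt r hr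
    rcases TF.eta_pm r hr with h | h
    · rw [h]
      simp only [Int.cast_one, one_mul, map_neg, map_one]
      rw [← hGL_eq_nt]
      exact hGL_mem D hD _ hr' _ hφt
    · rw [h]
      simp only [Int.cast_neg, Int.cast_one, neg_mul, one_mul, map_neg, map_one, neg_neg]
      have e : nt hD (R r) (-φ t) * nt hD (R r) 1 =
          hGL D hD (R r) (-φ t) * ((nrGL D hD (R r))⁻¹ * (nrGL D hD (R r))⁻¹)⁻¹ := by
        rw [hGL_eq_nt, nt_one, nt_neg_one]
        group
      rw [e]
      exact mul_mem (hGL_mem D hD _ hr' _ (neg_ne_zero.mpr hφt))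
        (inv_mem (nrGL_inv_sq_mem D hD _ hr'))
  exact hle hh

include C hconjP TF in
theorem tau_N (n : GL D.Idx F) (hn : n ∈ D.monomialSubgroup F) :
    tau φ Pg n ∈ D.monomialSubgroup F := by
  have hle : D.monomialSubgroup F ≤ (D.monomialSubgroup F).comap (tau φ Pg) := by
    conv_lhs => rw [ChevalleyDatum.monomialSubgroup]
    apply sup_le
    · intro h hh
      exact (le_sup_left : D.diagonalSubgroup F ≤ D.monomialSubgroup F)
        (tau_H hD C φ Pg R ηs hconjP TF h hh)
    · rw [Subgroup.closure_le]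
      rintro g ⟨r, hr, hg⟩
      have : g = nrGL D hD r := Units.ext (hg.trans (nrGL_val D hD r).symm)
      change tau φ Pg g ∈ D.monomialSubgroup F
      rw [this, ← nt_one, tau_nt hD C φ Pg R ηs hconjP TF r hr, map_one]
      have hr' := TF.R_lt r hr
      have hmem : nrGL (F := F) D hD (R r) ∈ D.monomialSubgroup F :=
        Subgroup.mem_sup_right (Subgroup.subset_closure ⟨R r, hr', nrGL_val D hD _⟩)
      rcases TF.eta_pm r hr with h | h
      · rw [h]
        simp only [Int.cast_one, mul_one]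
        rw [nt_one]
        exact hmem
      · rw [h]
        simp only [Int.cast_neg, Int.cast_one, mul_one]
        rw [nt_neg_one]
        exact inv_mem hmem
  exact hle hn

include hφ hconjP TF in
theorem tau_Uw (n : GL D.Idx F) (u : GL D.Idx F) (hu : u ∈ Uw D n) :
    tau φ Pg u ∈ Uw D (tau φ Pg n) := by
  have hle : Uw D n ≤ (Uw D (tau φ Pg n)).comap (tau φ Pg) := by
    conv_lhs => rw [Uw]
    rw [Subgroup.closure_le]
    rintro g ⟨r, t, hr, hV, hg⟩
    have hgx : g = xU D hD r t := Units.ext hg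
    change tau φ Pg g ∈ Uw D (tau φ Pg n)
    rw [hgx, tau_xU hD φ Pg R ηs hconjP r hr.1]
    refine Subgroup.subset_closure ⟨R r, _, TF.R_pos r hr, ?_, rfl⟩
    rw [Subgroup.map_le_iff_le_comap]
    intro y hy
    obtain ⟨t', rfl⟩ := mem_rootSubgroup D hD _ y hy
    obtain ⟨t'', ht''⟩ := hφ ((ηs r : F) * t')
    have e : xU D hD (R r) t' = tau φ Pg (xU D hD r t'') := by
      rw [tau_xU hD φ Pg R ηs hconjP r hr.1, ht'', ← mul_assoc]
      rcases TF.eta_pm r hr.1 with h | h <;> rw [h] <;> simp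
    change tau φ Pg n * xU D hD (R r) t' * (tau φ Pg n)⁻¹ ∈ D.negUnipotent F
    rw [e, ← map_inv, ← map_mul, ← map_mul]
    apply tau_V hD φ Pg R ηs hconjP TF
    exact hV (Subgroup.mem_map_of_mem _ (xU_mem_rootSubgroup D hD r t''))
  exact hle hu

/-- the twisted structure on the Chevalley group -/
noncomputable def chevTwist (G1 : Subgroup (GL D.Idx F)) (hG1 : G1 ≤ D.group F)
    (hfix : G1 ≤ fixTau φ Pg) : Twist (chevAmb hD C) where
  τ := tau φ Pg
  G1 := G1
  G1_le := hG1
  fix := fun g hg => hfix hg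
  τU := tau_U hD φ Pg R ηs hconjP TF
  τH := tau_H hD C φ Pg R ηs hconjP TF
  τN := tau_N hD C φ Pg R ηs hconjP TF
  τUw := tau_Uw hD φ hφ Pg R ηs hconjP TF

end

end Cfsg.Agent.Helper59.TwFix
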