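import Cfsg.Agent.Lib.Helper59.TwPoincE6

/-! Generated: certificate check for the orbit data, type E6. -/

set_option autoImplicit false
set_option maxRecDepth 1000000

namespace Cfsg.Agent.Helper59.TwPoinc.E6

open Cfsg.Agent.Helper6.Weyl Cfsg.Agent.Helper6.Twist Cfsg.Agent.Helper6.Twist.E6

theorem hAt : ∀ i : Fin 6, At.getD (i : ℕ) [] = List.ofFn (fun l => (Cfsg.Agent.Helper6.Weyl.E6.vd).A l i) := by decide +kernel

theorem horbL : ∀ j : ℕ, orbL.getD j [] = (orbN orb j).map Fin.val := by
  intro j
  rcases Nat.lt_or_ge j 4 with h | h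
  · interval_cases j <;> decide +kernel
  · have h1 : orbL.length ≤ j := h
    rw [List.getD_eq_default _ _ h1]
    unfold orbN
    rw [dif_neg (by omega)]
    rfl

theorem h0 : dec 6 c0 = lam := by decide +kernel

theorem hreach : reachF 6 At orbL [c0] [] rest = true := by decide +kernel

end Cfsg.Agent.Helper59.TwPoinc.E6
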