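import Mathlib
import Cfsg.Agent.Lib.Helper59.Derangement
import Cfsg.Agent.Lib.Helper59.SharpTwo

set_option autoImplicit false

namespace Cfsg.Agent.Helper59

open MulAction
open scoped Pointwise

section Kernel

variable {G X : Type*} [Group G] [MulAction G X]

/-- number of derangements in a transitive group whose non-identity elements fix at most
one point is `n - 1` -/
theorem semi_card_der {H : Type*} [Group H] [MulAction H X] [Finite H] [Finite X]
    (htrans : IsPretransitive H X)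
    (hsh : ∀ (g : H) (a b : X), a ≠ b → g • a = a → g • b = b → g = 1)
    (hX : 2 ≤ Nat.card X) :
    Nat.card {g : H // ∀ a : X, g • a ≠ a} + 1 = Nat.card X := by
  classical
  have := Fintype.ofFinite H
  have hne : Nonempty X := by
    by_contra h
    rw [not_nonempty_iff] at h
    simp [Nat.card_of_isEmpty] at hX
  have hG1 : Nat.card (orbitRel.Quotient H X) = 1 := by
    have : Unique (orbitRel.Quotient H X) :=
      (pretransitive_iff_unique_quotient_of_nonempty H X).mp htrans |>.some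
    exact Nat.card_unique
  have hB := burnside_natCard (G := H) (X := X)
  rw [hG1, one_mul] at hB
  have hpt : ∀ g : H, Nat.card (fixedBy X g) + (if (∀ a : X, g • a ≠ a) then 1 else 0)
      = 1 + (if g = 1 then Nat.card X - 1 else 0) := by
    intro g
    by_cases hg1 : g = 1
    · subst hg1
      have hnd : ¬ (∀ a : X, (1:H) • a ≠ a) := by
        intro h
        obtain ⟨a⟩ := hne
        exact h a (one_smul _ _)
      rw [if_neg hnd, if_pos rfl]
      have : Nat.card (fixedBy X (1:H)) = Nat.card X := by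
        rw [fixedBy_one_eq_univ]
        exact Nat.card_congr (Equiv.Set.univ X)
      omega
    · rw [if_neg hg1]
      by_cases hd : ∀ a : X, g • a ≠ a
      · rw [if_pos hd]
        have : IsEmpty (fixedBy X g) := ⟨fun ⟨a, ha⟩ => hd a ha⟩
        simp [Nat.card_of_isEmpty]
      · rw [if_neg hd]
        have h1 := card_fixedBy_pos_of_not_der hd
        have h2 : Nat.card (fixedBy X g) ≤ 1 := by
          have : Subsingleton (fixedBy X g) := ⟨fun ⟨a, ha⟩ ⟨b, hb⟩ => by
            by_contra hab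
            apply hg1
            exact hsh g a b (fun h => hab (Subtype.ext h)) ha hb⟩
          exact Finite.card_le_one_iff_subsingleton.mpr this
        omega
  have hsum := Finset.sum_congr (rfl : (Finset.univ : Finset H) = Finset.univ) (fun g _ => hpt g)
  rw [Finset.sum_add_distrib, Finset.sum_add_distrib, hB] at hsum
  rw [Finset.sum_boole, Finset.sum_ite_eq' ] at hsum
  simp only [Finset.mem_univ, if_true, Finset.sum_const, Finset.card_univ, smul_eq_mul,
    mul_one] at hsum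
  rw [Nat.card_eq_fintype_card (α := {g : H // ∀ a : X, g • a ≠ a}), Fintype.card_subtype]
  rw [Nat.card_eq_fintype_card (α := H)] at hsum
  push_cast at hsum
  omega

variable (h2t : ∀ a b c d : X, a ≠ b → c ≠ d → ∃ g : G, g • a = c ∧ g • b = d)
  (N : Subgroup G) [hNn : N.Normal]
  (hNt : ∀ x y : X, ∃ n ∈ N, n • x = y)
  (hsh : ∀ n ∈ N, ∀ a b : X, a ≠ b → n • a = a → n • b = b → n = 1)

include h2t hNn hNt hsh

theorem nker_card [Finite G] [Finite X] (hX : 2 ≤ Nat.card X) :
    Nat.card {g : N // ∀ a : X, g • a ≠ a} + 1 = Nat.card X := by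
  apply semi_card_der _ _ hX
  · constructor
    intro x y
    obtain ⟨n, hn, h⟩ := hNt x y
    exact ⟨⟨n, hn⟩, h⟩
  · intro g a b hab ha hb
    exact Subtype.ext (hsh g g.2 a b hab ha hb)

theorem nker_ev_surj [Finite G] [Finite X] (hX : 2 ≤ Nat.card X) (c d : X) (hdc : d ≠ c) :
    ∃ k ∈ N, (∀ a : X, k • a ≠ a) ∧ k • c = d := by
  have hcard := nker_card h2t N hNt hsh hX
  have : Nonempty {g : N // ∀ a : X, g • a ≠ a} := by
    rw [← Finite.card_pos_iff]; omega
  obtain ⟨⟨⟨k₀, hk₀N⟩, hk₀⟩⟩ := this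
  have hk₀' : ∀ a : X, k₀ • a ≠ a := hk₀
  obtain ⟨h, hc, he⟩ := h2t c (k₀ • c) c d (hk₀' c).symm hdc.symm
  refine ⟨h * k₀ * h⁻¹, hNn.conj_mem _ hk₀N _, der_conj hk₀' h, ?_⟩
  have hc' : h⁻¹ • c = c := by rw [inv_smul_eq_iff, hc]
  rw [mul_smul, mul_smul, hc', he]

theorem nker_ev_inj [Finite G] [Finite X] (hX : 2 ≤ Nat.card X) (c : X) {k k' : G}
    (hkN : k ∈ N) (hkN' : k' ∈ N)
    (hk : ∀ a : X, k • a ≠ a) (hk' : ∀ a : X, k' • a ≠ a) (h : k • c = k' • c) : k = k' := by
  classical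
  have hcard := nker_card h2t N hNt hsh hX
  let ev : {g : N // ∀ a : X, g • a ≠ a} → {d : X // d ≠ c} := fun g => ⟨g.1 • c, g.2 c⟩
  have hsurj : Function.Surjective ev := by
    rintro ⟨d, hd⟩
    obtain ⟨k, hkN, hk, hkc⟩ := nker_ev_surj h2t N hNt hsh hX c d hd
    exact ⟨⟨⟨k, hkN⟩, hk⟩, Subtype.ext hkc⟩
  have hc2 : Nat.card {d : X // d ≠ c} + 1 = Nat.card X := by
    have := Fintype.ofFinite X
    rw [Nat.card_eq_fintype_card, Nat.card_eq_fintype_card, Fintype.card_subtype_compl,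
      Fintype.card_subtype_eq]
    have : 0 < Fintype.card X := Fintype.card_pos_iff.mpr ⟨c⟩
    omega
  have hbij := hsurj.bijective_of_nat_card_le (by omega)
  have := hbij.1 (a₁ := ⟨⟨k, hkN⟩, hk⟩) (a₂ := ⟨⟨k', hkN'⟩, hk'⟩) (Subtype.ext h)
  exact congrArg (fun z => (z.1 : G)) this

/-- the Frobenius-like kernel: `1` and the derangements of `N` -/
def nKernel [Finite G] [Finite X] (hX : 2 ≤ Nat.card X) : Subgroup G where
  carrier := {g | g ∈ N ∧ (g = 1 ∨ ∀ a : X, g • a ≠ a)}
  one_mem' := ⟨N.one_mem, Or.inl rfl⟩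
  inv_mem' := by
    rintro g ⟨hgN, (rfl | hg)⟩
    · exact ⟨N.inv_mem hgN, Or.inl (by simp)⟩
    · exact ⟨N.inv_mem hgN, Or.inr (der_inv hg)⟩
  mul_mem' := by
    rintro k k' ⟨hkN, hk⟩ ⟨hkN', hk'⟩
    refine ⟨N.mul_mem hkN hkN', ?_⟩
    rcases hk with rfl | hk
    · rcases hk' with rfl | hk'
      · left; simp
      · right; simpa using hk'
    · rcases hk' with rfl | hk'
      · right; simpa using hk
      · by_cases h1 : k * k' = 1
        · left; exact h1
        · right
          intro c hc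
          apply h1
          rw [mul_smul] at hc
          have : k' • c = k⁻¹ • c := by rw [eq_inv_smul_iff]; exact hc
          have := nker_ev_inj h2t N hNt hsh hX c hkN' (N.inv_mem hkN) hk' (der_inv hk) this
          rw [this]; simp

theorem nKernel_normal [Finite G] [Finite X] (hX : 2 ≤ Nat.card X) :
    (nKernel h2t N hNt hsh hX).Normal := by
  constructor
  rintro g ⟨hgN, (rfl | hg)⟩ h
  · exact ⟨by simpa using N.one_mem, Or.inl (by simp)⟩
  · exact ⟨hNn.conj_mem _ hgN _, Or.inr (der_conj hg h)⟩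

theorem nKernel_le [Finite G] [Finite X] (hX : 2 ≤ Nat.card X) :
    nKernel h2t N hNt hsh hX ≤ N := fun _ hg => hg.1

theorem nKernel_ne_bot [Finite G] [Finite X] (hX : 2 ≤ Nat.card X) :
    nKernel h2t N hNt hsh hX ≠ ⊥ := by
  have hcard := nker_card h2t N hNt hsh hX
  have : Nonempty {g : N // ∀ a : X, g • a ≠ a} := by
    rw [← Finite.card_pos_iff]; omega
  obtain ⟨⟨⟨k₀, hk₀N⟩, hk₀⟩⟩ := this
  have hk₀' : ∀ a : X, k₀ • a ≠ a := hk₀
  intro h
  have hmem : k₀ ∈ nKernel h2t N hNt hsh hX := ⟨hk₀N, Or.inr hk₀'⟩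
  rw [h, Subgroup.mem_bot] at hmem
  have hne : Nonempty X := by
    by_contra h
    rw [not_nonempty_iff] at h
    simp [Nat.card_of_isEmpty] at hX
  obtain ⟨a⟩ := hne
  apply hk₀' a
  rw [hmem, one_smul]

theorem nKernel_der [Finite G] [Finite X] (hX : 2 ≤ Nat.card X) {g : G}
    (hg : g ∈ nKernel h2t N hNt hsh hX) (hg1 : g ≠ 1) : ∀ a : X, g • a ≠ a := by
  rcases hg.2 with h | h
  · exact absurd h hg1
  · exact h

end Kernel

section Blk

variable {G X : Type*} [Group G] [MulAction G X] (N : Subgroup G)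

/-- smallest `N`-block containing `x` and `y` -/
def Blk (x y : X) : Set X := ⋂ B : {B : Set X // IsBlock N B ∧ x ∈ B ∧ y ∈ B}, B.1

theorem Blk_isBlock (x y : X) : IsBlock N (Blk N x y) := IsBlock.iInter (fun B => B.2.1)

theorem left_mem_Blk (x y : X) : x ∈ Blk N x y := Set.mem_iInter.mpr (fun B => B.2.2.1)

theorem right_mem_Blk (x y : X) : y ∈ Blk N x y := Set.mem_iInter.mpr (fun B => B.2.2.2)

theorem Blk_subset {x y : X} {B : Set X} (hB : IsBlock N B) (hx : x ∈ B) (hy : y ∈ B) :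
    Blk N x y ⊆ B := Set.iInter_subset (fun B : {B : Set X // IsBlock N B ∧ x ∈ B ∧ y ∈ B} => B.1)
      ⟨B, hB, hx, hy⟩

theorem isBlock_smul_of_normal [hNn : N.Normal] {B : Set X} (hB : IsBlock N B) (g : G) :
    IsBlock N (g • B) := by
  rw [isBlock_iff_smul_eq_or_disjoint] at hB ⊢
  intro n
  let n' : N := ⟨g⁻¹ * n * g, by
    have := hNn.conj_mem n n.2 g⁻¹
    simpa using this⟩
  have key : n • g • B = g • n' • B := by
    show (n : G) • g • B = g • (g⁻¹ * (n : G) * g) • B
    simp only [smul_smul]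
    congr 1
    group
  rw [key]
  rcases hB n' with h | h
  · left; rw [h]
  · right; exact (Set.disjoint_smul_set).mpr h

theorem smul_Blk [hNn : N.Normal] (g : G) (x y : X) :
    g • Blk N x y = Blk N (g • x) (g • y) := by
  have h1 : ∀ (g : G) (x y : X), Blk N (g • x) (g • y) ⊆ g • Blk N x y := by
    intro g x y
    apply Blk_subset N (isBlock_smul_of_normal N (Blk_isBlock N x y) g)
    · exact Set.smul_mem_smul_set (left_mem_Blk N x y)
    · exact Set.smul_mem_smul_set (right_mem_Blk N x y)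
  apply Set.Subset.antisymm _ (h1 g x y)
  have := h1 g⁻¹ (g • x) (g • y)
  rw [inv_smul_smul, inv_smul_smul] at this
  intro z hz
  have := Set.smul_set_mono (a := g) this hz
  rwa [smul_inv_smul] at this

theorem Blk_comm (x y : X) : Blk N x y = Blk N y x :=
  Set.Subset.antisymm
    (Blk_subset N (Blk_isBlock N y x) (right_mem_Blk N y x) (left_mem_Blk N y x))
    (Blk_subset N (Blk_isBlock N x y) (right_mem_Blk N x y) (left_mem_Blk N x y))

variable (h2t : ∀ a b c d : X, a ≠ b → c ≠ d → ∃ g : G, g • a = c ∧ g • b = d)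

include h2t

theorem ncard_Blk [hNn : N.Normal] {x y x' y' : X} (h : x ≠ y) (h' : x' ≠ y') :
    (Blk N x y).ncard = (Blk N x' y').ncard := by
  obtain ⟨g, hx, hy⟩ := h2t x y x' y' h h'
  rw [← hx, ← hy, ← smul_Blk, Set.ncard_smul_set]

theorem Blk_eq_of_mem [hNn : N.Normal] [Finite X] {x y z : X} (hxy : x ≠ y) (hz : z ∈ Blk N x y)
    (hzx : z ≠ x) : Blk N x z = Blk N x y := by
  apply Set.eq_of_subset_of_ncard_le
  · exact Blk_subset N (Blk_isBlock N x y) (left_mem_Blk N x y) hz
  · exact (ncard_Blk N h2t hxy hzx.symm).le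
  · exact Set.toFinite _

/-- if `N` has a block `≠ univ` with two points, an element of `N` fixing two points fixes all. -/
theorem fix_all_of_fix_two [hNn : N.Normal] [Finite X] {x y : X} (hxy : x ≠ y)
    (hne : Blk N x y ≠ Set.univ) {n : G} (hn : n ∈ N) (hx : n • x = x) (hy : n • y = y) :
    ∀ z : X, n • z = z := by
  -- n fixes every block containing a fixed point
  have hfixblk : ∀ (u v : X), n • u = u → n • v ∈ Blk N u v := by
    intro u v hu
    have hB := Blk_isBlock N u v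
    have h1 : (⟨n, hn⟩ : N) • Blk N u v = Blk N u v := by
      apply (isBlock_iff_smul_eq_of_mem.mp hB) (left_mem_Blk N u v)
      show n • u ∈ Blk N u v
      rw [hu]; exact left_mem_Blk N u v
    have h2 : n • v ∈ (⟨n, hn⟩ : N) • Blk N u v :=
      Set.smul_mem_smul_set (a := (⟨n, hn⟩ : N)) (right_mem_Blk N u v)
    rwa [h1] at h2
  -- step b
  have stepb : ∀ (u v : X), u ≠ v → n • u = u → n • v = v → ∀ z, z ∉ Blk N u v → n • z = z := by
    intro u v huv hu hv z hz
    by_contra hnz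
    have hzu : z ≠ u := fun h => hz (h ▸ left_mem_Blk N u v)
    have hzv : z ≠ v := fun h => hz (h ▸ right_mem_Blk N u v)
    have h1 : n • z ∈ Blk N z u := by rw [Blk_comm]; exact hfixblk u z hu
    have h2 : n • z ∈ Blk N z v := by rw [Blk_comm]; exact hfixblk v z hv
    have e1 := Blk_eq_of_mem N h2t hzu h1 hnz
    have e2 := Blk_eq_of_mem N h2t hzv h2 hnz
    have e3 : Blk N z u = Blk N z v := e1.symm.trans e2
    have h3 : Blk N u v ⊆ Blk N z u := by
      apply Blk_subset N (Blk_isBlock N z u) (right_mem_Blk N z u)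
      rw [e3]; exact right_mem_Blk N z v
    have h4 : Blk N u v = Blk N z u :=
      Set.eq_of_subset_of_ncard_le h3 (ncard_Blk N h2t hzu huv).le
    apply hz
    rw [h4]; exact left_mem_Blk N z u
  intro z
  by_cases hz : z ∈ Blk N x y
  · by_cases hzx : z = x
    · rw [hzx, hx]
    · obtain ⟨w, hw⟩ : ∃ w, w ∉ Blk N x y := by
        by_contra h
        simp only [not_exists, not_not] at h
        exact hne (Set.eq_univ_of_forall h)
      have hwfix := stepb x y hxy hx hy w hw
      have hxw : x ≠ w := fun h => hw (h ▸ left_mem_Blk N x y)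
      apply stepb x w hxw hx hwfix z
      intro hzw
      have e1 := Blk_eq_of_mem N h2t hxw hzw hzx
      have e2 := Blk_eq_of_mem N h2t hxy hz hzx
      apply hw
      rw [← e2, e1]; exact right_mem_Blk N x w
  · exact stepb x y hxy hx hy z hz

end Blk

section Burnside

variable {G X : Type*} [Group G] [MulAction G X]

/-- A non-regular minimal normal subgroup of a finite 2-transitive group is primitive. -/
theorem prim_of_nonregular [Finite G] [Finite X] [FaithfulSMul G X]
    (h2t : ∀ a b c d : X, a ≠ b → c ≠ d → ∃ g : G, g • a = c ∧ g • b = d)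
    (N : Subgroup G) [hNn : N.Normal]
    (hmin : ∀ M : Subgroup G, M.Normal → M ≤ N → M = ⊥ ∨ M = N)
    (hNt : ∀ x y : X, ∃ n ∈ N, n • x = y) (hX : 2 ≤ Nat.card X)
    (hnr : ∃ a : X, ∃ n ∈ N, n ≠ 1 ∧ n • a = a) : IsPreprimitive N X := by
  by_contra hnp
  have hNt' : IsPretransitive N X := by
    constructor
    intro x y
    obtain ⟨n, hn, h⟩ := hNt x y
    exact ⟨⟨n, hn⟩, h⟩
  have hex : ∃ B : Set X, IsBlock N B ∧ ¬ IsTrivialBlock B := by
    by_contra h
    simp only [not_exists, not_and, not_not] at h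
    exact hnp ⟨fun {B} hB => h B hB⟩
  obtain ⟨B, hB, hBt⟩ := hex
  rw [IsTrivialBlock, not_or] at hBt
  obtain ⟨hB1, hB2⟩ := hBt
  rw [Set.not_subsingleton_iff] at hB1
  obtain ⟨x, hx, y, hy, hxy⟩ := hB1
  have hne0 : Blk N x y ≠ Set.univ := by
    intro h
    apply hB2
    apply Set.eq_univ_of_univ_subset
    rw [← h]
    exact Blk_subset N hB hx hy
  have hne : ∀ x' y' : X, x' ≠ y' → Blk N x' y' ≠ Set.univ := by
    intro x' y' hxy' h
    apply hne0
    apply Set.eq_of_subset_of_ncard_le (Set.subset_univ _)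
    rw [← h]
    exact (ncard_Blk N h2t hxy' hxy).le
  have hsh : ∀ n ∈ N, ∀ a b : X, a ≠ b → n • a = a → n • b = b → n = 1 := by
    intro n hn a b hab ha hb
    have := fix_all_of_fix_two N h2t hab (hne a b hab) hn ha hb
    apply FaithfulSMul.eq_of_smul_eq_smul (α := X)
    intro z
    rw [this z, one_smul]
  have hKn := nKernel_normal h2t N hNt hsh hX
  have hKle := nKernel_le h2t N hNt hsh hX
  have hKne := nKernel_ne_bot h2t N hNt hsh hX
  rcases hmin _ hKn hKle with h | h
  · exact hKne h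
  · obtain ⟨a, n, hn, hn1, hna⟩ := hnr
    rw [← h] at hn
    exact nKernel_der h2t N hNt hsh hX hn hn1 a hna

end Burnside

section Simple

variable {G X : Type*} [Group G] [MulAction G X]

/-- conjugate subgroup -/
def cj (h : G) (M : Subgroup G) : Subgroup G := M.map (MulAut.conj h).toMonoidHom

theorem mem_cj {h x : G} {M : Subgroup G} : x ∈ cj h M ↔ h⁻¹ * x * h ∈ M := by
  unfold cj
  rw [Subgroup.mem_map]
  constructor
  · rintro ⟨m, hm, rfl⟩
    have : h⁻¹ * ((MulAut.conj h).toMonoidHom m) * h = m := by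
      simp [MulAut.conj_apply, mul_assoc]
    rw [this]; exact hm
  · intro hx
    exact ⟨h⁻¹ * x * h, hx, by simp [MulAut.conj_apply, mul_assoc]⟩

theorem conj_mem_cj {h m : G} {M : Subgroup G} (hm : m ∈ M) : h * m * h⁻¹ ∈ cj h M := by
  rw [mem_cj]
  have : h⁻¹ * (h * m * h⁻¹) * h = m := by group
  rw [this]; exact hm

theorem card_cj (h : G) (M : Subgroup G) : Nat.card (cj h M) = Nat.card M :=
  Subgroup.card_map_of_injective (MulAut.conj h).injective

theorem fix_all_of_commute {A B : Subgroup G} (hcomm : ∀ a ∈ A, ∀ b ∈ B, a * b = b * a)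
    (hBt : ∀ x y : X, ∃ b ∈ B, b • x = y) {a : G} (ha : a ∈ A) {x : X} (hx : a • x = x) :
    ∀ y : X, a • y = y := by
  intro y
  obtain ⟨b, hb, rfl⟩ := hBt x y
  rw [← mul_smul, hcomm a ha b hb, mul_smul, hx]

/-- distinct conjugates of a minimal `N`-invariant subgroup commute -/
theorem commute_cj [Finite G] (N : Subgroup G) [hNn : N.Normal] (M : Subgroup G) (hMN : M ≤ N)
    (hMinv : ∀ n ∈ N, ∀ m ∈ M, n * m * n⁻¹ ∈ M)
    (hMmin : ∀ M' : Subgroup G, M' ≤ M → (∀ n ∈ N, ∀ m ∈ M', n * m * n⁻¹ ∈ M') →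
      M' = ⊥ ∨ M' = M) (h : G) (hne : cj h M ≠ M) :
    ∀ m ∈ M, ∀ s ∈ cj h M, m * s = s * m := by
  have hcN : cj h M ≤ N := by
    intro x hx
    rw [mem_cj] at hx
    have := hNn.conj_mem _ (hMN hx) h
    have e : h * (h⁻¹ * x * h) * h⁻¹ = x := by group
    rwa [e] at this
  have hcinv : ∀ n ∈ N, ∀ x ∈ cj h M, n * x * n⁻¹ ∈ cj h M := by
    intro n hn x hx
    rw [mem_cj] at hx ⊢
    have hn' : h⁻¹ * n * h ∈ N := by
      have := hNn.conj_mem n hn h⁻¹
      simpa using this
    have := hMinv _ hn' _ hx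
    have e : h⁻¹ * n * h * (h⁻¹ * x * h) * (h⁻¹ * n * h)⁻¹ = h⁻¹ * (n * x * n⁻¹) * h := by group
    rwa [e] at this
  have hinf : M ⊓ cj h M = ⊥ := by
    have hinv : ∀ n ∈ N, ∀ m ∈ M ⊓ cj h M, n * m * n⁻¹ ∈ M ⊓ cj h M := fun n hn m hm =>
      ⟨hMinv n hn m hm.1, hcinv n hn m hm.2⟩
    rcases hMmin (M ⊓ cj h M) inf_le_left hinv with h1 | h1
    · exact h1
    · exfalso
      have hle : M ≤ cj h M := by
        intro x hx
        have : x ∈ M ⊓ cj h M := by rw [h1]; exact hx
        exact this.2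
      apply hne
      exact (Subgroup.eq_of_le_of_card_ge hle (card_cj h M).le).symm
  intro m hm s hs
  have hc : m * s * m⁻¹ * s⁻¹ ∈ M ⊓ cj h M := by
    constructor
    · have h1 : s * m⁻¹ * s⁻¹ ∈ M := hMinv s (hcN hs) m⁻¹ (M.inv_mem hm)
      have := M.mul_mem hm h1
      have e : m * (s * m⁻¹ * s⁻¹) = m * s * m⁻¹ * s⁻¹ := by group
      rwa [e] at this
    · have h1 : m * s * m⁻¹ ∈ cj h M := hcinv m (hMN hm) s hs
      exact (cj h M).mul_mem h1 ((cj h M).inv_mem hs)
  rw [hinf, Subgroup.mem_bot] at hc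
  have e : m * s = (m * s * m⁻¹ * s⁻¹) * (s * m) := by group
  rw [e, hc, one_mul]

/-- core of the simplicity argument: no proper minimal `N`-invariant subgroup -/
theorem no_proper_min_inv [Finite G] [Finite X] [FaithfulSMul G X]
    (h2t : ∀ a b c d : X, a ≠ b → c ≠ d → ∃ g : G, g • a = c ∧ g • b = d)
    (N : Subgroup G) [hNn : N.Normal]
    (hmin : ∀ M : Subgroup G, M.Normal → M ≤ N → M = ⊥ ∨ M = N)
    (hprim : IsPreprimitive N X)
    (hnr : ∃ a : X, ∃ n ∈ N, n ≠ 1 ∧ n • a = a)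
    (M : Subgroup G) (hMN : M ≤ N) (hMne : M ≠ ⊥) (hMneN : M ≠ N)
    (hMinv : ∀ n ∈ N, ∀ m ∈ M, n * m * n⁻¹ ∈ M)
    (hMmin : ∀ M' : Subgroup G, M' ≤ M → (∀ n ∈ N, ∀ m ∈ M', n * m * n⁻¹ ∈ M') →
      M' = ⊥ ∨ M' = M) : False := by
  classical
  obtain ⟨a, n₀, hn₀N, hn₀1, hn₀a⟩ := hnr
  -- (S1) M is transitive
  have hMt : ∀ x y : X, ∃ m ∈ M, m • x = y := by
    have hnorm : (M.subgroupOf N).Normal := by
      constructor
      intro m hm n
      rw [Subgroup.mem_subgroupOf] at hm ⊢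
      exact hMinv n n.2 m hm
    have hfp : fixedPoints (M.subgroupOf N) X ≠ Set.univ := by
      intro h
      apply hMne
      rw [Subgroup.eq_bot_iff_forall]
      intro m hm
      apply FaithfulSMul.eq_of_smul_eq_smul (α := X)
      intro x
      have hx : x ∈ fixedPoints (M.subgroupOf N) X := by rw [h]; trivial
      have := hx ⟨⟨m, hMN hm⟩, by rw [Subgroup.mem_subgroupOf]; exact hm⟩
      rw [one_smul]
      exact this
    have := IsQuasiPreprimitive.isPretransitive_of_normal (G := N) (X := X)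
      (N := M.subgroupOf N) hfp
    intro x y
    obtain ⟨⟨⟨m, hmN⟩, hmM⟩, h⟩ := this.exists_smul_eq x y
    rw [Subgroup.mem_subgroupOf] at hmM
    exact ⟨m, hmM, h⟩
  -- (S2) a conjugate different from M
  have hex : ∃ g : G, cj g M ≠ M := by
    by_contra h
    simp only [not_exists, not_not] at h
    have hMnorm : M.Normal := by
      constructor
      intro m hm g
      have := conj_mem_cj (h := g) hm
      rwa [h g] at this
    rcases hmin M hMnorm hMN with h1 | h1
    · exact hMne h1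
    · exact hMneN h1
  obtain ⟨g₀, hg₀⟩ := hex
  have hcomm := commute_cj N M hMN hMinv hMmin
  -- conjugates are transitive
  have hct : ∀ g : G, ∀ x y : X, ∃ s ∈ cj g M, s • x = y := by
    intro g x y
    obtain ⟨m, hm, h⟩ := hMt (g⁻¹ • x) (g⁻¹ • y)
    refine ⟨g * m * g⁻¹, conj_mem_cj hm, ?_⟩
    rw [mul_smul, mul_smul, h, smul_inv_smul]
  -- (S6) semiregularity
  have hMsr : ∀ m ∈ M, ∀ x : X, m • x = x → m = 1 := by
    intro m hm x hx
    apply FaithfulSMul.eq_of_smul_eq_smul (α := X)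
    intro y
    rw [one_smul]
    exact fix_all_of_commute (A := M) (B := cj g₀ M) (hcomm g₀ hg₀) (hct g₀) hm hx y
  have hcsr : ∀ h : G, cj h M ≠ M → ∀ s ∈ cj h M, ∀ x : X, s • x = x → s = 1 := by
    intro h hne s hs x hx
    apply FaithfulSMul.eq_of_smul_eq_smul (α := X)
    intro y
    rw [one_smul]
    exact fix_all_of_commute (A := cj h M) (B := M)
      (fun s hs m hm => (hcomm h hne m hm s hs).symm) hMt hs hx y
  have hMuniq : ∀ m ∈ M, ∀ m' ∈ M, ∀ x : X, m • x = m' • x → m = m' := by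
    intro m hm m' hm' x hx
    have : m'⁻¹ * m = 1 := by
      apply hMsr _ (M.mul_mem (M.inv_mem hm') hm) x
      rw [mul_smul, hx, inv_smul_smul]
    exact (inv_mul_eq_one.mp this).symm
  -- (S7) order invariance
  have hord : ∀ h : G, h • a = a → ∀ m ∈ M, ∀ m₂ ∈ M, m₂ • a = h • m • a →
      orderOf m₂ = orderOf m := by
    intro h ha m hm m₂ hm₂ hm₂a
    have ha' : h⁻¹ • a = a := by rw [inv_smul_eq_iff, ha]
    have hs : h * m * h⁻¹ ∈ cj h M := conj_mem_cj hm
    have hsa : (h * m * h⁻¹) • a = h • m • a := by rw [mul_smul, mul_smul, ha']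
    have hso : orderOf (h * m * h⁻¹) = orderOf m := by
      have := (MulAut.conj h).orderOf_eq m
      rwa [MulAut.conj_apply] at this
    by_cases hcase : cj h M = M
    · rw [hcase] at hs
      have := hMuniq _ hm₂ _ hs a (hm₂a.trans hsa.symm)
      rw [this, hso]
    · rw [← hso]
      set s := h * m * h⁻¹ with hsdef
      have hcm : Commute m₂⁻¹ s := hcomm h hcase _ (M.inv_mem hm₂) s hs
      have hua : (m₂⁻¹ * s) • a = a := by
        rw [mul_smul, hsa, ← hm₂a, inv_smul_smul]
      have hpowa : ∀ k : ℕ, ((m₂⁻¹ * s) ^ k) • a = a := by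
        intro k
        induction k with
        | zero => simp
        | succ k ih => rw [pow_succ, mul_smul, hua, ih]
      rw [orderOf_eq_orderOf_iff]
      intro k
      have hk := hpowa k
      rw [hcm.mul_pow] at hk
      constructor
      · intro h1
        have h2 : m₂⁻¹ ^ k = 1 := by rw [inv_pow, h1, inv_one]
        rw [h2, one_mul] at hk
        exact hcsr h hcase _ ((cj h M).pow_mem hs k) a hk
      · intro h1
        rw [h1, mul_one] at hk
        have := hMsr _ (M.pow_mem (M.inv_mem hm₂) k) a hk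
        rwa [inv_pow, inv_eq_one] at this
  -- (S8) all nonidentity elements of M have the same order
  have hsame : ∀ m ∈ M, m ≠ 1 → ∀ m' ∈ M, m' ≠ 1 → orderOf m' = orderOf m := by
    intro m hm hm1 m' hm' hm1'
    have hma : m • a ≠ a := fun h => hm1 (hMsr m hm a h)
    have hma' : m' • a ≠ a := fun h => hm1' (hMsr m' hm' a h)
    obtain ⟨h, hha, hhb⟩ := h2t a (m • a) a (m' • a) hma.symm hma'.symm
    exact hord h hha m hm m' hm' hhb.symm
  -- (S9) M is a p-group
  have hMnt : Nontrivial M := (Subgroup.nontrivial_iff_ne_bot M).mpr hMne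
  have hM1 : Nat.card M ≠ 1 := by
    intro h
    have := (Nat.card_eq_one_iff_unique.mp h).1
    exact not_subsingleton M this
  obtain ⟨p, hp, hpd⟩ := Nat.exists_prime_and_dvd hM1
  have hpf : Fact p.Prime := ⟨hp⟩
  obtain ⟨k₀, hk₀⟩ := exists_prime_orderOf_dvd_card' p hpd
  have hk₀1 : (k₀ : G) ≠ 1 := by
    intro h
    have : k₀ = 1 := Subtype.ext h
    rw [this, orderOf_one] at hk₀
    exact hp.one_lt.ne hk₀
  have hk₀o : orderOf (k₀ : G) = p := by rw [Subgroup.orderOf_coe, hk₀]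
  have hMp : IsPGroup p M := by
    intro x
    refine ⟨1, ?_⟩
    rw [pow_one]
    by_cases hx1 : x = 1
    · rw [hx1, one_pow]
    · have hx1' : (x : G) ≠ 1 := fun h => hx1 (Subtype.ext h)
      have := hsame k₀ k₀.2 hk₀1 x x.2 hx1'
      rw [hk₀o] at this
      apply Subtype.ext
      rw [Subgroup.coe_pow, ← this]
      exact pow_orderOf_eq_one _
  -- (S10) M is abelian
  have hcen := hMp.center_nontrivial
  obtain ⟨⟨z, hz⟩, hz1⟩ := exists_ne (1 : Subgroup.center M)
  have hz1' : (z : G) ≠ 1 := by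
    intro h
    apply hz1
    exact Subtype.ext (Subtype.ext h)
  have hMab : ∀ m ∈ M, ∀ m' ∈ M, m * m' = m' * m := by
    set Z : Subgroup G := M ⊓ Subgroup.centralizer (M : Set G) with hZ
    have hZM : Z = M := by
      have hZle : Z ≤ M := inf_le_left
      have hZinv : ∀ n ∈ N, ∀ m ∈ Z, n * m * n⁻¹ ∈ Z := by
        intro n hn m hm
        rw [hZ, Subgroup.mem_inf] at hm ⊢
        refine ⟨hMinv n hn m hm.1, ?_⟩
        rw [Subgroup.mem_centralizer_iff]
        intro y hy
        have hy' : n⁻¹ * y * n ∈ M := by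
          have := hMinv n⁻¹ (N.inv_mem hn) y hy
          simpa using this
        have hc := (Subgroup.mem_centralizer_iff.mp hm.2) _ hy'
        calc y * (n * m * n⁻¹) = n * ((n⁻¹ * y * n) * m) * n⁻¹ := by group
          _ = n * (m * (n⁻¹ * y * n)) * n⁻¹ := by rw [hc]
          _ = n * m * n⁻¹ * y := by group
      rcases hMmin Z hZle hZinv with h1 | h1
      · exfalso
        have hzZ : (z : G) ∈ Z := by
          rw [hZ, Subgroup.mem_inf]
          refine ⟨z.2, ?_⟩
          rw [Subgroup.mem_centralizer_iff]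
          intro y hy
          have := (Subgroup.mem_center_iff.mp hz) ⟨y, hy⟩
          exact congrArg Subtype.val this
        rw [h1, Subgroup.mem_bot] at hzZ
        exact hz1' hzZ
      · exact h1
    intro m hm m' hm'
    have : m' ∈ Z := by rw [hZM]; exact hm'
    rw [hZ, Subgroup.mem_inf] at this
    exact (Subgroup.mem_centralizer_iff.mp this.2) m hm
  -- (S11) N centralizes M
  have hNC : N ≤ Subgroup.centralizer (M : Set G) := by
    have hcl : Subgroup.normalClosure (M : Set G) = N := by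
      rcases hmin (Subgroup.normalClosure (M : Set G)) Subgroup.normalClosure_normal
        (Subgroup.normalClosure_le_normal hMN) with h1 | h1
      · exfalso
        apply hMne
        rw [eq_bot_iff, ← h1]
        exact Subgroup.le_normalClosure
      · exact h1
    rw [← hcl]
    unfold Subgroup.normalClosure
    rw [Subgroup.closure_le]
    intro x hx
    rw [Group.mem_conjugatesOfSet_iff] at hx
    obtain ⟨m, hm, hconj⟩ := hx
    rw [isConj_iff] at hconj
    obtain ⟨c, rfl⟩ := hconj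
    rw [SetLike.mem_coe, Subgroup.mem_centralizer_iff]
    intro y hy
    by_cases hcase : cj c M = M
    · have : c * m * c⁻¹ ∈ M := by rw [← hcase]; exact conj_mem_cj hm
      exact hMab y hy _ this
    · exact hcomm c hcase y hy _ (conj_mem_cj hm)
  -- contradiction
  apply hn₀1
  apply FaithfulSMul.eq_of_smul_eq_smul (α := X)
  intro y
  rw [one_smul]
  obtain ⟨m, hm, rfl⟩ := hMt a y
  have := (Subgroup.mem_centralizer_iff.mp (hNC hn₀N)) m hm
  rw [← mul_smul, ← this, mul_smul, hn₀a]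

/-- A primitive non-regular minimal normal subgroup of a finite 2-transitive group is simple. -/
theorem simple_of_prim [Finite G] [Finite X] [FaithfulSMul G X]
    (h2t : ∀ a b c d : X, a ≠ b → c ≠ d → ∃ g : G, g • a = c ∧ g • b = d)
    (N : Subgroup G) [hNn : N.Normal] (hN : N ≠ ⊥)
    (hmin : ∀ M : Subgroup G, M.Normal → M ≤ N → M = ⊥ ∨ M = N)
    (hprim : IsPreprimitive N X)
    (hnr : ∃ a : X, ∃ n ∈ N, n ≠ 1 ∧ n • a = a) : IsSimpleGroup N := by
  have hNnt : Nontrivial N := (Subgroup.nontrivial_iff_ne_bot N).mpr hN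
  refine { toNontrivial := hNnt, eq_bot_or_eq_top_of_normal := fun H hH => ?_ }
  by_contra hcon
  rw [not_or] at hcon
  obtain ⟨hH1, hH2⟩ := hcon
  set M₀ : Subgroup G := H.map N.subtype with hM₀
  have hM₀le : M₀ ≤ N := Subgroup.map_subtype_le H
  have hM₀ne : M₀ ≠ ⊥ := by
    intro h
    apply hH1
    exact (Subgroup.map_eq_bot_iff_of_injective H N.subtype_injective).mp h
  have hM₀inv : ∀ n ∈ N, ∀ m ∈ M₀, n * m * n⁻¹ ∈ M₀ := by
    intro n hn m hm
    obtain ⟨m', hm', rfl⟩ := Subgroup.mem_map.mp hm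
    exact Subgroup.mem_map.mpr ⟨⟨n, hn⟩ * m' * ⟨n, hn⟩⁻¹, hH.conj_mem m' hm' ⟨n, hn⟩, rfl⟩
  have hM₀N : M₀ ≠ N := by
    intro h
    apply hH2
    rw [eq_top_iff]
    intro x _
    have : (x : G) ∈ M₀ := by rw [h]; exact x.2
    obtain ⟨y, hy, hyx⟩ := Subgroup.mem_map.mp this
    have : y = x := Subtype.ext hyx
    rwa [← this]
  let P : Subgroup G → Prop := fun M => M ≠ ⊥ ∧ ∀ n ∈ N, ∀ m ∈ M, n * m * n⁻¹ ∈ M
  obtain ⟨M, hMle, hMmin⟩ := exists_minimal_le_of_wellFoundedLT P M₀ ⟨hM₀ne, hM₀inv⟩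
  have hMP : P M := hMmin.1
  apply no_proper_min_inv h2t N hmin hprim hnr M (hMle.trans hM₀le) hMP.1 ?_ hMP.2 ?_
  · intro h
    apply hM₀N
    apply le_antisymm hM₀le
    rw [← h]; exact hMle
  · intro M' hM'le hM'inv
    by_cases h : M' = ⊥
    · left; exact h
    · right
      have hP' : P M' := ⟨h, hM'inv⟩
      exact le_antisymm hM'le (hMmin.2 hP' hM'le)

/-- A regular normal subgroup of a finite 2-transitive group is elementary abelian. -/
theorem elemAb_of_regular [Finite G] [Finite X]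
    (h2t : ∀ a b c d : X, a ≠ b → c ≠ d → ∃ g : G, g • a = c ∧ g • b = d)
    (N : Subgroup G) [hNn : N.Normal] (hN : N ≠ ⊥)
    (hreg : ∀ n ∈ N, ∀ a : X, n • a = a → n = 1) (a : X) :
    (∀ x ∈ N, ∀ y ∈ N, x * y = y * x) ∧ ∃ p : ℕ, p.Prime ∧ ∀ n ∈ N, n ^ p = 1 := by
  classical
  have hconj : ∀ n ∈ N, n ≠ 1 → ∀ n' ∈ N, n' ≠ 1 → ∃ h : G, n' = h * n * h⁻¹ := by
    intro n hn hn1 n' hn' hn1'
    have hna : n • a ≠ a := fun h => hn1 (hreg n hn a h)
    have hna' : n' • a ≠ a := fun h => hn1' (hreg n' hn' a h)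
    obtain ⟨h, hha, hhb⟩ := h2t a (n • a) a (n' • a) hna.symm hna'.symm
    refine ⟨h, ?_⟩
    have ha' : h⁻¹ • a = a := by rw [inv_smul_eq_iff, hha]
    have hmem : n'⁻¹ * (h * n * h⁻¹) ∈ N := N.mul_mem (N.inv_mem hn') (hNn.conj_mem n hn h)
    have hfix : (n'⁻¹ * (h * n * h⁻¹)) • a = a := by
      rw [mul_smul, mul_smul, mul_smul, ha', hhb, inv_smul_smul]
    have := hreg _ hmem a hfix
    exact (inv_mul_eq_one.mp this)
  have hNnt : Nontrivial N := (Subgroup.nontrivial_iff_ne_bot N).mpr hN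
  have hN1 : Nat.card N ≠ 1 := by
    intro h
    have := (Nat.card_eq_one_iff_unique.mp h).1
    exact not_subsingleton N this
  obtain ⟨p, hp, hpd⟩ := Nat.exists_prime_and_dvd hN1
  have hpf : Fact p.Prime := ⟨hp⟩
  obtain ⟨k₀, hk₀⟩ := exists_prime_orderOf_dvd_card' p hpd
  have hk₀1 : (k₀ : G) ≠ 1 := by
    intro h
    have : k₀ = 1 := Subtype.ext h
    rw [this, orderOf_one] at hk₀
    exact hp.one_lt.ne hk₀
  have hk₀p : (k₀ : G) ^ p = 1 := by
    have := pow_orderOf_eq_one k₀
    rw [hk₀] at this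
    exact_mod_cast congrArg Subtype.val this
  have hexp : ∀ x ∈ N, x ^ p = 1 := by
    intro x hx
    by_cases hx1 : x = 1
    · rw [hx1, one_pow]
    · obtain ⟨h, rfl⟩ := hconj k₀ k₀.2 hk₀1 x hx hx1
      rw [conj_pow, hk₀p]; simp
  have hNp : IsPGroup p N := fun g => ⟨1, by
    rw [pow_one]; exact Subtype.ext (by simpa using hexp g g.2)⟩
  have hcen := hNp.center_nontrivial
  obtain ⟨⟨z, hz⟩, hz1⟩ := exists_ne (1 : Subgroup.center N)
  have hz1' : (z : G) ≠ 1 := by
    intro h
    apply hz1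
    exact Subtype.ext (Subtype.ext h)
  have hzc : ∀ y ∈ N, (z : G) * y = y * z := by
    intro y hy
    have := (Subgroup.mem_center_iff.mp hz) ⟨y, hy⟩
    exact (congrArg Subtype.val this).symm
  refine ⟨?_, p, hp, hexp⟩
  intro x hx y hy
  by_cases hx1 : x = 1
  · rw [hx1]; simp
  · obtain ⟨h, rfl⟩ := hconj z z.2 hz1' x hx hx1
    have hy' : h⁻¹ * y * h ∈ N := by
      have := hNn.conj_mem y hy h⁻¹
      simpa using this
    have := hzc _ hy'
    calc h * z * h⁻¹ * y = h * (z * (h⁻¹ * y * h)) * h⁻¹ := by group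
      _ = h * ((h⁻¹ * y * h) * z) * h⁻¹ := by rw [this]
      _ = y * (h * z * h⁻¹) := by group

end Simple

end Cfsg.Agent.Helper59
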